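import Mathlib

/-! Piece `N5c` of the split proof of (NA) for S1430 (owner helper86): coprime action,
`S = [S,V]` implies `C_S(V) ≤ S'`.  Norm-map argument in the abelianization of `S`. -/

set_option autoImplicit false

namespace Cfsg.Agent.Lib.helper63.BGNA

open scoped commutatorElement

variable {G : Type*} [Group G]

/-- PIECE N5c: coprime action, `S = [S,V]` implies `C_S(V) ≤ S'`. -/
theorem na_fix_le_comm [Finite G] (S V : Subgroup G)
    (hVN : V ≤ Subgroup.normalizer (S : Set G)) (hcop : (Nat.card S).Coprime (Nat.card V))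
    (hsolv : Group.IsSolvable ↥(S ⊔ V))
    (hSV : S ≤ ⁅S, V⁆) : S ⊓ Subgroup.centralizer (V : Set G) ≤ ⁅S, S⁆ := by
  classical
  have : Fintype V := Fintype.ofFinite V
  -- conjugation by `v ∈ V` as an endomorphism of `S`
  have hconj : ∀ (v : V) (s : S), (v : G) * s * (v : G)⁻¹ ∈ S := fun v s =>
    (Subgroup.mem_normalizer_iff.mp (hVN v.2) s).mp s.2
  let cj : V → (S →* S) := fun v =>
    { toFun := fun s => ⟨(v : G) * s * (v : G)⁻¹, hconj v s⟩
      map_one' := by ext; simp
      map_mul' := fun a b => by ext; simp [mul_assoc] }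
  have hcj : ∀ (v : V) (s : S), ((cj v s : S) : G) = (v : G) * s * (v : G)⁻¹ := fun _ _ => rfl
  let T : S →* Abelianization S := ∏ v : V, (Abelianization.of.comp (cj v))
  have hT : ∀ s : S, T s = ∏ v : V, Abelianization.of (cj v s) := by
    intro s
    simp only [T, MonoidHom.finsetProd_apply, MonoidHom.comp_apply]
  -- invariance of the norm under `V`
  have hTinv : ∀ (w : V) (s : S), T (cj w s) = T s := by
    intro w s
    rw [hT, hT]
    refine Fintype.prod_equiv (Equiv.mulRight w) _ _ (fun v => ?_)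
    congr 1
    apply Subtype.ext
    rw [hcj, hcj, hcj]
    simp [mul_assoc]
  -- the norm kills commutators
  have hTcomm : ∀ (s : S) (v : V), ∀ hm : ⁅(s : G), (v : G)⁆ ∈ S,
      T ⟨⁅(s : G), (v : G)⁆, hm⟩ = 1 := by
    intro s v hm
    have h : (⟨⁅(s : G), (v : G)⁆, hm⟩ : S) = s * cj v s⁻¹ := by
      apply Subtype.ext
      rw [Subgroup.coe_mul, hcj]
      simp [commutatorElement_def, mul_assoc]
    rw [h, map_mul, hTinv, map_inv, mul_inv_cancel]
  have hker : ⁅S, V⁆ ≤ T.ker.map S.subtype := by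
    rw [Subgroup.commutator_le]
    intro s hs v hv
    have hm : ⁅s, v⁆ ∈ S := by
      rw [commutatorElement_def]
      have h := hconj ⟨v, hv⟩ ⟨s⁻¹, S.inv_mem hs⟩
      rw [mul_assoc s v, mul_assoc s]
      exact S.mul_mem hs h
    exact ⟨⟨⁅s, v⁆, hm⟩, hTcomm ⟨s, hs⟩ ⟨v, hv⟩ hm, rfl⟩
  have hT1 : ∀ s : S, T s = 1 := by
    intro s
    obtain ⟨s', hs', hs'eq⟩ := hker (hSV s.2)
    have h : s' = s := Subtype.ext hs'eq
    rw [← h]; exact hs'
  intro x hx
  obtain ⟨hxS, hxC⟩ := hx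
  have hfix : ∀ v : V, cj v ⟨x, hxS⟩ = ⟨x, hxS⟩ := by
    intro v
    apply Subtype.ext
    rw [hcj]
    have h := Subgroup.mem_centralizer_iff.mp hxC (v : G) v.2
    show (v : G) * x * (v : G)⁻¹ = x
    rw [h, mul_inv_cancel_right]
  have h1 : Abelianization.of (⟨x, hxS⟩ : S) ^ Fintype.card V = 1 := by
    rw [← hT1 ⟨x, hxS⟩, hT]
    simp only [hfix]
    rw [Finset.prod_const, Finset.card_univ]
  have h2 : Abelianization.of (⟨x, hxS⟩ : S) ^ Nat.card S = 1 := by
    rw [← map_pow, pow_card_eq_one', map_one]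
  have h3 : Abelianization.of (⟨x, hxS⟩ : S) = 1 := by
    have hcop' : Nat.gcd (Nat.card S) (Fintype.card V) = 1 := by
      rw [← Nat.card_eq_fintype_card]; exact hcop
    have hd1 := orderOf_dvd_of_pow_eq_one h1
    have hd2 := orderOf_dvd_of_pow_eq_one h2
    have hd := Nat.dvd_gcd hd2 hd1
    rw [hcop'] at hd
    exact orderOf_eq_one_iff.mp (Nat.dvd_one.mp hd)
  have h4 : (⟨x, hxS⟩ : S) ∈ _root_.commutator S := by
    rw [← Abelianization.ker_of, MonoidHom.mem_ker]; exact h3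
  rw [← Subgroup.map_subtype_commutator]
  exact ⟨⟨x, hxS⟩, h4, rfl⟩

end Cfsg.Agent.Lib.helper63.BGNA
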