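import Mathlib

set_option autoImplicit false

namespace Cfsg.Agent.Lib.helper63.Elusive

open Module

section Count

variable {F V : Type*} [Field F] [Fintype F] [AddCommGroup V] [Module F V] [Finite V]

omit [Fintype F] in
/-- Ordered bases of a fixed `m`-dimensional subspace `W`, counted inside `V` or inside `W`. -/
theorem card_fiber (m : ℕ) (W : Submodule F V) (hW : finrank F W = m) :
    Nat.card {s : Fin m → V // LinearIndependent F s ∧ Submodule.span F (Set.range s) = W} =
      Nat.card {s : Fin m → W // LinearIndependent F s} := by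
  apply Nat.card_congr
  refine ⟨fun s => ⟨fun j => ⟨s.1 j, ?_⟩, ?_⟩, fun s => ⟨fun j => (s.1 j : V), ?_, ?_⟩, ?_, ?_⟩
  · have h : s.1 j ∈ Submodule.span F (Set.range s.1) :=
      Submodule.subset_span (Set.mem_range_self j)
    rw [s.2.2] at h
    exact h
  · apply LinearIndependent.of_comp W.subtype
    exact s.2.1
  · exact s.2.map' W.subtype (Submodule.ker_subtype W)
  · have h1 : Submodule.span F (Set.range s.1) = ⊤ := by
      apply LinearIndependent.span_eq_top_of_card_eq_finrank' s.2
      rw [Fintype.card_fin, hW]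
    have h2 : Set.range (fun j => (s.1 j : V)) = W.subtype '' Set.range s.1 := by
      rw [← Set.range_comp]; rfl
    rw [h2, Submodule.span_image, h1, Submodule.map_top, Submodule.range_subtype]
  · intro s; rfl
  · intro s; rfl

/-- Counting ordered bases of `m`-dimensional subspaces. -/
theorem card_subspaces_mul (m : ℕ) (hm : m ≤ finrank F V) :
    Nat.card {W : Submodule F V // finrank F W = m} *
        ∏ i : Fin m, (Fintype.card F ^ m - Fintype.card F ^ (i : ℕ))
      = ∏ i : Fin m, (Fintype.card F ^ finrank F V - Fintype.card F ^ (i : ℕ)) := by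
  classical
  rw [← card_linearIndependent (K := F) (V := V) hm]
  let φ : {s : Fin m → V // LinearIndependent F s} → {W : Submodule F V // finrank F W = m} :=
    fun s => ⟨Submodule.span F (Set.range s.1), by rw [finrank_span_eq_card s.2, Fintype.card_fin]⟩
  have : Fintype {W : Submodule F V // finrank F W = m} := Fintype.ofFinite _
  rw [Nat.card_congr (Equiv.sigmaFiberEquiv φ).symm, Nat.card_sigma]
  have key : ∀ W : {W : Submodule F V // finrank F W = m},
      Nat.card {s : {s : Fin m → V // LinearIndependent F s} // φ s = W} =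
        ∏ i : Fin m, (Fintype.card F ^ m - Fintype.card F ^ (i : ℕ)) := by
    intro W
    have h1 : Nat.card {s : {s : Fin m → V // LinearIndependent F s} // φ s = W} =
        Nat.card {s : Fin m → V // LinearIndependent F s ∧ Submodule.span F (Set.range s) = W.1} := by
      apply Nat.card_congr
      refine ⟨fun s => ⟨s.1.1, s.1.2, ?_⟩, fun s => ⟨⟨s.1, s.2.1⟩, ?_⟩, ?_, ?_⟩
      · exact congrArg Subtype.val s.2
      · exact Subtype.ext s.2.2
      · intro s; rfl
      · intro s; rfl
    rw [h1, card_fiber m W.1 W.2, card_linearIndependent (K := F) (V := W.1) (le_of_eq W.2.symm), W.2]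
  simp only [key, Finset.sum_const, Finset.card_univ, smul_eq_mul]
  rw [Nat.card_eq_fintype_card]

omit [Field F] [Fintype F] [AddCommGroup V] [Module F V] [Finite V] in
theorem prod_sub_eq (q n m : ℕ) (hm : m ≤ n) :
    ∏ i : Fin m, (q ^ n - q ^ (i : ℕ)) =
      (∏ i : Fin m, q ^ (i : ℕ)) * ∏ i : Fin m, (q ^ (n - (i : ℕ)) - 1) := by
  rw [← Finset.prod_mul_distrib]
  apply Finset.prod_congr rfl
  intro i _
  have hi : (i : ℕ) ≤ n := le_trans (le_of_lt i.2) hm
  rw [Nat.mul_sub, mul_one, ← pow_add, Nat.add_sub_cancel' hi]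

/-- A prime dividing the number of `m`-subspaces divides some `q^(n-j) - 1` with `j < m`. -/
theorem exists_dvd_of_dvd_card_subspaces (m : ℕ) (hm : m ≤ finrank F V) (r : ℕ) (hr : r.Prime)
    (h : r ∣ Nat.card {W : Submodule F V // finrank F W = m}) :
    ∃ j, j < m ∧ r ∣ Fintype.card F ^ (finrank F V - j) - 1 := by
  have h1 := card_subspaces_mul (F := F) (V := V) m hm
  rw [prod_sub_eq _ _ m le_rfl, prod_sub_eq _ _ m hm] at h1
  have hq : 0 < Fintype.card F := Fintype.card_pos
  have hpos : 0 < ∏ i : Fin m, Fintype.card F ^ (i : ℕ) :=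
    Finset.prod_pos (fun i _ => pow_pos hq _)
  have h2 : Nat.card {W : Submodule F V // finrank F W = m} *
      ∏ i : Fin m, (Fintype.card F ^ (m - (i : ℕ)) - 1) =
      ∏ i : Fin m, (Fintype.card F ^ (finrank F V - (i : ℕ)) - 1) := by
    apply Nat.eq_of_mul_eq_mul_left hpos
    rw [← h1]; ring
  have h3 : r ∣ ∏ i : Fin m, (Fintype.card F ^ (finrank F V - (i : ℕ)) - 1) := by
    rw [← h2]; exact Dvd.dvd.mul_right h _
  obtain ⟨i, _, hi⟩ := (Prime.dvd_finsetProd_iff hr.prime _).mp h3
  exact ⟨i, i.2, hi⟩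

end Count

section FixCount

variable {F V : Type*} [Field F] [Fintype F] [AddCommGroup V] [Module F V] [Finite V]

/-- Fixed-point counting for a linear map of prime order `r`. -/
theorem fix_count (r : ℕ) [Fact r.Prime] (f : V →ₗ[F] V) (hf : f ^ r = 1) :
    ((Fintype.card F : ℕ) : ZMod r) ^ finrank F V =
      ((Fintype.card F : ℕ) : ZMod r) ^ finrank F (LinearMap.ker (f - 1)) := by
  classical
  have := Fintype.ofFinite V
  obtain ⟨g, hg⟩ : ∃ g : Function.End V, g = fun v => f v := ⟨_, rfl⟩
  have h0 : ∀ k : ℕ, g ^ k = fun v => (f ^ k) v := by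
    intro k
    induction k with
    | zero => rfl
    | succ k ih => rw [pow_succ, ih, pow_succ, hg]; rfl
  have h1 : g ^ r ^ 1 = 1 := by
    rw [pow_one, h0, hf]; rfl
  have h2 := Equiv.Perm.card_fixedPoints_modEq (p := r) (n := 1) (f := g) h1
  have h3 : Fintype.card V = Fintype.card F ^ finrank F V := Module.card_eq_pow_finrank
  have h4 : ∀ inst : Fintype (Function.fixedPoints g), @Fintype.card (Function.fixedPoints g) inst =
      Fintype.card F ^ finrank F (LinearMap.ker (f - 1)) := by
    intro inst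
    rw [← Module.card_eq_pow_finrank (K := F) (V := LinearMap.ker (f - 1))]
    apply Fintype.card_congr
    exact Equiv.subtypeEquivRight (fun x => by
      rw [hg]
      simp [Function.mem_fixedPoints, Function.IsFixedPt, LinearMap.mem_ker, sub_eq_zero])
  rw [h3, h4] at h2
  have h5 := (ZMod.natCast_eq_natCast_iff _ _ _).mpr h2
  simpa using h5

theorem orderOf_dvd_sub {r : ℕ} [Fact r.Prime] (q : ℕ) (hq : (q : ZMod r) ≠ 0) {n s : ℕ} (hs : s ≤ n)
    (h : (q : ZMod r) ^ n = (q : ZMod r) ^ s) : orderOf (q : ZMod r) ∣ n - s := by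
  rw [orderOf_dvd_iff_pow_eq_one]
  have h1 : (q : ZMod r) ^ s * (q : ZMod r) ^ (n - s) = (q : ZMod r) ^ s * 1 := by
    rw [← pow_add, Nat.add_sub_cancel' hs, mul_one, h]
  exact mul_left_cancel₀ (pow_ne_zero _ hq) h1

/-- For `f` of order `r`, `ord_r(q)` divides `dim V - dim Fix(f)`. -/
theorem orderOf_dvd_finrank_sub (r : ℕ) [Fact r.Prime] (hq : ((Fintype.card F : ℕ) : ZMod r) ≠ 0)
    (f : V →ₗ[F] V) (hf : f ^ r = 1) :
    orderOf ((Fintype.card F : ℕ) : ZMod r) ∣ finrank F V - finrank F (LinearMap.ker (f - 1)) :=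
  orderOf_dvd_sub _ hq (Submodule.finrank_le _) (fix_count r f hf)

end FixCount

section Charpoly

open Polynomial

/-- If `M^r = c` with `X^r - c` irreducible then the size is `r k` and `det M = (-1)^n (-c)^k`. -/
theorem det_of_pow_eq {F ι : Type*} [Field F] [Fintype ι] [DecidableEq ι] (r : ℕ) (hr : r ≠ 0)
    (c : F) (hirr : Irreducible (X ^ r - C c : F[X]))
    (M : Matrix ι ι F) (hM : M ^ r = c • (1 : Matrix ι ι F)) :
    ∃ k, Fintype.card ι = r * k ∧ M.det = (-1) ^ Fintype.card ι * (-c) ^ k := by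
  obtain ⟨A, hA⟩ : ∃ A : Matrix ι ι F[X], A = Matrix.scalar ι (X : F[X]) := ⟨_, rfl⟩
  obtain ⟨B, hB⟩ : ∃ B : Matrix ι ι F[X], B = (C : F →+* F[X]).mapMatrix M := ⟨_, rfl⟩
  have hcomm : Commute A B := by
    rw [hA]; exact Matrix.scalar_commute _ (fun _ => Commute.all _ _) _
  have h1 : (∑ i ∈ Finset.range r, A ^ i * B ^ (r - 1 - i)) * (A - B) = A ^ r - B ^ r :=
    hcomm.geom_sum₂_mul r
  have hAr : A ^ r = Matrix.scalar ι (X ^ r : F[X]) := by rw [hA, ← map_pow]
  have hBr : B ^ r = Matrix.scalar ι (C c : F[X]) := by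
    rw [hB, ← map_pow, hM]
    ext i j
    by_cases hij : i = j
    · subst hij; simp
    · simp [hij, Matrix.one_apply]
  have h2 : M.charpoly ∣ (X ^ r - C c) ^ Fintype.card ι := by
    have h3 : Matrix.det ((∑ i ∈ Finset.range r, A ^ i * B ^ (r - 1 - i)) * (A - B)) =
        (X ^ r - C c) ^ Fintype.card ι := by
      rw [h1, hAr, hBr, ← map_sub, Matrix.scalar_apply, Matrix.det_diagonal]
      simp
    rw [Matrix.det_mul] at h3
    have h4 : (A - B).det = M.charpoly := by
      rw [hA, hB]; rfl
    rw [h4] at h3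
    exact Dvd.intro_left _ h3
  obtain ⟨k, _, hassoc⟩ := (dvd_prime_pow hirr.prime _).mp h2
  have hmon : ((X ^ r - C c : F[X]) ^ k).Monic := (monic_X_pow_sub_C c hr).pow k
  have heq : M.charpoly = (X ^ r - C c) ^ k :=
    eq_of_monic_of_associated (Matrix.charpoly_monic M) hmon hassoc
  refine ⟨k, ?_, ?_⟩
  · have h5 := Matrix.charpoly_natDegree_eq_dim M
    rw [heq, natDegree_pow, natDegree_X_pow_sub_C] at h5
    rw [← h5, mul_comm]
  · rw [Matrix.det_eq_sign_charpoly_coeff, heq, coeff_zero_eq_eval_zero]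
    simp [zero_pow hr]

end Charpoly

end Cfsg.Agent.Lib.helper63.Elusive
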