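import Mathlib
import Cfsg.Agent.Lib.helper63.Elusive1

set_option autoImplicit false

namespace Cfsg.Agent.Lib.helper63.Elusive

open Module

section Conj

variable {F V W : Type*} [Field F] [AddCommGroup V] [Module F V] [AddCommGroup W] [Module F W]

/-- Conjugate of an endomorphism by a linear equivalence. -/
noncomputable def conjE (e : V ≃ₗ[F] W) (h : W →ₗ[F] W) : V →ₗ[F] V :=
  e.symm.toLinearMap ∘ₗ h ∘ₗ e.toLinearMap

theorem conjE_apply (e : V ≃ₗ[F] W) (h : W →ₗ[F] W) (x : V) :
    conjE e h x = e.symm (h (e x)) := rfl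

theorem conjE_pow (e : V ≃ₗ[F] W) (h : W →ₗ[F] W) (k : ℕ) :
    conjE e h ^ k = conjE e (h ^ k) := by
  induction k with
  | zero => ext x; simp [conjE_apply]
  | succ k ih =>
    ext x
    rw [pow_succ, Module.End.mul_apply, ih, conjE_apply, conjE_apply, conjE_apply, pow_succ,
      Module.End.mul_apply]
    simp

theorem compLeft_pow (g : W →ₗ[F] W) (I : Type*) (k : ℕ) :
    (g.compLeft I) ^ k = (g ^ k).compLeft I := by
  induction k with
  | zero => ext u j; simp
  | succ k ih =>
    ext u j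
    rw [pow_succ, Module.End.mul_apply, ih, pow_succ]
    rfl

end Conj

section BlockA

variable {F : Type*} [Field F] [Fintype F]

/-- A linear map of order `r` on `F^i` (`i = ord_r(q)`) without nonzero fixed vectors. -/
theorem exists_block (r : ℕ) [Fact r.Prime]
    (hq : ((Fintype.card F : ℕ) : ZMod r) ≠ 0) (i : ℕ)
    (hi : i = orderOf ((Fintype.card F : ℕ) : ZMod r)) (hi1 : 1 ≤ i) :
    ∃ g : (Fin i → F) →ₗ[F] (Fin i → F), g ^ r = 1 ∧ LinearMap.ker (g - 1) = ⊥ := by
  classical
  have hr : r.Prime := Fact.out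
  have hdvd : r ∣ Fintype.card F ^ i - 1 := by
    have h1 : ((Fintype.card F : ℕ) : ZMod r) ^ i = 1 := by rw [hi]; exact pow_orderOf_eq_one _
    have h2 : 1 ≤ Fintype.card F ^ i := Nat.one_le_pow _ _ Fintype.card_pos
    rw [← ZMod.natCast_eq_zero_iff, Nat.cast_sub h2, Nat.cast_pow, h1]; simp
  have hcard : r ∣ Nat.card (GL (Fin i) F) := by
    rw [Matrix.card_GL_field]
    have h3 : (Fintype.card F ^ i - Fintype.card F ^ ((⟨0, hi1⟩ : Fin i) : ℕ)) ∣
        ∏ j : Fin i, (Fintype.card F ^ i - Fintype.card F ^ (j : ℕ)) :=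
      Finset.dvd_prod_of_mem _ (Finset.mem_univ _)
    exact dvd_trans (by simpa using hdvd) h3
  obtain ⟨M, hM⟩ := exists_prime_orderOf_dvd_card' (G := GL (Fin i) F) r hcard
  obtain ⟨g, hg⟩ : ∃ g : (Fin i → F) →ₗ[F] (Fin i → F),
      g = Matrix.toLinAlgEquiv' (M : Matrix (Fin i) (Fin i) F) := ⟨_, rfl⟩
  have hgr : g ^ r = 1 := by
    rw [hg, ← map_pow, ← Units.val_pow_eq_pow_val, ← hM, pow_orderOf_eq_one]; simp
  refine ⟨g, hgr, ?_⟩
  have h3 := orderOf_dvd_finrank_sub r hq g hgr
  rw [← hi] at h3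
  have h4 : finrank F (Fin i → F) = i := by simp
  have h5 : finrank F (LinearMap.ker (g - 1)) ≤ finrank F (Fin i → F) := Submodule.finrank_le _
  rw [h4] at h3 h5
  by_cases h0 : finrank F (LinearMap.ker (g - 1)) = 0
  · exact Submodule.finrank_eq_zero.mp h0
  · exfalso
    have h6 : i - finrank F (LinearMap.ker (g - 1)) = 0 := by
      apply Nat.eq_zero_of_dvd_of_lt h3
      omega
    have h7 : finrank F (LinearMap.ker (g - 1)) = finrank F (Fin i → F) := by rw [h4]; omega
    have h8 : LinearMap.ker (g - 1) = ⊤ := Submodule.eq_top_of_finrank_eq h7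
    have h9 : g = 1 := by
      have := LinearMap.ker_eq_top.mp h8
      exact sub_eq_zero.mp this
    have h10 : M = 1 := by
      apply Units.ext
      apply Matrix.toLinAlgEquiv'.injective
      rw [← hg, h9]; simp
    rw [h10, orderOf_one] at hM
    exact hr.one_lt.ne hM

omit [Fintype F] in
/-- An endomorphism of `F^n` of order dividing `r` with small fixed space. -/
theorem exists_end_order (r : ℕ) (i b s n : ℕ) (hn : n = i * b + s)
    (g : (Fin i → F) →ₗ[F] (Fin i → F)) (hg : g ^ r = 1) (hker : LinearMap.ker (g - 1) = ⊥) :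
    ∃ f : (Fin n → F) →ₗ[F] (Fin n → F), f ^ r = 1 ∧ finrank F (LinearMap.ker (f - 1)) ≤ s := by
  have hfr : finrank F (Fin n → F) = finrank F ((Fin b → (Fin i → F)) × (Fin s → F)) := by
    simp [hn, Module.finrank_pi_fintype, mul_comm]
  obtain ⟨e⟩ : Nonempty ((Fin n → F) ≃ₗ[F] ((Fin b → (Fin i → F)) × (Fin s → F))) :=
    ⟨LinearEquiv.ofFinrankEq _ _ hfr⟩
  obtain ⟨h, hh⟩ : ∃ h : ((Fin b → (Fin i → F)) × (Fin s → F)) →ₗ[F]
      ((Fin b → (Fin i → F)) × (Fin s → F)), h = (g.compLeft (Fin b)).prodMap LinearMap.id :=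
    ⟨_, rfl⟩
  have happ : ∀ (k : ℕ) (x : (Fin b → (Fin i → F)) × (Fin s → F)),
      (h ^ k) x = (fun j => (g ^ k) (x.1 j), x.2) := by
    intro k
    induction k with
    | zero => intro x; simp
    | succ k ih =>
      intro x
      rw [pow_succ, Module.End.mul_apply, ih, hh]
      refine Prod.ext ?_ rfl
      funext j
      show (g ^ k) (g (x.1 j)) = (g ^ (k + 1)) (x.1 j)
      rw [pow_succ, Module.End.mul_apply]
  have hfst : ∀ y, (h y).1 = fun j => g (y.1 j) := by
    intro y; rw [hh]; rfl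
  refine ⟨conjE e h, ?_, ?_⟩
  · rw [conjE_pow]
    apply LinearMap.ext
    intro x
    rw [conjE_apply, happ, hg]
    simp
  · obtain ⟨φ, hφ⟩ : ∃ φ : LinearMap.ker (conjE e h - 1) →ₗ[F] (Fin s → F),
        φ = (LinearMap.snd F _ _) ∘ₗ e.toLinearMap ∘ₗ (Submodule.subtype _) := ⟨_, rfl⟩
    have hinj : Function.Injective φ := by
      rw [← LinearMap.ker_eq_bot, LinearMap.ker_eq_bot']
      intro x hx
      have hx1 : conjE e h x.1 = x.1 := by
        have h1 := x.2
        rw [LinearMap.mem_ker, LinearMap.sub_apply, sub_eq_zero] at h1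
        exact h1
      have hx2 : h (e x.1) = e x.1 := by
        have h1 := congrArg e hx1
        rw [conjE_apply, LinearEquiv.apply_symm_apply] at h1
        exact h1
      have hx3 : (e x.1).2 = 0 := by rw [hφ] at hx; exact hx
      have hx4 : (e x.1).1 = 0 := by
        funext j
        have h1 : g ((e x.1).1 j) = (e x.1).1 j := by
          have h2 := congrArg (fun y => y.1 j) hx2
          have h3 := congrFun (hfst (e x.1)) j
          exact h3.symm.trans h2
        have hm : (e x.1).1 j ∈ LinearMap.ker (g - 1) := by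
          rw [LinearMap.mem_ker, LinearMap.sub_apply, h1]; simp
        rw [hker] at hm
        simpa using hm
      have hx5 : e x.1 = 0 := Prod.ext hx4 hx3
      have hx6 : x.1 = 0 := by simpa using hx5
      exact Subtype.ext hx6
    have h1 := LinearMap.finrank_le_finrank_of_injective hinj
    simpa using h1

end BlockA

section BlockB

open Polynomial

/-- An endomorphism of `F^(r k)` whose `r`-th power is the scalar `c`. -/
theorem exists_end_pow_eq {F : Type*} [Field F] (r : ℕ) (hr : r ≠ 0) (c : F) (k n : ℕ)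
    (hn : n = r * k) : ∃ f : (Fin n → F) →ₗ[F] (Fin n → F), f ^ r = c • 1 := by
  have hmon : (X ^ r - C c : F[X]).Monic := monic_X_pow_sub_C c hr
  have hfin : Module.Finite F (AdjoinRoot (X ^ r - C c : F[X])) := hmon.finite_adjoinRoot
  have hK : finrank F (AdjoinRoot (X ^ r - C c : F[X])) = r := by
    rw [(AdjoinRoot.powerBasis' hmon).finrank, AdjoinRoot.powerBasis'_dim,
      natDegree_X_pow_sub_C]
  obtain ⟨μ, hμ⟩ : ∃ μ : AdjoinRoot (X ^ r - C c : F[X]) →ₗ[F] AdjoinRoot (X ^ r - C c : F[X]),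
      μ = Algebra.lmul F _ (AdjoinRoot.root (X ^ r - C c : F[X])) := ⟨_, rfl⟩
  have hμr : μ ^ r = c • 1 := by
    rw [hμ, ← map_pow]
    have hroot : (AdjoinRoot.root (X ^ r - C c : F[X])) ^ r =
        algebraMap F (AdjoinRoot (X ^ r - C c : F[X])) c := by
      have h1 := AdjoinRoot.eval₂_root (X ^ r - C c : F[X])
      rw [eval₂_sub, eval₂_pow, eval₂_X, eval₂_C, sub_eq_zero] at h1
      exact h1
    rw [hroot, AlgHom.commutes, Algebra.algebraMap_eq_smul_one]
  have hfr : finrank F (Fin n → F) = finrank F (Fin k → AdjoinRoot (X ^ r - C c : F[X])) := by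
    have h1 : finrank F (Fin k → AdjoinRoot (X ^ r - C c : F[X])) = k * r := by
      rw [Module.finrank_pi_fintype]; simp [hK]
    have h2 : finrank F (Fin n → F) = n := by simp
    rw [h1, h2, hn, mul_comm]
  obtain ⟨e⟩ : Nonempty ((Fin n → F) ≃ₗ[F] (Fin k → AdjoinRoot (X ^ r - C c : F[X]))) :=
    ⟨LinearEquiv.ofFinrankEq _ _ hfr⟩
  refine ⟨conjE e (μ.compLeft (Fin k)), ?_⟩
  rw [conjE_pow, compLeft_pow, hμr]
  apply LinearMap.ext
  intro x
  rw [conjE_apply]
  have h2 : (c • (1 : AdjoinRoot (X ^ r - C c : F[X]) →ₗ[F] AdjoinRoot (X ^ r - C c : F[X]))).compLeft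
      (Fin k) (e x) = c • e x := by
    funext j; rfl
  rw [h2]; simp

/-- If `f^r = c` with `X^r - c` irreducible, every invariant subspace has dimension divisible
by `r`. -/
theorem dvd_finrank_of_invariant {F V : Type*} [Field F] [AddCommGroup V] [Module F V]
    [Module.Finite F V] (r : ℕ) (hr : r ≠ 0) (c : F) (hirr : Irreducible (X ^ r - C c : F[X]))
    (f : V →ₗ[F] V) (hf : f ^ r = c • 1) (W : Submodule F V) (hW : ∀ w ∈ W, f w ∈ W) :
    r ∣ finrank F W := by
  classical
  obtain ⟨M, hM⟩ : ∃ M : Matrix (Fin (finrank F W)) (Fin (finrank F W)) F,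
      M = LinearMap.toMatrixAlgEquiv (Module.finBasis F W) (f.restrict hW) := ⟨_, rfl⟩
  have hMr : M ^ r = c • 1 := by
    rw [hM, ← map_pow]
    have h1 : (f.restrict hW) ^ r = c • 1 := by
      rw [Module.End.pow_restrict]
      ext w
      simp [hf]
    rw [h1, map_smul, map_one]
  obtain ⟨k, hk, _⟩ := det_of_pow_eq r hr c hirr M hMr
  rw [Fintype.card_fin] at hk
  exact ⟨k, hk⟩

end BlockB

section Lift

/-- Lifting invariant subspaces from a quotient. -/
theorem lift_invariant {F V : Type*} [Field F] [AddCommGroup V] [Module F V] [Module.Finite F V]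
    (f : V →ₗ[F] V) (Z : Submodule F V) (hZ : Z ≤ Z.comap f) (Wb : Submodule F (V ⧸ Z))
    (hWb : ∀ w ∈ Wb, Z.mapQ Z f hZ w ∈ Wb) :
    ∃ W : Submodule F V, Z ≤ W ∧ finrank F W = finrank F Wb + finrank F Z ∧
      ∀ w ∈ W, f w ∈ W := by
  have hle : Z ≤ Wb.comap Z.mkQ := by
    intro z hz
    rw [Submodule.mem_comap]
    have h1 : Z.mkQ z = 0 := by simpa using hz
    rw [h1]; exact Wb.zero_mem
  refine ⟨Wb.comap Z.mkQ, hle, ?_, ?_⟩
  · have hmap : (Wb.comap Z.mkQ).map Z.mkQ = Wb :=
      Submodule.map_comap_eq_of_surjective (Submodule.mkQ_surjective Z) Wb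
    have h1 := LinearEquiv.finrank_eq (Submodule.quotientQuotientEquivQuotient Z _ hle)
    have h2 := Submodule.finrank_quotient_add_finrank ((Wb.comap Z.mkQ).map Z.mkQ)
    have h3 := Submodule.finrank_quotient_add_finrank Z
    have h4 := Submodule.finrank_quotient_add_finrank (Wb.comap Z.mkQ)
    have h5 : finrank F ((Wb.comap Z.mkQ).map Z.mkQ) = finrank F Wb := by rw [hmap]
    omega
  · intro w hw
    rw [Submodule.mem_comap] at hw ⊢
    have h1 := hWb _ hw
    rwa [Submodule.mkQ_apply, Submodule.mapQ_apply] at h1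

end Lift

end Cfsg.Agent.Lib.helper63.Elusive
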