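import Mathlib
import Cfsg.Agent.Lib.helper63.Elusive2

set_option autoImplicit false

namespace Cfsg.Agent.Lib.helper63.Elusive

open Module Polynomial

universe u

section Quot

variable {F V : Type*} [Field F] [AddCommGroup V] [Module F V]

theorem mapQ_pow_apply (f : V →ₗ[F] V) (Z : Submodule F V) (hZ : Z ≤ Z.comap f) (j : ℕ) (x : V) :
    ((Z.mapQ Z f hZ) ^ j) (Submodule.Quotient.mk x) = Submodule.Quotient.mk ((f ^ j) x) := by
  induction j generalizing x with
  | zero => simp
  | succ j ih =>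
    rw [pow_succ, Module.End.mul_apply, Submodule.mapQ_apply, ih, pow_succ, Module.End.mul_apply]

theorem mapQ_pow_eq_one (f : V →ₗ[F] V) (Z : Submodule F V) (hZ : Z ≤ Z.comap f) (r : ℕ)
    (hf : f ^ r = 1) : (Z.mapQ Z f hZ) ^ r = 1 := by
  apply LinearMap.ext
  intro y
  obtain ⟨x, rfl⟩ := Submodule.Quotient.mk_surjective Z y
  rw [mapQ_pow_apply, hf]; simp

theorem mapQ_pow_eq_smul (f : V →ₗ[F] V) (Z : Submodule F V) (hZ : Z ≤ Z.comap f) (r : ℕ) (c : F)
    (hf : f ^ r = c • 1) : (Z.mapQ Z f hZ) ^ r = c • 1 := by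
  apply LinearMap.ext
  intro y
  obtain ⟨x, rfl⟩ := Submodule.Quotient.mk_surjective Z y
  rw [mapQ_pow_apply, hf]; simp

/-- The span of `v, f v, …, f^(d-1) v` is invariant as soon as `f^d v` lies in it. -/
theorem cyclic_invariant (f : V →ₗ[F] V) (v : V) (d : ℕ)
    (hd : (f ^ d) v ∈ Submodule.span F (Set.range (fun j : Fin d => (f ^ (j : ℕ)) v))) :
    ∀ z ∈ Submodule.span F (Set.range (fun j : Fin d => (f ^ (j : ℕ)) v)),
      f z ∈ Submodule.span F (Set.range (fun j : Fin d => (f ^ (j : ℕ)) v)) := by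
  have h1 : (Submodule.span F (Set.range (fun j : Fin d => (f ^ (j : ℕ)) v))).map f ≤
      Submodule.span F (Set.range (fun j : Fin d => (f ^ (j : ℕ)) v)) := by
    rw [Submodule.map_span, Submodule.span_le]
    rintro _ ⟨_, ⟨j, rfl⟩, rfl⟩
    have h2 : f ((f ^ (j : ℕ)) v) = (f ^ ((j : ℕ) + 1)) v := by
      rw [pow_succ', Module.End.mul_apply]
    by_cases hj : (j : ℕ) + 1 < d
    · apply Submodule.subset_span
      exact ⟨⟨(j : ℕ) + 1, hj⟩, h2.symm⟩
    · have hj' : (j : ℕ) + 1 = d := by have := j.2; omega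
      show f ((f ^ (j : ℕ)) v) ∈ _
      rw [h2, hj']
      exact hd
  intro z hz
  exact h1 (Submodule.mem_map_of_mem hz)

theorem exists_submodule_finrank [Module.Finite F V] (m : ℕ) (hm : m ≤ finrank F V) :
    ∃ W : Submodule F V, finrank F W = m := by
  classical
  have hli : LinearIndependent F (fun j : Fin m => Module.finBasis F V (Fin.castLE hm j)) :=
    (Module.finBasis F V).linearIndependent.comp _ (Fin.castLE_injective hm)
  refine ⟨Submodule.span F (Set.range (fun j : Fin m => Module.finBasis F V (Fin.castLE hm j))), ?_⟩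
  rw [finrank_span_eq_card hli, Fintype.card_fin]

end Quot

theorem mod_pred (a i : ℕ) (h : a % i ≠ 0) : (a - 1) % i = a % i - 1 := by
  rcases Nat.eq_zero_or_pos i with h0 | hi
  · subst h0; simp
  have h1 : a = i * (a / i) + a % i := (Nat.div_add_mod a i).symm
  have h2 : a % i < i := Nat.mod_lt _ hi
  have h3 : a - 1 = (a % i - 1) + i * (a / i) := by omega
  rw [h3, Nat.add_mul_mod_self_left, Nat.mod_eq_of_lt (by omega)]

section ClaimH

variable {F : Type*} [Field F]

/-- If `f^r = c` with `X^r - c` irreducible, there are invariant subspaces of every dimension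
divisible by `r`. -/
theorem exists_invariant_of_pow_eq (r : ℕ) (hr : r ≠ 0) (c : F)
    (hirr : Irreducible (X ^ r - C c : F[X])) :
    ∀ (k : ℕ) (V : Type u) [AddCommGroup V] [Module F V] [Module.Finite F V] (f : V →ₗ[F] V),
      f ^ r = c • 1 → r * k ≤ finrank F V →
      ∃ W : Submodule F V, finrank F W = r * k ∧ ∀ w ∈ W, f w ∈ W := by
  intro k
  induction k with
  | zero =>
    intro V _ _ _ f _ _
    refine ⟨⊥, by simp, ?_⟩
    intro w hw
    rw [Submodule.mem_bot] at hw
    rw [hw, map_zero]; exact Submodule.zero_mem _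
  | succ k ih =>
    intro V _ _ _ f hf hk
    have hr0 : 0 < r := Nat.pos_of_ne_zero hr
    have hpos : 0 < finrank F V := by
      have : r ≤ r * (k + 1) := Nat.le_mul_of_pos_right r (Nat.succ_pos k)
      omega
    obtain ⟨v, hv⟩ := (Module.finrank_pos_iff_exists_ne_zero (R := F)).mp hpos
    obtain ⟨Z, hZ⟩ : ∃ Z : Submodule F V,
        Z = Submodule.span F (Set.range (fun j : Fin r => (f ^ (j : ℕ)) v)) := ⟨_, rfl⟩
    have hvZ : v ∈ Z := by
      rw [hZ]; apply Submodule.subset_span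
      exact ⟨⟨0, hr0⟩, by simp⟩
    have hZinv : ∀ z ∈ Z, f z ∈ Z := by
      rw [hZ]
      apply cyclic_invariant
      rw [hf, ← hZ]
      simpa using Submodule.smul_mem Z c hvZ
    have hZle : finrank F Z ≤ r := by
      rw [hZ]
      have h1 : finrank F (Submodule.span F (Set.range (fun j : Fin r => (f ^ (j : ℕ)) v))) ≤
          Fintype.card (Fin r) := finrank_range_le_card _
      rwa [Fintype.card_fin] at h1
    have hZpos : 0 < finrank F Z := by
      rw [Module.finrank_pos_iff_exists_ne_zero (R := F)]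
      exact ⟨⟨v, hvZ⟩, fun h => hv (congrArg Subtype.val h)⟩
    have hZdvd : r ∣ finrank F Z := dvd_finrank_of_invariant r hr c hirr f hf Z hZinv
    have hZr : finrank F Z = r := le_antisymm hZle (Nat.le_of_dvd hZpos hZdvd)
    have hZc : Z ≤ Z.comap f := fun z hz => hZinv z hz
    have hq : finrank F (V ⧸ Z) + finrank F Z = finrank F V :=
      Submodule.finrank_quotient_add_finrank Z
    have hfb : (Z.mapQ Z f hZc) ^ r = c • 1 := mapQ_pow_eq_smul f Z hZc r c hf
    have hk' : r * k ≤ finrank F (V ⧸ Z) := by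
      rw [Nat.mul_succ] at hk; omega
    obtain ⟨Wb, hWb1, hWb2⟩ := ih (V ⧸ Z) (Z.mapQ Z f hZc) hfb hk'
    obtain ⟨W, _, hW1, hW2⟩ := lift_invariant f Z hZc Wb hWb2
    exact ⟨W, by rw [hW1, hWb1, hZr, Nat.mul_succ], hW2⟩

end ClaimH

section ClaimG

variable {F : Type*} [Field F] [Fintype F]

/-- A nontrivial `f` with `f^r = 1` has an invariant subspace of dimension `ord_r(q)`. -/
theorem exists_invariant_small {V : Type*} [AddCommGroup V] [Module F V] [Finite V]
    (p f' : ℕ) [Fact p.Prime] (hF : Fintype.card F = p ^ f') (r : ℕ) [Fact r.Prime]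
    (hpr : p.Coprime r) (f : V →ₗ[F] V) (hf : f ^ r = 1) (hf1 : f ≠ 1) :
    ∃ Z : Submodule F V, finrank F Z = orderOf ((Fintype.card F : ℕ) : ZMod r) ∧
      ∀ z ∈ Z, f z ∈ Z := by
  classical
  have hrp : r.Prime := Fact.out
  have hq0 : ((Fintype.card F : ℕ) : ZMod r) ≠ 0 := by
    rw [Ne, ZMod.natCast_eq_zero_iff, hF]
    intro h
    have h1 := hrp.dvd_of_dvd_pow h
    have h2 := Nat.Coprime.eq_one_of_dvd hpr.symm h1
    exact hrp.one_lt.ne' h2
  have hint : IsIntegral F f := ⟨X ^ r - 1, monic_X_pow_sub_C (1 : F) hrp.ne_zero |>.ne_zero |> fun _ => by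
    simpa using monic_X_pow_sub_C (1 : F) hrp.ne_zero, by simp [hf]⟩
  have hμ0 : minpoly F f ≠ 0 := minpoly.ne_zero hint
  have hdvd : minpoly F f ∣ X ^ r - 1 := minpoly.dvd F f (by simp [hf])
  have hcyc : cyclotomic r F * (X - 1) = X ^ r - 1 := cyclotomic_prime_mul_X_sub_one F r
  have hnot : ¬ IsCoprime (minpoly F f) (cyclotomic r F) := by
    intro hcop
    have h1 : minpoly F f ∣ X - 1 := hcop.dvd_of_dvd_mul_left (by rw [hcyc]; exact hdvd)
    obtain ⟨h, hh⟩ := h1
    have h2 : aeval f (X - 1 : F[X]) = 0 := by rw [hh, map_mul, minpoly.aeval]; simp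
    apply hf1
    simpa [sub_eq_zero] using h2
  obtain ⟨g, hgirr, hgμ, hgc⟩ : ∃ g : F[X], Irreducible g ∧ g ∣ minpoly F f ∧ g ∣ cyclotomic r F := by
    have hd0 : EuclideanDomain.gcd (minpoly F f) (cyclotomic r F) ≠ 0 := by
      intro h
      rw [EuclideanDomain.gcd_eq_zero_iff] at h
      exact hμ0 h.1
    have hdu : ¬ IsUnit (EuclideanDomain.gcd (minpoly F f) (cyclotomic r F)) := by
      intro hu
      exact hnot (EuclideanDomain.gcd_isUnit_iff.mp hu)
    obtain ⟨g, hg, hgd⟩ := WfDvdMonoid.exists_irreducible_factor hdu hd0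
    exact ⟨g, hg, hgd.trans (EuclideanDomain.gcd_dvd_left _ _),
      hgd.trans (EuclideanDomain.gcd_dvd_right _ _)⟩
  have hdeg : g.natDegree = orderOf ((Fintype.card F : ℕ) : ZMod r) := by
    rw [natDegree_of_dvd_cyclotomic_of_irreducible hF hpr hgc hgirr, ← orderOf_units,
      ZMod.coe_unitOfCoprime, hF]
  obtain ⟨h, hh⟩ := hgμ
  have hh0 : h ≠ 0 := by
    rintro rfl
    rw [mul_zero] at hh
    exact hμ0 hh
  have hker : LinearMap.ker (aeval f g) ≠ ⊥ := by
    intro hbot
    have hinj : Function.Injective (aeval f g) := LinearMap.ker_eq_bot.mp hbot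
    have h0 : aeval f h = 0 := by
      apply LinearMap.ext
      intro x
      apply hinj
      have h1 := minpoly.aeval F f
      rw [hh, map_mul] at h1
      have h2 := congrArg (fun φ : V →ₗ[F] V => φ x) h1
      simpa using h2
    have h1 : minpoly F f ∣ h := minpoly.dvd F f h0
    rw [hh] at h1
    have h2 : g ∣ 1 := by
      have h3 : g * h ∣ 1 * h := by simpa using h1
      exact (mul_dvd_mul_iff_right hh0).mp h3
    exact hgirr.not_isUnit (isUnit_of_dvd_one h2)
  obtain ⟨v, hv, hv0⟩ := (Submodule.ne_bot_iff _).mp hker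
  rw [LinearMap.mem_ker] at hv
  obtain ⟨d, hd⟩ : ∃ d, d = g.natDegree := ⟨_, rfl⟩
  have hd1 : 1 ≤ d := by
    rw [hd, hdeg]
    apply orderOf_pos_iff.mpr
    apply isOfFinOrder_iff_pow_eq_one.mpr
    exact ⟨r - 1, Nat.sub_pos_of_lt hrp.one_lt, ZMod.pow_card_sub_one_eq_one hq0⟩
  obtain ⟨Z, hZ⟩ : ∃ Z : Submodule F V,
      Z = Submodule.span F (Set.range (fun j : Fin d => (f ^ (j : ℕ)) v)) := ⟨_, rfl⟩
  have hgen : ∀ j : ℕ, j < d → (f ^ j) v ∈ Z := by
    intro j hj
    rw [hZ]; apply Submodule.subset_span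
    exact ⟨⟨j, hj⟩, rfl⟩
  have hvZ : v ∈ Z := by simpa using hgen 0 hd1
  have hlead : g.coeff d ≠ 0 := by
    rw [hd]; exact leadingCoeff_ne_zero.mpr hgirr.ne_zero
  have hZinv : ∀ z ∈ Z, f z ∈ Z := by
    rw [hZ]
    apply cyclic_invariant
    rw [← hZ]
    have h1 : aeval f g v = 0 := hv
    rw [aeval_eq_sum_range, ← hd, Finset.sum_range_succ, LinearMap.add_apply,
      LinearMap.sum_apply] at h1
    have h2 : g.coeff d • (f ^ d) v = - ∑ j ∈ Finset.range d, (g.coeff j • f ^ j) v := by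
      rw [eq_neg_iff_add_eq_zero, add_comm]
      exact h1
    have h3 : (f ^ d) v = (g.coeff d)⁻¹ • (- ∑ j ∈ Finset.range d, (g.coeff j • f ^ j) v) := by
      rw [← h2, smul_smul, inv_mul_cancel₀ hlead, one_smul]
    rw [h3]
    apply Submodule.smul_mem
    apply Submodule.neg_mem
    apply Submodule.sum_mem
    intro j hj
    rw [LinearMap.smul_apply]
    exact Submodule.smul_mem _ _ (hgen j (Finset.mem_range.mp hj))
  have hZle : finrank F Z ≤ d := by
    rw [hZ]
    have h1 : finrank F (Submodule.span F (Set.range (fun j : Fin d => (f ^ (j : ℕ)) v))) ≤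
        Fintype.card (Fin d) := finrank_range_le_card _
    rwa [Fintype.card_fin] at h1
  have hZpos : 0 < finrank F Z := by
    rw [Module.finrank_pos_iff_exists_ne_zero (R := F)]
    exact ⟨⟨v, hvZ⟩, fun h => hv0 (congrArg Subtype.val h)⟩
  -- `Z` is killed by `g(f)`
  have hZker : ∀ z ∈ Z, aeval f g z = 0 := by
    have h1 : Z ≤ LinearMap.ker (aeval f g) := by
      rw [hZ, Submodule.span_le]
      rintro _ ⟨j, rfl⟩
      show aeval f g ((f ^ (j : ℕ)) v) = 0
      have h2 : aeval f g * f ^ (j : ℕ) = f ^ (j : ℕ) * aeval f g := by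
        have h3 : aeval f (g * X ^ (j : ℕ)) = aeval f (X ^ (j : ℕ) * g) := by rw [mul_comm]
        simpa using h3
      rw [← Module.End.mul_apply, h2, Module.End.mul_apply, hv, map_zero]
    intro z hz
    exact h1 hz
  have hcharP : CharP F p := charP_of_card_eq_prime_pow hF
  have hg1 : g.eval 1 ≠ 0 := by
    intro h0
    obtain ⟨g', hg'⟩ := hgc
    have h1 : (cyclotomic r F).eval 1 = 0 := by rw [hg', eval_mul, h0, zero_mul]
    rw [eval_one_cyclotomic_prime] at h1
    have h2 : p ∣ r := (CharP.cast_eq_zero_iff F p r).mp h1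
    have h3 := Nat.Coprime.eq_one_of_dvd hpr h2
    exact (Fact.out : p.Prime).one_lt.ne' h3
  have hfix : LinearMap.ker (f.restrict hZinv - 1) = ⊥ := by
    rw [Submodule.eq_bot_iff]
    intro w hw
    rw [LinearMap.mem_ker, LinearMap.sub_apply, sub_eq_zero] at hw
    have hw1 : f w.1 = w.1 := congrArg Subtype.val hw
    by_contra hw0
    have hw0' : w.1 ≠ 0 := fun h => hw0 (Subtype.ext h)
    have hev : Module.End.HasEigenvector f 1 w.1 := by
      refine ⟨?_, hw0'⟩
      rw [Module.End.mem_eigenspace_iff, one_smul]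
      exact hw1
    have h1 := Module.End.aeval_apply_of_hasEigenvector (p := g) hev
    rw [hZker w.1 w.2] at h1
    rcases smul_eq_zero.mp h1.symm with h2 | h2
    · exact hg1 h2
    · exact hw0' h2
  have hres : (f.restrict hZinv) ^ r = 1 := by
    rw [Module.End.pow_restrict]
    apply LinearMap.ext
    intro w
    apply Subtype.ext
    simp [hf]
  have h5 := orderOf_dvd_finrank_sub r hq0 (f.restrict hZinv) hres
  rw [hfix] at h5
  simp only [finrank_bot, Nat.sub_zero] at h5
  refine ⟨Z, ?_, hZinv⟩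
  have h6 := Nat.le_of_dvd hZpos h5
  rw [← hdeg, ← hd]
  omega

/-- Invariant subspaces for `f` with `f^r = 1`. -/
theorem exists_invariant_of_order (p f' : ℕ) [Fact p.Prime] (hF : Fintype.card F = p ^ f')
    (r : ℕ) [Fact r.Prime] (hpr : p.Coprime r) :
    ∀ (m : ℕ) (V : Type u) [AddCommGroup V] [Module F V] [Finite V] (f : V →ₗ[F] V),
      f ^ r = 1 → m ≤ finrank F V →
      m % orderOf ((Fintype.card F : ℕ) : ZMod r) ≤
        finrank F V % orderOf ((Fintype.card F : ℕ) : ZMod r) →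
      ∃ W : Submodule F V, finrank F W = m ∧ ∀ w ∈ W, f w ∈ W := by
  have hrp : r.Prime := Fact.out
  have hq0 : ((Fintype.card F : ℕ) : ZMod r) ≠ 0 := by
    rw [Ne, ZMod.natCast_eq_zero_iff, hF]
    intro h
    have h1 := hrp.dvd_of_dvd_pow h
    have h2 := Nat.Coprime.eq_one_of_dvd hpr.symm h1
    exact hrp.one_lt.ne' h2
  obtain ⟨i, hi⟩ : ∃ i, i = orderOf ((Fintype.card F : ℕ) : ZMod r) := ⟨_, rfl⟩
  have hi1 : 1 ≤ i := by
    rw [hi]
    apply orderOf_pos_iff.mpr
    apply isOfFinOrder_iff_pow_eq_one.mpr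
    exact ⟨r - 1, Nat.sub_pos_of_lt hrp.one_lt, ZMod.pow_card_sub_one_eq_one hq0⟩
  rw [← hi]
  intro m
  induction m using Nat.strong_induction_on with
  | _ m ih =>
    intro V _ _ _ f hf hm hmod
    by_cases hm0 : m = 0
    · subst hm0
      refine ⟨⊥, by simp, ?_⟩
      intro w hw
      rw [Submodule.mem_bot] at hw
      rw [hw, map_zero]; exact Submodule.zero_mem _
    by_cases hmi : m % i = 0
    · -- case B
      by_cases hf1 : f = 1
      · obtain ⟨W, hW⟩ := exists_submodule_finrank (F := F) (V := V) m hm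
        refine ⟨W, hW, ?_⟩
        intro w hw
        rw [hf1]; exact hw
      · obtain ⟨Z, hZ1, hZinv⟩ := exists_invariant_small p f' hF r hpr f hf hf1
        rw [← hi] at hZ1
        have him : i ≤ m := Nat.le_of_dvd (Nat.pos_of_ne_zero hm0) (Nat.dvd_of_mod_eq_zero hmi)
        have hZc : Z ≤ Z.comap f := fun z hz => hZinv z hz
        have hq : finrank F (V ⧸ Z) + finrank F Z = finrank F V :=
          Submodule.finrank_quotient_add_finrank Z
        have hfb : (Z.mapQ Z f hZc) ^ r = 1 := mapQ_pow_eq_one f Z hZc r hf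
        have hfinq : Finite (V ⧸ Z) := Finite.of_surjective _ (Submodule.Quotient.mk_surjective Z)
        have hmod' : (m - i) % i ≤ finrank F (V ⧸ Z) % i := by
          have h1 : i ∣ m - i := Nat.dvd_sub (Nat.dvd_of_mod_eq_zero hmi) (dvd_refl i)
          rw [Nat.mod_eq_zero_of_dvd h1]; exact Nat.zero_le _
        obtain ⟨Wb, hWb1, hWb2⟩ := ih (m - i) (by omega) (V ⧸ Z) (Z.mapQ Z f hZc) hfb
          (by omega) hmod'
        obtain ⟨W, _, hW1, hW2⟩ := lift_invariant f Z hZc Wb hWb2
        exact ⟨W, by rw [hW1, hWb1, hZ1]; omega, hW2⟩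
    · -- case A
      have hn0 : finrank F V % i ≠ 0 := by omega
      have hfixne : LinearMap.ker (f - 1) ≠ ⊥ := by
        intro hbot
        have h5 := orderOf_dvd_finrank_sub r hq0 f hf
        rw [hbot, ← hi] at h5
        simp only [finrank_bot, Nat.sub_zero] at h5
        exact hn0 (Nat.mod_eq_zero_of_dvd h5)
      obtain ⟨v, hv, hv0⟩ := (Submodule.ne_bot_iff _).mp hfixne
      rw [LinearMap.mem_ker, LinearMap.sub_apply, sub_eq_zero] at hv
      have hv1 : f v = v := hv
      obtain ⟨Z, hZ⟩ : ∃ Z : Submodule F V, Z = Submodule.span F {v} := ⟨_, rfl⟩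
      have hZ1 : finrank F Z = 1 := by rw [hZ]; exact finrank_span_singleton hv0
      have hZinv : ∀ z ∈ Z, f z ∈ Z := by
        have h1 : Z.map f ≤ Z := by
          rw [hZ, Submodule.map_span, Set.image_singleton, hv1]
        intro z hz
        exact h1 (Submodule.mem_map_of_mem hz)
      have hZc : Z ≤ Z.comap f := fun z hz => hZinv z hz
      have hq : finrank F (V ⧸ Z) + finrank F Z = finrank F V :=
        Submodule.finrank_quotient_add_finrank Z
      have hfb : (Z.mapQ Z f hZc) ^ r = 1 := mapQ_pow_eq_one f Z hZc r hf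
      have hfinq : Finite (V ⧸ Z) := Finite.of_surjective _ (Submodule.Quotient.mk_surjective Z)
      have hmod' : (m - 1) % i ≤ finrank F (V ⧸ Z) % i := by
        have h1 : finrank F (V ⧸ Z) = finrank F V - 1 := by omega
        rw [h1, mod_pred _ _ hmi, mod_pred _ _ hn0]
        omega
      obtain ⟨Wb, hWb1, hWb2⟩ := ih (m - 1) (by omega) (V ⧸ Z) (Z.mapQ Z f hZc) hfb
        (by omega) hmod'
      obtain ⟨W, _, hW1, hW2⟩ := lift_invariant f Z hZc Wb hWb2
      exact ⟨W, by rw [hW1, hWb1, hZ1]; omega, hW2⟩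

end ClaimG

end Cfsg.Agent.Lib.helper63.Elusive
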