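import Mathlib
import Cfsg.Agent.Lib.helper63.Elusive3

set_option autoImplicit false

namespace Cfsg.Agent.Lib.helper63.Elusive

open Module Polynomial

section NT

variable {F : Type*} [Field F] [Fintype F]

theorem exists_gen :
    ∃ γ : Fˣ, orderOf γ = Fintype.card F - 1 ∧ ∀ y : Fˣ, ∃ a : ℕ, γ ^ a = y := by
  classical
  obtain ⟨γ, hγ⟩ := IsCyclic.exists_generator (α := Fˣ)
  refine ⟨γ, ?_, ?_⟩
  · rw [orderOf_eq_card_of_forall_mem_zpowers hγ, Nat.card_eq_fintype_card, Fintype.card_units]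
  · intro y
    have h1 := mem_powers_iff_mem_zpowers.mpr (hγ y)
    exact (Submonoid.mem_powers_iff _ _).mp h1

theorem card_sub_one_ne_zero : Fintype.card F - 1 ≠ 0 := by
  have := Fintype.one_lt_card (α := F)
  omega

/-- In a finite field, `y^((q-1)/r) = 1` forces `y` to be an `r`-th power. -/
theorem exists_root_of_pow_eq_one (r : ℕ) (hdvd : r ∣ Fintype.card F - 1) (y : F) (hy : y ≠ 0)
    (h : y ^ ((Fintype.card F - 1) / r) = 1) : ∃ d : F, d ^ r = y := by
  obtain ⟨γ, hord, hgen⟩ := exists_gen (F := F)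
  obtain ⟨a, ha⟩ := hgen (Units.mk0 y hy)
  obtain ⟨N', hN'⟩ := hdvd
  have hN0 := card_sub_one_ne_zero (F := F)
  have hr0 : 0 < r := by
    rcases Nat.eq_zero_or_pos r with h0 | h0
    · rw [h0, zero_mul] at hN'; exact absurd hN' hN0
    · exact h0
  have hN'pos : 0 < N' := by
    rcases Nat.eq_zero_or_pos N' with h0 | h0
    · rw [h0, mul_zero] at hN'; exact absurd hN' hN0
    · exact h0
  have hdiv : (Fintype.card F - 1) / r = N' := by rw [hN', Nat.mul_div_cancel_left _ hr0]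
  rw [hdiv] at h
  have h1 : γ ^ (a * N') = 1 := by
    rw [pow_mul, ha]
    apply Units.ext
    simpa using h
  have h2 : r * N' ∣ a * N' := by
    rw [← hN', ← hord]; exact orderOf_dvd_of_pow_eq_one h1
  obtain ⟨a', ha'⟩ := Nat.dvd_of_mul_dvd_mul_right hN'pos h2
  refine ⟨((γ ^ a' : Fˣ) : F), ?_⟩
  rw [← Units.val_pow_eq_pow_val, ← pow_mul, mul_comm, ← ha', ha]; rfl

/-- A non-`r`-th power of `r`-power order. -/
theorem exists_non_power (r : ℕ) [Fact r.Prime] (hdvd : r ∣ Fintype.card F - 1) :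
    ∃ c : F, (∀ d : F, d ^ r ≠ c) ∧ c ^ (r ^ padicValNat r (Fintype.card F - 1)) = 1 := by
  have hr : r.Prime := Fact.out
  have hN0 := card_sub_one_ne_zero (F := F)
  have he1 : r ^ padicValNat r (Fintype.card F - 1) ∣ Fintype.card F - 1 := pow_padicValNat_dvd
  have he2 : ¬ r ^ (padicValNat r (Fintype.card F - 1) + 1) ∣ Fintype.card F - 1 :=
    pow_succ_padicValNat_not_dvd hN0
  obtain ⟨e, he⟩ : ∃ e, e = padicValNat r (Fintype.card F - 1) := ⟨_, rfl⟩
  rw [← he] at he1 he2 ⊢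
  obtain ⟨N', hN'⟩ := he1
  have hrN' : ¬ r ∣ N' := by
    rintro ⟨t, ht⟩
    apply he2
    refine ⟨t, ?_⟩
    rw [hN', ht, pow_succ]; ring
  obtain ⟨γ, hord, hgen⟩ := exists_gen (F := F)
  refine ⟨((γ ^ N' : Fˣ) : F), ?_, ?_⟩
  · intro d hd
    have hd0 : d ≠ 0 := by
      rintro rfl
      rw [zero_pow hr.ne_zero] at hd
      exact (Units.ne_zero _) hd.symm
    obtain ⟨b, hb⟩ := hgen (Units.mk0 d hd0)
    have h1 : γ ^ (b * r) = γ ^ N' := by
      apply Units.ext
      rw [pow_mul, hb]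
      simpa using hd
    rw [pow_eq_pow_iff_modEq, hord] at h1
    have h2 : b * r ≡ N' [MOD r] := h1.of_dvd hdvd
    have h3 : (b * r) % r = N' % r := h2
    rw [Nat.mul_mod_left] at h3
    exact hrN' (Nat.dvd_of_mod_eq_zero h3.symm)
  · rw [← Units.val_pow_eq_pow_val, ← pow_mul, mul_comm, ← hN', ← hord, pow_orderOf_eq_one]; rfl

/-- The determinant obstruction for non-`r`-th-power scalars. -/
theorem no_bad_scalar (r : ℕ) [Fact r.Prime] (hdvd : r ∣ Fintype.card F - 1) (c : F)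
    (hc : ∀ d : F, d ^ r ≠ c) (n k : ℕ) (hk : k ≠ 0) (hn : n = r * k)
    (hdet : (-1 : F) ^ n * (-c) ^ k = 1)
    (hv : padicValNat r n ≤ padicValNat r (Fintype.card F - 1))
    (h2 : r = 2 → Even n → Fintype.card F % 4 = 1) : False := by
  have hr : r.Prime := Fact.out
  have hc0 : c ≠ 0 := by
    rintro rfl
    exact hc 0 (zero_pow hr.ne_zero)
  have hN0 := card_sub_one_ne_zero (F := F)
  obtain ⟨y, hy0, hyk, hyc⟩ : ∃ y : F, y ≠ 0 ∧ y ^ k = 1 ∧ ((∃ d : F, d ^ r = y) → False) := by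
    rcases hr.eq_two_or_odd' with h | h
    · refine ⟨-c, neg_ne_zero.mpr hc0, ?_, ?_⟩
      · rw [hn, h, pow_mul] at hdet
        simpa using hdet
      · rintro ⟨d, hd⟩
        have hq : Fintype.card F % 4 = 1 := h2 h ⟨k, by rw [hn, h]; ring⟩
        have hsq : IsSquare (-1 : F) := by
          rw [FiniteField.isSquare_neg_one_iff]; omega
        obtain ⟨s, hs⟩ := hsq
        apply hc (s * d)
        rw [mul_pow, hd, h, pow_two, ← hs]; ring
    · refine ⟨c, hc0, ?_, fun ⟨d, hd⟩ => hc d hd⟩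
      have h1 : (-1 : F) ^ n * (-c) ^ k = c ^ k := by
        rw [hn, pow_mul, ← mul_pow, h.neg_one_pow]; simp
      rw [h1] at hdet
      exact hdet
  have hyN : y ^ (Fintype.card F - 1) = 1 := FiniteField.pow_card_sub_one_eq_one y hy0
  have hg : y ^ Nat.gcd k (Fintype.card F - 1) = 1 := pow_gcd_eq_one.mpr ⟨hyk, hyN⟩
  have hgd : Nat.gcd k (Fintype.card F - 1) ∣ (Fintype.card F - 1) / r := by
    have he1 : r ^ padicValNat r (Fintype.card F - 1) ∣ Fintype.card F - 1 := pow_padicValNat_dvd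
    have hvk : padicValNat r k < padicValNat r (Fintype.card F - 1) := by
      have h3 : padicValNat r n = padicValNat r k + 1 := by
        rw [hn, padicValNat.mul hr.ne_zero hk, padicValNat_self]; ring
      omega
    have hnot : ¬ r ^ padicValNat r (Fintype.card F - 1) ∣ k := by
      intro h
      have h4 := (padicValNat_dvd_iff_le hk).mp h
      omega
    obtain ⟨t, ht⟩ := Nat.gcd_dvd_right k (Fintype.card F - 1)
    have hrt : r ∣ t := by
      by_contra hrt
      have hcop : Nat.Coprime (r ^ padicValNat r (Fintype.card F - 1)) t :=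
        Nat.Coprime.pow_left _ ((Nat.Prime.coprime_iff_not_dvd hr).mpr hrt)
      have h5 : r ^ padicValNat r (Fintype.card F - 1) ∣ Nat.gcd k (Fintype.card F - 1) :=
        hcop.dvd_of_dvd_mul_right (by rw [← ht]; exact he1)
      exact hnot (h5.trans (Nat.gcd_dvd_left k _))
    obtain ⟨t', ht'⟩ := hrt
    refine ⟨t', ?_⟩
    have h6 : Fintype.card F - 1 = (Nat.gcd k (Fintype.card F - 1) * t') * r := by
      rw [mul_assoc, mul_comm t' r, ← ht', ← ht]
    rw [h6, Nat.mul_div_cancel _ hr.pos]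
    rw [← h6]
  obtain ⟨u, hu⟩ := hgd
  have hyr : y ^ ((Fintype.card F - 1) / r) = 1 := by rw [hu, pow_mul, hg, one_pow]
  exact hyc (exists_root_of_pow_eq_one r hdvd y hy0 hyr)

theorem natCast_card_ne_zero {p : ℕ} [Fact p.Prime] [CharP F p] (r : ℕ) [Fact r.Prime]
    (hrp : r ≠ p) : ((Fintype.card F : ℕ) : ZMod r) ≠ 0 := by
  obtain ⟨f', hp', hF⟩ := FiniteField.card F p
  have hr : r.Prime := Fact.out
  rw [Ne, ZMod.natCast_eq_zero_iff, hF]
  intro h
  have h1 := hr.dvd_of_dvd_pow h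
  exact hrp ((Nat.prime_dvd_prime_iff_eq hr hp').mp h1)

theorem dvd_card_sub_one_iff (r : ℕ) [Fact r.Prime] :
    orderOf ((Fintype.card F : ℕ) : ZMod r) = 1 ↔ r ∣ Fintype.card F - 1 := by
  have h1 : 1 ≤ Fintype.card F := Fintype.card_pos
  rw [orderOf_eq_one_iff, ← ZMod.natCast_eq_zero_iff, Nat.cast_sub h1, Nat.cast_one, sub_eq_zero]

theorem orderOf_pos' {p : ℕ} [Fact p.Prime] [CharP F p] (r : ℕ) [Fact r.Prime] (hrp : r ≠ p) :
    1 ≤ orderOf ((Fintype.card F : ℕ) : ZMod r) := by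
  have hr : r.Prime := Fact.out
  apply orderOf_pos_iff.mpr
  apply isOfFinOrder_iff_pow_eq_one.mpr
  exact ⟨r - 1, Nat.sub_pos_of_lt hr.one_lt,
    ZMod.pow_card_sub_one_eq_one (natCast_card_ne_zero r hrp)⟩

theorem eq_one_of_pow_eq_one (r : ℕ) [Fact r.Prime] (hnd : ¬ r ∣ Fintype.card F - 1) (d : F)
    (hd : d ^ r = 1) : d = 1 := by
  have hr : r.Prime := Fact.out
  have hd0 : d ≠ 0 := by
    rintro rfl
    rw [zero_pow hr.ne_zero] at hd
    exact zero_ne_one hd
  have h1 : d ^ (Fintype.card F - 1) = 1 := FiniteField.pow_card_sub_one_eq_one d hd0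
  have h2 : d ^ Nat.gcd r (Fintype.card F - 1) = 1 := pow_gcd_eq_one.mpr ⟨hd, h1⟩
  have h3 : Nat.gcd r (Fintype.card F - 1) = 1 := (Nat.Prime.coprime_iff_not_dvd hr).mpr hnd
  rw [h3, pow_one] at h2
  exact h2

end NT

section Mat

variable {F : Type*} [Field F]

theorem toLin'_pow' {n : ℕ} (x : Matrix (Fin n) (Fin n) F) (k : ℕ) :
    Matrix.toLin' (x ^ k) = (Matrix.toLin' x) ^ k := by
  induction k with
  | zero => simp [Module.End.one_eq_id]
  | succ k ih => rw [pow_succ, Matrix.toLin'_mul, ih, pow_succ]; rfl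

theorem toLin'_smul_one {n : ℕ} (c : F) :
    Matrix.toLin' (c • (1 : Matrix (Fin n) (Fin n) F)) = c • (1 : (Fin n → F) →ₗ[F] (Fin n → F)) := by
  rw [map_smul, Matrix.toLin'_one]; rfl

/-- The matrix of an endomorphism with prescribed `r`-th power. -/
theorem toMatrix'_pow_eq {n : ℕ} (f : (Fin n → F) →ₗ[F] (Fin n → F)) (r : ℕ) (c : F)
    (hf : f ^ r = c • 1) : (LinearMap.toMatrix' f) ^ r = c • (1 : Matrix (Fin n) (Fin n) F) := by
  apply Matrix.toLin'.injective
  rw [toLin'_pow', Matrix.toLin'_toMatrix', hf, toLin'_smul_one]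

end Mat

end Cfsg.Agent.Lib.helper63.Elusive
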