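import Mathlib
import Cfsg.Agent.Lib.helper63.Elusive4

set_option autoImplicit false

namespace Cfsg.Agent.Lib.helper63.Elusive

open Module Polynomial

section Main

variable {F : Type*} [Field F] [Fintype F]

/-- If `f^r = d^r`, then `f` has invariant subspaces of the expected dimensions. -/
theorem exists_invariant_of_root {p : ℕ} [Fact p.Prime] [CharP F p] (r : ℕ) [Fact r.Prime]
    (hrp : r ≠ p) {n : ℕ} (m : ℕ) (hm : m ≤ n)
    (hmod : m % orderOf ((Fintype.card F : ℕ) : ZMod r) ≤
      n % orderOf ((Fintype.card F : ℕ) : ZMod r))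
    (f : (Fin n → F) →ₗ[F] (Fin n → F)) (d : F) (hd : d ≠ 0) (hf : f ^ r = (d ^ r) • 1) :
    ∃ W : Submodule F (Fin n → F), finrank F W = m ∧ ∀ w ∈ W, f w ∈ W := by
  obtain ⟨f', hp', hF⟩ := FiniteField.card F p
  have hr : r.Prime := Fact.out
  have hpr : p.Coprime r := (Nat.coprime_primes hp' hr).mpr (Ne.symm hrp)
  have hg : (d⁻¹ • f) ^ r = 1 := by
    rw [_root_.smul_pow, hf, smul_smul, inv_pow, inv_mul_cancel₀ (pow_ne_zero _ hd), one_smul]
  have hfin : finrank F (Fin n → F) = n := by simp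
  obtain ⟨W, hW1, hW2⟩ := exists_invariant_of_order p f' hF r hpr m (Fin n → F) (d⁻¹ • f) hg
    (by rw [hfin]; exact hm) (by rw [hfin]; exact hmod)
  refine ⟨W, hW1, ?_⟩
  intro w hw
  have h1 := W.smul_mem d (hW2 w hw)
  rwa [LinearMap.smul_apply, smul_smul, mul_inv_cancel₀ hd, one_smul] at h1

/-- Sufficiency: under the arithmetic condition every element of order `r` mod scalars fixes an
`m`-space. -/
theorem fixes_of_cond {p : ℕ} [Fact p.Prime] [CharP F p] (n m : ℕ) (hn : 2 ≤ n) (hmn : m ≤ n)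
    (r : ℕ) [Fact r.Prime] (hrp : r ≠ p)
    (hcond : (orderOf ((Fintype.card F : ℕ) : ZMod r) = 1 ∧ (r ∣ m ∨
        (padicValNat r n ≤ padicValNat r (Fintype.card F - 1) ∧
          (r = 2 → Even n → Fintype.card F % 4 = 1)))) ∨
      (2 ≤ orderOf ((Fintype.card F : ℕ) : ZMod r) ∧
        m % orderOf ((Fintype.card F : ℕ) : ZMod r) ≤
          n % orderOf ((Fintype.card F : ℕ) : ZMod r)))
    (x : Matrix (Fin n) (Fin n) F) (hdet : x.det = 1) (c : F) (hx : x ^ r = c • 1) :
    ∃ W : Submodule F (Fin n → F), finrank F W = m ∧ ∀ w ∈ W, Matrix.toLin' x w ∈ W := by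
  classical
  have hr : r.Prime := Fact.out
  have hf : (Matrix.toLin' x) ^ r = c • 1 := by rw [← toLin'_pow', hx, toLin'_smul_one]
  have hc0 : c ≠ 0 := by
    rintro rfl
    have h1 : (x ^ r).det = 0 := by
      rw [hx, zero_smul]
      have : Nonempty (Fin n) := ⟨⟨0, by omega⟩⟩
      exact Matrix.det_zero
    rw [Matrix.det_pow, hdet, one_pow] at h1
    exact one_ne_zero h1
  have key : (∃ d : F, d ^ r = c) → (m % orderOf ((Fintype.card F : ℕ) : ZMod r) ≤
      n % orderOf ((Fintype.card F : ℕ) : ZMod r)) →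
      ∃ W : Submodule F (Fin n → F), finrank F W = m ∧ ∀ w ∈ W, Matrix.toLin' x w ∈ W := by
    rintro ⟨d, rfl⟩ hmod
    have hd : d ≠ 0 := by
      rintro rfl
      exact hc0 (zero_pow hr.ne_zero)
    exact exists_invariant_of_root r hrp m hmn hmod _ d hd hf
  rcases hcond with ⟨hi, hc⟩ | ⟨hi, hmod⟩
  · have hdvd : r ∣ Fintype.card F - 1 := (dvd_card_sub_one_iff r).mp hi
    by_cases hex : ∃ d : F, d ^ r = c
    · exact key hex (by rw [hi]; simp [Nat.mod_one])
    · push Not at hex
      have hirr : Irreducible (X ^ r - C c : F[X]) := X_pow_sub_C_irreducible_of_prime hr hex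
      obtain ⟨k, hk, hdet'⟩ := det_of_pow_eq r hr.ne_zero c hirr x hx
      rw [Fintype.card_fin] at hk hdet'
      rcases hc with hrm | ⟨hv, h2⟩
      · obtain ⟨k', hk'⟩ := hrm
        have hfin : finrank F (Fin n → F) = n := by simp
        obtain ⟨W, hW1, hW2⟩ := exists_invariant_of_pow_eq r hr.ne_zero c hirr k' (Fin n → F)
          (Matrix.toLin' x) hf (by rw [hfin, ← hk']; exact hmn)
        exact ⟨W, by rw [hW1, hk'], hW2⟩
      · exfalso
        have hk0 : k ≠ 0 := by
          rintro rfl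
          omega
        rw [hdet] at hdet'
        exact no_bad_scalar r hdvd c hex n k hk0 hk hdet'.symm hv h2
  · have hnd : ¬ r ∣ Fintype.card F - 1 := by
      intro h
      have h1 := (dvd_card_sub_one_iff r).mpr h
      omega
    have hcop : (Nat.card Fˣ).Coprime r := by
      rw [Nat.card_eq_fintype_card, Fintype.card_units]
      exact ((Nat.Prime.coprime_iff_not_dvd hr).mpr hnd).symm
    have h1 := (powCoprime hcop).apply_symm_apply (Units.mk0 c hc0)
    rw [powCoprime_apply] at h1
    refine key ⟨(((powCoprime hcop).symm (Units.mk0 c hc0) : Fˣ) : F), ?_⟩ hmod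
    rw [← Units.val_pow_eq_pow_val, h1]; rfl

/-- Necessity. -/
theorem cond_of_fixes {p : ℕ} [Fact p.Prime] [CharP F p] (n m : ℕ) (hn : 2 ≤ n) (_hm : 1 ≤ m)
    (hmn : 2 * m ≤ n) (r : ℕ) [Fact r.Prime]
    (hrΩ : ∃ j, j < m ∧ r ∣ Fintype.card F ^ (n - j) - 1)
    (H : ∀ x : Matrix (Fin n) (Fin n) F, x.det = 1 → (∃ c : F, x ^ r = c • 1) →
      (∀ c : F, x ≠ c • 1) →
      ∃ W : Submodule F (Fin n → F), finrank F W = m ∧ ∀ w ∈ W, Matrix.toLin' x w ∈ W) :
    r ≠ p ∧
      ((orderOf ((Fintype.card F : ℕ) : ZMod r) = 1 ∧ (r ∣ m ∨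
        (padicValNat r n ≤ padicValNat r (Fintype.card F - 1) ∧
          (r = 2 → Even n → Fintype.card F % 4 = 1)))) ∨
      (2 ≤ orderOf ((Fintype.card F : ℕ) : ZMod r) ∧
        orderOf ((Fintype.card F : ℕ) : ZMod r) ≤ m ∧
        m % orderOf ((Fintype.card F : ℕ) : ZMod r) ≤
          n % orderOf ((Fintype.card F : ℕ) : ZMod r))) := by
  classical
  have hr : r.Prime := Fact.out
  have hfin : finrank F (Fin n → F) = n := by simp
  obtain ⟨j, hj, hjd⟩ := hrΩ
  obtain ⟨f', hp', hF⟩ := FiniteField.card F p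
  have hq1 : 1 ≤ Fintype.card F ^ (n - j) := Nat.one_le_pow _ _ Fintype.card_pos
  have hrp : r ≠ p := by
    rintro rfl
    have h1 : r ∣ Fintype.card F ^ (n - j) := by
      rw [hF, ← pow_mul]
      apply dvd_pow_self
      have h2 : 0 < (f' : ℕ) := f'.pos
      have h3 : 0 < n - j := by omega
      exact (Nat.mul_pos h2 h3).ne'
    have h2 : r ∣ 1 := by
      have h3 := Nat.dvd_sub h1 hjd
      rwa [Nat.sub_sub_self hq1] at h3
    exact hr.one_lt.ne' (Nat.dvd_one.mp h2)
  refine ⟨hrp, ?_⟩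
  have hq0 := natCast_card_ne_zero (F := F) r hrp
  obtain ⟨i, hi⟩ : ∃ i, i = orderOf ((Fintype.card F : ℕ) : ZMod r) := ⟨_, rfl⟩
  have hi1 : 1 ≤ i := by rw [hi]; exact orderOf_pos' r hrp
  have hij : i ∣ n - j := by
    rw [hi, orderOf_dvd_iff_pow_eq_one]
    have h1 := (ZMod.natCast_eq_zero_iff _ _).mpr hjd
    rw [Nat.cast_sub hq1, Nat.cast_pow, Nat.cast_one, sub_eq_zero] at h1
    exact h1
  rw [← hi]
  by_cases hi_one : i = 1
  · left
    refine ⟨hi_one, ?_⟩
    have hdvd : r ∣ Fintype.card F - 1 := (dvd_card_sub_one_iff r).mp (hi ▸ hi_one)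
    by_contra hneg
    push Not at hneg
    obtain ⟨hrm, hneg2⟩ := hneg
    obtain ⟨c, k, hc, hnk, hdetc⟩ : ∃ (c : F) (k : ℕ), (∀ d : F, d ^ r ≠ c) ∧ n = r * k ∧
        (-1 : F) ^ n * (-c) ^ k = 1 := by
      by_cases hv : padicValNat r n ≤ padicValNat r (Fintype.card F - 1)
      · obtain ⟨h2, hev, hq4⟩ := hneg2 hv
        obtain ⟨k, hk⟩ := hev
        refine ⟨-1, k, ?_, by rw [h2, hk]; ring, ?_⟩
        · intro d hd
          have hodd : Fintype.card F % 2 = 1 := by
            rw [h2] at hdvd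
            have := Fintype.card_pos (α := F)
            omega
          have hns : ¬ IsSquare (-1 : F) := by
            rw [FiniteField.isSquare_neg_one_iff]; omega
          apply hns
          exact ⟨d, by rw [← hd, h2, pow_two]⟩
        · rw [neg_neg, one_pow, mul_one]
          exact Even.neg_one_pow ⟨k, hk⟩
      · push Not at hv
        obtain ⟨c, hc1, hc2⟩ := exists_non_power (F := F) r hdvd
        have hn0 : n ≠ 0 := by omega
        have h3 : r ^ (padicValNat r (Fintype.card F - 1) + 1) ∣ n :=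
          (padicValNat_dvd_iff_le hn0).mpr hv
        obtain ⟨t, ht⟩ := h3
        have he1 : 1 ≤ padicValNat r (Fintype.card F - 1) :=
          one_le_padicValNat_of_dvd card_sub_one_ne_zero hdvd
        obtain ⟨e, he⟩ : ∃ e, e = padicValNat r (Fintype.card F - 1) := ⟨_, rfl⟩
        rw [← he] at hc2 ht he1
        have hnk : n = r * (r ^ e * t) := by rw [ht, pow_succ]; ring
        refine ⟨c, r ^ e * t, hc1, hnk, ?_⟩
        have hck : c ^ (r ^ e * t) = 1 := by rw [pow_mul, hc2, one_pow]
        rcases hr.eq_two_or_odd' with h | h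
        · have hkev : Even (r ^ e * t) := by
            rw [h]
            exact Even.mul_right ((Nat.even_pow).mpr ⟨even_two, by omega⟩) t
          have hnev : Even n := by
            rw [hnk, h]; exact even_two_mul _
          rw [hnev.neg_one_pow, one_mul, hkev.neg_pow, hck]
        · have h4 : (-1 : F) ^ n * (-c) ^ (r ^ e * t) = c ^ (r ^ e * t) := by
            rw [hnk, pow_mul, ← mul_pow, h.neg_one_pow]; simp
          rw [h4, hck]
    have hirr : Irreducible (X ^ r - C c : F[X]) := X_pow_sub_C_irreducible_of_prime hr hc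
    obtain ⟨f, hf⟩ := exists_end_pow_eq (F := F) r hr.ne_zero c k n hnk
    have hx : (LinearMap.toMatrix' f) ^ r = c • (1 : Matrix (Fin n) (Fin n) F) :=
      toMatrix'_pow_eq f r c hf
    obtain ⟨k', hk', hdet'⟩ := det_of_pow_eq r hr.ne_zero c hirr _ hx
    rw [Fintype.card_fin] at hk' hdet'
    have hkk : k' = k := Nat.eq_of_mul_eq_mul_left hr.pos (hk'.symm.trans hnk)
    rw [hkk, hdetc] at hdet'
    have hns : ∀ d : F, LinearMap.toMatrix' f ≠ d • (1 : Matrix (Fin n) (Fin n) F) := by
      intro d hd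
      rw [hd, _root_.smul_pow, one_pow] at hx
      have h0 := congrFun (congrFun hx ⟨0, by omega⟩) ⟨0, by omega⟩
      simp at h0
      exact hc d h0
    obtain ⟨W, hW1, hW2⟩ := H _ hdet' ⟨c, hx⟩ hns
    rw [Matrix.toLin'_toMatrix'] at hW2
    have h5 := dvd_finrank_of_invariant r hr.ne_zero c hirr f hf W hW2
    rw [hW1] at h5
    exact hrm h5
  · right
    have hi2 : 2 ≤ i := by omega
    have hnd : ¬ r ∣ Fintype.card F - 1 := by
      intro h
      have h1 := (dvd_card_sub_one_iff r).mpr h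
      omega
    obtain ⟨g, hg1, hg2⟩ := exists_block (F := F) r hq0 i hi hi1
    obtain ⟨f, hf1, hf2⟩ := exists_end_order (F := F) r i (n / i) (n % i) n
      (Nat.div_add_mod n i).symm g hg1 hg2
    have hin : i ≤ n := by
      have h1 : 0 < n - j := by omega
      have h2 := Nat.le_of_dvd h1 hij
      omega
    have hmodlt : n % i < i := Nat.mod_lt _ (by omega)
    have hx : (LinearMap.toMatrix' f) ^ r = (1 : F) • (1 : Matrix (Fin n) (Fin n) F) :=
      toMatrix'_pow_eq f r 1 (by rw [hf1, one_smul])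
    have hdet : (LinearMap.toMatrix' f).det = 1 := by
      apply eq_one_of_pow_eq_one r hnd
      rw [← Matrix.det_pow, hx, one_smul, Matrix.det_one]
    have hns : ∀ d : F, LinearMap.toMatrix' f ≠ d • (1 : Matrix (Fin n) (Fin n) F) := by
      intro d hd
      have hd1 : d = 1 := by
        apply eq_one_of_pow_eq_one r hnd
        rw [hd, _root_.smul_pow, one_pow] at hx
        have h0 := congrFun (congrFun hx ⟨0, by omega⟩) ⟨0, by omega⟩
        simpa using h0
      rw [hd1, one_smul] at hd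
      have hf_one : f = 1 := by
        have h1 := congrArg Matrix.toLin' hd
        rw [Matrix.toLin'_toMatrix', Matrix.toLin'_one] at h1
        exact h1
      rw [hf_one, sub_self, LinearMap.ker_zero, finrank_top, hfin] at hf2
      omega
    obtain ⟨W, hW1, hW2⟩ := H _ hdet ⟨1, hx⟩ hns
    rw [Matrix.toLin'_toMatrix'] at hW2
    have hres : (f.restrict hW2) ^ r = 1 := by
      rw [Module.End.pow_restrict]
      apply LinearMap.ext
      intro w
      apply Subtype.ext
      simp [hf1]
    have h5 := orderOf_dvd_finrank_sub r hq0 (f.restrict hW2) hres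
    rw [← hi, hW1] at h5
    have h6 : finrank F (LinearMap.ker (f.restrict hW2 - 1)) ≤ finrank F (LinearMap.ker (f - 1)) := by
      rw [← Submodule.finrank_map_subtype_eq W (LinearMap.ker (f.restrict hW2 - 1))]
      apply Submodule.finrank_mono
      rintro _ ⟨w, hw, rfl⟩
      rw [SetLike.mem_coe, LinearMap.mem_ker, LinearMap.sub_apply, sub_eq_zero] at hw
      rw [LinearMap.mem_ker, LinearMap.sub_apply, sub_eq_zero]
      exact congrArg Subtype.val hw
    have h7 : finrank F (LinearMap.ker (f.restrict hW2 - 1)) ≤ m := by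
      rw [← hW1]; exact Submodule.finrank_le _
    obtain ⟨s, hs⟩ : ∃ s, s = finrank F (LinearMap.ker (f.restrict hW2 - 1)) := ⟨_, rfl⟩
    rw [← hs] at h5 h6 h7
    have hmods : m % i = s := by
      obtain ⟨t, ht⟩ := h5
      have h8 : m = s + i * t := by omega
      rw [h8, Nat.add_mul_mod_self_left, Nat.mod_eq_of_lt (by omega)]
    have hmod : m % i ≤ n % i := by omega
    refine ⟨hi2, ?_, hmod⟩
    by_contra hlt
    push Not at hlt
    rw [Nat.mod_eq_of_lt hlt] at hmod
    obtain ⟨t, ht⟩ := hij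
    have h9 : n = j + i * t := by omega
    rw [h9, Nat.add_mul_mod_self_left] at hmod
    have h10 := Nat.mod_le j i
    omega

end Main

end Cfsg.Agent.Lib.helper63.Elusive
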