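import Mathlib
import Cfsg.Agent.Lib.helper45.SpPrimeOrder

/-! Transfer of invariant totally isotropic subspaces from abstract models to `Sp_{2n}`. -/

set_option autoImplicit false

namespace Cfsg.Agent.Lib.helper63.SpTI

open Module Cfsg Polynomial Cfsg.Agent.Lib.helper17 Cfsg.Agent.Lib.helper45

section Transfer

variable {F : Type*} [Field F]

/-- An isometry of a non-degenerate alternating space of dimension `2n`, as an element of
`Sp_{2n}`, together with the isometry to the standard space. -/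
theorem exists_sp_model (n : ℕ) {V : Type*} [AddCommGroup V] [Module F V]
    [FiniteDimensional F V] (ω : V →ₗ[F] V →ₗ[F] F) (a b : Module.End F V) (halt : ∀ v, ω v v = 0)
    (hnd : ∀ v, (∀ w, ω v w = 0) → v = 0) (hiso : ∀ v w, ω (a v) (a w) = ω v w) (hab : a * b = 1)
    (hfin : Module.finrank F V = 2 * n) :
    ∃ (g : ↥(Matrix.symplecticGroup (Fin n) F)) (φ : V ≃ₗ[F] (Fin n ⊕ Fin n → F)),
      (∀ u v, sympForm n F (φ u) (φ v) = ω u v) ∧
      (∀ v, (g : Matrix (Fin n ⊕ Fin n) (Fin n ⊕ Fin n) F).mulVec (φ v) = φ (a v)) ∧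
      (∀ m : ℕ, a ^ m = 1 → g ^ m = 1) ∧
      (g : Matrix (Fin n ⊕ Fin n) (Fin n ⊕ Fin n) F).charpoly = a.charpoly := by
  classical
  obtain ⟨e, f, hee, hff, hef⟩ := exists_symp_basis n ω halt hnd hfin
  have hskew : ∀ u w, ω u w = - ω w u := Cfsg.Agent.Lib.helper50.skew_of_alt ω halt
  have hG : ∀ i j : Fin n ⊕ Fin n, ω (Sum.elim f e i) (Sum.elim f e j) = Matrix.J (Fin n) F i j := by
    intro i j
    rcases i with i | i <;> rcases j with j | j
    · simp [Matrix.J, hff]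
    · simp only [Sum.elim_inl, Sum.elim_inr]
      rw [hskew, hef]
      simp [Matrix.J, Matrix.one_apply, eq_comm]
    · simp only [Sum.elim_inl, Sum.elim_inr]
      rw [hef]
      simp [Matrix.J, Matrix.one_apply]
    · simp [Matrix.J, hee]
  have hli : LinearIndependent F (Sum.elim f e) := by
    rw [Fintype.linearIndependent_iff]
    intro c hc
    have h1 : ∀ j, ∑ i, c i * Matrix.J (Fin n) F i j = 0 := by
      intro j
      have h2 := congrArg (fun z => ω z (Sum.elim f e j)) hc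
      simp only [map_sum, LinearMap.sum_apply, map_smul, LinearMap.smul_apply, smul_eq_mul,
        map_zero, LinearMap.zero_apply, hG] at h2
      exact h2
    have h3 : Matrix.vecMul c (Matrix.J (Fin n) F) = 0 := by
      funext j
      exact h1 j
    have h4 : Matrix.vecMul (Matrix.vecMul c (Matrix.J (Fin n) F)) (-Matrix.J (Fin n) F) = c := by
      rw [Matrix.vecMul_vecMul, Matrix.mul_neg, Matrix.J_squared, neg_neg, Matrix.vecMul_one]
    rw [h3, Matrix.zero_vecMul] at h4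
    intro i
    rw [← h4]; rfl
  let bs : Module.Basis (Fin n ⊕ Fin n) F V :=
    basisOfLinearIndependentOfCardEqFinrank' (Sum.elim f e) hli (by simp; omega)
  have hbs : ∀ i, bs i = Sum.elim f e i := fun i => by
    simp only [bs, coe_basisOfLinearIndependentOfCardEqFinrank']
  have key : ∀ u v : V, ω u v = sympForm n F (bs.equivFun u) (bs.equivFun v) := by
    intro u v
    conv_lhs => rw [← bs.sum_equivFun u, ← bs.sum_equivFun v]
    simp only [map_sum, LinearMap.sum_apply, map_smul, LinearMap.smul_apply, smul_eq_mul, hbs, hG]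
    unfold sympForm
    simp only [dotProduct, Matrix.mulVec, Finset.mul_sum]
    rw [Finset.sum_comm]
    apply Finset.sum_congr rfl; intro i _
    apply Finset.sum_congr rfl; intro j _
    ring
  obtain ⟨A, hAdef⟩ : ∃ A, A = LinearMap.toMatrix bs bs a := ⟨_, rfl⟩
  obtain ⟨B, hBdef⟩ : ∃ B, B = LinearMap.toMatrix bs bs b := ⟨_, rfl⟩
  have hmul : ∀ v : V, A.mulVec (bs.equivFun v) = bs.equivFun (a v) := by
    intro v
    rw [hAdef]
    exact LinearMap.toMatrix_mulVec_repr bs bs a v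
  have hpres : ∀ u v : Fin n ⊕ Fin n → F,
      sympForm n F (A.mulVec u) (A.mulVec v) = sympForm n F u v := by
    intro u v
    obtain ⟨u', rfl⟩ := bs.equivFun.surjective u
    obtain ⟨v', rfl⟩ := bs.equivFun.surjective v
    rw [hmul, hmul, ← key, ← key, hiso]
  refine ⟨⟨A, mem_symplectic_of_preserves n A hpres⟩, bs.equivFun, fun u v => (key u v).symm,
    hmul, ?_, ?_⟩
  · intro m hm
    apply Subtype.ext
    show A ^ m = 1
    rw [hAdef, LinearMap.toMatrix_pow, hm, LinearMap.toMatrix_one]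
  · show A.charpoly = a.charpoly
    rw [hAdef, LinearMap.charpoly_toMatrix]

/-- An invariant totally isotropic subspace of a model gives one for the matrix. -/
theorem exists_ti_of_model (n m : ℕ) {V : Type*} [AddCommGroup V] [Module F V]
    [FiniteDimensional F V] (ω : V →ₗ[F] V →ₗ[F] F) (a b : Module.End F V) (halt : ∀ v, ω v v = 0)
    (hnd : ∀ v, (∀ w, ω v w = 0) → v = 0) (hiso : ∀ v w, ω (a v) (a w) = ω v w) (hab : a * b = 1)
    (hfin : Module.finrank F V = 2 * n) (W₀ : Submodule F V) (hW₀ : finrank F W₀ = m)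
    (hti : ∀ u ∈ W₀, ∀ v ∈ W₀, ω u v = 0) (hinv : ∀ w ∈ W₀, a w ∈ W₀) :
    ∃ g : ↥(Matrix.symplecticGroup (Fin n) F), (∀ k : ℕ, a ^ k = 1 → g ^ k = 1) ∧
      (g : Matrix (Fin n ⊕ Fin n) (Fin n ⊕ Fin n) F).charpoly = a.charpoly ∧
      ∃ W : Submodule F (Fin n ⊕ Fin n → F), finrank F W = m ∧
        (∀ u ∈ W, ∀ v ∈ W, sympForm n F u v = 0) ∧
        W.map (Matrix.toLin' (g : Matrix (Fin n ⊕ Fin n) (Fin n ⊕ Fin n) F)) ≤ W := by
  obtain ⟨g, φ, hφ, hg, hpow, hchar⟩ := exists_sp_model n ω a b halt hnd hiso hab hfin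
  refine ⟨g, hpow, hchar, W₀.map (φ : V →ₗ[F] (Fin n ⊕ Fin n → F)), ?_, ?_, ?_⟩
  · rw [LinearEquiv.finrank_map_eq, hW₀]
  · rintro u ⟨u₀, hu₀, rfl⟩ v ⟨v₀, hv₀, rfl⟩
    change sympForm n F (φ u₀) (φ v₀) = 0
    rw [hφ]
    exact hti u₀ hu₀ v₀ hv₀
  · rintro w ⟨w₁, ⟨w₀, hw₀, rfl⟩, rfl⟩
    change Matrix.toLin' (g : Matrix (Fin n ⊕ Fin n) (Fin n ⊕ Fin n) F) (φ w₀) ∈ _
    rw [Matrix.toLin'_apply, hg]
    exact Submodule.mem_map_of_mem (hinv w₀ hw₀)

/-- Conjugating an invariant totally isotropic subspace. -/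
theorem ti_conj (n m : ℕ) (g c : ↥(Matrix.symplecticGroup (Fin n) F))
    (W : Submodule F (Fin n ⊕ Fin n → F)) (hW : finrank F W = m)
    (hti : ∀ u ∈ W, ∀ v ∈ W, sympForm n F u v = 0)
    (hinv : W.map (Matrix.toLin' (g : Matrix (Fin n ⊕ Fin n) (Fin n ⊕ Fin n) F)) ≤ W) :
    ∃ W' : Submodule F (Fin n ⊕ Fin n → F), finrank F W' = m ∧
      (∀ u ∈ W', ∀ v ∈ W', sympForm n F u v = 0) ∧
      W'.map (Matrix.toLin' ((c * g * c⁻¹ : ↥(Matrix.symplecticGroup (Fin n) F)) :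
        Matrix (Fin n ⊕ Fin n) (Fin n ⊕ Fin n) F)) ≤ W' := by
  refine ⟨W.map (Matrix.toLin' (c : Matrix (Fin n ⊕ Fin n) (Fin n ⊕ Fin n) F)), ?_, ?_, ?_⟩
  · rw [← hW]
    exact (LinearEquiv.finrank_eq (Submodule.equivMapOfInjective _ (sp_mulVec_injective n c) W)).symm
  · rintro u ⟨u₀, hu₀, rfl⟩ v ⟨v₀, hv₀, rfl⟩
    rw [Matrix.toLin'_apply, Matrix.toLin'_apply, sympForm_mulVec_of_mem n c.2]
    exact hti u₀ hu₀ v₀ hv₀
  · rintro w ⟨w₁, ⟨w₀, hw₀, rfl⟩, rfl⟩
    have h1 : ((c * g * c⁻¹ : ↥(Matrix.symplecticGroup (Fin n) F)) :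
        Matrix (Fin n ⊕ Fin n) (Fin n ⊕ Fin n) F)
        = (c : Matrix (Fin n ⊕ Fin n) (Fin n ⊕ Fin n) F)
          * (g : Matrix (Fin n ⊕ Fin n) (Fin n ⊕ Fin n) F)
          * ((c⁻¹ : ↥(Matrix.symplecticGroup (Fin n) F)) :
            Matrix (Fin n ⊕ Fin n) (Fin n ⊕ Fin n) F) := rfl
    rw [Matrix.toLin'_apply, Matrix.toLin'_apply, Matrix.mulVec_mulVec, h1, Matrix.mul_assoc,
      Matrix.mul_assoc, sp_coe_inv_mul, Matrix.mul_one, ← Matrix.mulVec_mulVec]
    refine Submodule.mem_map_of_mem (f := Matrix.toLin' (c : Matrix (Fin n ⊕ Fin n) (Fin n ⊕ Fin n) F))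
      (hinv ?_)
    rw [← Matrix.toLin'_apply]
    exact Submodule.mem_map_of_mem hw₀

/-- The main tool: an element of `Sp_{2n}(q)` of order prime to `p` whose characteristic
polynomial is that of a model isometry with an invariant totally isotropic `m`-space has one
too. -/
theorem ti_of_model [Finite F] (p : ℕ) [Fact p.Prime] [CharP F p] (n m : ℕ)
    (x : ↥(Matrix.symplecticGroup (Fin n) F)) (hx : (orderOf x).Coprime p)
    {V : Type*} [AddCommGroup V] [Module F V]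
    [FiniteDimensional F V] (ω : V →ₗ[F] V →ₗ[F] F) (a b : Module.End F V) (halt : ∀ v, ω v v = 0)
    (hnd : ∀ v, (∀ w, ω v w = 0) → v = 0) (hiso : ∀ v w, ω (a v) (a w) = ω v w) (hab : a * b = 1)
    (k : ℕ) (hk : a ^ k = 1) (hkp : k.Coprime p)
    (hchar : a.charpoly = (x : Matrix (Fin n ⊕ Fin n) (Fin n ⊕ Fin n) F).charpoly)
    (W₀ : Submodule F V) (hW₀ : finrank F W₀ = m)
    (hti : ∀ u ∈ W₀, ∀ v ∈ W₀, ω u v = 0) (hinv : ∀ w ∈ W₀, a w ∈ W₀) :
    ∃ W : Submodule F (Fin n ⊕ Fin n → F), finrank F W = m ∧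
      (∀ u ∈ W, ∀ v ∈ W, sympForm n F u v = 0) ∧
      W.map (Matrix.toLin' (x : Matrix (Fin n ⊕ Fin n) (Fin n ⊕ Fin n) F)) ≤ W := by
  classical
  have hfin : finrank F V = 2 * n := by
    rw [← LinearMap.charpoly_natDegree a, hchar, Matrix.charpoly_natDegree_eq_dim,
      Fintype.card_sum, Fintype.card_fin]
    ring
  obtain ⟨g, hpow, hgchar, W, hW, hWti, hWinv⟩ :=
    exists_ti_of_model n m ω a b halt hnd hiso hab hfin W₀ hW₀ hti hinv
  have hg : (orderOf g).Coprime p :=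
    Nat.Coprime.coprime_dvd_left (orderOf_dvd_of_pow_eq_one (hpow k hk)) hkp
  have hconj : IsConj g x := sp_isConj_of_charpoly_eq p n g x hg hx (by rw [hgchar, hchar])
  obtain ⟨c, hc⟩ := isConj_iff.mp hconj
  obtain ⟨W', hW', hW'ti, hW'inv⟩ := ti_conj n m g c W hW hWti hWinv
  rw [hc] at hW'inv
  exact ⟨W', hW', hW'ti, hW'inv⟩

end Transfer

end Cfsg.Agent.Lib.helper63.SpTI
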