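import Mathlib

/-! Piece `P` of the split proof of S0420 (owner helper73). -/

set_option autoImplicit false

namespace Cfsg.Agent.Lib.helper63.M11U

open Equiv Equiv.Perm

/-- auxiliary statement in terms of supports -/
theorem sign_of_pow_four_aux {X : Type*} [Fintype X] [DecidableEq X] (σ : Equiv.Perm X) :
    σ ^ 4 = 1 →
      (4 ∣ (σ ^ 2).support.card ∧ 2 ∣ σ.support.card - (σ ^ 2).support.card ∧
        (σ ^ 2).support.card ≤ σ.support.card ∧
        Equiv.Perm.sign σ = (-1) ^
          ((σ.support.card - (σ ^ 2).support.card) / 2 + (σ ^ 2).support.card / 4)) := by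
  induction σ using Equiv.Perm.cycle_induction_on with
  | base_one =>
    intro _
    simp
  | base_cycles σ hσ =>
    intro h4
    have hord : orderOf σ = σ.support.card := hσ.orderOf
    have hdvd : orderOf σ ∣ 4 := orderOf_dvd_of_pow_eq_one h4
    have h2 : 2 ≤ σ.support.card := hσ.two_le_card_support
    have hle : orderOf σ ≤ 4 := Nat.le_of_dvd (by norm_num) hdvd
    have hcases : orderOf σ = 2 ∨ orderOf σ = 4 := by
      rw [hord] at hdvd hle ⊢
      interval_cases h : σ.support.card
      · left; rfl
      · exfalso; revert hdvd; decide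
      · right; rfl
    rcases hcases with h | h
    · have hs2 : σ ^ 2 = 1 := by rw [← h]; exact pow_orderOf_eq_one σ
      have hc : σ.support.card = 2 := by rw [← hord, h]
      rw [hs2, Equiv.Perm.support_one, Finset.card_empty, hσ.sign, hc]
      refine ⟨by norm_num, by norm_num, by norm_num, by norm_num⟩
    · have hs2 : (σ ^ 2).support = σ.support := by
        rw [hσ.support_pow_eq_iff, h]
        decide
      have hc : σ.support.card = 4 := by rw [← hord, h]
      rw [hs2, hσ.sign, hc]
      refine ⟨by norm_num, by norm_num, by norm_num, by norm_num⟩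
  | induction_disjoint σ τ hd hσ ihσ ihτ =>
    intro h4
    have hcomm : Commute σ τ := hd.commute
    have h4' : σ ^ 4 * τ ^ 4 = 1 := by rw [← hcomm.mul_pow]; exact h4
    obtain ⟨hσ4, hτ4⟩ := (hd.pow_disjoint_pow 4 4).mul_eq_one_iff.mp h4'
    obtain ⟨a1, a2, a3, a4⟩ := ihσ hσ4
    obtain ⟨b1, b2, b3, b4⟩ := ihτ hτ4
    have hsq : (σ * τ) ^ 2 = σ ^ 2 * τ ^ 2 := hcomm.mul_pow 2
    have hc1 : (σ * τ).support.card = σ.support.card + τ.support.card := hd.card_support_mul
    have hc2 : ((σ * τ) ^ 2).support.card = (σ ^ 2).support.card + (τ ^ 2).support.card := by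
      rw [hsq]; exact (hd.pow_disjoint_pow 2 2).card_support_mul
    rw [hc1, hc2, Equiv.Perm.sign_mul, a4, b4, ← pow_add]
    obtain ⟨k1, hk1⟩ := a1
    obtain ⟨k2, hk2⟩ := b1
    obtain ⟨j1, hj1⟩ := a2
    obtain ⟨j2, hj2⟩ := b2
    refine ⟨⟨k1 + k2, by omega⟩, ⟨j1 + j2, by omega⟩, by omega, ?_⟩
    congr 1
    omega

/-- PIECE P: sign of a permutation of order dividing 4 from its numbers of fixed points. -/
theorem sign_of_pow_four {X : Type*} [Fintype X] [DecidableEq X] (σ : Equiv.Perm X)
    (h4 : σ ^ 4 = 1) :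
    Equiv.Perm.sign σ = (-1) ^
      (((Finset.univ.filter fun x : X => (σ ^ 2) x = x).card -
          (Finset.univ.filter fun x : X => σ x = x).card) / 2 +
        (Fintype.card X - (Finset.univ.filter fun x : X => (σ ^ 2) x = x).card) / 4) := by
  obtain ⟨a1, a2, a3, a4⟩ := sign_of_pow_four_aux σ h4
  have hsupp : ∀ τ : Equiv.Perm X,
      (Finset.univ.filter fun x : X => τ x = x).card + τ.support.card = Fintype.card X := by
    intro τ
    have h : τ.support = Finset.univ.filter fun x : X => ¬ τ x = x := by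
      ext x; simp
    rw [h, Finset.card_filter_add_card_filter_not, Finset.card_univ]
  have h1 := hsupp σ
  have h2 := hsupp (σ ^ 2)
  rw [a4]
  congr 1
  omega

end Cfsg.Agent.Lib.helper63.M11U
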