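/-
S4306 piece PQA: the structure of a nonabelian group of order `p q`.
-/
import Mathlib
import Cfsg.Agent.Lib.helper75.PQDefs

set_option autoImplicit false

namespace Cfsg.Agent.Lib.helper75.PQ

/-- A subgroup of prime order is commutative (elementwise). -/
theorem pqa_comm_of_prime_card {A : Type*} [Group A] (K : Subgroup A) (p : ℕ) (hp : p.Prime)
    (hK : Nat.card K = p) : ∀ a ∈ K, ∀ b ∈ K, a * b = b * a := by
  intro a ha b hb
  have : Fact p.Prime := ⟨hp⟩
  have hcyc : IsCyclic K := isCyclic_of_prime_card hK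
  let _ : CommGroup K := IsCyclic.commGroup
  have h := mul_comm (⟨a, ha⟩ : K) ⟨b, hb⟩
  exact congrArg Subtype.val h

/-- Auxiliary form of PQA with `q < p`. -/
theorem pqa_aux {A : Type*} [Group A] [Finite A] (p q : ℕ) (hp : p.Prime)
    (hq : q.Prime) (hlt : q < p) (hA : Nat.card A = p * q) (hAna : ¬ IsMulCommutative A) :
    ∃ (K H : Subgroup A), FrobPQ K H p q ∧ K ⊔ H = ⊤ := by
  have hfp : Fact p.Prime := ⟨hp⟩
  have hfq : Fact q.Prime := ⟨hq⟩
  have hpq : p ≠ q := by omega
  obtain ⟨P⟩ : Nonempty (Sylow p A) := inferInstance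
  obtain ⟨Q⟩ : Nonempty (Sylow q A) := inferInstance
  have hndpq : ¬ p ∣ q := fun h => hpq ((Nat.prime_dvd_prime_iff_eq hp hq).mp h)
  have hndqp : ¬ q ∣ p := fun h => hpq ((Nat.prime_dvd_prime_iff_eq hq hp).mp h).symm
  have hPcard : Nat.card (P : Subgroup A) = p := by
    rw [Sylow.card_eq_multiplicity, hA, Nat.factorization_mul hp.ne_zero hq.ne_zero]
    simp [hp.factorization_self, Nat.factorization_eq_zero_of_not_dvd hndpq]
  have hQcard : Nat.card (Q : Subgroup A) = q := by
    rw [Sylow.card_eq_multiplicity, hA, Nat.factorization_mul hp.ne_zero hq.ne_zero]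
    simp [hq.factorization_self, Nat.factorization_eq_zero_of_not_dvd hndqp]
  have hPidx : (P : Subgroup A).index = q := by
    have h := (P : Subgroup A).card_mul_index
    rw [hPcard, hA] at h
    exact Nat.eq_of_mul_eq_mul_left hp.pos h
  have hPn : (P : Subgroup A).Normal := by
    have h1 : Nat.card (Sylow p A) ∣ q := by
      have := Sylow.card_dvd_index P
      rwa [hPidx] at this
    have h2 : Nat.card (Sylow p A) ≡ 1 [MOD p] := card_sylow_modEq_one p A
    have h3 : Nat.card (Sylow p A) = 1 := by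
      rcases (Nat.dvd_prime hq).mp h1 with h | h
      · exact h
      · exfalso
        rw [h] at h2
        have h4 : q % p = 1 % p := h2
        rw [Nat.mod_eq_of_lt hlt, Nat.mod_eq_of_lt hp.one_lt] at h4
        exact hq.one_lt.ne' h4
    rw [Sylow.card_eq_index_normalizer P, Subgroup.index_eq_one] at h3
    exact Subgroup.normalizer_eq_top_iff.mp h3
  have hsup : (P : Subgroup A) ⊔ (Q : Subgroup A) = ⊤ := by
    rw [← Subgroup.card_eq_iff_eq_top]
    have h1 : p ∣ Nat.card ((P : Subgroup A) ⊔ (Q : Subgroup A) : Subgroup A) := by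
      have := Subgroup.card_dvd_of_le (le_sup_left : (P : Subgroup A) ≤ (P : Subgroup A) ⊔ Q)
      rwa [hPcard] at this
    have h2 : q ∣ Nat.card ((P : Subgroup A) ⊔ (Q : Subgroup A) : Subgroup A) := by
      have := Subgroup.card_dvd_of_le (le_sup_right : (Q : Subgroup A) ≤ (P : Subgroup A) ⊔ Q)
      rwa [hQcard] at this
    have hcop : Nat.Coprime p q := (Nat.coprime_primes hp hq).mpr hpq
    have h3 : p * q ∣ Nat.card ((P : Subgroup A) ⊔ (Q : Subgroup A) : Subgroup A) :=
      hcop.mul_dvd_of_dvd_of_dvd h1 h2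
    have h4 : Nat.card ((P : Subgroup A) ⊔ (Q : Subgroup A) : Subgroup A) ∣ p * q := by
      rw [← hA]; exact Subgroup.card_subgroup_dvd_card _
    rw [hA]
    exact Nat.dvd_antisymm h4 h3
  refine ⟨(P : Subgroup A), (Q : Subgroup A), ⟨hp, hq, hpq, hPcard, hQcard, ?_, ?_⟩, hsup⟩
  · rw [Subgroup.normalizer_eq_top_iff.mpr hPn]; exact le_top
  · intro hcz
    apply hAna
    have hKc := pqa_comm_of_prime_card (P : Subgroup A) p hp hPcard
    have hHc := pqa_comm_of_prime_card (Q : Subgroup A) q hq hQcard
    have hcen : ∀ z : A, z ∈ (P : Subgroup A) ∨ z ∈ (Q : Subgroup A) → ∀ g : A, g * z = z * g := by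
      intro z hz g
      have hle : (P : Subgroup A) ⊔ (Q : Subgroup A) ≤ Subgroup.centralizer {z} := by
        apply sup_le
        · intro k hk
          rw [Subgroup.mem_centralizer_iff]
          intro y hy
          rw [Set.mem_singleton_iff] at hy
          subst hy
          rcases hz with hz | hz
          · exact hKc y hz k hk
          · exact (hcz k hk y hz).symm
        · intro h hh
          rw [Subgroup.mem_centralizer_iff]
          intro y hy
          rw [Set.mem_singleton_iff] at hy
          subst hy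
          rcases hz with hz | hz
          · exact hcz y hz h hh
          · exact hHc y hz h hh
      have hg : g ∈ Subgroup.centralizer {z} := hle (by rw [hsup]; exact Subgroup.mem_top g)
      exact (Subgroup.mem_centralizer_iff.mp hg z rfl).symm
    have hctop : Subgroup.center A = ⊤ := by
      rw [eq_top_iff, ← hsup]
      apply sup_le
      · intro k hk
        rw [Subgroup.mem_center_iff]
        exact hcen k (Or.inl hk)
      · intro h hh
        rw [Subgroup.mem_center_iff]
        exact hcen h (Or.inr hh)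
    refine ⟨⟨fun a b => ?_⟩⟩
    have hb : b ∈ Subgroup.center A := by rw [hctop]; exact Subgroup.mem_top b
    exact Subgroup.mem_center_iff.mp hb a

/-- PQA: a nonabelian group of order `p q`. -/
theorem nonabelian_pq_structure {A : Type*} [Group A] [Finite A] (p q : ℕ) (hp : p.Prime)
    (hq : q.Prime) (hpq : p ≠ q) (hA : Nat.card A = p * q) (hAna : ¬ IsMulCommutative A) :
    ∃ (K H : Subgroup A) (p' q' : ℕ), p' * q' = p * q ∧ FrobPQ K H p' q' ∧ K ⊔ H = ⊤ := by
  rcases lt_or_gt_of_ne hpq with h | h
  · obtain ⟨K, H, hF, hsup⟩ := pqa_aux q p hq hp h (by rw [hA, mul_comm]) hAna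
    exact ⟨K, H, q, p, mul_comm q p, hF, hsup⟩
  · obtain ⟨K, H, hF, hsup⟩ := pqa_aux p q hp hq h hA hAna
    exact ⟨K, H, p, q, rfl, hF, hsup⟩

end Cfsg.Agent.Lib.helper75.PQ
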