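import Mathlib
import Cfsg.Agent.Lib.helper45.SpPrimeOrder

/-! Models of symplectic isometries with an invariant totally isotropic subspace. -/

set_option autoImplicit false

namespace Cfsg.Agent.Lib.helper63.SpTI

open Module Cfsg Polynomial Cfsg.Agent.Lib.helper17 Cfsg.Agent.Lib.helper45

universe u

section TIReal

variable {F : Type u} [Field F]

/-- `f` is the characteristic polynomial of an isometry `a` with `a^r = 1` of a non-degenerate
alternating space which has an invariant totally isotropic subspace of dimension `m`. -/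
def TIReal (r : ℕ) (f : F[X]) (m : ℕ) : Prop :=
  ∃ (V : Type u) (_ : AddCommGroup V) (_ : Module F V) (_ : FiniteDimensional F V)
    (ω : V →ₗ[F] V →ₗ[F] F) (a b : Module.End F V),
    (∀ v, ω v v = 0) ∧ (∀ v, (∀ w, ω v w = 0) → v = 0) ∧ (∀ v w, ω (a v) (a w) = ω v w) ∧
    a * b = 1 ∧ a ^ r = 1 ∧ a.charpoly = f ∧
    ∃ W : Submodule F V, finrank F W = m ∧ (∀ u ∈ W, ∀ v ∈ W, ω u v = 0) ∧ ∀ w ∈ W, a w ∈ W

theorem TIReal.of_sp {r : ℕ} {f : F[X]} (h : SpRealizable r f) : TIReal r f 0 := by
  obtain ⟨V, i1, i2, i3, ω, a, b, halt, hnd, hiso, hab, har, hchar⟩ := h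
  refine ⟨V, i1, i2, i3, ω, a, b, halt, hnd, hiso, hab, har, hchar, ⊥, finrank_bot F V, ?_, ?_⟩
  · intro u hu v _
    rw [(Submodule.mem_bot F).mp hu, map_zero, LinearMap.zero_apply]
  · intro w hw
    rw [(Submodule.mem_bot F).mp hw, map_zero]
    exact Submodule.zero_mem _

/-- the product of two submodules, as a product -/
def prodSubEquiv {V V' : Type*} [AddCommGroup V] [Module F V] [AddCommGroup V'] [Module F V']
    (W₁ : Submodule F V) (W₂ : Submodule F V') : ↥(W₁.prod W₂) ≃ₗ[F] (W₁ × W₂) where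
  toFun x := (⟨x.1.1, x.2.1⟩, ⟨x.1.2, x.2.2⟩)
  invFun y := ⟨(y.1.1, y.2.1), ⟨y.1.2, y.2.2⟩⟩
  map_add' := fun _ _ => rfl
  map_smul' := fun _ _ => rfl
  left_inv := fun _ => rfl
  right_inv := fun _ => rfl

theorem finrank_prod_sub {V V' : Type*} [AddCommGroup V] [Module F V] [AddCommGroup V']
    [Module F V'] [FiniteDimensional F V] [FiniteDimensional F V']
    (W₁ : Submodule F V) (W₂ : Submodule F V') :
    finrank F ↥(W₁.prod W₂) = finrank F W₁ + finrank F W₂ := by
  rw [LinearEquiv.finrank_eq (prodSubEquiv W₁ W₂), Module.finrank_prod]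

theorem TIReal.mul {r : ℕ} {f g : F[X]} {m m' : ℕ} (hf : TIReal r f m) (hg : TIReal r g m') :
    TIReal r (f * g) (m + m') := by
  obtain ⟨V, _, _, _, ω, a, b, halt, hnd, hiso, hab, har, hchar, W, hW, hWti, hWinv⟩ := hf
  obtain ⟨V', _, _, _, ω', a', b', halt', hnd', hiso', hab', har', hchar', W', hW', hWti',
    hWinv'⟩ := hg
  refine ⟨V × V', inferInstance, inferInstance, inferInstance,
    ω.compl₁₂ (LinearMap.fst F V V') (LinearMap.fst F V V')
      + ω'.compl₁₂ (LinearMap.snd F V V') (LinearMap.snd F V V'),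
    LinearMap.prodMap a a', LinearMap.prodMap b b', ?_, ?_, ?_, ?_, ?_, ?_, W.prod W', ?_, ?_, ?_⟩
  · intro v
    simp only [LinearMap.add_apply, LinearMap.compl₁₂_apply, LinearMap.fst_apply,
      LinearMap.snd_apply]
    rw [halt, halt', add_zero]
  · intro v hv
    have h1 : v.1 = 0 := by
      apply hnd
      intro w'
      have := hv (w', 0)
      simpa only [LinearMap.add_apply, LinearMap.compl₁₂_apply, LinearMap.fst_apply,
        LinearMap.snd_apply, map_zero, add_zero] using this
    have h2 : v.2 = 0 := by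
      apply hnd'
      intro w'
      have := hv (0, w')
      simpa only [LinearMap.add_apply, LinearMap.compl₁₂_apply, LinearMap.fst_apply,
        LinearMap.snd_apply, map_zero, zero_add] using this
    exact Prod.ext h1 h2
  · intro v w
    simp only [LinearMap.add_apply, LinearMap.compl₁₂_apply, LinearMap.fst_apply,
      LinearMap.snd_apply, LinearMap.prodMap_apply]
    rw [hiso, hiso']
  · rw [LinearMap.prodMap_mul, hab, hab']
    exact LinearMap.prodMap_one
  · rw [prodMap_pow, har, har']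
    exact LinearMap.prodMap_one
  · rw [LinearMap.charpoly_prodMap, hchar, hchar']
  · rw [finrank_prod_sub, hW, hW']
  · intro u hu v hv
    simp only [LinearMap.add_apply, LinearMap.compl₁₂_apply, LinearMap.fst_apply,
      LinearMap.snd_apply]
    rw [hWti _ hu.1 _ hv.1, hWti' _ hu.2 _ hv.2, add_zero]
  · intro w hw
    exact ⟨hWinv _ hw.1, hWinv' _ hw.2⟩

theorem tiReal_one (r : ℕ) : TIReal r (1 : F[X]) 0 := TIReal.of_sp (spRealizable_one r)

theorem TIReal.pow {r : ℕ} {f : F[X]} {m : ℕ} (hf : TIReal r f m) (j : ℕ) :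
    TIReal r (f ^ j) (j * m) := by
  induction j with
  | zero => rw [pow_zero, zero_mul]; exact tiReal_one r
  | succ j ih => rw [pow_succ, Nat.succ_mul]; exact ih.mul hf

/-- products over a multiset of pieces each having an invariant totally isotropic subspace of
dimension `i` -/
theorem tiReal_multiset_prod {r : ℕ} (i : ℕ) (τ : F[X] → F[X]) (m : Multiset F[X])
    (h : ∀ P ∈ m, TIReal r (P * τ P) i) :
    TIReal r (m.prod * (m.map τ).prod) (i * Multiset.card m) := by
  induction m using Multiset.induction_on with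
  | empty =>
    rw [Multiset.prod_zero, Multiset.map_zero, Multiset.prod_zero, Multiset.card_zero, mul_zero,
      mul_one]
    exact tiReal_one r
  | cons x m ih =>
    have h1 := (h x (Multiset.mem_cons_self x m)).mul
      (ih (fun P hP => h P (Multiset.mem_cons_of_mem hP)))
    have e1 : (x ::ₘ m).prod * ((x ::ₘ m).map τ).prod = x * τ x * (m.prod * (m.map τ).prod) := by
      rw [Multiset.prod_cons, Multiset.map_cons, Multiset.prod_cons]
      ring
    have e2 : i * Multiset.card (x ::ₘ m) = i + i * Multiset.card m := by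
      rw [Multiset.card_cons]; ring
    rw [e1, e2]
    exact h1

/-- the basic piece: `ζ ⊕ ζ⁻¹` on `E × E` with the invariant totally isotropic `E × 0` -/
theorem tiReal_pair {r : ℕ} {P : F[X]} (hP : Irreducible P) (hmon : P.Monic)
    (ζ' : AdjoinRoot P) (h1 : AdjoinRoot.root P * ζ' = 1) (h4 : (AdjoinRoot.root P) ^ r = 1)
    (hdeg : (minpoly F ζ').natDegree = P.natDegree) :
    TIReal r (P * minpoly F ζ') P.natDegree := by
  haveI : Fact (Irreducible P) := ⟨hP⟩
  haveI : Module.Finite F (AdjoinRoot P) := (AdjoinRoot.powerBasis hP.ne_zero).finite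
  obtain ⟨ζ, hζ⟩ : ∃ ζ : AdjoinRoot P, ζ = AdjoinRoot.root P := ⟨_, rfl⟩
  rw [← hζ] at h1 h4
  have h1' : ζ' * ζ = 1 := by rw [mul_comm]; exact h1
  have hζ'r : ζ' ^ r = 1 := by
    have := mul_pow ζ ζ' r
    rw [h1, one_pow, h4, one_mul] at this
    exact this.symm
  obtain ⟨lam, hlam⟩ : ∃ lam : AdjoinRoot P →ₗ[F] F, lam 1 ≠ 0 := by
    by_contra hcon
    push Not at hcon
    exact one_ne_zero ((Module.forall_dual_apply_eq_zero_iff F (1 : AdjoinRoot P)).mp hcon)
  have hint : IsIntegral F ζ' := IsIntegral.of_finite F ζ'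
  have hcp : (Algebra.lmul F (AdjoinRoot P) ζ').charpoly = minpoly F ζ' := by
    have e1 := LinearMap.aeval_self_charpoly (Algebra.lmul F (AdjoinRoot P) ζ')
    rw [aeval_algHom_apply] at e1
    have e2 : aeval ζ' (Algebra.lmul F (AdjoinRoot P) ζ').charpoly = 0 :=
      (map_eq_zero_iff _ Algebra.lmul_injective).mp e1
    have e3 := minpoly.dvd F ζ' e2
    apply eq_of_monic_of_dvd_of_natDegree_le (minpoly.monic hint) (LinearMap.charpoly_monic _) e3
    rw [LinearMap.charpoly_natDegree, hdeg, (AdjoinRoot.powerBasis hP.ne_zero).finrank,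
      AdjoinRoot.powerBasis_dim]
  refine ⟨AdjoinRoot P × AdjoinRoot P, inferInstance, inferInstance, inferInstance,
    pieceForm (AdjoinRoot P) lam,
    LinearMap.prodMap (Algebra.lmul F (AdjoinRoot P) ζ) (Algebra.lmul F (AdjoinRoot P) ζ'),
    LinearMap.prodMap (Algebra.lmul F (AdjoinRoot P) ζ') (Algebra.lmul F (AdjoinRoot P) ζ),
    fun v => pieceForm_alt (AdjoinRoot P) lam v,
    fun v hv => pieceForm_nondeg (AdjoinRoot P) lam 1 hlam v hv, ?_, ?_, ?_, ?_,
    (⊤ : Submodule F (AdjoinRoot P)).prod (⊥ : Submodule F (AdjoinRoot P)), ?_, ?_, ?_⟩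
  · intro v w
    rw [pieceForm_apply, pieceForm_apply]
    congr 1
    show ζ * v.1 * (ζ' * w.2) - ζ' * v.2 * (ζ * w.1) = v.1 * w.2 - v.2 * w.1
    calc ζ * v.1 * (ζ' * w.2) - ζ' * v.2 * (ζ * w.1) = (ζ * ζ') * (v.1 * w.2 - v.2 * w.1) := by
          ring
      _ = v.1 * w.2 - v.2 * w.1 := by rw [h1, one_mul]
  · rw [LinearMap.prodMap_mul, ← map_mul, ← map_mul, h1, h1', map_one]
    exact LinearMap.prodMap_one
  · rw [prodMap_pow, ← map_pow, ← map_pow, h4, hζ'r, map_one]
    exact LinearMap.prodMap_one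
  · rw [LinearMap.charpoly_prodMap, hcp, hζ, charpoly_lmul_root P hP, hmon.leadingCoeff, inv_one,
      C_1, mul_one]
  · rw [finrank_prod_sub, finrank_top, finrank_bot, add_zero,
      (AdjoinRoot.powerBasis hP.ne_zero).finrank, AdjoinRoot.powerBasis_dim]
  · intro u hu v hv
    have hu2 : u.2 = 0 := (Submodule.mem_bot F).mp hu.2
    have hv2 : v.2 = 0 := (Submodule.mem_bot F).mp hv.2
    rw [pieceForm_apply, hu2, hv2, mul_zero, zero_mul, sub_zero, map_zero]
  · intro w hw
    have hw2 : w.2 = 0 := (Submodule.mem_bot F).mp hw.2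
    refine ⟨Submodule.mem_top, ?_⟩
    show ζ' * w.2 ∈ (⊥ : Submodule F (AdjoinRoot P))
    rw [hw2, mul_zero]
    exact Submodule.zero_mem _

end TIReal

end Cfsg.Agent.Lib.helper63.SpTI
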