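import Mathlib
import Cfsg.Agent.Lib.helper45.SpPrimeOrder

/-! The characteristic polynomial of a semisimple isometry with an invariant totally isotropic
subspace `W`: it is divisible by `g * g^*`, `g` the characteristic polynomial on `W`. -/

set_option autoImplicit false

namespace Cfsg.Agent.Lib.helper63.SpTI

open Module Cfsg Polynomial Cfsg.Agent.Lib.helper17 Cfsg.Agent.Lib.helper45

section G1

variable {F : Type*} [Field F] {V : Type*} [AddCommGroup V] [Module F V] [FiniteDimensional F V]

/-- the characteristic polynomial for three independent invariant subspaces spanning the space -/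
theorem charpoly_three (a : Module.End F V) (W W' M : Submodule F V)
    (hW : ∀ w ∈ W, a w ∈ W) (hW' : ∀ w ∈ W', a w ∈ W') (hM : ∀ w ∈ M, a w ∈ M)
    (hdis : Disjoint W W') (hcompl : IsCompl (W ⊔ W') M) :
    a.charpoly = (a.restrict hW).charpoly * (a.restrict hW').charpoly *
      (a.restrict hM).charpoly := by
  let Φ : ((W × W') × M) →ₗ[F] V := (W.subtype.coprod W'.subtype).coprod M.subtype
  have hΦ : ∀ x : (W × W') × M, Φ x = (x.1.1 : V) + (x.1.2 : V) + (x.2 : V) := fun x => rfl
  have hinj : Function.Injective Φ := by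
    rw [← LinearMap.ker_eq_bot, LinearMap.ker_eq_bot']
    rintro ⟨⟨w, w'⟩, μ⟩ hx
    rw [hΦ] at hx
    simp only at hx
    have h1 : (w : V) + (w' : V) ∈ W ⊔ W' := Submodule.add_mem_sup w.2 w'.2
    have h2 : (w : V) + (w' : V) ∈ M := by
      have : (w : V) + (w' : V) = -(μ : V) := eq_neg_of_add_eq_zero_left hx
      rw [this]
      exact M.neg_mem μ.2
    have h3 : (w : V) + (w' : V) = 0 := by
      have := hcompl.disjoint.le_bot (Submodule.mem_inf.mpr ⟨h1, h2⟩)
      exact (Submodule.mem_bot F).mp this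
    have h4 : (μ : V) = 0 := by rw [h3, zero_add] at hx; exact hx
    have h5 : (w : V) ∈ W' := by
      have : (w : V) = -(w' : V) := eq_neg_of_add_eq_zero_left h3
      rw [this]
      exact W'.neg_mem w'.2
    have h6 : (w : V) = 0 :=
      (Submodule.mem_bot F).mp (hdis.le_bot (Submodule.mem_inf.mpr ⟨w.2, h5⟩))
    have h7 : (w' : V) = 0 := by rw [h6, zero_add] at h3; exact h3
    exact Prod.ext (Prod.ext (Subtype.ext h6) (Subtype.ext h7)) (Subtype.ext h4)
  have hsurj : Function.Surjective Φ := by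
    intro v
    have hv : v ∈ (W ⊔ W') ⊔ M := by rw [hcompl.sup_eq_top]; exact Submodule.mem_top
    obtain ⟨y, hy, z, hz, rfl⟩ := Submodule.mem_sup.mp hv
    obtain ⟨w, hw, w', hw', rfl⟩ := Submodule.mem_sup.mp hy
    exact ⟨((⟨w, hw⟩, ⟨w', hw'⟩), ⟨z, hz⟩), rfl⟩
  let e : ((W × W') × M) ≃ₗ[F] V := LinearEquiv.ofBijective Φ ⟨hinj, hsurj⟩
  obtain ⟨T, hT⟩ : ∃ T : Module.End F ((W × W') × M),
      T = LinearMap.prodMap (LinearMap.prodMap (a.restrict hW) (a.restrict hW'))
        (a.restrict hM) := ⟨_, rfl⟩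
  have hconj : a = e.conj T := by
    apply LinearMap.ext
    intro v
    obtain ⟨x, rfl⟩ := e.surjective v
    rw [LinearEquiv.conj_apply_apply, LinearEquiv.symm_apply_apply]
    show a (Φ x) = Φ (T x)
    rw [hΦ, hΦ, hT, map_add, map_add]
    rfl
  have h1 : a.charpoly = (e.conj T).charpoly := congrArg LinearMap.charpoly hconj
  rw [h1, LinearEquiv.charpoly_conj, hT, LinearMap.charpoly_prodMap,
    LinearMap.charpoly_prodMap]

/-- the characteristic polynomial of the dual map -/
theorem charpoly_dualMap {U : Type*} [AddCommGroup U] [Module F U] [FiniteDimensional F U]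
    (f : Module.End F U) : (f.dualMap).charpoly = f.charpoly := by
  classical
  obtain ⟨bU⟩ : Nonempty (Basis (Fin (finrank F U)) F U) := ⟨Module.finBasis F U⟩
  rw [← LinearMap.charpoly_toMatrix f.dualMap bU.dualBasis, LinearMap.dualMap_def,
    LinearMap.toMatrix_transpose, Matrix.charpoly_transpose, LinearMap.charpoly_toMatrix]

/-- the characteristic polynomial of the inverse -/
theorem charpoly_inv_end {U : Type*} [AddCommGroup U] [Module F U] [FiniteDimensional F U]
    (f g : Module.End F U) (hfg : f * g = 1) : g.charpoly = mrec f.charpoly := by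
  classical
  obtain ⟨bU⟩ : Nonempty (Basis (Fin (finrank F U)) F U) := ⟨Module.finBasis F U⟩
  obtain ⟨A, hA⟩ : ∃ A, A = LinearMap.toMatrix bU bU f := ⟨_, rfl⟩
  obtain ⟨B, hB⟩ : ∃ B, B = LinearMap.toMatrix bU bU g := ⟨_, rfl⟩
  have hAB : A * B = 1 := by rw [hA, hB, ← LinearMap.toMatrix_mul, hfg, LinearMap.toMatrix_one]
  have hBinv : A⁻¹ = B := Matrix.inv_eq_right_inv hAB
  have hdetu : IsUnit A.det := by
    have h1 : A.det * B.det = 1 := by rw [← Matrix.det_mul, hAB, Matrix.det_one]
    exact IsUnit.of_mul_eq_one _ h1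
  have hunit : IsUnit A := (Matrix.isUnit_iff_isUnit_det A).mpr hdetu
  have hdet := Matrix.det_eq_sign_charpoly_coeff A
  have hc0 : A.charpoly.coeff 0 = (-1) ^ Fintype.card (Fin (finrank F U)) * A.det := by
    rw [hdet, ← mul_assoc, ← pow_add, ← two_mul, pow_mul, neg_one_sq, one_pow, one_mul]
  unfold mrec
  rw [← LinearMap.charpoly_toMatrix g bU, ← LinearMap.charpoly_toMatrix f bU, ← hA, ← hB,
    ← hBinv, Matrix.charpoly_inv A hunit, Matrix.reverse_charpoly, hc0, Ring.inverse_eq_inv',
    mul_inv, ← inv_pow, inv_neg_one, C_mul, C_pow, C_neg, C_1]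
  ring

/-- **Key lemma.**  For a semisimple isometry `a` of a non-degenerate alternating space and an
invariant totally isotropic subspace `W`, the characteristic polynomial `g` of `a` on `W`
satisfies `g * g^* ∣ charpoly a`. -/
theorem charpoly_ti_dvd (ω : V →ₗ[F] V →ₗ[F] F) (a b : Module.End F V) (halt : ∀ v, ω v v = 0)
    (hnd : ∀ v, (∀ w, ω v w = 0) → v = 0) (hiso : ∀ v w, ω (a v) (a w) = ω v w) (hab : a * b = 1)
    (hss : a.IsSemisimple) (W : Submodule F V) (hti : ∀ u ∈ W, ∀ v ∈ W, ω u v = 0)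
    (hinv : ∀ w ∈ W, a w ∈ W) :
    ∃ g : F[X], g.Monic ∧ g.natDegree = finrank F W ∧ g * mrec g ∣ a.charpoly := by
  classical
  have hskew : ∀ u w, ω u w = - ω w u := Cfsg.Agent.Lib.helper50.skew_of_alt ω halt
  have hba : b * a = 1 := mul_eq_one_comm.mp hab
  have hab' : ∀ v, a (b v) = v := fun v => by
    have := congrArg (fun f : Module.End F V => f v) hab
    exact this
  have hba' : ∀ v, b (a v) = v := fun v => by
    have := congrArg (fun f : Module.End F V => f v) hba
    exact this
  -- `a` maps `W` onto `W`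
  have hainj : Function.Injective (a.restrict hinv) := by
    intro x y hxy
    have h1 : a (x : V) = a (y : V) := congrArg Subtype.val hxy
    have h2 := congrArg b h1
    rw [hba', hba'] at h2
    exact Subtype.ext h2
  have hasurj : Function.Surjective (a.restrict hinv) :=
    LinearMap.injective_iff_surjective.mp hainj
  have hWb : ∀ w ∈ W, b w ∈ W := by
    intro w hw
    obtain ⟨w₁, hw₁⟩ := hasurj ⟨w, hw⟩
    have h1 : a (w₁ : V) = w := congrArg Subtype.val hw₁
    rw [← h1, hba']
    exact w₁.2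
  -- the orthogonal complement of `W`
  obtain ⟨θ, hθ⟩ : ∃ θ : V →ₗ[F] Dual F W, θ = W.subtype.dualMap ∘ₗ ω.flip := ⟨_, rfl⟩
  have hθapp : ∀ (v : V) (w : W), θ v w = ω (w : V) v := by
    intro v w
    rw [hθ]
    rfl
  have hflip_inj : Function.Injective (ω.flip : V →ₗ[F] Dual F V) := by
    rw [← LinearMap.ker_eq_bot, LinearMap.ker_eq_bot']
    intro v hv
    apply hnd
    intro w
    rw [hskew]
    have := congrArg (fun φ : Dual F V => φ w) hv
    simp only [LinearMap.flip_apply, LinearMap.zero_apply] at this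
    rw [this, neg_zero]
  have hflip_surj : Function.Surjective (ω.flip : V →ₗ[F] Dual F V) :=
    (LinearMap.injective_iff_surjective_of_finrank_eq_finrank
      (Subspace.dual_finrank_eq (K := F) (V := V)).symm).mp hflip_inj
  have hθsurj : Function.Surjective θ := by
    rw [hθ]
    exact (LinearMap.dualMap_surjective_of_injective (Submodule.injective_subtype W)).comp
      hflip_surj
  obtain ⟨Wp, hWp⟩ : ∃ Wp : Submodule F V, Wp = LinearMap.ker θ := ⟨_, rfl⟩
  have hmemWp : ∀ v, v ∈ Wp ↔ ∀ w ∈ W, ω w v = 0 := by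
    intro v
    rw [hWp, LinearMap.mem_ker]
    constructor
    · intro h w hw
      have := congrArg (fun φ : Dual F W => φ ⟨w, hw⟩) h
      simp only [LinearMap.zero_apply] at this
      rw [hθapp] at this
      exact this
    · intro h
      apply LinearMap.ext
      intro w
      rw [hθapp, LinearMap.zero_apply]
      exact h w w.2
  have hWle : W ≤ Wp := fun w₀ hw₀ => (hmemWp w₀).mpr (fun w hw => hti w hw w₀ hw₀)
  have hWpinv : ∀ v ∈ Wp, a v ∈ Wp := by
    intro v hv
    rw [hmemWp] at hv ⊢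
    intro w hw
    have h1 : ω w (a v) = ω (a (b w)) (a v) := by rw [hab']
    rw [h1, hiso]
    exact hv _ (hWb w hw)
  -- invariant complements
  have hcomp := Module.End.isSemisimple_iff.mp hss
  obtain ⟨W', hW'inv, hW'c⟩ := hcomp Wp (by
    rw [Module.End.mem_invtSubmodule]
    exact fun v hv => hWpinv v hv)
  rw [Module.End.mem_invtSubmodule] at hW'inv
  have hW'inv' : ∀ w ∈ W', a w ∈ W' := fun w hw => hW'inv hw
  have hdis : Disjoint W W' := Disjoint.mono_left hWle hW'c.disjoint
  obtain ⟨M, hMinv, hMc⟩ := hcomp (W ⊔ W') (by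
    rw [Module.End.mem_invtSubmodule]
    intro v hv
    obtain ⟨w, hw, w', hw', rfl⟩ := Submodule.mem_sup.mp hv
    show a (w + w') ∈ W ⊔ W'
    rw [map_add]
    exact Submodule.add_mem_sup (hinv w hw) (hW'inv' w' hw'))
  rw [Module.End.mem_invtSubmodule] at hMinv
  have hMinv' : ∀ w ∈ M, a w ∈ M := fun w hw => hMinv hw
  have h3 := charpoly_three a W W' M hinv hW'inv' hMinv' hdis hMc
  -- the duality between `W'` and `W`
  obtain ⟨ψ, hψ⟩ : ∃ ψ : W' →ₗ[F] Dual F W, ψ = θ ∘ₗ W'.subtype := ⟨_, rfl⟩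
  have hψapp : ∀ (w' : W') (w : W), ψ w' w = ω (w : V) (w' : V) := by
    intro w' w
    rw [hψ]
    exact hθapp _ _
  have hψinj : Function.Injective ψ := by
    rw [← LinearMap.ker_eq_bot, LinearMap.ker_eq_bot']
    intro w' hw'
    have h1 : (w' : V) ∈ Wp := by
      rw [hmemWp]
      intro w hw
      have := congrArg (fun φ : Dual F W => φ ⟨w, hw⟩) hw'
      simp only [LinearMap.zero_apply] at this
      rw [hψapp] at this
      exact this
    have h2 := hW'c.disjoint.le_bot (Submodule.mem_inf.mpr ⟨h1, w'.2⟩)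
    exact Subtype.ext ((Submodule.mem_bot F).mp h2)
  have hψsurj : Function.Surjective ψ := by
    intro φ
    obtain ⟨v, hv⟩ := hθsurj φ
    have hvtop : v ∈ Wp ⊔ W' := by rw [hW'c.sup_eq_top]; exact Submodule.mem_top
    obtain ⟨y, hy, w', hw', rfl⟩ := Submodule.mem_sup.mp hvtop
    refine ⟨⟨w', hw'⟩, ?_⟩
    rw [hψ]
    show θ w' = φ
    rw [← hv, map_add]
    have : θ y = 0 := by rw [hWp] at hy; exact LinearMap.mem_ker.mp hy
    rw [this, zero_add]
  let ψe : W' ≃ₗ[F] Dual F W := LinearEquiv.ofBijective ψ ⟨hψinj, hψsurj⟩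
  have hψe : ∀ w', ψe w' = ψ w' := fun w' => rfl
  have hconj : (b.restrict hWb).dualMap = ψe.conj (a.restrict hW'inv') := by
    apply LinearMap.ext
    intro φ
    obtain ⟨w', rfl⟩ := ψe.surjective φ
    rw [LinearEquiv.conj_apply_apply, LinearEquiv.symm_apply_apply]
    apply LinearMap.ext
    intro w
    rw [LinearMap.dualMap_apply, hψe, hψe, hψapp, hψapp]
    show ω ((b (w : V))) (w' : V) = ω (w : V) (a (w' : V))
    have h1 : ω (w : V) (a (w' : V)) = ω (a (b (w : V))) (a (w' : V)) := by rw [hab']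
    rw [h1, hiso]
  have hrestr : (a.restrict hinv) * (b.restrict hWb) = 1 := by
    apply LinearMap.ext
    intro w
    apply Subtype.ext
    show a (b (w : V)) = w
    exact hab' _
  have h4 : (a.restrict hW'inv').charpoly = mrec (a.restrict hinv).charpoly := by
    rw [← charpoly_inv_end _ _ hrestr, ← charpoly_dualMap (b.restrict hWb), hconj,
      LinearEquiv.charpoly_conj]
  refine ⟨(a.restrict hinv).charpoly, LinearMap.charpoly_monic _, LinearMap.charpoly_natDegree _,
    ?_⟩
  rw [h3, h4]
  exact Dvd.intro _ rfl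

end G1

end Cfsg.Agent.Lib.helper63.SpTI
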