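import Mathlib
import Cfsg.Agent.Lib.helper45.SpPrimeOrder
import Cfsg.Agent.Lib.helper63.SpTI4

/-! Polynomial bookkeeping for symplectic elements with `x^r = 1`. -/

set_option autoImplicit false

namespace Cfsg.Agent.Lib.helper63.SpTI

open Module Cfsg Polynomial Cfsg.Agent.Lib.helper17 Cfsg.Agent.Lib.helper45

section MatrixG1

variable {F : Type*} [Field F]

/-- matrix form of the key lemma -/
theorem sp_charpoly_ti_dvd (n : ℕ) (x : ↥(Matrix.symplecticGroup (Fin n) F)) (k : ℕ)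
    (hk : x ^ k = 1) (hkF : (k : F) ≠ 0) (W : Submodule F (Fin n ⊕ Fin n → F))
    (hti : ∀ u ∈ W, ∀ v ∈ W, sympForm n F u v = 0)
    (hinv : W.map (Matrix.toLin' (x : Matrix (Fin n ⊕ Fin n) (Fin n ⊕ Fin n) F)) ≤ W) :
    ∃ g : F[X], g.Monic ∧ g.natDegree = finrank F W ∧
      g * mrec g ∣ (x : Matrix (Fin n ⊕ Fin n) (Fin n ⊕ Fin n) F).charpoly := by
  classical
  obtain ⟨A, hA⟩ : ∃ A : Matrix (Fin n ⊕ Fin n) (Fin n ⊕ Fin n) F, A = x := ⟨_, rfl⟩
  obtain ⟨B, hB⟩ : ∃ B : Matrix (Fin n ⊕ Fin n) (Fin n ⊕ Fin n) F,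
      B = (x⁻¹ : ↥(Matrix.symplecticGroup (Fin n) F)) := ⟨_, rfl⟩
  rw [← hA] at hinv ⊢
  have hAB : A * B = 1 := by rw [hA, hB]; exact sp_coe_mul_inv n x
  have hAk : A ^ k = 1 := by
    have := congrArg (fun y : ↥(Matrix.symplecticGroup (Fin n) F) =>
      (y : Matrix (Fin n ⊕ Fin n) (Fin n ⊕ Fin n) F)) hk
    simpa [hA] using this
  have hss : Module.End.IsSemisimple (Matrix.toLin' A) := by
    apply Module.End.isSemisimple_of_squarefree_aeval_eq_zero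
      (p := (X ^ k - C (1 : F) : F[X]))
    · exact (separable_X_pow_sub_C (1 : F) hkF one_ne_zero).squarefree
    · have h1 : (Matrix.toLin' A) ^ k = 1 := by
        rw [← Matrix.toLin'_pow, hAk, Matrix.toLin'_one]; rfl
      simp [h1]
  have h := charpoly_ti_dvd (sympBilin n (F := F)) (Matrix.toLin' A) (Matrix.toLin' B)
    (sympBilin_alt n)
    (by
      intro v hv
      by_contra hne
      obtain ⟨w, hw⟩ := exists_sympForm_ne_zero n v hne
      exact hw (hv w))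
    (by
      intro v w
      rw [sympBilin_apply, Matrix.toLin'_apply, Matrix.toLin'_apply, hA,
        sympForm_mulVec_of_mem n x.2]
      rfl)
    (by rw [Module.End.mul_eq_comp, ← Matrix.toLin'_mul, hAB, Matrix.toLin'_one]; rfl)
    hss W (fun u hu v hv => hti u hu v hv) (fun w hw => hinv (Submodule.mem_map_of_mem hw))
  rw [Matrix.charpoly_toLin'] at h
  exact h

end MatrixG1

section Poly

variable {F : Type*} [Field F] [Fintype F] (p : ℕ) [Fact p.Prime] [CharP F p] {r : ℕ}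
  [Fact r.Prime] (hrp : r ≠ p)

include hrp in
/-- divisibility of block polynomials in terms of multisets -/
theorem blockPoly_dvd_le (a₀ b₀ : ℕ) (𝔪 𝔫 : Multiset F[X])
    (h𝔪 : ∀ P ∈ 𝔪, P ∈ cycFactors r F) (h𝔫 : ∀ P ∈ 𝔫, P ∈ cycFactors r F)
    (h : blockPoly b₀ 𝔫 ∣ blockPoly a₀ 𝔪) : b₀ ≤ a₀ ∧ 𝔫 ≤ 𝔪 := by
  classical
  rw [blockPoly_eq_prod, blockPoly_eq_prod] at h
  have aux : ∀ (b : ℕ) (n : Multiset F[X]), (∀ P ∈ n, P ∈ cycFactors r F) →
      ∀ P ∈ Multiset.replicate b (X - C 1) + n, Irreducible P ∧ P.Monic := by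
    intro b n hn P hP
    rcases Multiset.mem_add.mp hP with h1 | h1
    · rw [Multiset.eq_of_mem_replicate h1]
      exact ⟨irreducible_X_sub_C 1, monic_X_sub_C 1⟩
    · exact ⟨(hn P h1).1, (hn P h1).2.1⟩
  have hne : ∀ (b : ℕ) (n : Multiset F[X]), (∀ P ∈ n, P ∈ cycFactors r F) →
      (Multiset.replicate b (X - C 1) + n).prod ≠ 0 := by
    intro b n hn
    apply Multiset.prod_ne_zero
    intro h0
    exact (aux b n hn 0 h0).1.ne_zero rfl
  have h1 := (UniqueFactorizationMonoid.dvd_iff_normalizedFactors_le_normalizedFactors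
    (hne b₀ 𝔫 h𝔫) (hne a₀ 𝔪 h𝔪)).mp h
  rw [normalizedFactors_prod_monic _ (aux b₀ 𝔫 h𝔫),
    normalizedFactors_prod_monic _ (aux a₀ 𝔪 h𝔪)] at h1
  have hX𝔪 : (X - C 1 : F[X]) ∉ 𝔪 :=
    fun hmem => X_sub_one_notMem_cycFactors p hrp (h𝔪 _ hmem)
  have hX𝔫 : (X - C 1 : F[X]) ∉ 𝔫 :=
    fun hmem => X_sub_one_notMem_cycFactors p hrp (h𝔫 _ hmem)
  constructor
  · have := Multiset.count_le_of_le (X - C 1 : F[X]) h1
    rw [Multiset.count_add, Multiset.count_add, Multiset.count_replicate_self,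
      Multiset.count_replicate_self, Multiset.count_eq_zero_of_notMem hX𝔫,
      Multiset.count_eq_zero_of_notMem hX𝔪] at this
    omega
  · rw [Multiset.le_iff_count]
    intro Q
    by_cases hQ : Q = X - C 1
    · rw [hQ, Multiset.count_eq_zero_of_notMem hX𝔫]
      exact Nat.zero_le _
    · have := Multiset.count_le_of_le Q h1
      simp only [Multiset.count_add, Multiset.count_replicate, if_neg (Ne.symm hQ),
        zero_add] at this
      exact this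

include hrp in
/-- multiset form of `g * g^* ∣ χ` -/
theorem ti_blockPoly (a₀ : ℕ) (𝔪 : Multiset F[X]) (h𝔪 : ∀ P ∈ 𝔪, P ∈ cycFactors r F)
    (g : F[X]) (hg : g.Monic) (hdvd : g * mrec g ∣ blockPoly a₀ 𝔪) :
    ∃ (w₀ : ℕ) (𝔫 : Multiset F[X]), (∀ P ∈ 𝔫, P ∈ cycFactors r F) ∧
      g.natDegree = w₀ + orderOf ((Fintype.card F : ℕ) : ZMod r) * Multiset.card 𝔫 ∧
      2 * w₀ ≤ a₀ ∧ 𝔫 + 𝔫.map (tdual (RingHom.id F)) ≤ 𝔪 := by
  obtain ⟨k, hk⟩ := blockPoly_dvd a₀ 𝔪 h𝔪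
  have hgk : g ∣ (X ^ r - 1 : F[X]) ^ k := (Dvd.intro _ rfl).trans (hdvd.trans hk)
  obtain ⟨w₀, 𝔫, h𝔫, rfl⟩ := exists_blockPoly hg hgk
  have hσ := id_frob p (F := F)
  have hmτ : ∀ P ∈ 𝔫.map (tdual (RingHom.id F)), P ∈ cycFactors r F := by
    intro P hP
    obtain ⟨Q, hQ, rfl⟩ := Multiset.mem_map.mp hP
    exact tdual_mem_cycFactors p hrp (RingHom.id F) 0 hσ (h𝔫 Q hQ)
  have e1 : mrec (blockPoly w₀ 𝔫) = blockPoly w₀ (𝔫.map (tdual (RingHom.id F))) := by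
    rw [← tdual_blockPoly]
    unfold tdual
    rw [Polynomial.map_id]
  have e2 : blockPoly w₀ 𝔫 * blockPoly w₀ (𝔫.map (tdual (RingHom.id F)))
      = blockPoly (2 * w₀) (𝔫 + 𝔫.map (tdual (RingHom.id F))) := by
    unfold blockPoly
    rw [Multiset.prod_add, two_mul, pow_add]
    ring
  rw [e1, e2] at hdvd
  have hmem : ∀ P ∈ 𝔫 + 𝔫.map (tdual (RingHom.id F)), P ∈ cycFactors r F := by
    intro P hP
    rcases Multiset.mem_add.mp hP with h1 | h1
    · exact h𝔫 P h1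
    · exact hmτ P h1
  obtain ⟨h3, h4⟩ := blockPoly_dvd_le p hrp a₀ (2 * w₀) 𝔪 _ h𝔪 hmem hdvd
  exact ⟨w₀, 𝔫, h𝔫, blockPoly_natDegree p hrp w₀ 𝔫 h𝔫, h3, h4⟩

include hrp in
/-- an invariant totally isotropic subspace, in terms of the factorisation of the
characteristic polynomial -/
theorem sp_ti_blockPoly (n : ℕ) (x : ↥(Matrix.symplecticGroup (Fin n) F)) (hx : x ^ r = 1)
    (a₀ : ℕ) (𝔪 : Multiset F[X]) (h𝔪 : ∀ P ∈ 𝔪, P ∈ cycFactors r F)
    (hchar : (x : Matrix (Fin n ⊕ Fin n) (Fin n ⊕ Fin n) F).charpoly = blockPoly a₀ 𝔪)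
    (W : Submodule F (Fin n ⊕ Fin n → F))
    (hti : ∀ u ∈ W, ∀ v ∈ W, sympForm n F u v = 0)
    (hinv : W.map (Matrix.toLin' (x : Matrix (Fin n ⊕ Fin n) (Fin n ⊕ Fin n) F)) ≤ W) :
    ∃ (w₀ : ℕ) (𝔫 : Multiset F[X]), (∀ P ∈ 𝔫, P ∈ cycFactors r F) ∧
      finrank F W = w₀ + orderOf ((Fintype.card F : ℕ) : ZMod r) * Multiset.card 𝔫 ∧
      2 * w₀ ≤ a₀ ∧ 𝔫 + 𝔫.map (tdual (RingHom.id F)) ≤ 𝔪 := by
  obtain ⟨g, hgm, hgd, hgdvd⟩ := sp_charpoly_ti_dvd n x r hx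
    (natCast_ne_zero_of_charP p hrp F) W hti hinv
  rw [hchar] at hgdvd
  obtain ⟨w₀, 𝔫, h𝔫, h1, h2, h3⟩ := ti_blockPoly p hrp a₀ 𝔪 h𝔪 g hgm hgdvd
  exact ⟨w₀, 𝔫, h𝔫, by rw [← hgd, h1], h2, h3⟩

include hrp in
/-- the shape of the characteristic polynomial of `x ∈ Sp` with `x^r = 1` -/
theorem sp_charpoly_blockPoly (n : ℕ) (x : ↥(Matrix.symplecticGroup (Fin n) F))
    (hx : x ^ r = 1) :
    ∃ (a₀ : ℕ) (𝔪 : Multiset F[X]), (∀ P ∈ 𝔪, P ∈ cycFactors r F) ∧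
      (x : Matrix (Fin n ⊕ Fin n) (Fin n ⊕ Fin n) F).charpoly = blockPoly a₀ 𝔪 ∧
      𝔪.map (tdual (RingHom.id F)) = 𝔪 ∧
      a₀ + orderOf ((Fintype.card F : ℕ) : ZMod r) * Multiset.card 𝔪 = 2 * n := by
  classical
  have hσ := id_frob p (F := F)
  have hxm : (x : Matrix (Fin n ⊕ Fin n) (Fin n ⊕ Fin n) F) ^ r = 1 := by
    have := congrArg (fun y : ↥(Matrix.symplecticGroup (Fin n) F) =>
      (y : Matrix (Fin n ⊕ Fin n) (Fin n ⊕ Fin n) F)) hx
    simpa using this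
  have hdvd := charpoly_dvd_pow_of_pow_eq_one _ r hxm
  obtain ⟨a₀, 𝔪, h𝔪, hchar⟩ := exists_blockPoly (Matrix.charpoly_monic _) hdvd
  have hmτ : ∀ P ∈ 𝔪.map (tdual (RingHom.id F)), P ∈ cycFactors r F := by
    intro P hP
    obtain ⟨Q, hQ, rfl⟩ := Multiset.mem_map.mp hP
    exact tdual_mem_cycFactors p hrp (RingHom.id F) 0 hσ (h𝔪 Q hQ)
  have hτ : tdual (RingHom.id F) (x : Matrix (Fin n ⊕ Fin n) (Fin n ⊕ Fin n) F).charpoly
      = (x : Matrix (Fin n ⊕ Fin n) (Fin n ⊕ Fin n) F).charpoly := by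
    have hrev := sp_charpoly_reverse n x
    have h0 : (x : Matrix (Fin n ⊕ Fin n) (Fin n ⊕ Fin n) F).charpoly.coeff 0 = 1 := by
      have e1 := coeff_zero_reverse (x : Matrix (Fin n ⊕ Fin n) (Fin n ⊕ Fin n) F).charpoly
      rw [hrev, (Matrix.charpoly_monic _).leadingCoeff] at e1
      exact e1
    unfold tdual mrec
    rw [hrev, h0, inv_one, C_1, mul_one, Polynomial.map_id]
  rw [hchar, tdual_blockPoly] at hτ
  have hinv : 𝔪.map (tdual (RingHom.id F)) = 𝔪 :=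
    add_left_cancel (blockPoly_injective _ _ _ _ hmτ h𝔪 hτ)
  refine ⟨a₀, 𝔪, h𝔪, hchar, hinv, ?_⟩
  rw [← blockPoly_natDegree p hrp a₀ 𝔪 h𝔪, ← hchar, Matrix.charpoly_natDegree_eq_dim,
    Fintype.card_sum, Fintype.card_fin]
  ring

include hrp in
/-- existence of a symplectic element with a prescribed characteristic polynomial -/
theorem exists_sp_blockPoly (hr2 : r ≠ 2) (n a₀ : ℕ) (𝔪 : Multiset F[X])
    (h𝔪 : ∀ P ∈ 𝔪, P ∈ cycFactors r F) (hτ : 𝔪.map (tdual (RingHom.id F)) = 𝔪)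
    (hdeg : a₀ + orderOf ((Fintype.card F : ℕ) : ZMod r) * Multiset.card 𝔪 = 2 * n) :
    ∃ x : ↥(Matrix.symplecticGroup (Fin n) F), x ^ r = 1 ∧
      (x : Matrix (Fin n ⊕ Fin n) (Fin n ⊕ Fin n) F).charpoly = blockPoly a₀ 𝔪 := by
  have hmem : blockPoly a₀ 𝔪 ∈ sdPolys r (RingHom.id F) (2 * n) := by
    refine ⟨blockPoly_monic a₀ 𝔪 h𝔪, ?_, ?_, blockPoly_dvd a₀ 𝔪 h𝔪⟩
    · rw [blockPoly_natDegree p hrp a₀ 𝔪 h𝔪, hdeg]
    · rw [tdual_blockPoly, hτ]
  obtain ⟨V, _, _, _, ω, a, b, halt, hnd, hiso, hab, har, hchar⟩ :=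
    spRealizable_of_sdPolys p hrp hr2 n hmem
  have hfin : Module.finrank F V = 2 * n := by
    rw [← LinearMap.charpoly_natDegree a, hchar, hmem.2.1]
  obtain ⟨g, hg1, hg2⟩ := exists_sp_matrix_charpoly n ω a b halt hnd hiso hab hfin
  exact ⟨g, hg1 r har, by rw [hg2, hchar]⟩

end Poly

section Scalar

variable {F : Type*} [Field F] {ι : Type*} [Fintype ι] [DecidableEq ι]

/-- irreducible factors of the characteristic polynomial of a scalar matrix -/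
theorem eq_of_dvd_charpoly_scalar (z : F) (P : F[X]) (hP : Irreducible P) (hmon : P.Monic)
    (hdvd : P ∣ (z • (1 : Matrix ι ι F)).charpoly) : P = X - C z := by
  have h1 : (z • (1 : Matrix ι ι F)) = Matrix.diagonal (fun _ => z) := by
    rw [← Matrix.diagonal_one, ← Matrix.diagonal_smul]
    congr 1
    funext i
    simp
  rw [h1, Matrix.charpoly_diagonal, Finset.prod_const] at hdvd
  have h2 : P ∣ X - C z := hP.prime.dvd_of_dvd_pow hdvd
  exact eq_of_monic_of_associated hmon (monic_X_sub_C z)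
    (hP.associated_of_dvd (irreducible_X_sub_C z) h2)

end Scalar

section Multisets

variable {α : Type*} [DecidableEq α]

/-- every multiset is twice a multiset plus a multiset without repetitions -/
theorem exists_halving (𝔪 : Multiset α) :
    ∃ 𝔫 𝔯 : Multiset α, 𝔪 = 𝔫 + 𝔫 + 𝔯 ∧ 𝔯.Nodup := by
  induction 𝔪 using Multiset.induction_on with
  | empty => exact ⟨0, 0, by simp, Multiset.nodup_zero⟩
  | cons x 𝔪 ih =>
    obtain ⟨𝔫, 𝔯, h1, h2⟩ := ih
    by_cases hx : x ∈ 𝔯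
    · refine ⟨x ::ₘ 𝔫, 𝔯.erase x, ?_, h2.erase x⟩
      have e1 : 𝔯 = x ::ₘ 𝔯.erase x := (Multiset.cons_erase hx).symm
      rw [h1]
      conv_lhs => rw [e1]
      simp only [Multiset.cons_add, Multiset.add_cons]
    · refine ⟨𝔫, x ::ₘ 𝔯, ?_, Multiset.nodup_cons.mpr ⟨hx, h2⟩⟩
      rw [h1, Multiset.add_cons]

/-- a multiset stable under a fixed-point-free involution pairs off -/
theorem exists_pairing (N : Set α) (τ : α → α)
    (hτ2 : ∀ P ∈ N, τ (τ P) = P) (hfree : ∀ P ∈ N, τ P ≠ P) :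
    ∀ (k : ℕ) (m : Multiset α), Multiset.card m = k → (∀ P ∈ m, P ∈ N) → m.map τ = m →
      ∃ 𝔫 : Multiset α, m = 𝔫 + 𝔫.map τ := by
  intro k
  induction k using Nat.strong_induction_on with
  | _ k ih =>
    intro m hk hm hτ
    by_cases h0 : m = 0
    · subst h0
      exact ⟨0, by simp⟩
    · obtain ⟨P, hP⟩ := Multiset.exists_mem_of_ne_zero h0
      have hτP : τ P ∈ m := by
        rw [← hτ]
        exact Multiset.mem_map_of_mem τ hP
      have e1 : P ::ₘ m.erase P = m := Multiset.cons_erase hP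
      have hτP' : τ P ∈ m.erase P := (Multiset.mem_erase_of_ne (hfree P (hm P hP))).mpr hτP
      have e2 : τ P ::ₘ (m.erase P).erase (τ P) = m.erase P := Multiset.cons_erase hτP'
      obtain ⟨m₂, hm₂⟩ : ∃ m₂, m₂ = (m.erase P).erase (τ P) := ⟨_, rfl⟩
      rw [← hm₂] at e2
      have hm_eq : m = P ::ₘ τ P ::ₘ m₂ := by rw [e2, e1]
      have hm₂N : ∀ Q ∈ m₂, Q ∈ N := by
        intro Q hQ
        rw [hm₂] at hQ
        exact hm Q (Multiset.mem_of_mem_erase (Multiset.mem_of_mem_erase hQ))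
      have hτm₂ : m₂.map τ = m₂ := by
        have e3 : (P ::ₘ τ P ::ₘ m₂).map τ = P ::ₘ τ P ::ₘ m₂ := by rw [← hm_eq]; exact hτ
        rw [Multiset.map_cons, Multiset.map_cons, hτ2 P (hm P hP), Multiset.cons_swap] at e3
        exact (Multiset.cons_inj_right _).mp ((Multiset.cons_inj_right _).mp e3)
      have hcard : Multiset.card m = Multiset.card m₂ + 2 := by
        rw [hm_eq, Multiset.card_cons, Multiset.card_cons]
      obtain ⟨𝔫, h𝔫⟩ := ih (Multiset.card m₂) (by omega) m₂ rfl hm₂N hτm₂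
      refine ⟨P ::ₘ 𝔫, ?_⟩
      rw [hm_eq, h𝔫, Multiset.map_cons]
      simp only [Multiset.cons_add, Multiset.add_cons]
      exact Multiset.cons_swap _ _ _

end Multisets

end Cfsg.Agent.Lib.helper63.SpTI
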