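import Mathlib
import Cfsg.Agent.Lib.helper45.SpPrimeOrder
import Cfsg.Agent.Lib.helper63.SpTI2
import Cfsg.Agent.Lib.helper63.SpTI3
import Cfsg.Agent.Lib.helper63.SpTI5

/-! Elements of odd prime order `r ≠ p` of `Sp_{2d}(q)`: existence of invariant totally
isotropic `m`-spaces under the arithmetic conditions. -/

set_option autoImplicit false

namespace Cfsg.Agent.Lib.helper63.SpTI

open Module Cfsg Polynomial Cfsg.Agent.Lib.helper17 Cfsg.Agent.Lib.helper45

universe u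

section Pieces

variable {F : Type u} [Field F]

/-- the identity on a hyperbolic plane, with an invariant isotropic line -/
theorem tiReal_X_sub_one_sq (r : ℕ) : TIReal r ((X - C 1 : F[X]) ^ 2) 1 := by
  refine ⟨F × F, inferInstance, inferInstance, inferInstance,
    pieceForm F (LinearMap.id : F →ₗ[F] F), 1, 1, fun v => pieceForm_alt F _ v, ?_,
    fun v w => rfl, mul_one 1, one_pow r, ?_, (⊤ : Submodule F F).prod ⊥, ?_, ?_, ?_⟩
  · intro v hv
    exact pieceForm_nondeg F (LinearMap.id : F →ₗ[F] F) 1 (by simp) v hv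
  · rw [LinearMap.charpoly_one, Module.finrank_prod, Module.finrank_self, C_1]
  · rw [finrank_prod_sub, finrank_top, finrank_bot, Module.finrank_self]
  · intro u hu v hv
    have hu2 : u.2 = 0 := (Submodule.mem_bot F).mp hu.2
    have hv2 : v.2 = 0 := (Submodule.mem_bot F).mp hv.2
    rw [pieceForm_apply, hu2, hv2, mul_zero, zero_mul, sub_zero, map_zero]
  · intro w hw
    exact hw

theorem exists_sub_card {α : Type*} (s : Multiset α) (n : ℕ) (hn : n ≤ Multiset.card s) :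
    ∃ t u : Multiset α, s = t + u ∧ Multiset.card t = n := by
  induction s using Multiset.induction_on generalizing n with
  | empty =>
    refine ⟨0, 0, by simp, ?_⟩
    rw [Multiset.card_zero] at hn ⊢
    omega
  | cons x s ih =>
    rcases Nat.eq_zero_or_pos n with h0 | hpos
    · exact ⟨0, x ::ₘ s, by simp, by rw [h0]; rfl⟩
    · rw [Multiset.card_cons] at hn
      obtain ⟨t, u, h1, h2⟩ := ih (n - 1) (by omega)
      refine ⟨x ::ₘ t, u, ?_, ?_⟩
      · rw [h1, Multiset.cons_add]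
      · rw [Multiset.card_cons, h2]; omega

variable [Fintype F] (p : ℕ) [Fact p.Prime] [CharP F p] {r : ℕ} [Fact r.Prime] (hrp : r ≠ p)

include hrp in
/-- the hyperbolic piece attached to an irreducible factor of the cyclotomic polynomial -/
theorem tiReal_cyc {P : F[X]} (hPc : P ∈ cycFactors r F) :
    TIReal r (P * tdual (RingHom.id F) P) (orderOf ((Fintype.card F : ℕ) : ZMod r)) := by
  have hσ := id_frob p (F := F)
  have hrprime : r.Prime := Fact.out
  have hζ : (AdjoinRoot.root P) ^ r = 1 := (cycFactors_root_primitive p hrp hPc).pow_eq_one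
  have hinvroot : AdjoinRoot.root P * (AdjoinRoot.root P) ^ ((r - 1) * p ^ 0) = 1 := by
    rw [pow_zero, mul_one, ← pow_succ', Nat.sub_add_cancel hrprime.one_le, hζ]
  obtain ⟨e1, e2⟩ := tdual_eq_minpoly p hrp (RingHom.id F) 0 hσ hPc
  rw [e2, ← cycFactors_natDegree p hrp hPc]
  exact tiReal_pair hPc.1 hPc.2.1 _ hinvroot hζ
    (by rw [cycFactors_natDegree p hrp e1, cycFactors_natDegree p hrp hPc])

include hrp in
/-- the general model -/
theorem tiReal_block (hr2 : r ≠ 2) (w₀ a₁ : ℕ) (𝔫 𝔯 : Multiset F[X])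
    (h𝔫 : ∀ P ∈ 𝔫, P ∈ cycFactors r F) (h𝔯 : ∀ P ∈ 𝔯, P ∈ cycFactors r F)
    (h𝔯τ : 𝔯.map (tdual (RingHom.id F)) = 𝔯)
    (heven : Even (a₁ + orderOf ((Fintype.card F : ℕ) : ZMod r) * Multiset.card 𝔯)) :
    TIReal r (blockPoly (a₁ + 2 * w₀) (𝔫 + 𝔫.map (tdual (RingHom.id F)) + 𝔯))
      (w₀ + orderOf ((Fintype.card F : ℕ) : ZMod r) * Multiset.card 𝔫) := by
  obtain ⟨n', hn'⟩ := heven
  have hmem : blockPoly a₁ 𝔯 ∈ sdPolys r (RingHom.id F) (2 * n') := by
    refine ⟨blockPoly_monic a₁ 𝔯 h𝔯, ?_, ?_, blockPoly_dvd a₁ 𝔯 h𝔯⟩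
    · rw [blockPoly_natDegree p hrp a₁ 𝔯 h𝔯, hn', two_mul]
    · rw [tdual_blockPoly, h𝔯τ]
  have h1 : TIReal r (blockPoly a₁ 𝔯) 0 := TIReal.of_sp (spRealizable_of_sdPolys p hrp hr2 n' hmem)
  have h2 := tiReal_multiset_prod (r := r) (orderOf ((Fintype.card F : ℕ) : ZMod r))
    (tdual (RingHom.id F)) 𝔫 (fun P hP => tiReal_cyc p hrp (h𝔫 P hP))
  have h3 := ((tiReal_X_sub_one_sq (F := F) r).pow w₀).mul (h2.mul h1)
  have e1 : blockPoly (a₁ + 2 * w₀) (𝔫 + 𝔫.map (tdual (RingHom.id F)) + 𝔯)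
      = ((X - C 1 : F[X]) ^ 2) ^ w₀ *
        (𝔫.prod * (𝔫.map (tdual (RingHom.id F))).prod * blockPoly a₁ 𝔯) := by
    unfold blockPoly
    rw [Multiset.prod_add, Multiset.prod_add, pow_add, ← pow_mul]
    ring
  have e2 : w₀ + orderOf ((Fintype.card F : ℕ) : ZMod r) * Multiset.card 𝔫
      = w₀ * 1 + (orderOf ((Fintype.card F : ℕ) : ZMod r) * Multiset.card 𝔫 + 0) := by ring
  rw [e1, e2]
  exact h3

end Pieces

section Good

variable {F : Type u} [Field F] [Fintype F] (p : ℕ) [Fact p.Prime] [CharP F p] {r : ℕ}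
  [Fact r.Prime] (hrp : r ≠ p)

include hrp in
theorem orderOf_card_pos : 0 < orderOf ((Fintype.card F : ℕ) : ZMod r) :=
  (card_field_isOfFinOrder p hrp).orderOf_pos

include hrp in
/-- for odd order, the twisted dual has no fixed points on the cyclotomic factors -/
theorem tdual_free (hr2 : r ≠ 2) (hodd : Odd (orderOf ((Fintype.card F : ℕ) : ZMod r)))
    {P : F[X]} (hP : P ∈ cycFactors r F) : tdual (RingHom.id F) P ≠ P := by
  have hσ := id_frob p (F := F)
  have hneg := zmod_neg_one_ne_one (r := r) hr2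
  intro hc
  obtain ⟨k, hk⟩ := (tdual_eq_self_iff p hrp (RingHom.id F) 0 hσ hP).mp hc
  have h1 : (((Fintype.card F : ℕ) : ZMod r)) ^ k = -1 := by
    rw [← hk]; simp
  have h2 := even_order_of_pow_eq_neg_one hneg h1
  exact (Nat.not_even_iff_odd.mpr hodd) h2

include hrp in
/-- for even order, the twisted dual fixes the cyclotomic factors -/
theorem tdual_fix (heven : Even (orderOf ((Fintype.card F : ℕ) : ZMod r)))
    {P : F[X]} (hP : P ∈ cycFactors r F) : tdual (RingHom.id F) P = P := by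
  have hσ := id_frob p (F := F)
  apply (tdual_eq_self_iff p hrp (RingHom.id F) 0 hσ hP).mpr
  refine ⟨orderOf ((Fintype.card F : ℕ) : ZMod r) / 2, ?_⟩
  rw [pow_half_order_eq_neg_one (orderOf_card_pos p hrp) heven]
  simp

theorem tdual_tdual_cyc {P : F[X]} (hP : P ∈ cycFactors r F) :
    tdual (RingHom.id F) (tdual (RingHom.id F) P) = P :=
  tdual_tdual _ (fun x => rfl) hP.2.1 (cycFactors_coeff_zero_ne hP)

include hrp in
/-- a multiset of distinct cyclotomic factors has at most `(r-1)/i` elements -/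
theorem card_le_of_nodup (𝔯 : Multiset F[X]) (h𝔯 : ∀ P ∈ 𝔯, P ∈ cycFactors r F)
    (hnd : 𝔯.Nodup) :
    Multiset.card 𝔯 ≤ (r - 1) / orderOf ((Fintype.card F : ℕ) : ZMod r) := by
  classical
  rw [← card_cycFactors p hrp, Nat.card_coe_set_eq,
    Set.ncard_eq_toFinset_card _ (cycFactors_finite (r := r) (K := F)),
    ← Multiset.toFinset_card_of_nodup hnd]
  apply Finset.card_le_card
  intro P hP
  rw [Set.Finite.mem_toFinset]
  exact h𝔯 P (Multiset.mem_toFinset.mp hP)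

include hrp in
/-- **Sufficiency** for odd `r ≠ p`. -/
theorem ti_of_cond_odd (hr2 : r ≠ 2) (d m : ℕ) (hmd : m ≤ d)
    (hcond : 2 * (m % orderOf ((Fintype.card F : ℕ) : ZMod r)) ≤
        (2 * d) % (if Even (orderOf ((Fintype.card F : ℕ) : ZMod r))
          then orderOf ((Fintype.card F : ℕ) : ZMod r)
          else 2 * orderOf ((Fintype.card F : ℕ) : ZMod r)) ∧
      (Odd (orderOf ((Fintype.card F : ℕ) : ZMod r)) ∨
        (r - 1) / orderOf ((Fintype.card F : ℕ) : ZMod r) +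
          2 * (m / orderOf ((Fintype.card F : ℕ) : ZMod r)) ≤
            (2 * d) / orderOf ((Fintype.card F : ℕ) : ZMod r)))
    (x : ↥(Matrix.symplecticGroup (Fin d) F)) (hx : x ^ r = 1) :
    ∃ W : Submodule F (Fin d ⊕ Fin d → F), finrank F W = m ∧
      (∀ u ∈ W, ∀ v ∈ W, sympForm d F u v = 0) ∧
      W.map (Matrix.toLin' (x : Matrix (Fin d ⊕ Fin d) (Fin d ⊕ Fin d) F)) ≤ W := by
  classical
  have hp : p.Prime := Fact.out
  have hr : r.Prime := Fact.out
  have hipos := orderOf_card_pos (F := F) p hrp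
  obtain ⟨i, hi⟩ : ∃ i, i = orderOf ((Fintype.card F : ℕ) : ZMod r) := ⟨_, rfl⟩
  rw [← hi] at hcond hipos
  obtain ⟨a₀, 𝔪, h𝔪, hchar, hinv, hdeg⟩ := sp_charpoly_blockPoly p hrp d x hx
  rw [← hi] at hdeg
  have hrcop : r.Coprime p := (Nat.coprime_primes hr hp).mpr hrp
  have hxcop : (orderOf x).Coprime p :=
    Nat.Coprime.coprime_dvd_left (orderOf_dvd_of_pow_eq_one hx) hrcop
  -- it suffices to realise the characteristic polynomial
  suffices hsuff : TIReal r (blockPoly a₀ 𝔪) m by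
    obtain ⟨V, _, _, _, ω, a, b, halt, hnd, hiso, hab, har, hachar, W₀, hW₀, hti, hWinv⟩ := hsuff
    exact ti_of_model p d m x hxcop ω a b halt hnd hiso hab r har hrcop
      (by rw [hachar, hchar]) W₀ hW₀ hti hWinv
  have hm1 := Nat.div_add_mod m i
  have hd1 := Nat.div_add_mod (2 * d) i
  by_cases hpar : Even i
  · -- `i` even
    rw [if_pos hpar] at hcond
    obtain ⟨hc2, hc3⟩ := hcond
    have hc3' : (r - 1) / i + 2 * (m / i) ≤ (2 * d) / i := by
      rcases hc3 with h | h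
      · exact absurd hpar (Nat.not_even_iff_odd.mpr h)
      · exact h
    obtain ⟨𝔫, 𝔯, hsplit, hnodup⟩ := exists_halving 𝔪
    have h𝔫 : ∀ P ∈ 𝔫, P ∈ cycFactors r F := by
      intro P hP
      apply h𝔪
      rw [hsplit]
      exact Multiset.mem_add.mpr (Or.inl (Multiset.mem_add.mpr (Or.inl hP)))
    have h𝔯 : ∀ P ∈ 𝔯, P ∈ cycFactors r F := by
      intro P hP
      apply h𝔪
      rw [hsplit]
      exact Multiset.mem_add.mpr (Or.inr hP)
    have hρ := card_le_of_nodup p hrp 𝔯 h𝔯 hnodup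
    rw [← hi] at hρ
    have hfix : ∀ P ∈ cycFactors r F, tdual (RingHom.id F) P = P :=
      fun P hP => tdual_fix p hrp (hi ▸ hpar) hP
    have hmapfix : ∀ 𝔰 : Multiset F[X], (∀ P ∈ 𝔰, P ∈ cycFactors r F) →
        𝔰.map (tdual (RingHom.id F)) = 𝔰 := by
      intro 𝔰 h𝔰
      conv_rhs => rw [← Multiset.map_id 𝔰]
      exact Multiset.map_congr rfl (fun P hP => hfix P (h𝔰 P hP))
    obtain ⟨S, hS⟩ : ∃ S, S = Multiset.card 𝔫 := ⟨_, rfl⟩
    obtain ⟨ρ, hρdef⟩ : ∃ ρ, ρ = Multiset.card 𝔯 := ⟨_, rfl⟩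
    have hcard𝔪 : Multiset.card 𝔪 = 2 * S + ρ := by
      rw [hsplit, Multiset.card_add, Multiset.card_add, ← hS, ← hρdef]; ring
    rw [hcard𝔪] at hdeg
    rw [← hρdef] at hρ
    obtain ⟨B, hB⟩ : ∃ B, B = min S (m / i) := ⟨_, rfl⟩
    have hBS : B ≤ S := by rw [hB]; exact min_le_left _ _
    have hBm : B ≤ m / i := by rw [hB]; exact min_le_right _ _
    obtain ⟨𝔫₁, 𝔫₂, hsplit2, hcard1⟩ := exists_sub_card 𝔫 B (by rw [← hS]; exact hBS)
    have h𝔫₁ : ∀ P ∈ 𝔫₁, P ∈ cycFactors r F := by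
      intro P hP
      apply h𝔫
      rw [hsplit2]
      exact Multiset.mem_add.mpr (Or.inl hP)
    have h𝔫₂ : ∀ P ∈ 𝔫₂, P ∈ cycFactors r F := by
      intro P hP
      apply h𝔫
      rw [hsplit2]
      exact Multiset.mem_add.mpr (Or.inr hP)
    have hcard2 : Multiset.card 𝔫₂ = S - B := by
      have := congrArg Multiset.card hsplit2
      rw [Multiset.card_add, hcard1, ← hS] at this
      omega
    -- products with `i`
    obtain ⟨iB, hiB⟩ : ∃ iB, iB = i * B := ⟨_, rfl⟩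
    have hiBm : iB ≤ i * (m / i) := by rw [hiB]; exact Nat.mul_le_mul_left i hBm
    obtain ⟨w₀, hw₀⟩ : ∃ w₀, w₀ = m - iB := ⟨_, rfl⟩
    have hmw : w₀ + iB = m := by omega
    -- the key inequality `2 w₀ ≤ a₀`
    have hkey : 2 * w₀ ≤ a₀ := by
      have e1 : i * (2 * S + ρ) = 2 * (i * S) + i * ρ := by ring
      rw [e1] at hdeg
      rcases le_or_gt (m / i) S with hcase | hcase
      · have hBeq : B = m / i := by rw [hB]; exact min_eq_right hcase
        have hw₀eq : w₀ = m % i := by rw [hw₀, hiB, hBeq]; omega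
        -- `a₀ ≥ (2d) % i`
        have hmod : (2 * d) % i ≤ a₀ := by
          have e2 : 2 * d = a₀ + i * (2 * S + ρ) := by rw [e1]; omega
          have e3 : (2 * d) % i = a₀ % i := by rw [e2, Nat.add_mul_mod_self_left]
          rw [e3]
          exact Nat.mod_le _ _
        omega
      · have hBeq : B = S := by rw [hB]; exact min_eq_left (le_of_lt hcase)
        have hiρ : i * ρ ≤ i * ((r - 1) / i) := Nat.mul_le_mul_left i hρ
        have hc4 : i * ((r - 1) / i) + 2 * (i * (m / i)) ≤ i * ((2 * d) / i) := by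
          have := Nat.mul_le_mul_left i hc3'
          calc i * ((r - 1) / i) + 2 * (i * (m / i)) = i * ((r - 1) / i + 2 * (m / i)) := by ring
            _ ≤ i * ((2 * d) / i) := this
        have hiBS : iB = i * S := by rw [hiB, hBeq]
        omega
    obtain ⟨a₁, ha₁⟩ : ∃ a₁, a₁ = a₀ - 2 * w₀ := ⟨_, rfl⟩
    have ha₀ : a₀ = a₁ + 2 * w₀ := by omega
    have h𝔯' : ∀ P ∈ 𝔫₂ + 𝔫₂ + 𝔯, P ∈ cycFactors r F := by
      intro P hP
      rcases Multiset.mem_add.mp hP with h1 | h1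
      · rcases Multiset.mem_add.mp h1 with h2 | h2
        · exact h𝔫₂ P h2
        · exact h𝔫₂ P h2
      · exact h𝔯 P h1
    have heven : Even (a₁ + orderOf ((Fintype.card F : ℕ) : ZMod r) *
        Multiset.card (𝔫₂ + 𝔫₂ + 𝔯)) := by
      rw [← hi]
      obtain ⟨e, he⟩ := hpar
      rw [Nat.even_iff]
      have e1 : i * (2 * S + ρ) = 2 * (e * (2 * S + ρ)) := by rw [he]; ring
      have e2 : i * Multiset.card (𝔫₂ + 𝔫₂ + 𝔯) = 2 * (e * Multiset.card (𝔫₂ + 𝔫₂ + 𝔯)) := by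
        rw [he]; ring
      omega
    have hblock := tiReal_block p hrp hr2 w₀ a₁ 𝔫₁ (𝔫₂ + 𝔫₂ + 𝔯) h𝔫₁ h𝔯'
      (hmapfix _ h𝔯') heven
    have e𝔪 : 𝔪 = 𝔫₁ + 𝔫₁.map (tdual (RingHom.id F)) + (𝔫₂ + 𝔫₂ + 𝔯) := by
      rw [hmapfix 𝔫₁ h𝔫₁, hsplit, hsplit2]
      abel
    rw [← e𝔪, ← ha₀, ← hi, hcard1, ← hiB, hmw] at hblock
    exact hblock
  · -- `i` odd
    rw [if_neg hpar] at hcond
    obtain ⟨hc2, -⟩ := hcond
    have hodd : Odd i := Nat.not_even_iff_odd.mp hpar
    have hfree : ∀ P ∈ cycFactors r F, tdual (RingHom.id F) P ≠ P :=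
      fun P hP => tdual_free p hrp hr2 (hi ▸ hodd) hP
    have hτ2 : ∀ P ∈ cycFactors r F, tdual (RingHom.id F) (tdual (RingHom.id F) P) = P :=
      fun P hP => tdual_tdual_cyc hP
    obtain ⟨𝔫, hsplit⟩ := exists_pairing (cycFactors r F) (tdual (RingHom.id F)) hτ2 hfree
      (Multiset.card 𝔪) 𝔪 rfl h𝔪 hinv
    have h𝔫 : ∀ P ∈ 𝔫, P ∈ cycFactors r F := by
      intro P hP
      apply h𝔪
      rw [hsplit]
      exact Multiset.mem_add.mpr (Or.inl hP)
    obtain ⟨S, hS⟩ : ∃ S, S = Multiset.card 𝔫 := ⟨_, rfl⟩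
    have hcard𝔪 : Multiset.card 𝔪 = 2 * S := by
      rw [hsplit, Multiset.card_add, Multiset.card_map, ← hS]; ring
    rw [hcard𝔪] at hdeg
    obtain ⟨B, hB⟩ : ∃ B, B = min S (m / i) := ⟨_, rfl⟩
    have hBS : B ≤ S := by rw [hB]; exact min_le_left _ _
    have hBm : B ≤ m / i := by rw [hB]; exact min_le_right _ _
    obtain ⟨𝔫₁, 𝔫₂, hsplit2, hcard1⟩ := exists_sub_card 𝔫 B (by rw [← hS]; exact hBS)
    have h𝔫₁ : ∀ P ∈ 𝔫₁, P ∈ cycFactors r F := by
      intro P hP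
      apply h𝔫
      rw [hsplit2]
      exact Multiset.mem_add.mpr (Or.inl hP)
    have h𝔫₂ : ∀ P ∈ 𝔫₂, P ∈ cycFactors r F := by
      intro P hP
      apply h𝔫
      rw [hsplit2]
      exact Multiset.mem_add.mpr (Or.inr hP)
    obtain ⟨iB, hiB⟩ : ∃ iB, iB = i * B := ⟨_, rfl⟩
    have hiBm : iB ≤ i * (m / i) := by rw [hiB]; exact Nat.mul_le_mul_left i hBm
    obtain ⟨w₀, hw₀⟩ : ∃ w₀, w₀ = m - iB := ⟨_, rfl⟩
    have hmw : w₀ + iB = m := by omega
    have hmm : (2 * d) % (2 * i) = 2 * (d % i) := Nat.mul_mod_mul_left 2 d i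
    rw [hmm] at hc2
    have hkey : 2 * w₀ ≤ a₀ := by
      have e1 : i * (2 * S) = 2 * (i * S) := by ring
      rw [e1] at hdeg
      have hdd : a₀ = 2 * (d - i * S) := by omega
      have hiSd : i * S ≤ d := by omega
      rcases le_or_gt (m / i) S with hcase | hcase
      · have hBeq : B = m / i := by rw [hB]; exact min_eq_right hcase
        have hw₀eq : w₀ = m % i := by rw [hw₀, hiB, hBeq]; omega
        have hmod : d % i ≤ d - i * S := by
          have e2 : d = (d - i * S) + i * S := by omega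
          have e3 : d % i = (d - i * S) % i := by
            conv_lhs => rw [e2, Nat.add_mul_mod_self_left]
          rw [e3]
          exact Nat.mod_le _ _
        omega
      · have hBeq : B = S := by rw [hB]; exact min_eq_left (le_of_lt hcase)
        have hiBS : iB = i * S := by rw [hiB, hBeq]
        omega
    obtain ⟨a₁, ha₁⟩ : ∃ a₁, a₁ = a₀ - 2 * w₀ := ⟨_, rfl⟩
    have ha₀ : a₀ = a₁ + 2 * w₀ := by omega
    have h𝔯' : ∀ P ∈ 𝔫₂ + 𝔫₂.map (tdual (RingHom.id F)), P ∈ cycFactors r F := by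
      intro P hP
      rcases Multiset.mem_add.mp hP with h1 | h1
      · exact h𝔫₂ P h1
      · obtain ⟨Q, hQ, rfl⟩ := Multiset.mem_map.mp h1
        exact tdual_mem_cycFactors p hrp (RingHom.id F) 0 (id_frob p (F := F)) (h𝔫₂ Q hQ)
    have h𝔯'τ : (𝔫₂ + 𝔫₂.map (tdual (RingHom.id F))).map (tdual (RingHom.id F))
        = 𝔫₂ + 𝔫₂.map (tdual (RingHom.id F)) := by
      rw [Multiset.map_add, Multiset.map_map]
      have e1 : Multiset.map (tdual (RingHom.id F) ∘ tdual (RingHom.id F)) 𝔫₂ = 𝔫₂ := by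
        conv_rhs => rw [← Multiset.map_id 𝔫₂]
        exact Multiset.map_congr rfl (fun P hP => hτ2 P (h𝔫₂ P hP))
      rw [e1, add_comm]
    have heven : Even (a₁ + orderOf ((Fintype.card F : ℕ) : ZMod r) *
        Multiset.card (𝔫₂ + 𝔫₂.map (tdual (RingHom.id F)))) := by
      rw [← hi, Multiset.card_add, Multiset.card_map, Nat.even_iff]
      have e1 : i * (2 * S) = 2 * (i * S) := by ring
      have e2 : i * (Multiset.card 𝔫₂ + Multiset.card 𝔫₂) = 2 * (i * Multiset.card 𝔫₂) := by ring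
      omega
    have hblock := tiReal_block p hrp hr2 w₀ a₁ 𝔫₁ (𝔫₂ + 𝔫₂.map (tdual (RingHom.id F)))
      h𝔫₁ h𝔯' h𝔯'τ heven
    have e𝔪 : 𝔪 = 𝔫₁ + 𝔫₁.map (tdual (RingHom.id F))
        + (𝔫₂ + 𝔫₂.map (tdual (RingHom.id F))) := by
      rw [hsplit, hsplit2, Multiset.map_add]
      abel
    rw [← e𝔪, ← ha₀, ← hi, hcard1, ← hiB, hmw] at hblock
    exact hblock

end Good

end Cfsg.Agent.Lib.helper63.SpTI
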