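import Mathlib
import Cfsg.Agent.Lib.helper45.SpPrimeOrder
import Cfsg.Agent.Lib.helper63.SpTI6

/-! Elements of odd prime order `r ≠ p` of `Sp_{2d}(q)`: necessity of the arithmetic
conditions (construction of elements without invariant totally isotropic `m`-spaces). -/

set_option autoImplicit false

namespace Cfsg.Agent.Lib.helper63.SpTI

open Module Cfsg Polynomial Cfsg.Agent.Lib.helper17 Cfsg.Agent.Lib.helper45

universe u

section Bad

variable {F : Type u} [Field F] [Fintype F] (p : ℕ) [Fact p.Prime] [CharP F p] {r : ℕ}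
  [Fact r.Prime] (hrp : r ≠ p)

include hrp in
/-- a non-scalar element with prescribed characteristic polynomial, and the constraints coming
from an invariant totally isotropic `m`-space -/
theorem bad_template (hr2 : r ≠ 2) (d m a₀ : ℕ) (𝔪 : Multiset F[X])
    (h𝔪 : ∀ P ∈ 𝔪, P ∈ cycFactors r F) (hτ : 𝔪.map (tdual (RingHom.id F)) = 𝔪)
    (hdeg : a₀ + orderOf ((Fintype.card F : ℕ) : ZMod r) * Multiset.card 𝔪 = 2 * d)
    (hns : ∀ z : F, ∃ Q ∈ 𝔪, Q ≠ X - C z)
    (H : ∀ x : ↥(Matrix.symplecticGroup (Fin d) F), x ^ r = 1 →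
      (∀ z : F, (x : Matrix (Fin d ⊕ Fin d) (Fin d ⊕ Fin d) F) ≠ z • 1) →
      ∃ W : Submodule F (Fin d ⊕ Fin d → F), finrank F W = m ∧
        (∀ u ∈ W, ∀ v ∈ W, sympForm d F u v = 0) ∧
        W.map (Matrix.toLin' (x : Matrix (Fin d ⊕ Fin d) (Fin d ⊕ Fin d) F)) ≤ W) :
    ∃ (w₀ : ℕ) (𝔫 : Multiset F[X]), (∀ P ∈ 𝔫, P ∈ cycFactors r F) ∧
      m = w₀ + orderOf ((Fintype.card F : ℕ) : ZMod r) * Multiset.card 𝔫 ∧
      2 * w₀ ≤ a₀ ∧ 𝔫 + 𝔫.map (tdual (RingHom.id F)) ≤ 𝔪 := by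
  classical
  obtain ⟨x, hx, hchar⟩ := exists_sp_blockPoly p hrp hr2 d a₀ 𝔪 h𝔪 hτ hdeg
  have hnsx : ∀ z : F, (x : Matrix (Fin d ⊕ Fin d) (Fin d ⊕ Fin d) F) ≠ z • 1 := by
    intro z hz
    obtain ⟨Q, hQ, hQne⟩ := hns z
    apply hQne
    apply eq_of_dvd_charpoly_scalar (ι := Fin d ⊕ Fin d) z Q (h𝔪 Q hQ).1 (h𝔪 Q hQ).2.1
    rw [← hz, hchar]
    unfold blockPoly
    exact Dvd.dvd.mul_left (Multiset.dvd_prod hQ) _
  obtain ⟨W, hW, hti, hinv⟩ := H x hx hnsx
  obtain ⟨w₀, 𝔫, h𝔫, h1, h2, h3⟩ := sp_ti_blockPoly p hrp d x hx a₀ 𝔪 h𝔪 hchar W hti hinv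
  exact ⟨w₀, 𝔫, h𝔫, by rw [← hW, h1], h2, h3⟩

include hrp in
/-- **Necessity** for odd `r ≠ p`. -/
theorem cond_of_ti_odd (hr2 : r ≠ 2) (d m : ℕ) (hm : 1 ≤ m) (hmd : m ≤ d)
    (hj : ∃ j, j < m ∧ r ∣ Fintype.card F ^ (2 * d - 2 * j) - 1)
    (H : ∀ x : ↥(Matrix.symplecticGroup (Fin d) F), x ^ r = 1 →
      (∀ z : F, (x : Matrix (Fin d ⊕ Fin d) (Fin d ⊕ Fin d) F) ≠ z • 1) →
      ∃ W : Submodule F (Fin d ⊕ Fin d → F), finrank F W = m ∧
        (∀ u ∈ W, ∀ v ∈ W, sympForm d F u v = 0) ∧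
        W.map (Matrix.toLin' (x : Matrix (Fin d ⊕ Fin d) (Fin d ⊕ Fin d) F)) ≤ W) :
    orderOf ((Fintype.card F : ℕ) : ZMod r) ≤ m ∧
    2 * (m % orderOf ((Fintype.card F : ℕ) : ZMod r)) ≤
        (2 * d) % (if Even (orderOf ((Fintype.card F : ℕ) : ZMod r))
          then orderOf ((Fintype.card F : ℕ) : ZMod r)
          else 2 * orderOf ((Fintype.card F : ℕ) : ZMod r)) ∧
      (Odd (orderOf ((Fintype.card F : ℕ) : ZMod r)) ∨
        (r - 1) / orderOf ((Fintype.card F : ℕ) : ZMod r) +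
          2 * (m / orderOf ((Fintype.card F : ℕ) : ZMod r)) ≤
            (2 * d) / orderOf ((Fintype.card F : ℕ) : ZMod r)) := by
  classical
  have hp : p.Prime := Fact.out
  have hr : r.Prime := Fact.out
  have hipos := orderOf_card_pos (F := F) p hrp
  have hσ := id_frob p (F := F)
  obtain ⟨j, hjm, hjd⟩ := hj
  have hq1 : 1 ≤ Fintype.card F ^ (2 * d - 2 * j) := Nat.one_le_pow _ _ Fintype.card_pos
  have hidvd : orderOf ((Fintype.card F : ℕ) : ZMod r) ∣ 2 * d - 2 * j := by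
    have h1 : ((Fintype.card F ^ (2 * d - 2 * j) - 1 : ℕ) : ZMod r) = 0 :=
      (ZMod.natCast_eq_zero_iff _ r).mpr hjd
    rw [Nat.cast_sub hq1, Nat.cast_pow, Nat.cast_one, sub_eq_zero] at h1
    exact orderOf_dvd_of_pow_eq_one h1
  have hqne : ((Fintype.card F : ℕ) : ZMod r) ≠ 0 := by
    intro h0
    have h1 := (ZMod.natCast_eq_zero_iff _ _).mp h0
    exact (Nat.Prime.coprime_iff_not_dvd hr).mp (card_field_coprime p hrp).symm h1
  have hir : orderOf ((Fintype.card F : ℕ) : ZMod r) ∣ r - 1 :=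
    orderOf_dvd_of_pow_eq_one (ZMod.pow_card_sub_one_eq_one hqne)
  have hcardT := card_cycFactors (K := F) p hrp (r := r)
  obtain ⟨i, hi⟩ : ∃ i, i = orderOf ((Fintype.card F : ℕ) : ZMod r) := ⟨_, rfl⟩
  rw [← hi] at hipos hidvd hir hcardT ⊢
  have hr2' : 2 ≤ r := hr.two_le
  have ht1 : 1 ≤ (r - 1) / i := Nat.div_pos (Nat.le_of_dvd (by omega) hir) hipos
  -- the finite set of cyclotomic factors
  obtain ⟨T, hT⟩ : ∃ T : Finset F[X], T = (cycFactors_finite (r := r) (K := F)).toFinset :=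
    ⟨_, rfl⟩
  have hTmem : ∀ P, P ∈ T ↔ P ∈ cycFactors r F := by
    intro P; rw [hT, Set.Finite.mem_toFinset]
  have hTcard : T.card = (r - 1) / i := by
    rw [← hcardT, Nat.card_coe_set_eq,
      Set.ncard_eq_toFinset_card _ (cycFactors_finite (r := r) (K := F)), hT]
  have hm1 := Nat.div_add_mod m i
  have hd1 := Nat.div_add_mod (2 * d) i
  have hjd2 : 2 * j < 2 * d := by omega
  obtain ⟨P₁, hP₁T⟩ : ∃ P₁, P₁ ∈ T := by
    apply Finset.card_pos.mp; rw [hTcard]; exact ht1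
  have hP₁ : P₁ ∈ cycFactors r F := (hTmem P₁).mp hP₁T
  by_cases hpar : Even i
  · -- `i` even
    rw [if_pos hpar]
    have hfix : ∀ P ∈ cycFactors r F, tdual (RingHom.id F) P = P :=
      fun P hP => tdual_fix p hrp (hi ▸ hpar) hP
    have hmapfix : ∀ 𝔰 : Multiset F[X], (∀ P ∈ 𝔰, P ∈ cycFactors r F) →
        𝔰.map (tdual (RingHom.id F)) = 𝔰 := by
      intro 𝔰 h𝔰
      conv_rhs => rw [← Multiset.map_id 𝔰]
      exact Multiset.map_congr rfl (fun P hP => hfix P (h𝔰 P hP))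
    have hi2 : 2 ≤ i := by obtain ⟨e, he⟩ := hpar; omega
    have hdeg1 : ∀ P ∈ cycFactors r F, ∀ z : F, P ≠ X - C z := by
      intro P hP z hPz
      have := cycFactors_natDegree p hrp hP
      rw [← hi, hPz, natDegree_X_sub_C] at this
      omega
    obtain ⟨s₀, hs₀⟩ := hidvd
    have hs₀pos : 1 ≤ s₀ := by
      rcases Nat.eq_zero_or_pos s₀ with h | h
      · rw [h, mul_zero] at hs₀; omega
      · exact h
    have hn'1 : 1 ≤ (2 * d) / i := by
      apply Nat.div_pos _ hipos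
      have : i ≤ i * s₀ := Nat.le_mul_of_pos_right i hs₀pos
      omega
    have hk2j : (2 * d) % i ≤ 2 * j := by
      have h1 : s₀ ≤ (2 * d) / i := by
        rw [Nat.le_div_iff_mul_le hipos, mul_comm]; omega
      have h2 : i * s₀ ≤ i * ((2 * d) / i) := Nat.mul_le_mul_left i h1
      omega
    -- first element
    have hmem1 : ∀ P ∈ Multiset.replicate ((2 * d) / i) P₁, P ∈ cycFactors r F := by
      intro P hP; rw [Multiset.eq_of_mem_replicate hP]; exact hP₁
    obtain ⟨w₀, 𝔫, h𝔫, e1, e2, -⟩ := bad_template p hrp hr2 d m ((2 * d) % i)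
      (Multiset.replicate ((2 * d) / i) P₁) hmem1 (hmapfix _ hmem1)
      (by rw [← hi, Multiset.card_replicate]; omega)
      (fun z => ⟨P₁, Multiset.mem_replicate.mpr ⟨by omega, rfl⟩, hdeg1 P₁ hP₁ z⟩) H
    rw [← hi] at e1
    have hklt : (2 * d) % i < i := Nat.mod_lt _ hipos
    have hw₀lt : w₀ < i := by omega
    have hmod : m % i = w₀ := by
      rw [e1, Nat.add_mul_mod_self_left, Nat.mod_eq_of_lt hw₀lt]
    have him : i ≤ m := by
      by_contra hlt
      push Not at hlt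
      have hc0 : Multiset.card 𝔫 = 0 := by
        by_contra hne
        have : i ≤ i * Multiset.card 𝔫 := Nat.le_mul_of_pos_right i (Nat.pos_of_ne_zero hne)
        omega
      rw [hc0, mul_zero, add_zero] at e1
      omega
    refine ⟨him, by omega, Or.inr ?_⟩
    -- second element
    by_contra hlt
    push Not at hlt
    obtain ⟨t, ht⟩ : ∃ t, t = (r - 1) / i := ⟨_, rfl⟩
    obtain ⟨n', hn'⟩ : ∃ n', n' = (2 * d) / i := ⟨_, rfl⟩
    obtain ⟨m', hm'⟩ : ∃ m', m' = m / i := ⟨_, rfl⟩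
    rw [← ht, ← hn', ← hm'] at hlt
    rw [← ht] at hTcard ht1
    rw [← hn'] at hn'1 hd1
    rw [← hm'] at hm1
    have hm'1 : 1 ≤ m' := by rw [hm']; exact Nat.div_pos him hipos
    obtain ⟨s, hs⟩ : ∃ s, s = min t n' := ⟨_, rfl⟩
    have hs1 : 1 ≤ s := by rw [hs]; exact le_min ht1 hn'1
    have hst : s ≤ t := by rw [hs]; exact min_le_left _ _
    have hsn : s ≤ n' := by rw [hs]; exact min_le_right _ _
    obtain ⟨T', hT'sub, hT'card⟩ := Finset.exists_subset_card_eq (s := T) (n := s)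
      (by rw [hTcard]; exact hst)
    obtain ⟨Q₁, hQ₁T'⟩ : ∃ Q₁, Q₁ ∈ T' := by
      apply Finset.card_pos.mp; rw [hT'card]; exact hs1
    have hQ₁ : Q₁ ∈ cycFactors r F := (hTmem Q₁).mp (hT'sub hQ₁T')
    obtain ⟨𝔡, h𝔡⟩ : ∃ 𝔡 : Multiset F[X], 𝔡 = (T'.erase Q₁).val := ⟨_, rfl⟩
    have h𝔡nd : 𝔡.Nodup := by rw [h𝔡]; exact (T'.erase Q₁).nodup
    have h𝔡Q : Q₁ ∉ 𝔡 := by
      rw [h𝔡]
      intro h
      exact (Finset.notMem_erase Q₁ T') (Finset.mem_val.mp h)
    have h𝔡mem : ∀ P ∈ 𝔡, P ∈ cycFactors r F := by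
      intro P hP
      rw [h𝔡] at hP
      exact (hTmem P).mp (hT'sub (Finset.mem_of_mem_erase (Finset.mem_val.mp hP)))
    have h𝔡card : Multiset.card 𝔡 = s - 1 := by
      rw [h𝔡, Finset.card_val, Finset.card_erase_of_mem hQ₁T', hT'card]
    obtain ⟨ε, a₁, hε, hodd1, hsum, hP4⟩ : ∃ ε a₁ : ℕ, ε ≤ 1 ∧ Odd a₁ ∧
        ε + a₁ + (s - 1) = n' ∧ ((n' < t ∧ a₁ = 1) ∨ (t ≤ n' ∧ a₁ ≤ n' - t + 1)) := by
      rcases lt_or_ge n' t with hcase | hcase
      · have hsn' : s = n' := by rw [hs]; exact min_eq_right (le_of_lt hcase)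
        exact ⟨0, 1, by omega, odd_one, by omega, Or.inl ⟨hcase, rfl⟩⟩
      · have hst' : s = t := by rw [hs]; exact min_eq_left hcase
        rcases Nat.even_or_odd (n' - t) with hev | hod
        · exact ⟨0, n' - t + 1, by omega, hev.add_one, by omega, Or.inr ⟨hcase, le_rfl⟩⟩
        · refine ⟨1, n' - t, le_rfl, hod, ?_, Or.inr ⟨hcase, by omega⟩⟩
          have : 1 ≤ n' - t := hod.pos
          omega
    have ha₁pos : 1 ≤ a₁ := hodd1.pos
    have hmem2 : ∀ P ∈ Multiset.replicate a₁ Q₁ + 𝔡, P ∈ cycFactors r F := by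
      intro P hP
      rcases Multiset.mem_add.mp hP with h1 | h1
      · rw [Multiset.eq_of_mem_replicate h1]; exact hQ₁
      · exact h𝔡mem P h1
    obtain ⟨w₁, 𝔫', h𝔫', f1, f2, f3⟩ := bad_template p hrp hr2 d m ((2 * d) % i + ε * i)
      (Multiset.replicate a₁ Q₁ + 𝔡) hmem2 (hmapfix _ hmem2)
      (by
        rw [← hi, Multiset.card_add, Multiset.card_replicate, h𝔡card]
        have e3 : i * (a₁ + (s - 1)) + ε * i = i * n' := by rw [← hsum]; ring
        omega)
      (fun z => ⟨Q₁, Multiset.mem_add.mpr (Or.inl (Multiset.mem_replicate.mpr ⟨by omega, rfl⟩)),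
        hdeg1 Q₁ hQ₁ z⟩) H
    rw [← hi] at f1
    rw [hmapfix 𝔫' h𝔫'] at f3
    have hεi : ε * i ≤ i := by
      calc ε * i ≤ 1 * i := Nat.mul_le_mul_right i hε
        _ = i := one_mul i
    have hw₁lt : w₁ < i := by omega
    have hcard' : Multiset.card 𝔫' = m' := by
      rw [hm', f1, Nat.add_mul_div_left _ _ hipos, Nat.div_eq_of_lt hw₁lt, zero_add]
    have hall : ∀ Q ∈ 𝔫', Q = Q₁ := by
      intro Q hQ
      by_contra hne
      have h1 := Multiset.count_le_of_le Q f3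
      rw [Multiset.count_add, Multiset.count_add, Multiset.count_replicate,
        if_neg (Ne.symm hne), zero_add] at h1
      have h2 := Multiset.nodup_iff_count_le_one.mp h𝔡nd Q
      have h3 : 1 ≤ Multiset.count Q 𝔫' := Multiset.one_le_count_iff_mem.mpr hQ
      omega
    have hrep : 𝔫' = Multiset.replicate (Multiset.card 𝔫') Q₁ :=
      Multiset.eq_replicate_card.mpr hall
    have h4 := Multiset.count_le_of_le Q₁ f3
    rw [Multiset.count_add, Multiset.count_add, Multiset.count_replicate_self,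
      Multiset.count_eq_zero_of_notMem h𝔡Q, add_zero] at h4
    have h5 : Multiset.count Q₁ 𝔫' = m' := by
      rw [hrep, Multiset.count_replicate_self, hcard']
    obtain ⟨e, he⟩ := hodd1
    rcases hP4 with ⟨h6, h7⟩ | ⟨h6, h7⟩ <;> omega
  · -- `i` odd
    rw [if_neg hpar]
    have hodd : Odd i := Nat.not_even_iff_odd.mp hpar
    have hfree : ∀ P ∈ cycFactors r F, tdual (RingHom.id F) P ≠ P :=
      fun P hP => tdual_free p hrp hr2 (hi ▸ hodd) hP
    have hτ2 : ∀ P ∈ cycFactors r F, tdual (RingHom.id F) (tdual (RingHom.id F) P) = P :=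
      fun P hP => tdual_tdual_cyc hP
    have hidvd' : i ∣ d - j := by
      have h1 : i ∣ (d - j) * 2 := by
        have e : (d - j) * 2 = 2 * d - 2 * j := by omega
        rw [e]; exact hidvd
      exact Nat.Coprime.dvd_of_dvd_mul_right hodd.coprime_two_right h1
    obtain ⟨s₀, hs₀⟩ := hidvd'
    have hs₀pos : 1 ≤ s₀ := by
      rcases Nat.eq_zero_or_pos s₀ with h | h
      · rw [h, mul_zero] at hs₀; omega
      · exact h
    have hd'1 : 1 ≤ d / i := by
      apply Nat.div_pos _ hipos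
      have : i ≤ i * s₀ := Nat.le_mul_of_pos_right i hs₀pos
      omega
    have hdd := Nat.div_add_mod d i
    have hκj : d % i ≤ j := by
      have h1 : s₀ ≤ d / i := by
        rw [Nat.le_div_iff_mul_le hipos, mul_comm]; omega
      have h2 : i * s₀ ≤ i * (d / i) := Nat.mul_le_mul_left i h1
      omega
    have hmm : (2 * d) % (2 * i) = 2 * (d % i) := Nat.mul_mod_mul_left 2 d i
    obtain ⟨τP, hτP⟩ : ∃ τP, τP = tdual (RingHom.id F) P₁ := ⟨_, rfl⟩
    have hτPc : τP ∈ cycFactors r F := by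
      rw [hτP]; exact tdual_mem_cycFactors p hrp (RingHom.id F) 0 hσ hP₁
    have hmem1 : ∀ P ∈ Multiset.replicate (d / i) P₁ + Multiset.replicate (d / i) τP,
        P ∈ cycFactors r F := by
      intro P hP
      rcases Multiset.mem_add.mp hP with h1 | h1
      · rw [Multiset.eq_of_mem_replicate h1]; exact hP₁
      · rw [Multiset.eq_of_mem_replicate h1]; exact hτPc
    have hτm : (Multiset.replicate (d / i) P₁ + Multiset.replicate (d / i) τP).map
        (tdual (RingHom.id F)) = Multiset.replicate (d / i) P₁ + Multiset.replicate (d / i) τP := by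
      have e1 : tdual (RingHom.id F) τP = P₁ := by rw [hτP]; exact hτ2 P₁ hP₁
      rw [Multiset.map_add, Multiset.map_replicate, Multiset.map_replicate, e1, ← hτP, add_comm]
    obtain ⟨w₀, 𝔫, h𝔫, e1', e2, -⟩ := bad_template p hrp hr2 d m (2 * (d % i)) _ hmem1 hτm
      (by
        rw [← hi, Multiset.card_add, Multiset.card_replicate, Multiset.card_replicate]
        have e : i * (d / i + d / i) = 2 * (i * (d / i)) := by ring
        omega)
      (fun z => by
        by_cases hz : P₁ = X - C z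
        · refine ⟨τP, Multiset.mem_add.mpr (Or.inr (Multiset.mem_replicate.mpr ⟨by omega, rfl⟩)),
            ?_⟩
          intro hz2
          exact hfree P₁ hP₁ (by rw [← hτP, hz2, hz])
        · exact ⟨P₁, Multiset.mem_add.mpr (Or.inl (Multiset.mem_replicate.mpr ⟨by omega, rfl⟩)),
            hz⟩) H
    rw [← hi] at e1'
    have hκlt : d % i < i := Nat.mod_lt _ hipos
    have hw₀lt : w₀ < i := by omega
    have hmod : m % i = w₀ := by
      rw [e1', Nat.add_mul_mod_self_left, Nat.mod_eq_of_lt hw₀lt]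
    have him : i ≤ m := by
      by_contra hlt
      push Not at hlt
      have hc0 : Multiset.card 𝔫 = 0 := by
        by_contra hne
        have : i ≤ i * Multiset.card 𝔫 := Nat.le_mul_of_pos_right i (Nat.pos_of_ne_zero hne)
        omega
      rw [hc0, mul_zero, add_zero] at e1'
      omega
    exact ⟨him, by rw [hmm]; omega, Or.inl hodd⟩

end Bad

end Cfsg.Agent.Lib.helper63.SpTI
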