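/-
S5972 split project (helper24), piece SPH: a symplectic matrix of odd prime order `r ≠ p`
without fixed vectors has invariant totally isotropic subspaces of all dimensions `i * B`,
`B ≤ S` (re-run of `ti_of_cond_odd`, SpTI6, with `a₀ = 0`).
-/
import Mathlib
import Cfsg.Agent.Lib.helper63.SpTI7

set_option autoImplicit false
set_option linter.unusedSectionVars false
set_option linter.unusedVariables false

namespace Cfsg.Agent.Lib.helper24

open Module Polynomial Cfsg.Agent.Lib.helper17 Cfsg.Agent.Lib.helper45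
  Cfsg.Agent.Lib.helper63.SpTI

universe u

section stsgeneric

variable {F : Type u} [Field F] [Fintype F]

/-- no fixed vector: the characteristic polynomial has no factor `X - 1` -/
theorem helper63_sts_a0 {ι : Type*} [Fintype ι] [DecidableEq ι] (x : Matrix ι ι F)
    (hfix : ∀ v : ι → F, x.mulVec v = v → v = 0) (a₀ : ℕ) (𝔪 : Multiset F[X])
    (hchar : x.charpoly = blockPoly a₀ 𝔪) : a₀ = 0 := by
  by_contra h0
  have h1 : Polynomial.eval 1 x.charpoly = 0 := by
    rw [hchar]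
    unfold blockPoly
    rw [eval_mul, eval_pow, eval_sub, eval_X, eval_C, sub_self, zero_pow h0, zero_mul]
  rw [Matrix.eval_charpoly] at h1
  obtain ⟨v, hv0, hv⟩ := Matrix.exists_mulVec_eq_zero_iff.mpr h1
  apply hv0
  apply hfix
  rw [Matrix.sub_mulVec, map_one, Matrix.one_mulVec] at hv
  exact (sub_eq_zero.mp hv).symm

/-- PIECE SPH. -/
theorem sts_sp_half (p : ℕ) [Fact p.Prime] [CharP F p] (r : ℕ) [Fact r.Prime] (hrp : r ≠ p)
    (hr2 : r ≠ 2) (n : ℕ) (x : ↥(Matrix.symplecticGroup (Fin n) F)) (hx : x ^ r = 1)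
    (hfix : ∀ v : Fin n ⊕ Fin n → F,
      (x : Matrix (Fin n ⊕ Fin n) (Fin n ⊕ Fin n) F).mulVec v = v → v = 0) :
    ∃ S : ℕ,
      (Odd (orderOf ((Fintype.card F : ℕ) : ZMod r)) →
        orderOf ((Fintype.card F : ℕ) : ZMod r) * S = n) ∧
      (Even (orderOf ((Fintype.card F : ℕ) : ZMod r)) →
        2 * n ≤ orderOf ((Fintype.card F : ℕ) : ZMod r) *
          (2 * S + (r - 1) / orderOf ((Fintype.card F : ℕ) : ZMod r))) ∧
      ∀ B : ℕ, B ≤ S → ∃ W : Submodule F (Fin n ⊕ Fin n → F),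
        finrank F W = orderOf ((Fintype.card F : ℕ) : ZMod r) * B ∧
        (∀ u ∈ W, ∀ v ∈ W, Cfsg.sympForm n F u v = 0) ∧
        W.map (Matrix.toLin' (x : Matrix (Fin n ⊕ Fin n) (Fin n ⊕ Fin n) F)) ≤ W := by
  classical
  have hp : p.Prime := Fact.out
  have hr : r.Prime := Fact.out
  have hipos := orderOf_card_pos (F := F) p hrp
  obtain ⟨i, hi⟩ : ∃ i, i = orderOf ((Fintype.card F : ℕ) : ZMod r) := ⟨_, rfl⟩
  rw [← hi] at hipos ⊢
  obtain ⟨a₀, 𝔪, h𝔪, hchar, hinv, hdeg⟩ := sp_charpoly_blockPoly p hrp n x hx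
  rw [← hi] at hdeg
  have ha₀ : a₀ = 0 := helper63_sts_a0 _ hfix a₀ 𝔪 hchar
  rw [ha₀, zero_add] at hdeg
  rw [ha₀] at hchar
  have hrcop : r.Coprime p := (Nat.coprime_primes hr hp).mpr hrp
  have hxcop : (orderOf x).Coprime p :=
    Nat.Coprime.coprime_dvd_left (orderOf_dvd_of_pow_eq_one hx) hrcop
  -- it suffices to realise the characteristic polynomial
  have hsuff : ∀ m : ℕ, TIReal r (blockPoly 0 𝔪) m →
      ∃ W : Submodule F (Fin n ⊕ Fin n → F), finrank F W = m ∧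
        (∀ u ∈ W, ∀ v ∈ W, Cfsg.sympForm n F u v = 0) ∧
        W.map (Matrix.toLin' (x : Matrix (Fin n ⊕ Fin n) (Fin n ⊕ Fin n) F)) ≤ W := by
    intro m hm
    obtain ⟨V, _, _, _, ω, a, b, halt, hnd, hiso, hab, har, hachar, W₀, hW₀, hti, hWinv⟩ := hm
    exact ti_of_model p n m x hxcop ω a b halt hnd hiso hab r har hrcop
      (by rw [hachar, hchar]) W₀ hW₀ hti hWinv
  by_cases hpar : Even i
  · -- `i` even
    obtain ⟨𝔫, 𝔯, hsplit, hnodup⟩ := exists_halving 𝔪
    have h𝔫 : ∀ P ∈ 𝔫, P ∈ cycFactors r F := by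
      intro P hP
      apply h𝔪
      rw [hsplit]
      exact Multiset.mem_add.mpr (Or.inl (Multiset.mem_add.mpr (Or.inl hP)))
    have h𝔯 : ∀ P ∈ 𝔯, P ∈ cycFactors r F := by
      intro P hP
      apply h𝔪
      rw [hsplit]
      exact Multiset.mem_add.mpr (Or.inr hP)
    have hρ := card_le_of_nodup p hrp 𝔯 h𝔯 hnodup
    rw [← hi] at hρ
    have hfixτ : ∀ P ∈ cycFactors r F, tdual (RingHom.id F) P = P :=
      fun P hP => tdual_fix p hrp (hi ▸ hpar) hP
    have hmapfix : ∀ 𝔰 : Multiset F[X], (∀ P ∈ 𝔰, P ∈ cycFactors r F) →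
        𝔰.map (tdual (RingHom.id F)) = 𝔰 := by
      intro 𝔰 h𝔰
      conv_rhs => rw [← Multiset.map_id 𝔰]
      exact Multiset.map_congr rfl (fun P hP => hfixτ P (h𝔰 P hP))
    have hcard𝔪 : Multiset.card 𝔪 = 2 * Multiset.card 𝔫 + Multiset.card 𝔯 := by
      rw [hsplit, Multiset.card_add, Multiset.card_add]; ring
    rw [hcard𝔪] at hdeg
    refine ⟨Multiset.card 𝔫, fun hodd => absurd hpar (Nat.not_even_iff_odd.mpr hodd), ?_, ?_⟩
    · intro _
      rw [← hdeg]
      apply Nat.mul_le_mul_left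
      omega
    · intro B hB
      obtain ⟨𝔫₁, 𝔫₂, hsplit2, hcard1⟩ := exists_sub_card 𝔫 B hB
      have h𝔫₁ : ∀ P ∈ 𝔫₁, P ∈ cycFactors r F := by
        intro P hP
        apply h𝔫
        rw [hsplit2]
        exact Multiset.mem_add.mpr (Or.inl hP)
      have h𝔫₂ : ∀ P ∈ 𝔫₂, P ∈ cycFactors r F := by
        intro P hP
        apply h𝔫
        rw [hsplit2]
        exact Multiset.mem_add.mpr (Or.inr hP)
      have h𝔯' : ∀ P ∈ 𝔫₂ + 𝔫₂ + 𝔯, P ∈ cycFactors r F := by
        intro P hP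
        rcases Multiset.mem_add.mp hP with h1 | h1
        · rcases Multiset.mem_add.mp h1 with h2 | h2
          · exact h𝔫₂ P h2
          · exact h𝔫₂ P h2
        · exact h𝔯 P h1
      have heven : Even (0 + orderOf ((Fintype.card F : ℕ) : ZMod r) *
          Multiset.card (𝔫₂ + 𝔫₂ + 𝔯)) := by
        rw [← hi, zero_add]
        exact Even.mul_right hpar _
      have hblock := tiReal_block p hrp hr2 0 0 𝔫₁ (𝔫₂ + 𝔫₂ + 𝔯) h𝔫₁ h𝔯'
        (hmapfix _ h𝔯') heven
      have e𝔪 : 𝔪 = 𝔫₁ + 𝔫₁.map (tdual (RingHom.id F)) + (𝔫₂ + 𝔫₂ + 𝔯) := by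
        rw [hmapfix 𝔫₁ h𝔫₁, hsplit, hsplit2]
        abel
      rw [← e𝔪, ← hi, hcard1, zero_add, mul_zero, zero_add] at hblock
      exact hsuff _ hblock
  · -- `i` odd
    have hodd : Odd i := Nat.not_even_iff_odd.mp hpar
    have hfree : ∀ P ∈ cycFactors r F, tdual (RingHom.id F) P ≠ P :=
      fun P hP => tdual_free p hrp hr2 (hi ▸ hodd) hP
    have hτ2 : ∀ P ∈ cycFactors r F, tdual (RingHom.id F) (tdual (RingHom.id F) P) = P :=
      fun P hP => tdual_tdual_cyc hP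
    obtain ⟨𝔫, hsplit⟩ := exists_pairing (cycFactors r F) (tdual (RingHom.id F)) hτ2 hfree
      (Multiset.card 𝔪) 𝔪 rfl h𝔪 hinv
    have h𝔫 : ∀ P ∈ 𝔫, P ∈ cycFactors r F := by
      intro P hP
      apply h𝔪
      rw [hsplit]
      exact Multiset.mem_add.mpr (Or.inl hP)
    have hcard𝔪 : Multiset.card 𝔪 = 2 * Multiset.card 𝔫 := by
      rw [hsplit, Multiset.card_add, Multiset.card_map]; ring
    rw [hcard𝔪] at hdeg
    refine ⟨Multiset.card 𝔫, ?_, fun hev => absurd hev hpar, ?_⟩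
    · intro _
      have e1 : i * (2 * Multiset.card 𝔫) = 2 * (i * Multiset.card 𝔫) := by ring
      rw [e1] at hdeg
      omega
    · intro B hB
      obtain ⟨𝔫₁, 𝔫₂, hsplit2, hcard1⟩ := exists_sub_card 𝔫 B hB
      have h𝔫₁ : ∀ P ∈ 𝔫₁, P ∈ cycFactors r F := by
        intro P hP
        apply h𝔫
        rw [hsplit2]
        exact Multiset.mem_add.mpr (Or.inl hP)
      have h𝔫₂ : ∀ P ∈ 𝔫₂, P ∈ cycFactors r F := by
        intro P hP
        apply h𝔫
        rw [hsplit2]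
        exact Multiset.mem_add.mpr (Or.inr hP)
      have h𝔯' : ∀ P ∈ 𝔫₂ + 𝔫₂.map (tdual (RingHom.id F)), P ∈ cycFactors r F := by
        intro P hP
        rcases Multiset.mem_add.mp hP with h1 | h1
        · exact h𝔫₂ P h1
        · obtain ⟨Q, hQ, rfl⟩ := Multiset.mem_map.mp h1
          exact tdual_mem_cycFactors p hrp (RingHom.id F) 0 (id_frob p (F := F)) (h𝔫₂ Q hQ)
      have h𝔯'τ : (𝔫₂ + 𝔫₂.map (tdual (RingHom.id F))).map (tdual (RingHom.id F))
          = 𝔫₂ + 𝔫₂.map (tdual (RingHom.id F)) := by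
        rw [Multiset.map_add, Multiset.map_map]
        have e1 : Multiset.map (tdual (RingHom.id F) ∘ tdual (RingHom.id F)) 𝔫₂ = 𝔫₂ := by
          conv_rhs => rw [← Multiset.map_id 𝔫₂]
          exact Multiset.map_congr rfl (fun P hP => hτ2 P (h𝔫₂ P hP))
        rw [e1, add_comm]
      have heven : Even (0 + orderOf ((Fintype.card F : ℕ) : ZMod r) *
          Multiset.card (𝔫₂ + 𝔫₂.map (tdual (RingHom.id F)))) := by
        rw [← hi, zero_add, Multiset.card_add, Multiset.card_map, ← two_mul]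
        exact Even.mul_left (Even.mul_right even_two _) _
      have hblock := tiReal_block p hrp hr2 0 0 𝔫₁ (𝔫₂ + 𝔫₂.map (tdual (RingHom.id F)))
        h𝔫₁ h𝔯' h𝔯'τ heven
      have e𝔪 : 𝔪 = 𝔫₁ + 𝔫₁.map (tdual (RingHom.id F))
          + (𝔫₂ + 𝔫₂.map (tdual (RingHom.id F))) := by
        rw [hsplit, hsplit2, Multiset.map_add]
        abel
      rw [← e𝔪, ← hi, hcard1, zero_add, mul_zero, zero_add] at hblock
      exact hsuff _ hblock

end stsgeneric

end Cfsg.Agent.Lib.helper24
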