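import Mathlib
import Cfsg.Agent.Lib.helper45.SpPrimeOrder
import Cfsg.Agent.Lib.helper63.Elusive2
import Cfsg.Agent.Lib.helper63.SpTI6

/-! Involutions of `PSp_{2d}(q)`, `q` odd, and totally isotropic subspaces. -/

set_option autoImplicit false

namespace Cfsg.Agent.Lib.helper63.SpTI

open Module Cfsg Polynomial Cfsg.Agent.Lib.helper17 Cfsg.Agent.Lib.helper45

universe u

section Two

variable {F : Type u} [Field F]

theorem TIReal.zero {r : ℕ} {f : F[X]} {m : ℕ} (h : TIReal r f m) : TIReal r f 0 := by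
  obtain ⟨V, i1, i2, i3, ω, a, b, halt, hnd, hiso, hab, har, hchar, -⟩ := h
  exact TIReal.of_sp ⟨V, i1, i2, i3, ω, a, b, halt, hnd, hiso, hab, har, hchar⟩

/-- a scalar symplectic matrix is `±1` -/
theorem scalar_sq_eq_one (d : ℕ) (hd : 1 ≤ d) (y : ↥(Matrix.symplecticGroup (Fin d) F)) (z : F)
    (hy : (y : Matrix (Fin d ⊕ Fin d) (Fin d ⊕ Fin d) F) = z • 1) : z ^ 2 = 1 := by
  have h := SymplecticGroup.mem_iff.mp y.2
  rw [hy] at h
  rw [Matrix.transpose_smul, Matrix.transpose_one, Matrix.smul_mul, Matrix.one_mul,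
    Matrix.mul_smul, Matrix.mul_one, smul_smul] at h
  have h2 := congrFun (congrFun h (Sum.inl (⟨0, hd⟩ : Fin d))) (Sum.inr (⟨0, hd⟩ : Fin d))
  rw [Matrix.smul_apply] at h2
  have hJ : Matrix.J (Fin d) F (Sum.inl (⟨0, hd⟩ : Fin d)) (Sum.inr (⟨0, hd⟩ : Fin d)) = -1 := by
    simp [Matrix.J]
  rw [hJ] at h2
  have h3 : z * z = 1 := by
    have h4 : (z * z) * (-1 : F) = -1 := by simpa using h2
    linear_combination (-1 : F) * h4
  rw [sq]
  exact h3

theorem charpoly_smul_one_self (c : F) : (c • (1 : Module.End F F)).charpoly = X - C c := by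
  classical
  rw [← LinearMap.charpoly_toMatrix (c • (1 : Module.End F F)) (Module.Basis.singleton Unit F),
    map_smul, LinearMap.toMatrix_one]
  have h1 : (c • (1 : Matrix Unit Unit F)) = Matrix.diagonal (fun _ => c) := by
    rw [← Matrix.diagonal_one, ← Matrix.diagonal_smul]
    congr 1
    funext i
    simp
  rw [h1, Matrix.charpoly_diagonal]
  simp

/-- a diagonal hyperbolic plane -/
theorem tiReal_diag (k : ℕ) (α β : F) (hαβ : α * β = 1) (hα : α ^ k = 1) (hβ : β ^ k = 1) :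
    TIReal k ((X - C α) * (X - C β) : F[X]) 1 := by
  refine ⟨F × F, inferInstance, inferInstance, inferInstance,
    pieceForm F (LinearMap.id : F →ₗ[F] F),
    LinearMap.prodMap (α • (1 : Module.End F F)) (β • (1 : Module.End F F)),
    LinearMap.prodMap (β • (1 : Module.End F F)) (α • (1 : Module.End F F)),
    fun v => pieceForm_alt F _ v, ?_, ?_, ?_, ?_, ?_, (⊤ : Submodule F F).prod ⊥, ?_, ?_, ?_⟩
  · intro v hv
    exact pieceForm_nondeg F (LinearMap.id : F →ₗ[F] F) 1 (by simp) v hv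
  · intro v w
    rw [pieceForm_apply, pieceForm_apply]
    show α * v.1 * (β * w.2) - β * v.2 * (α * w.1) = v.1 * w.2 - v.2 * w.1
    linear_combination (v.1 * w.2 - v.2 * w.1) * hαβ
  · rw [LinearMap.prodMap_mul, smul_mul_smul_comm, smul_mul_smul_comm, mul_one]
    rw [hαβ, mul_comm β α, hαβ, one_smul]
    exact LinearMap.prodMap_one
  · rw [prodMap_pow, _root_.smul_pow, _root_.smul_pow, one_pow, hα, hβ, one_smul]
    exact LinearMap.prodMap_one
  · rw [LinearMap.charpoly_prodMap, charpoly_smul_one_self, charpoly_smul_one_self]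
  · rw [finrank_prod_sub, finrank_top, finrank_bot, Module.finrank_self]
  · intro u hu v hv
    have hu2 : u.2 = 0 := (Submodule.mem_bot F).mp hu.2
    have hv2 : v.2 = 0 := (Submodule.mem_bot F).mp hv.2
    rw [pieceForm_apply, hu2, hv2, mul_zero, zero_mul, sub_zero, map_zero]
  · intro w hw
    have hw2 : w.2 = 0 := (Submodule.mem_bot F).mp hw.2
    refine ⟨Submodule.mem_top, ?_⟩
    show β * w.2 ∈ (⊥ : Submodule F F)
    rw [hw2, mul_zero]
    exact Submodule.zero_mem _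

theorem aeval_sq_add_one {K : Type*} [CommRing K] [Algebra F K] (y : K) :
    aeval y (X ^ 2 - C (-1 : F) : F[X]) = y ^ 2 + 1 := by
  rw [map_sub, map_pow, aeval_X, aeval_C, map_neg, map_one, sub_neg_eq_add]

/-- the models for `x² = -1` when `-1` is not a square -/
theorem tiReal_nonsplit (h2 : (2 : F) ≠ 0) (hns : ∀ b : F, b ^ 2 ≠ -1) :
    TIReal 4 ((X ^ 2 - C (-1 : F)) * (X ^ 2 - C (-1 : F)) : F[X]) 2 ∧
      SpRealizable 4 (X ^ 2 - C (-1 : F) : F[X]) := by
  obtain ⟨P, hPdef⟩ : ∃ P : F[X], P = X ^ 2 - C (-1 : F) := ⟨_, rfl⟩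
  rw [← hPdef]
  have hirr : Irreducible P := by
    rw [hPdef]; exact X_pow_sub_C_irreducible_of_prime Nat.prime_two hns
  have hmon : P.Monic := by rw [hPdef]; exact monic_X_pow_sub_C (-1 : F) (by norm_num)
  have hdegP : P.natDegree = 2 := by rw [hPdef]; exact natDegree_X_pow_sub_C
  have : Fact (Irreducible P) := ⟨hirr⟩
  have : Module.Finite F (AdjoinRoot P) := (AdjoinRoot.powerBasis hirr.ne_zero).finite
  obtain ⟨ζ, hζ⟩ : ∃ ζ : AdjoinRoot P, ζ = AdjoinRoot.root P := ⟨_, rfl⟩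
  have haeval : ∀ y : AdjoinRoot P, aeval y P = y ^ 2 + 1 := by
    intro y
    have h0 := aeval_sq_add_one (F := F) y
    rw [← hPdef] at h0
    exact h0
  have hroot : ζ ^ 2 = -1 := by
    have h1 : aeval ζ P = 0 := by
      rw [hζ, AdjoinRoot.aeval_eq, AdjoinRoot.mk_self]
    rw [haeval] at h1
    exact eq_neg_of_add_eq_zero_left h1
  have h1 : ζ * (-ζ) = 1 := by
    have : ζ * (-ζ) = -(ζ ^ 2) := by ring
    rw [this, hroot, neg_neg]
  have h4 : ζ ^ 4 = 1 := by
    have : ζ ^ 4 = (ζ ^ 2) ^ 2 := by ring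
    rw [this, hroot]; ring
  have hroot' : aeval (-ζ) P = 0 := by
    rw [haeval, neg_sq, hroot, neg_add_cancel]
  have hmin : minpoly F (-ζ) = P := (minpoly.eq_of_irreducible_of_monic hirr hroot' hmon).symm
  have hne : -ζ ≠ ζ := by
    intro hc
    have e1 : (2 : F) • ζ = 0 := by
      have : ζ + ζ = 0 := by nth_rewrite 1 [← hc]; exact neg_add_cancel ζ
      rw [two_smul]
      exact this
    rcases smul_eq_zero.mp e1 with h | h
    · exact h2 h
    · rw [h] at hroot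
      have : (0 : AdjoinRoot P) = -1 := by simpa using hroot
      exact one_ne_zero (neg_eq_zero.mp this.symm)
  rw [hζ] at h1 h4 hroot' hne hmin
  constructor
  · have := tiReal_pair (r := 4) hirr hmon (-(AdjoinRoot.root P)) h1 h4 (by rw [hmin])
    rw [hmin, hdegP] at this
    exact this
  · exact spRealizable_selfdual hirr hmon (-(AdjoinRoot.root P)) h1 hroot' hne h4

/-- `A⁻¹` and `A` have the same characteristic polynomial for symplectic `A` -/
theorem sp_charpoly_inv (n : ℕ) (g : ↥(Matrix.symplecticGroup (Fin n) F)) :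
    ((g : Matrix (Fin n ⊕ Fin n) (Fin n ⊕ Fin n) F)⁻¹).charpoly
      = (g : Matrix (Fin n ⊕ Fin n) (Fin n ⊕ Fin n) F).charpoly := by
  classical
  have h3 : (g : Matrix (Fin n ⊕ Fin n) (Fin n ⊕ Fin n) F)⁻¹
      = (-Matrix.J (Fin n) F) * (g : Matrix (Fin n ⊕ Fin n) (Fin n ⊕ Fin n) F).transpose
        * Matrix.J (Fin n) F := by
    rw [← SymplecticGroup.coe_inv', SymplecticGroup.coe_inv]
  rw [h3, Matrix.charpoly_mul_comm, ← Matrix.mul_assoc, Matrix.mul_neg, Matrix.J_squared, neg_neg,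
    Matrix.one_mul, Matrix.charpoly_transpose]

theorem sp_charpoly_coeff_zero (n : ℕ) (x : ↥(Matrix.symplecticGroup (Fin n) F)) :
    (x : Matrix (Fin n ⊕ Fin n) (Fin n ⊕ Fin n) F).charpoly.coeff 0 = 1 := by
  have hrev := sp_charpoly_reverse n x
  have e1 := coeff_zero_reverse (x : Matrix (Fin n ⊕ Fin n) (Fin n ⊕ Fin n) F).charpoly
  rw [hrev, (Matrix.charpoly_monic _).leadingCoeff] at e1
  exact e1

/-- the characteristic polynomial of a symplectic matrix with square `-1` -/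
theorem charpoly_of_sq_neg_one (n : ℕ) (x : ↥(Matrix.symplecticGroup (Fin n) F))
    (hx : (x : Matrix (Fin n ⊕ Fin n) (Fin n ⊕ Fin n) F) ^ 2 = -1) :
    (x : Matrix (Fin n ⊕ Fin n) (Fin n ⊕ Fin n) F).charpoly = (X ^ 2 - C (-1 : F)) ^ n := by
  classical
  have hinvx := sp_charpoly_inv n x
  obtain ⟨A, hA⟩ : ∃ A : Matrix (Fin n ⊕ Fin n) (Fin n ⊕ Fin n) F, A = x := ⟨_, rfl⟩
  rw [← hA] at hx hinvx ⊢
  have hinv : A⁻¹ = -A := by
    apply Matrix.inv_eq_right_inv
    rw [Matrix.mul_neg, ← sq, hx, neg_neg]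
  have hneg : (-A).charpoly = A.charpoly := by
    rw [← hinv]; exact hinvx
  have hcomm : Commute (Matrix.scalar (Fin n ⊕ Fin n) (X : F[X]))
      ((C : F →+* F[X]).mapMatrix A) :=
    Matrix.scalar_commute _ (fun r' => Commute.all _ _) _
  have e : (X ^ 2 - C (-1 : F) : F[X]) = X * X + 1 := by
    rw [map_neg, map_one, sub_neg_eq_add, sq]
  have h1 : A.charmatrix * (-A).charmatrix
      = Matrix.scalar (Fin n ⊕ Fin n) (X ^ 2 - C (-1 : F) : F[X]) := by
    unfold Matrix.charmatrix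
    rw [map_neg, sub_neg_eq_add, ← hcomm.mul_self_sub_mul_self_eq', ← map_mul, ← map_mul, ← sq A,
      hx, map_neg, map_one, sub_neg_eq_add, e, map_add, map_one]
  have hdet : (Matrix.scalar (Fin n ⊕ Fin n) (X ^ 2 - C (-1 : F) : F[X])).det
      = (X ^ 2 - C (-1 : F) : F[X]) ^ (n + n) := by
    rw [Matrix.scalar_apply, Matrix.det_diagonal, Finset.prod_const, Finset.card_univ,
      Fintype.card_sum, Fintype.card_fin]
  have h2 := congrArg Matrix.det h1
  rw [Matrix.det_mul, hdet] at h2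
  have h3 : A.charpoly * A.charpoly
      = (X ^ 2 - C (-1 : F) : F[X]) ^ n * (X ^ 2 - C (-1 : F) : F[X]) ^ n := by
    rw [← pow_add, ← h2]
    show A.charpoly * A.charpoly = A.charpoly * (-A).charpoly
    rw [hneg]
  have hmonA : A.charpoly.Monic := Matrix.charpoly_monic A
  have hmonB : ((X ^ 2 - C (-1 : F) : F[X]) ^ n).Monic :=
    (monic_X_pow_sub_C (-1 : F) (by norm_num)).pow n
  rcases mul_self_eq_mul_self_iff.mp h3 with h | h
  · exact h
  · have h4 := congrArg Polynomial.leadingCoeff h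
    rw [leadingCoeff_neg, hmonA.leadingCoeff, hmonB.leadingCoeff] at h4
    rw [h]
    have h5 : (-1 : F[X]) = 1 := by
      rw [← C_1, ← C_neg, ← h4]
    rw [neg_eq_neg_one_mul, h5, one_mul]

/-- the monic irreducible factors of the second cyclotomic polynomial -/
theorem cycFactors_two {P : F[X]} (hP : P ∈ cycFactors 2 F) : P = X - C (-1 : F) := by
  obtain ⟨hirr, hmon, hdvd⟩ := hP
  rw [cyclotomic_two] at hdvd
  have e : (X + 1 : F[X]) = X - C (-1 : F) := by rw [map_neg, map_one, sub_neg_eq_add]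
  rw [e] at hdvd
  exact eq_of_monic_of_associated hmon (monic_X_sub_C _)
    (hirr.associated_of_dvd (irreducible_X_sub_C _) hdvd)

end Two

section TwoFin

variable {F : Type u} [Field F] [Fintype F] (p : ℕ) [Fact p.Prime] [CharP F p]

omit [Fintype F] in
include p in
theorem two_ne_zero_of_char (hp2 : p ≠ 2) : (2 : F) ≠ 0 := by
  intro h
  have h1 : ((2 : ℕ) : F) = 0 := by exact_mod_cast h
  rw [CharP.cast_eq_zero_iff F p 2] at h1
  exact hp2 ((Nat.prime_dvd_prime_iff_eq Fact.out Nat.prime_two).mp h1)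

include p in
theorem card_odd (hp2 : p ≠ 2) : Odd (Fintype.card F) := by
  obtain ⟨n, -, hcard⟩ := FiniteField.card F p
  rw [hcard]
  exact ((Fact.out : p.Prime).odd_of_ne_two hp2).pow

/-- involutions of `Sp` fix totally isotropic spaces of every dimension -/
theorem ti_of_sq_one (hp2 : p ≠ 2) (d m : ℕ) (hmd : m ≤ d)
    (x : ↥(Matrix.symplecticGroup (Fin d) F)) (hx : x ^ 2 = 1) :
    ∃ W : Submodule F (Fin d ⊕ Fin d → F), finrank F W = m ∧
      (∀ u ∈ W, ∀ v ∈ W, sympForm d F u v = 0) ∧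
      W.map (Matrix.toLin' (x : Matrix (Fin d ⊕ Fin d) (Fin d ⊕ Fin d) F)) ≤ W := by
  classical
  have hp : p.Prime := Fact.out
  have : Fact (Nat.Prime 2) := ⟨Nat.prime_two⟩
  have h2F := two_ne_zero_of_char (F := F) p hp2
  obtain ⟨a₀, 𝔪, h𝔪, hchar, -, hdeg⟩ := sp_charpoly_blockPoly p (Ne.symm hp2) d x hx
  have hord : orderOf ((Fintype.card F : ℕ) : ZMod 2) = 1 := by
    rw [orderOf_eq_one_iff]
    exact ZMod.natCast_eq_one_iff_odd.mpr (card_odd p hp2)
  rw [hord, one_mul] at hdeg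
  obtain ⟨β, hβ⟩ : ∃ β, β = Multiset.card 𝔪 := ⟨_, rfl⟩
  rw [← hβ] at hdeg
  have h𝔪eq : 𝔪 = Multiset.replicate β (X - C (-1 : F)) :=
    Multiset.eq_replicate.mpr ⟨hβ.symm, fun P hP => cycFactors_two (h𝔪 P hP)⟩
  have hchar' : (x : Matrix (Fin d ⊕ Fin d) (Fin d ⊕ Fin d) F).charpoly
      = (X - C 1) ^ a₀ * (X - C (-1 : F)) ^ β := by
    rw [hchar, h𝔪eq]
    unfold blockPoly
    rw [Multiset.prod_replicate]
  have hc0 := sp_charpoly_coeff_zero d x
  rw [hchar', coeff_zero_eq_eval_zero] at hc0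
  simp only [eval_mul, eval_pow, eval_sub, eval_X, eval_C] at hc0
  have ha₀ : Even a₀ := by
    by_contra hne
    have hodd := Nat.not_even_iff_odd.mp hne
    rw [zero_sub, zero_sub, neg_neg, one_pow, mul_one, hodd.neg_one_pow] at hc0
    apply h2F
    linear_combination (-1 : F) * hc0
  obtain ⟨a', ha'⟩ := ha₀
  have hβeven : Even β := by
    rw [Nat.even_iff]; omega
  obtain ⟨b', hb'⟩ := hβeven
  have hsum : a' + b' = d := by omega
  obtain ⟨m₁, hm₁⟩ : ∃ m₁, m₁ = min m a' := ⟨_, rfl⟩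
  have hm₁m : m₁ ≤ m := by rw [hm₁]; exact min_le_left _ _
  have hm₁a : m₁ ≤ a' := by rw [hm₁]; exact min_le_right _ _
  have hm₂ : m - m₁ ≤ b' := by
    rcases le_total m a' with h | h
    · rw [hm₁, min_eq_left h]; omega
    · rw [hm₁, min_eq_right h]; omega
  have hneg : (-1 : F) * (-1) = 1 := by ring
  have hnegsq : (-1 : F) ^ 2 = 1 := by ring
  have t1 := tiReal_X_sub_one_sq (F := F) 2
  have t2 := tiReal_diag (F := F) 2 (-1) (-1) hneg hnegsq hnegsq
  have hmodel := ((t1.pow m₁).mul (t1.zero.pow (a' - m₁))).mul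
    ((t2.pow (m - m₁)).mul (t2.zero.pow (b' - (m - m₁))))
  have epoly : ((X - C 1 : F[X]) ^ 2) ^ m₁ * ((X - C 1 : F[X]) ^ 2) ^ (a' - m₁) *
      (((X - C (-1 : F)) * (X - C (-1 : F))) ^ (m - m₁) *
        ((X - C (-1 : F)) * (X - C (-1 : F))) ^ (b' - (m - m₁)))
      = (X - C 1) ^ a₀ * (X - C (-1 : F)) ^ β := by
    rw [← pow_add, ← pow_add, ← sq, ← pow_mul, ← pow_mul]
    congr 2 <;> omega
  have edim : m₁ * 1 + (a' - m₁) * 0 + ((m - m₁) * 1 + (b' - (m - m₁)) * 0) = m := by omega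
  rw [epoly, edim] at hmodel
  obtain ⟨V, _, _, _, ω, a, b, halt, hnd, hiso, hab, har, hachar, W₀, hW₀, hti, hWinv⟩ := hmodel
  have h2cop : Nat.Coprime 2 p := (Nat.coprime_primes Nat.prime_two hp).mpr (Ne.symm hp2)
  have hxcop : (orderOf x).Coprime p :=
    Nat.Coprime.coprime_dvd_left (orderOf_dvd_of_pow_eq_one hx) h2cop
  exact ti_of_model p d m x hxcop ω a b halt hnd hiso hab 2 har h2cop
    (by rw [hachar, hchar']) W₀ hW₀ hti hWinv

/-- elements of `Sp` with square `-1` -/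
theorem ti_of_sq_neg_one (hp2 : p ≠ 2) (d m : ℕ) (hmd : m ≤ d)
    (hcond : Even m ∨ Fintype.card F % 4 = 1)
    (x : ↥(Matrix.symplecticGroup (Fin d) F))
    (hx : (x : Matrix (Fin d ⊕ Fin d) (Fin d ⊕ Fin d) F) ^ 2 = -1) :
    ∃ W : Submodule F (Fin d ⊕ Fin d → F), finrank F W = m ∧
      (∀ u ∈ W, ∀ v ∈ W, sympForm d F u v = 0) ∧
      W.map (Matrix.toLin' (x : Matrix (Fin d ⊕ Fin d) (Fin d ⊕ Fin d) F)) ≤ W := by
  classical
  have hp : p.Prime := Fact.out
  have h2F := two_ne_zero_of_char (F := F) p hp2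
  have hchar := charpoly_of_sq_neg_one d x hx
  have hx4 : x ^ 4 = 1 := by
    apply Subtype.ext
    rw [SubmonoidClass.coe_pow, OneMemClass.coe_one]
    have e4 : (x : Matrix (Fin d ⊕ Fin d) (Fin d ⊕ Fin d) F) ^ 4
        = ((x : Matrix (Fin d ⊕ Fin d) (Fin d ⊕ Fin d) F) ^ 2) ^ 2 := by rw [← pow_mul]
    rw [e4, hx, neg_one_sq]
  have h2cop : Nat.Coprime 2 p := (Nat.coprime_primes Nat.prime_two hp).mpr (Ne.symm hp2)
  have h4cop : Nat.Coprime 4 p := by
    show Nat.Coprime (2 ^ 2) p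
    exact Nat.Coprime.pow_left 2 h2cop
  have hxcop : (orderOf x).Coprime p :=
    Nat.Coprime.coprime_dvd_left (orderOf_dvd_of_pow_eq_one hx4) h4cop
  suffices hsuff : TIReal 4 ((X ^ 2 - C (-1 : F)) ^ d : F[X]) m by
    obtain ⟨V, _, _, _, ω, a, b, halt, hnd, hiso, hab, har, hachar, W₀, hW₀, hti, hWinv⟩ := hsuff
    exact ti_of_model p d m x hxcop ω a b halt hnd hiso hab 4 har h4cop
      (by rw [hachar, hchar]) W₀ hW₀ hti hWinv
  by_cases hsq : ∃ ι : F, ι * ι = -1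
  · obtain ⟨ι, hι⟩ := hsq
    have hι2 : ι ^ 2 = -1 := by rw [sq]; exact hι
    have hι4 : ι ^ 4 = 1 := by
      have : ι ^ 4 = (ι ^ 2) ^ 2 := by ring
      rw [this, hι2]; ring
    have hnι4 : (-ι) ^ 4 = 1 := by
      have : (-ι) ^ 4 = ι ^ 4 := by ring
      rw [this, hι4]
    have e1 : ι * -ι = 1 := by linear_combination (-1 : F) * hι
    have t := tiReal_diag (F := F) 4 ι (-ι) e1 hι4 hnι4
    have epoly : ((X - C ι) * (X - C (-ι)) : F[X]) = X ^ 2 - C (-1 : F) := by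
      rw [← hι, C_neg, C_mul]; ring
    rw [epoly] at t
    have hmodel := (t.pow m).mul (t.zero.pow (d - m))
    rw [← pow_add, Nat.add_sub_cancel' hmd] at hmodel
    have edim : m * 1 + (d - m) * 0 = m := by omega
    rw [edim] at hmodel
    exact hmodel
  · have hns : ∀ b : F, b ^ 2 ≠ -1 := by
      intro b hb
      exact hsq ⟨b, by rw [← sq]; exact hb⟩
    have hev : Even m := by
      rcases hcond with h | h
      · exact h
      · exfalso
        have hsq' : IsSquare (-1 : F) := FiniteField.isSquare_neg_one_iff.mpr (by omega)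
        obtain ⟨ι, hι⟩ := hsq'
        exact hsq ⟨ι, hι.symm⟩
    obtain ⟨m', hm'⟩ := hev
    obtain ⟨t1, t2⟩ := tiReal_nonsplit h2F hns
    have hmodel := (t1.pow m').mul ((TIReal.of_sp t2).pow (d - m))
    have epoly : ((X ^ 2 - C (-1 : F)) * (X ^ 2 - C (-1 : F)) : F[X]) ^ m' *
        (X ^ 2 - C (-1 : F)) ^ (d - m) = (X ^ 2 - C (-1 : F)) ^ d := by
      rw [← sq, ← pow_mul, ← pow_add]
      congr 1; omega
    have edim : m' * 2 + (d - m) * 0 = m := by omega
    rw [epoly, edim] at hmodel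
    exact hmodel

/-- for `q ≡ 3 (mod 4)`, the element `J` has no invariant subspace of odd dimension -/
theorem bad_J (hq3 : Fintype.card F % 4 = 3) (d m : ℕ) (hd : 1 ≤ d) (hodd : Odd m) :
    ∃ x : ↥(Matrix.symplecticGroup (Fin d) F),
      (x : Matrix (Fin d ⊕ Fin d) (Fin d ⊕ Fin d) F) ^ 2 = -1 ∧
      (∀ z : F, (x : Matrix (Fin d ⊕ Fin d) (Fin d ⊕ Fin d) F) ≠ z • 1) ∧
      ¬ ∃ W : Submodule F (Fin d ⊕ Fin d → F), finrank F W = m ∧
        W.map (Matrix.toLin' (x : Matrix (Fin d ⊕ Fin d) (Fin d ⊕ Fin d) F)) ≤ W := by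
  classical
  have hns : ∀ b : F, b ^ 2 ≠ -1 := by
    intro b hb
    have h1 : IsSquare (-1 : F) := ⟨b, by rw [← hb, sq]⟩
    exact (FiniteField.isSquare_neg_one_iff.mp h1) hq3
  have hirr : Irreducible (X ^ 2 - C (-1 : F) : F[X]) :=
    X_pow_sub_C_irreducible_of_prime Nat.prime_two hns
  refine ⟨⟨Matrix.J (Fin d) F, SymplecticGroup.J_mem (Fin d) F⟩, ?_, ?_, ?_⟩
  · show Matrix.J (Fin d) F ^ 2 = -1
    rw [sq, Matrix.J_squared]
  · intro z hz
    have hz' : Matrix.J (Fin d) F = z • 1 := hz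
    have h1 := congrFun (congrFun hz' (Sum.inl (⟨0, hd⟩ : Fin d))) (Sum.inr (⟨0, hd⟩ : Fin d))
    simp [Matrix.J] at h1
  · rintro ⟨W, hW, hinv⟩
    have hf : (Matrix.toLin' (Matrix.J (Fin d) F)) ^ 2
        = (-1 : F) • (1 : Module.End F (Fin d ⊕ Fin d → F)) := by
      rw [sq, Module.End.mul_eq_comp, ← Matrix.toLin'_mul, Matrix.J_squared, map_neg,
        Matrix.toLin'_one]
      ext v
      simp
    have h2 := Cfsg.Agent.Lib.helper63.Elusive.dvd_finrank_of_invariant 2 (by norm_num) (-1 : F)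
      hirr (Matrix.toLin' (Matrix.J (Fin d) F)) hf W
      (fun w hw => hinv (Submodule.mem_map_of_mem hw))
    rw [hW] at h2
    exact (Nat.not_even_iff_odd.mpr hodd) (even_iff_two_dvd.mpr h2)

/-- **The case `r = 2 ≠ p`.** -/
theorem two_case (hp2 : p ≠ 2) (d m : ℕ) (hd : 1 ≤ d) (hmd : m ≤ d) :
    (∀ x : ↥(Matrix.symplecticGroup (Fin d) F),
      (∃ z : F, ((x ^ 2 : ↥(Matrix.symplecticGroup (Fin d) F)) :
        Matrix (Fin d ⊕ Fin d) (Fin d ⊕ Fin d) F) = z • (1 : Matrix (Fin d ⊕ Fin d) (Fin d ⊕ Fin d) F)) →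
      (∀ z : F, (x : Matrix (Fin d ⊕ Fin d) (Fin d ⊕ Fin d) F)
        ≠ z • (1 : Matrix (Fin d ⊕ Fin d) (Fin d ⊕ Fin d) F)) →
      ∃ W : Submodule F (Fin d ⊕ Fin d → F), finrank F W = m ∧
        (∀ u ∈ W, ∀ v ∈ W, sympForm d F u v = 0) ∧
        W.map (Matrix.toLin' (x : Matrix (Fin d ⊕ Fin d) (Fin d ⊕ Fin d) F)) ≤ W) ↔
    (Even m ∨ Fintype.card F % 4 = 1) := by
  classical
  constructor
  · intro H
    by_contra hne
    push Not at hne
    obtain ⟨hnev, hn1⟩ := hne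
    have hodd : Odd m := Nat.not_even_iff_odd.mp hnev
    have hcodd := card_odd (F := F) p hp2
    have hq3 : Fintype.card F % 4 = 3 := by
      obtain ⟨k, hk⟩ := hcodd
      omega
    obtain ⟨x, hx2, hns, hno⟩ := bad_J hq3 d m hd hodd
    obtain ⟨W, hW, -, hinv⟩ := H x
      ⟨-1, by rw [SubmonoidClass.coe_pow, hx2, neg_smul, one_smul]⟩ hns
    exact hno ⟨W, hW, hinv⟩
  · intro hcond x ⟨z, hz⟩ _
    have hz2 := scalar_sq_eq_one d hd (x ^ 2) z hz
    rcases sq_eq_one_iff.mp hz2 with h1 | h1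
    · have hx : x ^ 2 = 1 := by
        apply Subtype.ext
        rw [hz, h1, one_smul]
        rfl
      exact ti_of_sq_one p hp2 d m hmd x hx
    · have hx : (x : Matrix (Fin d ⊕ Fin d) (Fin d ⊕ Fin d) F) ^ 2 = -1 := by
        rw [← SubmonoidClass.coe_pow, hz, h1, neg_smul, one_smul]
      exact ti_of_sq_neg_one p hp2 d m hmd hcond x hx

end TwoFin

end Cfsg.Agent.Lib.helper63.SpTI
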