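import Mathlib
import Cfsg.Agent.Lib.helper45.GUPrimeOrder
import Cfsg.Agent.Lib.helper63.SpTI4

/-! The characteristic polynomial of a semisimple isometry of a hermitian space with an invariant
totally isotropic subspace `W`: it is divisible by `g * g^†`, `g` the characteristic polynomial
on `W` and `†` the twisted reciprocal. -/

set_option autoImplicit false

namespace Cfsg.Agent.Lib.helper63.SuTI

open Module Cfsg Polynomial Cfsg.Agent.Lib.helper17 Cfsg.Agent.Lib.helper45
  Cfsg.Agent.Lib.helper48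

section G1

variable {F : Type*} [Field F] {V : Type*} [AddCommGroup V] [Module F V] [FiniteDimensional F V]

/-- **Key lemma (hermitian case).** -/
theorem charpoly_uti_dvd (σ : F →+* F) (hσ2 : ∀ a, σ (σ a) = a)
    (B : V →ₛₗ[σ] V →ₗ[F] F) (a b : Module.End F V)
    (hnd : ∀ v, (∀ w, B v w = 0) → v = 0) (hiso : ∀ v w, B (a v) (a w) = B v w) (hab : a * b = 1)
    (hss : a.IsSemisimple) (W : Submodule F V) (hti : ∀ u ∈ W, ∀ v ∈ W, B u v = 0)
    (hinv : ∀ w ∈ W, a w ∈ W) :
    ∃ g : F[X], g.Monic ∧ g.natDegree = finrank F W ∧ g * tdual σ g ∣ a.charpoly := by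
  classical
  have hba : b * a = 1 := mul_eq_one_comm.mp hab
  have hab' : ∀ v, a (b v) = v := fun v => by
    have := congrArg (fun f : Module.End F V => f v) hab
    exact this
  have hba' : ∀ v, b (a v) = v := fun v => by
    have := congrArg (fun f : Module.End F V => f v) hba
    exact this
  have hainj : Function.Injective (a.restrict hinv) := by
    intro x y hxy
    have h1 : a (x : V) = a (y : V) := congrArg Subtype.val hxy
    have h2 := congrArg b h1
    rw [hba', hba'] at h2
    exact Subtype.ext h2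
  have hasurj : Function.Surjective (a.restrict hinv) :=
    LinearMap.injective_iff_surjective.mp hainj
  have hWb : ∀ w ∈ W, b w ∈ W := by
    intro w hw
    obtain ⟨w₁, hw₁⟩ := hasurj ⟨w, hw⟩
    have h1 : a (w₁ : V) = w := congrArg Subtype.val hw₁
    rw [← h1, hba']
    exact w₁.2
  obtain ⟨bW⟩ : Nonempty (Basis (Fin (finrank F W)) F W) := ⟨Module.finBasis F W⟩
  obtain ⟨θ, hθ⟩ : ∃ θ : V →ₗ[F] (Fin (finrank F W) → F),
      θ = LinearMap.pi (fun j => B ((bW j : W) : V)) := ⟨_, rfl⟩
  have hθapp : ∀ v j, θ v j = B ((bW j : W) : V) v := by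
    intro v j
    rw [hθ]
    rfl
  have hBsum : ∀ (w : W) (v : V), B (w : V) v = ∑ j, σ (bW.repr w j) * θ v j := by
    intro w v
    have hw := bW.sum_repr w
    have h1 : (w : V) = ∑ j, bW.repr w j • ((bW j : W) : V) := by
      conv_lhs => rw [← hw]
      rw [Submodule.coe_sum]
      rfl
    rw [h1, map_sum, LinearMap.sum_apply]
    apply Finset.sum_congr rfl
    intro j _
    rw [map_smulₛₗ, LinearMap.smul_apply, smul_eq_mul, hθapp]
  obtain ⟨Wp, hWp⟩ : ∃ Wp : Submodule F V, Wp = LinearMap.ker θ := ⟨_, rfl⟩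
  have hmemWp : ∀ v, v ∈ Wp ↔ ∀ w ∈ W, B w v = 0 := by
    intro v
    rw [hWp, LinearMap.mem_ker]
    constructor
    · intro h w hw
      have h1 := hBsum ⟨w, hw⟩ v
      rw [h1]
      apply Finset.sum_eq_zero
      intro j _
      rw [h]
      simp
    · intro h
      funext j
      rw [hθapp]
      exact h _ (bW j).2
  have hWle : W ≤ Wp := fun w₀ hw₀ => (hmemWp w₀).mpr (fun w hw => hti w hw w₀ hw₀)
  have hWpinv : ∀ v ∈ Wp, a v ∈ Wp := by
    intro v hv
    rw [hmemWp] at hv ⊢
    intro w hw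
    have h1 : B w (a v) = B (a (b w)) (a v) := by rw [hab']
    rw [h1, hiso]
    exact hv _ (hWb w hw)
  -- surjectivity of `θ`
  have hfsum : ∀ (f : (Fin (finrank F W) → F) →ₗ[F] F) (y : Fin (finrank F W) → F),
      f y = ∑ j, y j * f (fun l => if j = l then 1 else 0) := by
    intro f y
    rw [LinearMap.pi_apply_eq_sum_univ f y]
    rfl
  have hθsurj : Function.Surjective θ := by
    rw [← LinearMap.range_eq_top]
    by_contra hne
    obtain ⟨f, hf0, hfle⟩ := Submodule.exists_le_ker_of_lt_top _ (lt_top_iff_ne_top.mpr hne)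
    apply hf0
    obtain ⟨c, hc⟩ : ∃ c : Fin (finrank F W) → F,
        c = fun j => f (fun l => if j = l then 1 else 0) := ⟨_, rfl⟩
    have hfc : ∀ y, f y = ∑ j, y j * c j := by
      intro y
      rw [hfsum f y, hc]
    obtain ⟨w, hw⟩ : ∃ w : W, w = ∑ j, σ (c j) • bW j := ⟨_, rfl⟩
    have hrepr : ∀ j, bW.repr w j = σ (c j) := by
      intro j
      rw [hw, Basis.repr_sum_self]
    have hzero : ∀ v, B (w : V) v = 0 := by
      intro v
      rw [hBsum]
      have h1 : f (θ v) = 0 := LinearMap.mem_ker.mp (hfle (LinearMap.mem_range_self θ v))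
      rw [hfc] at h1
      rw [← h1]
      apply Finset.sum_congr rfl
      intro j _
      rw [hrepr, hσ2, mul_comm]
    have hw0 : w = 0 := Subtype.ext (hnd _ hzero)
    have hc0 : ∀ j, c j = 0 := by
      intro j
      have h1 := hrepr j
      rw [hw0, map_zero] at h1
      have h2 : σ (c j) = 0 := by rw [← h1]; rfl
      have h3 := congrArg σ h2
      rw [hσ2, map_zero] at h3
      exact h3
    apply LinearMap.ext
    intro y
    rw [hfc, LinearMap.zero_apply]
    apply Finset.sum_eq_zero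
    intro j _
    rw [hc0, mul_zero]
  -- invariant complements
  have hcomp := Module.End.isSemisimple_iff.mp hss
  obtain ⟨W', hW'inv, hW'c⟩ := hcomp Wp (by
    rw [Module.End.mem_invtSubmodule]
    exact fun v hv => hWpinv v hv)
  rw [Module.End.mem_invtSubmodule] at hW'inv
  have hW'inv' : ∀ w ∈ W', a w ∈ W' := fun w hw => hW'inv hw
  have hdis : Disjoint W W' := Disjoint.mono_left hWle hW'c.disjoint
  obtain ⟨M, hMinv, hMc⟩ := hcomp (W ⊔ W') (by
    rw [Module.End.mem_invtSubmodule]
    intro v hv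
    obtain ⟨w, hw, w', hw', rfl⟩ := Submodule.mem_sup.mp hv
    show a (w + w') ∈ W ⊔ W'
    rw [map_add]
    exact Submodule.add_mem_sup (hinv w hw) (hW'inv' w' hw'))
  rw [Module.End.mem_invtSubmodule] at hMinv
  have hMinv' : ∀ w ∈ M, a w ∈ M := fun w hw => hMinv hw
  have h3 := Cfsg.Agent.Lib.helper63.SpTI.charpoly_three a W W' M hinv hW'inv' hMinv' hdis hMc
  -- the pairing between `W'` and `W`
  obtain ⟨ψ, hψ⟩ : ∃ ψ : W' →ₗ[F] (Fin (finrank F W) → F), ψ = θ ∘ₗ W'.subtype := ⟨_, rfl⟩
  have hψapp : ∀ (w' : W'), ψ w' = θ (w' : V) := by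
    intro w'
    rw [hψ]
    rfl
  have hψinj : Function.Injective ψ := by
    rw [← LinearMap.ker_eq_bot, LinearMap.ker_eq_bot']
    intro w' hw'
    have h1 : (w' : V) ∈ Wp := by
      rw [hWp, LinearMap.mem_ker, ← hψapp]
      exact hw'
    have h2 := hW'c.disjoint.le_bot (Submodule.mem_inf.mpr ⟨h1, w'.2⟩)
    exact Subtype.ext ((Submodule.mem_bot F).mp h2)
  have hψsurj : Function.Surjective ψ := by
    intro φ
    obtain ⟨v, hv⟩ := hθsurj φ
    have hvtop : v ∈ Wp ⊔ W' := by rw [hW'c.sup_eq_top]; exact Submodule.mem_top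
    obtain ⟨y, hy, w', hw', rfl⟩ := Submodule.mem_sup.mp hvtop
    refine ⟨⟨w', hw'⟩, ?_⟩
    rw [hψapp]
    show θ w' = φ
    rw [← hv, map_add]
    have : θ y = 0 := by rw [hWp] at hy; exact LinearMap.mem_ker.mp hy
    rw [this, zero_add]
  let ψe : W' ≃ₗ[F] (Fin (finrank F W) → F) := LinearEquiv.ofBijective ψ ⟨hψinj, hψsurj⟩
  have hψe : ∀ w', ψe w' = ψ w' := fun w' => rfl
  obtain ⟨β, hβ⟩ : ∃ β : Matrix (Fin (finrank F W)) (Fin (finrank F W)) F,
      β = LinearMap.toMatrix bW bW (b.restrict hWb) := ⟨_, rfl⟩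
  have hkey : ∀ w' : W', ψ ((a.restrict hW'inv') w') = (cstar σ β).mulVec (ψ w') := by
    intro w'
    funext j
    rw [hψapp, hθapp]
    show B ((bW j : W) : V) (a (w' : V)) = _
    have h1 : B ((bW j : W) : V) (a (w' : V)) = B (a (b ((bW j : W) : V))) (a (w' : V)) := by
      rw [hab']
    rw [h1, hiso]
    have h2 : b ((bW j : W) : V) = (((b.restrict hWb) (bW j) : W) : V) := rfl
    rw [h2, hBsum]
    rw [Matrix.mulVec, dotProduct]
    apply Finset.sum_congr rfl
    intro l _
    rw [cstar_apply, hβ, LinearMap.toMatrix_apply, hψapp]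
  have hconj : ψe.conj (a.restrict hW'inv') = Matrix.toLin' (cstar σ β) := by
    apply LinearMap.ext
    intro φ
    obtain ⟨w', rfl⟩ := ψe.surjective φ
    rw [LinearEquiv.conj_apply_apply, LinearEquiv.symm_apply_apply, Matrix.toLin'_apply, hψe, hψe]
    exact hkey w'
  have hrestr : (a.restrict hinv) * (b.restrict hWb) = 1 := by
    apply LinearMap.ext
    intro w
    apply Subtype.ext
    show a (b (w : V)) = w
    exact hab' _
  have h4 : (a.restrict hW'inv').charpoly = tdual σ (a.restrict hinv).charpoly := by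
    rw [← LinearEquiv.charpoly_conj ψe, hconj, Matrix.charpoly_toLin']
    unfold cstar tdual
    rw [Matrix.charpoly_transpose, Matrix.charpoly_map, hβ, LinearMap.charpoly_toMatrix,
      Cfsg.Agent.Lib.helper63.SpTI.charpoly_inv_end _ _ hrestr]
  refine ⟨(a.restrict hinv).charpoly, LinearMap.charpoly_monic _, LinearMap.charpoly_natDegree _,
    ?_⟩
  rw [h3, h4]
  exact Dvd.intro _ rfl

end G1

section MatrixG1

variable {F : Type*} [Field F]

theorem sesq_one_apply {q : ℕ} (σ : F →+* F) (hσ : ∀ x, σ x = x ^ q) (n : ℕ)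
    (u w : Fin n → F) :
    sesqOf σ (1 : Matrix (Fin n) (Fin n) F) u w = hermForm n F q w u := by
  rw [sesqOf_apply, Matrix.one_mulVec]
  unfold hermForm dotProduct
  apply Finset.sum_congr rfl
  intro i _
  show σ (u i) * w i = w i * u i ^ q
  rw [hσ, mul_comm]

/-- matrix form of the key lemma -/
theorem gu_charpoly_ti_dvd {q : ℕ} (σ : F →+* F) (hσ : ∀ x, σ x = x ^ q)
    (hσ2 : ∀ a, σ (σ a) = a) (n : ℕ) (A A' : Matrix (Fin n) (Fin n) F) (hAA' : A * A' = 1)
    (hA : ∀ u v, hermForm n F q (A.mulVec u) (A.mulVec v) = hermForm n F q u v)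
    (hss : Module.End.IsSemisimple (Matrix.toLin' A))
    (W : Submodule F (Fin n → F)) (hti : ∀ u ∈ W, ∀ v ∈ W, hermForm n F q u v = 0)
    (hinv : W.map (Matrix.toLin' A) ≤ W) :
    ∃ g : F[X], g.Monic ∧ g.natDegree = finrank F W ∧ g * tdual σ g ∣ A.charpoly := by
  classical
  have h := charpoly_uti_dvd σ hσ2 (sesqOf σ (1 : Matrix (Fin n) (Fin n) F))
    (Matrix.toLin' A) (Matrix.toLin' A')
    (by
      intro v hv
      funext i
      have h1 := hv (Pi.single i 1)
      rw [sesq_one_apply σ hσ] at h1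
      unfold hermForm at h1
      rw [Finset.sum_eq_single i] at h1
      · rw [Pi.single_eq_same, one_mul] at h1
        have h2 : σ (v i) = 0 := by rw [hσ]; exact h1
        have h3 := congrArg σ h2
        rw [hσ2, map_zero] at h3
        exact h3
      · intro j _ hj
        rw [Pi.single_eq_of_ne hj, zero_mul]
      · intro hi
        exact absurd (Finset.mem_univ i) hi)
    (by
      intro v w
      rw [sesq_one_apply σ hσ, sesq_one_apply σ hσ, Matrix.toLin'_apply, Matrix.toLin'_apply]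
      exact hA w v)
    (by rw [Module.End.mul_eq_comp, ← Matrix.toLin'_mul, hAA', Matrix.toLin'_one]; rfl)
    hss W
    (fun u hu v hv => by rw [sesq_one_apply σ hσ]; exact hti v hv u hu)
    (fun w hw => hinv (Submodule.mem_map_of_mem hw))
  rw [Matrix.charpoly_toLin'] at h
  exact h

end MatrixG1

end Cfsg.Agent.Lib.helper63.SuTI
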