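import Mathlib
import Cfsg.Agent.Lib.helper45.GUPrimeOrder
import Cfsg.Agent.Lib.helper45.SUSemisimple
import Cfsg.Agent.S2587
import Cfsg.Agent.S2588

/-! Unitary matrices with a prescribed characteristic polynomial, and invariant totally isotropic
subspaces of semisimple unitary matrices. -/

set_option autoImplicit false

namespace Cfsg.Agent.Lib.helper63.SuTI

open Module Cfsg Polynomial Cfsg.Agent.Lib.helper17 Cfsg.Agent.Lib.helper45
  Cfsg.Agent.Lib.helper48

section Blocks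

variable {F : Type*} [Field F] {α β : Type*} [Fintype α] [Fintype β] [DecidableEq α]
  [DecidableEq β]

theorem cstar_fromBlocks_diag (σ : F →+* F) (A : Matrix α α F) (D : Matrix β β F) :
    cstar σ (Matrix.fromBlocks A 0 0 D) = Matrix.fromBlocks (cstar σ A) 0 0 (cstar σ D) := by
  ext i j
  rcases i with i | i <;> rcases j with j | j <;> simp [cstar_apply]

theorem cstar_fromBlocks_anti (σ : F →+* F) :
    cstar σ (Matrix.fromBlocks (0 : Matrix α α F) (1 : Matrix α α F) (1 : Matrix α α F)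
      (0 : Matrix α α F)) = Matrix.fromBlocks (0 : Matrix α α F) (1 : Matrix α α F)
      (1 : Matrix α α F) (0 : Matrix α α F) := by
  ext i j
  rcases i with i | i <;> rcases j with j | j <;> simp [cstar_apply, Matrix.one_apply, eq_comm]

theorem fromBlocks_diag_pow (A : Matrix α α F) (D : Matrix β β F) (k : ℕ) :
    (Matrix.fromBlocks A 0 0 D) ^ k = Matrix.fromBlocks (A ^ k) 0 0 (D ^ k) := by
  induction k with
  | zero => rw [pow_zero, pow_zero, pow_zero, Matrix.fromBlocks_one]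
  | succ k ih =>
    rw [pow_succ, ih, Matrix.fromBlocks_multiply, pow_succ, pow_succ]
    simp

theorem isUnit_of_cstar_mul {ι : Type*} [Fintype ι] [DecidableEq ι] (σ : F →+* F)
    (A : Matrix ι ι F) (hA : cstar σ A * A = 1) : IsUnit A :=
  (Matrix.isUnit_iff_isUnit_det _).mpr (Matrix.isUnit_det_of_left_inverse hA)

end Blocks

section Exist

variable {F : Type*} [Field F] [Fintype F] {q : ℕ}

/-- Every monic twisted-self-reciprocal polynomial of degree `n` with nonzero constant term is the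
characteristic polynomial of a unitary matrix of order prime to `p`. -/
theorem exists_gu_charpoly (hF : Fintype.card F = q ^ 2) (p : ℕ) [Fact p.Prime] [CharP F p]
    (σ : F →+* F) (hσ : ∀ x, σ x = x ^ q) (n : ℕ) (f : F[X]) (hfd : f.natDegree = n)
    (hfm : f.Monic) (h0 : f.coeff 0 ≠ 0) (hfτ : tdual σ f = f) :
    ∃ (B : Matrix (Fin n) (Fin n) F) (k : ℕ), ¬ p ∣ k ∧ B ^ k = 1 ∧ cstar σ B * B = 1 ∧
      B.charpoly = f := by
  classical
  have hp : p.Prime := Fact.out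
  obtain ⟨A, m, hm, hAm, hAc⟩ := exists_matrix_charpoly_eq p n f hfd hfm h0
  have hpm : ¬ p ∣ m := (Nat.Prime.coprime_iff_not_dvd hp).mp hm.symm
  have hm1 : m - 1 + 1 = m := by
    have : m ≠ 0 := by
      intro h
      rw [h] at hpm
      exact hpm (dvd_zero p)
    omega
  have hss := isSemisimple_toLin'_of_pow_eq_one p A m hpm hAm
  have hAu : IsUnit A := ⟨⟨A, A ^ (m - 1), by rw [← pow_succ', hm1, hAm],
    by rw [← pow_succ, hm1, hAm]⟩, rfl⟩
  obtain ⟨Ag, hAg⟩ : ∃ Ag : GL (Fin n) F, (Ag : Matrix (Fin n) (Fin n) F) = A :=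
    ⟨hAu.unit, rfl⟩
  have hCr : (cstar σ A) ^ m = 1 := by rw [← cstar_pow, hAm, cstar_one]
  have hCinv : (cstar σ A)⁻¹ = (cstar σ A) ^ (m - 1) :=
    Matrix.inv_eq_right_inv (by rw [← pow_succ', hm1, hCr])
  have hCir : ((cstar σ A)⁻¹) ^ m = 1 := by
    rw [hCinv, ← pow_mul, mul_comm, pow_mul, hCr, one_pow]
  have hssC := isSemisimple_toLin'_of_pow_eq_one p _ m hpm hCir
  have hcc : A.charpoly = ((cstar σ A)⁻¹).charpoly := by
    rw [charpoly_cstar_inv σ A hAu, hAc, hfτ]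
  obtain ⟨P, hP⟩ := exists_GL_conj_of_charpoly_eq A _ hss hssC hcc
  have hconj : IsConj (Ag : Matrix (Fin n) (Fin n) F)
      ((((Ag : Matrix (Fin n) (Fin n) F).map (fun x : F => x ^ q)).transpose)⁻¹) := by
    have hmap : ((Ag : Matrix (Fin n) (Fin n) F).map (fun x : F => x ^ q)).transpose
        = cstar σ A := by
      have : (fun x : F => x ^ q) = σ := funext (fun x => (hσ x).symm)
      rw [this, hAg]
      rfl
    rw [hmap, hAg]
    exact ⟨P, hP⟩
  obtain ⟨B, hB⟩ := (Cfsg.Agent.S2588.result hF Ag).mpr hconj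
  obtain ⟨c, hc⟩ := isConj_iff.mp hB
  have hAgm : Ag ^ m = 1 := by
    apply Units.ext
    rw [Units.val_pow_eq_pow_val, hAg, hAm, Units.val_one]
  refine ⟨((B : GL (Fin n) F) : Matrix (Fin n) (Fin n) F), m, hpm, ?_, ?_, ?_⟩
  · rw [← Units.val_pow_eq_pow_val, ← hc, conj_pow, hAgm, mul_one, mul_inv_cancel, Units.val_one]
  · exact (mem_GU_iff_cstar σ hσ (B : GL (Fin n) F)).mp B.2
  · rw [← hc, gl_charpoly_conj, hAg, hAc]

/-- Unitary matrices of order prime to `p` with the same characteristic polynomial are conjugate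
by a unitary matrix. -/
theorem gu_conj_of_charpoly (hF : Fintype.card F = q ^ 2) (p : ℕ) [Fact p.Prime] [CharP F p]
    (σ : F →+* F) (hσ : ∀ x, σ x = x ^ q) (n : ℕ) (A A' : Matrix (Fin n) (Fin n) F)
    (hA : cstar σ A * A = 1) (hA' : cstar σ A' * A' = 1) (K K' : ℕ) (hK : A ^ K = 1)
    (hKp : ¬ p ∣ K) (hK' : A' ^ K' = 1) (hK'p : ¬ p ∣ K') (hchar : A'.charpoly = A.charpoly) :
    ∃ C D : Matrix (Fin n) (Fin n) F, C * D = 1 ∧ D * C = 1 ∧ cstar σ C * C = 1 ∧
      C * A' = A * C := by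
  classical
  have hss := isSemisimple_toLin'_of_pow_eq_one p A K hKp hK
  have hss' := isSemisimple_toLin'_of_pow_eq_one p A' K' hK'p hK'
  have hAu : IsUnit A := isUnit_of_cstar_mul σ A hA
  have hA'u : IsUnit A' := isUnit_of_cstar_mul σ A' hA'
  obtain ⟨Ag, hAg⟩ : ∃ Ag : GL (Fin n) F, (Ag : Matrix (Fin n) (Fin n) F) = A :=
    ⟨hAu.unit, rfl⟩
  obtain ⟨Ag', hAg'⟩ : ∃ Ag' : GL (Fin n) F, (Ag' : Matrix (Fin n) (Fin n) F) = A' :=
    ⟨hA'u.unit, rfl⟩
  have hmem : Ag ∈ Cfsg.GU n F q := (mem_GU_iff_cstar σ hσ Ag).mpr (by rw [hAg]; exact hA)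
  have hmem' : Ag' ∈ Cfsg.GU n F q := (mem_GU_iff_cstar σ hσ Ag').mpr (by rw [hAg']; exact hA')
  obtain ⟨P, hP⟩ := exists_GL_conj_of_charpoly_eq A' A hss' hss hchar
  have hconjGL : IsConj Ag' Ag := by
    rw [isConj_iff]
    refine ⟨P, ?_⟩
    rw [mul_inv_eq_iff_eq_mul]
    apply Units.ext
    rw [Units.val_mul, Units.val_mul, hAg, hAg']
    exact hP
  have hconjGU : IsConj (⟨Ag', hmem'⟩ : ↥(Cfsg.GU n F q)) ⟨Ag, hmem⟩ :=
    (Cfsg.Agent.S2587.result hF _ _).mpr hconjGL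
  obtain ⟨c, hc⟩ := isConj_iff.mp hconjGU
  refine ⟨((c : GL (Fin n) F) : Matrix (Fin n) (Fin n) F),
    (((c : GL (Fin n) F)⁻¹ : GL (Fin n) F) : Matrix (Fin n) (Fin n) F), ?_, ?_, ?_, ?_⟩
  · rw [← Units.val_mul, mul_inv_cancel, Units.val_one]
  · rw [← Units.val_mul, inv_mul_cancel, Units.val_one]
  · exact (mem_GU_iff_cstar σ hσ (c : GL (Fin n) F)).mp c.2
  · have h1 : c * (⟨Ag', hmem'⟩ : ↥(Cfsg.GU n F q)) = ⟨Ag, hmem⟩ * c := by
      rw [← hc]
      group
    have h2 := congrArg (fun x : ↥(Cfsg.GU n F q) =>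
      ((x : GL (Fin n) F) : Matrix (Fin n) (Fin n) F)) h1
    simp only [Subgroup.coe_mul, Units.val_mul] at h2
    rw [hAg, hAg'] at h2
    exact h2

end Exist

section Transfer

variable {F : Type*} [Field F]

/-- the hermitian form in matrix terms -/
theorem hermForm_eq_dot {q : ℕ} (σ : F →+* F) (hσ : ∀ x, σ x = x ^ q) (n : ℕ)
    (u v : Fin n → F) : hermForm n F q u v = dotProduct u (fun i => σ (v i)) := by
  unfold hermForm dotProduct
  apply Finset.sum_congr rfl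
  intro i _
  show u i * v i ^ q = u i * σ (v i)
  rw [hσ]

theorem hermForm_mulVec {q : ℕ} (σ : F →+* F) (hσ : ∀ x, σ x = x ^ q) (n : ℕ)
    (T : Matrix (Fin n) (Fin n) F) (x y : Fin n → F) :
    hermForm n F q (T.mulVec x) (T.mulVec y)
      = dotProduct ((cstar σ T * T).mulVec x) (fun i => σ (y i)) := by
  rw [hermForm_eq_dot σ hσ, map_mulVec_comp σ T y, Matrix.dotProduct_mulVec,
    ← Matrix.mulVec_transpose, Matrix.mulVec_mulVec]
  rfl

theorem hermForm_of_cstar {q : ℕ} (σ : F →+* F) (hσ : ∀ x, σ x = x ^ q) (n : ℕ)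
    (A : Matrix (Fin n) (Fin n) F) (hA : cstar σ A * A = 1) (x y : Fin n → F) :
    hermForm n F q (A.mulVec x) (A.mulVec y) = hermForm n F q x y := by
  rw [hermForm_mulVec σ hσ, hA, Matrix.one_mulVec, hermForm_eq_dot σ hσ]

theorem reindex_mulVec {ι : Type*} [Fintype ι] [DecidableEq ι] (n : ℕ) (e : ι ≃ Fin n)
    (M : Matrix ι ι F) (x : ι → F) :
    (Matrix.reindexAlgEquiv F F e M).mulVec (fun i => x (e.symm i))
      = fun i => (M.mulVec x) (e.symm i) := by
  funext i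
  rw [Matrix.coe_reindexAlgEquiv, Matrix.reindex_apply]
  simp only [Matrix.mulVec, dotProduct, Matrix.submatrix_apply]
  exact Equiv.sum_comp e.symm (fun j => M (e.symm i) j * x j)

variable [Fintype F] {q : ℕ}

/-- a semisimple isometry of a hermitian space given by a Gram matrix, with the characteristic
polynomial of a unitary matrix `A` of order prime to `p`, is carried to `A` by an isometry -/
theorem exists_isometry_conj (hF : Fintype.card F = q ^ 2) (p : ℕ) [Fact p.Prime] [CharP F p]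
    (σ : F →+* F) (hσ : ∀ x, σ x = x ^ q) (hne : σ ≠ RingHom.id F) (hσ2 : ∀ a, σ (σ a) = a)
    (n : ℕ) (A : Matrix (Fin n) (Fin n) F) (hA : cstar σ A * A = 1) (K : ℕ) (hK : A ^ K = 1)
    (hKp : ¬ p ∣ K) {ι : Type} [Fintype ι] [DecidableEq ι] (M G : Matrix ι ι F)
    (hG : cstar σ G = G) (hGu : IsUnit G) (hM : cstar σ M * G * M = G) (K' : ℕ)
    (hK' : M ^ K' = 1) (hK'p : ¬ p ∣ K') (hchar : M.charpoly = A.charpoly) :
    ∃ T : (ι → F) →ₗ[F] (Fin n → F), Function.Injective T ∧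
      (∀ x, T (M.mulVec x) = A.mulVec (T x)) ∧
      (∀ x y, hermForm n F q (T x) (T y) = dotProduct (G.mulVec x) (fun i => σ (y i))) := by
  classical
  have hcard : Fintype.card ι = n := by
    have h1 := congrArg Polynomial.natDegree hchar
    rw [Matrix.charpoly_natDegree_eq_dim, Matrix.charpoly_natDegree_eq_dim, Fintype.card_fin] at h1
    exact h1
  obtain ⟨e⟩ : Nonempty (ι ≃ Fin n) := ⟨Fintype.equivFinOfCardEq hcard⟩
  obtain ⟨M₁, hM₁⟩ : ∃ M₁ : Matrix (Fin n) (Fin n) F, M₁ = Matrix.reindexAlgEquiv F F e M :=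
    ⟨_, rfl⟩
  obtain ⟨G₁, hG₁⟩ : ∃ G₁ : Matrix (Fin n) (Fin n) F, G₁ = Matrix.reindexAlgEquiv F F e G :=
    ⟨_, rfl⟩
  have hcre : ∀ X : Matrix ι ι F, cstar σ (Matrix.reindexAlgEquiv F F e X)
      = Matrix.reindexAlgEquiv F F e (cstar σ X) := by
    intro X
    ext i j
    simp [cstar_apply, Matrix.coe_reindexAlgEquiv]
  have hG₁s : cstar σ G₁ = G₁ := by rw [hG₁, hcre, hG]
  have hG₁u : IsUnit G₁ := by rw [hG₁]; exact hGu.map (Matrix.reindexAlgEquiv F F e)
  have hM₁G : cstar σ M₁ * G₁ * M₁ = G₁ := by rw [hM₁, hG₁, hcre, ← map_mul, ← map_mul, hM]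
  have hM₁K : M₁ ^ K' = 1 := by rw [hM₁, ← map_pow, hK', map_one]
  have hM₁c : M₁.charpoly = A.charpoly := by
    rw [hM₁, ← hchar, Matrix.coe_reindexAlgEquiv]
    exact Matrix.charpoly_reindex e M
  obtain ⟨S, hSu, hS⟩ := exists_cstar_mul_self σ hne hσ2 G₁ hG₁s hG₁u
  obtain ⟨S', hSS'⟩ := hSu.exists_right_inv
  have hS'S : S' * S = 1 := mul_eq_one_comm.mp hSS'
  obtain ⟨M₂, hM₂⟩ : ∃ M₂ : Matrix (Fin n) (Fin n) F, M₂ = S * M₁ * S' := ⟨_, rfl⟩
  have hM₂u : cstar σ M₂ * M₂ = 1 := by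
    rw [hM₂, cstar_mul, cstar_mul]
    have e1 : cstar σ S' * (cstar σ M₁ * cstar σ S) * (S * M₁ * S')
        = cstar σ S' * (cstar σ M₁ * (cstar σ S * S) * M₁) * S' := by
      simp only [Matrix.mul_assoc]
    rw [e1, hS, hM₁G, ← hS]
    have e2 : cstar σ S' * (cstar σ S * S) * S' = (cstar σ S' * cstar σ S) * (S * S') := by
      simp only [Matrix.mul_assoc]
    rw [e2, hSS', cstar_mul_eq_one σ hSS', Matrix.mul_one]
  have hM₂pow : ∀ k, M₂ ^ k = S * M₁ ^ k * S' := by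
    intro k
    induction k with
    | zero => rw [pow_zero, pow_zero, Matrix.mul_one, hSS']
    | succ k ih =>
      rw [pow_succ, ih, hM₂, pow_succ]
      calc S * M₁ ^ k * S' * (S * M₁ * S') = S * M₁ ^ k * (S' * S) * M₁ * S' := by
            simp only [Matrix.mul_assoc]
        _ = S * (M₁ ^ k * M₁) * S' := by
            rw [hS'S, Matrix.mul_one]
            simp only [Matrix.mul_assoc]
  have hM₂K : M₂ ^ K' = 1 := by rw [hM₂pow, hM₁K, Matrix.mul_one, hSS']
  have hM₂c : M₂.charpoly = A.charpoly := by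
    rw [hM₂, Matrix.charpoly_mul_comm, ← Matrix.mul_assoc, hS'S, Matrix.one_mul, hM₁c]
  obtain ⟨C, D, hCD, hDC, hCu, hCA⟩ :=
    gu_conj_of_charpoly hF p σ hσ n A M₂ hA hM₂u K K' hK hKp hM₂K hK'p hM₂c
  refine ⟨(Matrix.toLin' (C * S)).comp (LinearEquiv.funCongrLeft F F e.symm).toLinearMap,
    ?_, ?_, ?_⟩
  · rw [LinearMap.coe_comp]
    apply Function.Injective.comp
    · apply Function.LeftInverse.injective (g := Matrix.toLin' (S' * D))
      intro x
      rw [Matrix.toLin'_apply, Matrix.toLin'_apply, Matrix.mulVec_mulVec]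
      have h1 : S' * D * (C * S) = 1 := by
        calc S' * D * (C * S) = S' * (D * C) * S := by simp only [Matrix.mul_assoc]
          _ = 1 := by rw [hDC, Matrix.mul_one, hS'S]
      rw [h1, Matrix.one_mulVec]
    · exact (LinearEquiv.funCongrLeft F F e.symm).injective
  · intro x
    show (C * S).mulVec (fun i => (M.mulVec x) (e.symm i))
      = A.mulVec ((C * S).mulVec (fun i => x (e.symm i)))
    rw [← reindex_mulVec n e M x, ← hM₁, Matrix.mulVec_mulVec, Matrix.mulVec_mulVec]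
    congr 1
    calc C * S * M₁ = C * (S * M₁ * (S' * S)) := by
          rw [hS'S, Matrix.mul_one]
          simp only [Matrix.mul_assoc]
      _ = C * (S * M₁ * S') * S := by simp only [Matrix.mul_assoc]
      _ = C * M₂ * S := by rw [hM₂]
      _ = A * C * S := by rw [hCA]
      _ = A * (C * S) := by rw [Matrix.mul_assoc]
  · intro x y
    show hermForm n F q ((C * S).mulVec (fun i => x (e.symm i)))
      ((C * S).mulVec (fun i => y (e.symm i))) = _
    rw [hermForm_mulVec σ hσ]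
    have h2 : cstar σ (C * S) * (C * S) = G₁ := by
      rw [cstar_mul]
      calc cstar σ S * cstar σ C * (C * S) = cstar σ S * (cstar σ C * C) * S := by
            simp only [Matrix.mul_assoc]
        _ = G₁ := by rw [hCu, Matrix.mul_one, hS]
    rw [h2, hG₁, reindex_mulVec n e G x]
    unfold dotProduct
    exact Equiv.sum_comp e.symm (fun j => G.mulVec x j * σ (y j))

/-- the inclusion of the first summand -/
def incl1 (F : Type*) [Field F] (m n' : ℕ) :
    (Fin m → F) →ₗ[F] (((Fin m ⊕ Fin m) ⊕ Fin n') → F) where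
  toFun u := Sum.elim (Sum.elim u 0) 0
  map_add' u v := by
    funext i
    rcases i with (i | i) | i <;> simp
  map_smul' c u := by
    funext i
    rcases i with (i | i) | i <;> simp

omit [Fintype F] in
theorem incl1_apply (m n' : ℕ) (u : Fin m → F) :
    incl1 F m n' u = Sum.elim (Sum.elim u 0) 0 := rfl

omit [Fintype F] in
theorem incl1_injective (m n' : ℕ) : Function.Injective (incl1 F m n') := by
  intro u v huv
  funext i
  have := congrFun huv (Sum.inl (Sum.inl i))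
  rw [incl1_apply, incl1_apply] at this
  exact this

/-- **Sufficiency.** A unitary matrix of order prime to `p` whose characteristic polynomial is
`g * g^† * h` with `h` twisted-self-reciprocal has an invariant totally isotropic subspace of
dimension `deg g`. -/
theorem gu_ti_of_charpoly (hF : Fintype.card F = q ^ 2) (p : ℕ) [Fact p.Prime] [CharP F p]
    (σ : F →+* F) (hσ : ∀ x, σ x = x ^ q) (hne : σ ≠ RingHom.id F) (hσ2 : ∀ a, σ (σ a) = a)
    (n m : ℕ) (A : Matrix (Fin n) (Fin n) F) (hA : cstar σ A * A = 1) (K : ℕ) (hK : A ^ K = 1)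
    (hKp : ¬ p ∣ K) (g h : F[X]) (hg : g.Monic) (hgd : g.natDegree = m) (hh : h.Monic)
    (hhτ : tdual σ h = h) (hchar : A.charpoly = g * tdual σ g * h) :
    ∃ W : Submodule F (Fin n → F), finrank F W = m ∧
      (∀ u ∈ W, ∀ v ∈ W, hermForm n F q u v = 0) ∧ W.map (Matrix.toLin' A) ≤ W := by
  classical
  have hp : p.Prime := Fact.out
  have hAu := isUnit_of_cstar_mul σ A hA
  have h0A : A.charpoly.coeff 0 ≠ 0 := by
    intro h
    have h1 := Matrix.det_eq_sign_charpoly_coeff A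
    rw [h, mul_zero] at h1
    exact ((Matrix.isUnit_iff_isUnit_det A).mp hAu).ne_zero h1
  rw [hchar, mul_coeff_zero, mul_coeff_zero] at h0A
  have hg0 : g.coeff 0 ≠ 0 := fun h => h0A (by rw [h, zero_mul, zero_mul])
  have hh0 : h.coeff 0 ≠ 0 := fun h => h0A (by rw [h, mul_zero])
  obtain ⟨Ag, k₁, hk₁, hAgk, hAgc⟩ := exists_matrix_charpoly_eq p m g hgd hg hg0
  have hpk₁ : ¬ p ∣ k₁ := (Nat.Prime.coprime_iff_not_dvd hp).mp hk₁.symm
  have hk₁1 : k₁ - 1 + 1 = k₁ := by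
    have : k₁ ≠ 0 := by
      intro h
      rw [h] at hpk₁
      exact hpk₁ (dvd_zero p)
    omega
  obtain ⟨Ag', hAg'⟩ : ∃ Ag' : Matrix (Fin m) (Fin m) F, Ag' = Ag ^ (k₁ - 1) := ⟨_, rfl⟩
  have hAA' : Ag * Ag' = 1 := by rw [hAg', ← pow_succ', hk₁1, hAgk]
  have hA'A : Ag' * Ag = 1 := by rw [hAg', ← pow_succ, hk₁1, hAgk]
  have hAgu : IsUnit Ag := ⟨⟨Ag, Ag', hAA', hA'A⟩, rfl⟩
  have hA'k : Ag' ^ k₁ = 1 := by rw [hAg', ← pow_mul, mul_comm, pow_mul, hAgk, one_pow]
  have hcc : cstar σ Ag * cstar σ Ag' = 1 := cstar_mul_eq_one σ hA'A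
  obtain ⟨n', hn'⟩ : ∃ n', n' = h.natDegree := ⟨_, rfl⟩
  obtain ⟨Bh, k₂, hpk₂, hBk, hBu, hBc⟩ := exists_gu_charpoly hF p σ hσ n' h hn'.symm hh hh0 hhτ
  obtain ⟨Hy, hHy⟩ : ∃ Hy : Matrix (Fin m ⊕ Fin m) (Fin m ⊕ Fin m) F,
      Hy = Matrix.fromBlocks Ag 0 0 (cstar σ Ag') := ⟨_, rfl⟩
  obtain ⟨J2, hJ2⟩ : ∃ J2 : Matrix (Fin m ⊕ Fin m) (Fin m ⊕ Fin m) F,
      J2 = Matrix.fromBlocks (0 : Matrix (Fin m) (Fin m) F) (1 : Matrix (Fin m) (Fin m) F)
        (1 : Matrix (Fin m) (Fin m) F) (0 : Matrix (Fin m) (Fin m) F) := ⟨_, rfl⟩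
  have hHyJ : cstar σ Hy * J2 * Hy = J2 := by
    rw [hHy, hJ2, cstar_fromBlocks_diag, cstar_cstar σ hσ2, Matrix.fromBlocks_multiply,
      Matrix.fromBlocks_multiply]
    simp only [Matrix.mul_zero, Matrix.zero_mul, Matrix.mul_one, Matrix.one_mul, add_zero,
      zero_add]
    rw [hA'A, hcc]
  have hJs : cstar σ J2 = J2 := by rw [hJ2]; exact cstar_fromBlocks_anti σ
  have hJJ : J2 * J2 = 1 := by
    rw [hJ2, Matrix.fromBlocks_multiply]
    simp only [Matrix.mul_zero, Matrix.zero_mul, Matrix.mul_one, add_zero, zero_add]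
    exact Matrix.fromBlocks_one
  obtain ⟨M, hMdef⟩ : ∃ M : Matrix ((Fin m ⊕ Fin m) ⊕ Fin n') ((Fin m ⊕ Fin m) ⊕ Fin n') F,
      M = Matrix.fromBlocks Hy 0 0 Bh := ⟨_, rfl⟩
  obtain ⟨G, hGdef⟩ : ∃ G : Matrix ((Fin m ⊕ Fin m) ⊕ Fin n') ((Fin m ⊕ Fin m) ⊕ Fin n') F,
      G = Matrix.fromBlocks J2 0 0 (1 : Matrix (Fin n') (Fin n') F) := ⟨_, rfl⟩
  have hG : cstar σ G = G := by rw [hGdef, cstar_fromBlocks_diag, hJs, cstar_one]
  have hGG : G * G = 1 := by
    rw [hGdef, Matrix.fromBlocks_multiply]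
    simp only [Matrix.mul_zero, Matrix.zero_mul, Matrix.mul_one, add_zero, zero_add]
    rw [hJJ]
    exact Matrix.fromBlocks_one
  have hGu : IsUnit G := ⟨⟨G, G, hGG, hGG⟩, rfl⟩
  have hM : cstar σ M * G * M = G := by
    rw [hMdef, hGdef, cstar_fromBlocks_diag, Matrix.fromBlocks_multiply,
      Matrix.fromBlocks_multiply]
    simp only [Matrix.mul_zero, Matrix.zero_mul, Matrix.mul_one, add_zero, zero_add]
    rw [hHyJ, hBu]
  have hpk : ¬ p ∣ k₁ * k₂ := by
    intro hd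
    rcases (Nat.Prime.dvd_mul hp).mp hd with h1 | h1
    · exact hpk₁ h1
    · exact hpk₂ h1
  have hMK : M ^ (k₁ * k₂) = 1 := by
    rw [hMdef, fromBlocks_diag_pow, hHy, fromBlocks_diag_pow, ← cstar_pow, pow_mul, hAgk, one_pow,
      pow_mul, hA'k, one_pow, cstar_one, mul_comm k₁ k₂, pow_mul, hBk, one_pow,
      Matrix.fromBlocks_one, Matrix.fromBlocks_one]
  have hMc : M.charpoly = A.charpoly := by
    have e1 : cstar σ Ag' = (cstar σ Ag)⁻¹ := (Matrix.inv_eq_right_inv hcc).symm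
    rw [hMdef, Matrix.charpoly_fromBlocks_zero₁₂, hHy, Matrix.charpoly_fromBlocks_zero₁₂, e1,
      charpoly_cstar_inv σ Ag hAgu, hAgc, hBc, hchar]
  obtain ⟨T, hTinj, hTM, hTG⟩ := exists_isometry_conj hF p σ hσ hne hσ2 n A hA K hK hKp M G hG
    hGu hM (k₁ * k₂) hMK hpk hMc
  have hMincl : ∀ x : Fin m → F, M.mulVec (incl1 F m n' x) = incl1 F m n' (Ag.mulVec x) := by
    intro x
    rw [hMdef, hHy, incl1_apply, incl1_apply, Matrix.fromBlocks_mulVec, Matrix.fromBlocks_mulVec]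
    simp
  have hGincl : ∀ x y : Fin m → F,
      dotProduct (G.mulVec (incl1 F m n' x)) (fun i => σ (incl1 F m n' y i)) = 0 := by
    intro x y
    rw [hGdef, hJ2, incl1_apply, incl1_apply, Matrix.fromBlocks_mulVec, Matrix.fromBlocks_mulVec]
    simp [dotProduct, Fintype.sum_sum_type]
  refine ⟨LinearMap.range (T ∘ₗ incl1 F m n'), ?_, ?_, ?_⟩
  · have hinj : Function.Injective (T ∘ₗ incl1 F m n') := by
      rw [LinearMap.coe_comp]
      exact hTinj.comp (incl1_injective m n')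
    rw [LinearMap.finrank_range_of_inj hinj, Module.finrank_fin_fun]
  · rintro u ⟨x, rfl⟩ v ⟨y, rfl⟩
    rw [LinearMap.comp_apply, LinearMap.comp_apply, hTG]
    exact hGincl x y
  · intro v hv
    obtain ⟨w, hw, rfl⟩ := Submodule.mem_map.mp hv
    obtain ⟨x, rfl⟩ := hw
    rw [Matrix.toLin'_apply, LinearMap.comp_apply, ← hTM, hMincl]
    exact ⟨Ag.mulVec x, rfl⟩

end Transfer

end Cfsg.Agent.Lib.helper63.SuTI
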