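import Mathlib
import Cfsg.Agent.Lib.helper63.SuTI1
import Cfsg.Agent.Lib.helper63.SuTI2
import Cfsg.Agent.Lib.helper63.SpTI5

/-! Polynomial bookkeeping for unitary matrices with `A^r = 1`. -/

set_option autoImplicit false

namespace Cfsg.Agent.Lib.helper63.SuTI

open Module Cfsg Polynomial Cfsg.Agent.Lib.helper17 Cfsg.Agent.Lib.helper45
  Cfsg.Agent.Lib.helper48

section Poly

variable {F : Type*} [Field F] [Fintype F] {q : ℕ} (p : ℕ) [Fact p.Prime] [CharP F p] {r : ℕ}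
  [Fact r.Prime] (hrp : r ≠ p)

include hrp in
/-- the shape of the characteristic polynomial of a unitary matrix with `A^r = 1` -/
theorem gu_charpoly_blockPoly (σ : F →+* F) (a : ℕ) (hσ' : ∀ x, σ x = x ^ (p ^ a)) (n : ℕ)
    (A : Matrix (Fin n) (Fin n) F) (hA : cstar σ A * A = 1) (hAr : A ^ r = 1) :
    ∃ (a₀ : ℕ) (𝔪 : Multiset F[X]), (∀ P ∈ 𝔪, P ∈ cycFactors r F) ∧
      A.charpoly = blockPoly a₀ 𝔪 ∧ 𝔪.map (tdual σ) = 𝔪 ∧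
      a₀ + orderOf ((Fintype.card F : ℕ) : ZMod r) * Multiset.card 𝔪 = n := by
  classical
  have hdvd := charpoly_dvd_pow_of_pow_eq_one A r hAr
  obtain ⟨a₀, 𝔪, h𝔪, hchar⟩ := exists_blockPoly (Matrix.charpoly_monic _) hdvd
  have hmτ : ∀ P ∈ 𝔪.map (tdual σ), P ∈ cycFactors r F := by
    intro P hP
    obtain ⟨Q, hQ, rfl⟩ := Multiset.mem_map.mp hP
    exact tdual_mem_cycFactors p hrp σ a hσ' (h𝔪 Q hQ)
  have hAu := isUnit_of_cstar_mul σ A hA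
  have hτ : tdual σ A.charpoly = A.charpoly := by
    rw [← charpoly_cstar_inv σ A hAu, Matrix.inv_eq_right_inv hA]
  rw [hchar, tdual_blockPoly] at hτ
  have hinv : 𝔪.map (tdual σ) = 𝔪 :=
    add_left_cancel (blockPoly_injective _ _ _ _ hmτ h𝔪 hτ)
  refine ⟨a₀, 𝔪, h𝔪, hchar, hinv, ?_⟩
  rw [← blockPoly_natDegree p hrp a₀ 𝔪 h𝔪, ← hchar, Matrix.charpoly_natDegree_eq_dim,
    Fintype.card_fin]

include hrp in
/-- multiset form of `g * g^† ∣ χ` -/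
theorem uti_blockPoly (σ : F →+* F) (a : ℕ) (hσ' : ∀ x, σ x = x ^ (p ^ a)) (a₀ : ℕ)
    (𝔪 : Multiset F[X]) (h𝔪 : ∀ P ∈ 𝔪, P ∈ cycFactors r F)
    (g : F[X]) (hg : g.Monic) (hdvd : g * tdual σ g ∣ blockPoly a₀ 𝔪) :
    ∃ (w₀ : ℕ) (𝔫 : Multiset F[X]), (∀ P ∈ 𝔫, P ∈ cycFactors r F) ∧
      g.natDegree = w₀ + orderOf ((Fintype.card F : ℕ) : ZMod r) * Multiset.card 𝔫 ∧
      2 * w₀ ≤ a₀ ∧ 𝔫 + 𝔫.map (tdual σ) ≤ 𝔪 := by
  obtain ⟨k, hk⟩ := blockPoly_dvd a₀ 𝔪 h𝔪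
  have hgk : g ∣ (X ^ r - 1 : F[X]) ^ k := (Dvd.intro _ rfl).trans (hdvd.trans hk)
  obtain ⟨w₀, 𝔫, h𝔫, rfl⟩ := exists_blockPoly hg hgk
  have hmτ : ∀ P ∈ 𝔫.map (tdual σ), P ∈ cycFactors r F := by
    intro P hP
    obtain ⟨Q, hQ, rfl⟩ := Multiset.mem_map.mp hP
    exact tdual_mem_cycFactors p hrp σ a hσ' (h𝔫 Q hQ)
  have e2 : blockPoly w₀ 𝔫 * blockPoly w₀ (𝔫.map (tdual σ))
      = blockPoly (2 * w₀) (𝔫 + 𝔫.map (tdual σ)) := by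
    unfold blockPoly
    rw [Multiset.prod_add, two_mul, pow_add]
    ring
  rw [tdual_blockPoly, e2] at hdvd
  have hmem : ∀ P ∈ 𝔫 + 𝔫.map (tdual σ), P ∈ cycFactors r F := by
    intro P hP
    rcases Multiset.mem_add.mp hP with h1 | h1
    · exact h𝔫 P h1
    · exact hmτ P h1
  obtain ⟨h3, h4⟩ := Cfsg.Agent.Lib.helper63.SpTI.blockPoly_dvd_le p hrp a₀ (2 * w₀) 𝔪 _ h𝔪
    hmem hdvd
  exact ⟨w₀, 𝔫, h𝔫, blockPoly_natDegree p hrp w₀ 𝔫 h𝔫, h3, h4⟩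

include hrp in
/-- an invariant totally isotropic subspace, in terms of the factorisation of the characteristic
polynomial -/
theorem gu_ti_blockPoly (σ : F →+* F) (a : ℕ) (hσ : ∀ x, σ x = x ^ q)
    (hσ' : ∀ x, σ x = x ^ (p ^ a)) (hσ2 : ∀ x, σ (σ x) = x) (n : ℕ)
    (A : Matrix (Fin n) (Fin n) F) (hA : cstar σ A * A = 1) (hAr : A ^ r = 1)
    (a₀ : ℕ) (𝔪 : Multiset F[X]) (h𝔪 : ∀ P ∈ 𝔪, P ∈ cycFactors r F)
    (hchar : A.charpoly = blockPoly a₀ 𝔪) (W : Submodule F (Fin n → F))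
    (hti : ∀ u ∈ W, ∀ v ∈ W, hermForm n F q u v = 0)
    (hinv : W.map (Matrix.toLin' A) ≤ W) :
    ∃ (w₀ : ℕ) (𝔫 : Multiset F[X]), (∀ P ∈ 𝔫, P ∈ cycFactors r F) ∧
      finrank F W = w₀ + orderOf ((Fintype.card F : ℕ) : ZMod r) * Multiset.card 𝔫 ∧
      2 * w₀ ≤ a₀ ∧ 𝔫 + 𝔫.map (tdual σ) ≤ 𝔪 := by
  have hp : p.Prime := Fact.out
  have hr : r.Prime := Fact.out
  have hpr : ¬ p ∣ r := fun h => hrp ((Nat.prime_dvd_prime_iff_eq hp hr).mp h).symm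
  have hr1 : r - 1 + 1 = r := Nat.sub_add_cancel hr.one_le
  have hss := isSemisimple_toLin'_of_pow_eq_one p A r hpr hAr
  obtain ⟨g, hgm, hgd, hgdvd⟩ := gu_charpoly_ti_dvd σ hσ hσ2 n A (A ^ (r - 1))
    (by rw [← pow_succ', hr1, hAr]) (hermForm_of_cstar σ hσ n A hA) hss W hti hinv
  rw [hchar] at hgdvd
  obtain ⟨w₀, 𝔫, h𝔫, h1, h2, h3⟩ := uti_blockPoly p hrp σ a hσ' a₀ 𝔪 h𝔪 g hgm hgdvd
  exact ⟨w₀, 𝔫, h𝔫, by rw [← hgd, h1], h2, h3⟩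

include hrp in
/-- the converse: an invariant totally isotropic subspace from a factorisation -/
theorem gu_ti_of_blockPoly (hF : Fintype.card F = q ^ 2) (σ : F →+* F) (a : ℕ)
    (hσ : ∀ x, σ x = x ^ q) (hσ' : ∀ x, σ x = x ^ (p ^ a)) (hne : σ ≠ RingHom.id F)
    (hσ2 : ∀ x, σ (σ x) = x) (n m : ℕ) (A : Matrix (Fin n) (Fin n) F)
    (hA : cstar σ A * A = 1) (hAr : A ^ r = 1) (a₀ : ℕ) (𝔪 : Multiset F[X])
    (h𝔪 : ∀ P ∈ 𝔪, P ∈ cycFactors r F) (hchar : A.charpoly = blockPoly a₀ 𝔪)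
    (hτ : 𝔪.map (tdual σ) = 𝔪) (w₀ : ℕ) (𝔫 : Multiset F[X])
    (h𝔫 : ∀ P ∈ 𝔫, P ∈ cycFactors r F)
    (hm : m = w₀ + orderOf ((Fintype.card F : ℕ) : ZMod r) * Multiset.card 𝔫)
    (hw : 2 * w₀ ≤ a₀) (hle : 𝔫 + 𝔫.map (tdual σ) ≤ 𝔪) :
    ∃ W : Submodule F (Fin n → F), finrank F W = m ∧
      (∀ u ∈ W, ∀ v ∈ W, hermForm n F q u v = 0) ∧ W.map (Matrix.toLin' A) ≤ W := by
  have hp : p.Prime := Fact.out
  have hr : r.Prime := Fact.out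
  have hpr : ¬ p ∣ r := fun h => hrp ((Nat.prime_dvd_prime_iff_eq hp hr).mp h).symm
  obtain ⟨𝔯, h𝔯⟩ := Multiset.le_iff_exists_add.mp hle
  have h𝔯mem : ∀ P ∈ 𝔯, P ∈ cycFactors r F := by
    intro P hP
    apply h𝔪
    rw [h𝔯]
    exact Multiset.mem_add.mpr (Or.inr hP)
  have hττ : ∀ P ∈ cycFactors r F, tdual σ (tdual σ P) = P :=
    fun P hP => tdual_tdual σ hσ2 hP.2.1 (cycFactors_coeff_zero_ne hP)
  have hττ𝔫 : (𝔫.map (tdual σ)).map (tdual σ) = 𝔫 := by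
    rw [Multiset.map_map]
    conv_rhs => rw [← Multiset.map_id 𝔫]
    exact Multiset.map_congr rfl (fun P hP => hττ P (h𝔫 P hP))
  have h𝔯τ : 𝔯.map (tdual σ) = 𝔯 := by
    have h1 := hτ
    rw [h𝔯, Multiset.map_add, Multiset.map_add, hττ𝔫, add_comm (𝔫.map (tdual σ)) 𝔫] at h1
    exact add_left_cancel h1
  have hmτ : ∀ P ∈ 𝔫.map (tdual σ), P ∈ cycFactors r F := by
    intro P hP
    obtain ⟨Q, hQ, rfl⟩ := Multiset.mem_map.mp hP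
    exact tdual_mem_cycFactors p hrp σ a hσ' (h𝔫 Q hQ)
  have hchar' : A.charpoly = blockPoly w₀ 𝔫 * tdual σ (blockPoly w₀ 𝔫)
      * blockPoly (a₀ - 2 * w₀) 𝔯 := by
    rw [hchar, h𝔯, tdual_blockPoly]
    unfold blockPoly
    rw [Multiset.prod_add, Multiset.prod_add]
    have e1 : (X - C 1 : F[X]) ^ a₀ = (X - C 1) ^ w₀ * (X - C 1) ^ w₀ * (X - C 1) ^ (a₀ - 2 * w₀) := by
      rw [← pow_add, ← pow_add]
      congr 1
      omega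
    rw [e1]
    ring
  exact gu_ti_of_charpoly hF p σ hσ hne hσ2 n m A hA r hAr hpr (blockPoly w₀ 𝔫)
    (blockPoly (a₀ - 2 * w₀) 𝔯) (blockPoly_monic w₀ 𝔫 h𝔫)
    (by rw [blockPoly_natDegree p hrp w₀ 𝔫 h𝔫, hm]) (blockPoly_monic _ 𝔯 h𝔯mem)
    (by rw [tdual_blockPoly, h𝔯τ]) hchar'

include hrp in
/-- existence of a unitary matrix with a prescribed characteristic polynomial -/
theorem exists_gu_blockPoly (hF : Fintype.card F = q ^ 2) (σ : F →+* F)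
    (hσ : ∀ x, σ x = x ^ q) (n a₀ : ℕ) (𝔪 : Multiset F[X])
    (h𝔪 : ∀ P ∈ 𝔪, P ∈ cycFactors r F) (hτ : 𝔪.map (tdual σ) = 𝔪)
    (hdeg : a₀ + orderOf ((Fintype.card F : ℕ) : ZMod r) * Multiset.card 𝔪 = n) :
    ∃ B : Matrix (Fin n) (Fin n) F, cstar σ B * B = 1 ∧ B ^ r = 1 ∧
      B.charpoly = blockPoly a₀ 𝔪 := by
  classical
  have hr : r.Prime := Fact.out
  obtain ⟨k, hfk⟩ := blockPoly_dvd a₀ 𝔪 h𝔪
  have h0 : (blockPoly a₀ 𝔪).coeff 0 ≠ 0 := coeff_zero_ne_of_dvd_pow hr.pos hfk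
  obtain ⟨B, k', hk', hBk, hBu, hBc⟩ := exists_gu_charpoly hF p σ hσ n (blockPoly a₀ 𝔪)
    (by rw [blockPoly_natDegree p hrp a₀ 𝔪 h𝔪, hdeg]) (blockPoly_monic a₀ 𝔪 h𝔪) h0
    (by rw [tdual_blockPoly, hτ])
  have hss := isSemisimple_toLin'_of_pow_eq_one p B k' hk' hBk
  have hBr : B ^ r = 1 := matrix_pow_eq_one_of_semisimple B hss r k (by rw [hBc]; exact hfk)
  exact ⟨B, hBu, hBr, hBc⟩

omit [Fact p.Prime] [CharP F p] in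
/-- the determinant of a unitary matrix of order `r` is trivial unless `r ∣ q + 1` -/
theorem det_eq_one_of_not_dvd (σ : F →+* F) (hσ : ∀ x, σ x = x ^ q) (n : ℕ)
    (B : Matrix (Fin n) (Fin n) F) (hB : cstar σ B * B = 1) (hBr : B ^ r = 1)
    (hrq : ¬ r ∣ q + 1) : B.det = 1 := by
  have hr : r.Prime := Fact.out
  have h1 : B.det ^ r = 1 := by rw [← Matrix.det_pow, hBr, Matrix.det_one]
  have h2 : B.det ^ (q + 1) = 1 := by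
    have h3 := congrArg Matrix.det hB
    rw [Matrix.det_mul, det_cstar, Matrix.det_one, hσ] at h3
    rw [pow_succ]
    exact h3
  have h4 : orderOf B.det ∣ r := orderOf_dvd_of_pow_eq_one h1
  have h5 : orderOf B.det ∣ q + 1 := orderOf_dvd_of_pow_eq_one h2
  rcases (Nat.dvd_prime hr).mp h4 with h6 | h6
  · exact orderOf_eq_one_iff.mp h6
  · rw [h6] at h5
    exact absurd h5 hrq

include hrp in
/-- a non-scalar element of `SU` with prescribed characteristic polynomial, and the constraints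
coming from an invariant totally isotropic `m`-space -/
theorem su_bad_template (hF : Fintype.card F = q ^ 2) (σ : F →+* F) (a : ℕ)
    (hσ : ∀ x, σ x = x ^ q) (hσ' : ∀ x, σ x = x ^ (p ^ a)) (hσ2 : ∀ x, σ (σ x) = x)
    (n m a₀ : ℕ) (𝔪 : Multiset F[X])
    (h𝔪 : ∀ P ∈ 𝔪, P ∈ cycFactors r F) (hτ : 𝔪.map (tdual σ) = 𝔪)
    (hdeg : a₀ + orderOf ((Fintype.card F : ℕ) : ZMod r) * Multiset.card 𝔪 = n)
    (hdet : ¬ r ∣ q + 1 ∨ (blockPoly a₀ 𝔪).coeff 0 = (-1) ^ n)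
    (hns : ∀ z : F, ∃ Q ∈ 𝔪, Q ≠ X - C z)
    (H : ∀ x : Matrix.SpecialLinearGroup (Fin n) F, x ∈ Cfsg.SU n F q →
      (∃ z : F, ((x ^ r : Matrix.SpecialLinearGroup (Fin n) F) : Matrix (Fin n) (Fin n) F)
        = z • (1 : Matrix (Fin n) (Fin n) F)) →
      (∀ z : F, (x : Matrix (Fin n) (Fin n) F) ≠ z • (1 : Matrix (Fin n) (Fin n) F)) →
      ∃ W : Submodule F (Fin n → F), finrank F W = m ∧
        (∀ u ∈ W, ∀ v ∈ W, hermForm n F q u v = 0) ∧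
        W.map (Matrix.toLin' (x : Matrix (Fin n) (Fin n) F)) ≤ W) :
    ∃ (w₀ : ℕ) (𝔫 : Multiset F[X]), (∀ P ∈ 𝔫, P ∈ cycFactors r F) ∧
      m = w₀ + orderOf ((Fintype.card F : ℕ) : ZMod r) * Multiset.card 𝔫 ∧
      2 * w₀ ≤ a₀ ∧ 𝔫 + 𝔫.map (tdual σ) ≤ 𝔪 := by
  classical
  obtain ⟨B, hBu, hBr, hBc⟩ := exists_gu_blockPoly p hrp hF σ hσ n a₀ 𝔪 h𝔪 hτ hdeg
  have hBdet : B.det = 1 := by
    rcases hdet with h | h
    · exact det_eq_one_of_not_dvd σ hσ n B hBu hBr h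
    · rw [Matrix.det_eq_sign_charpoly_coeff, hBc, h, Fintype.card_fin, ← mul_pow]
      simp
  obtain ⟨x, hx⟩ : ∃ x : Matrix.SpecialLinearGroup (Fin n) F,
      (x : Matrix (Fin n) (Fin n) F) = B := ⟨⟨B, hBdet⟩, rfl⟩
  have hxSU : x ∈ Cfsg.SU n F q := (mem_SU_iff_cstar σ hσ x).mpr (by rw [hx]; exact hBu)
  have hxr : ∃ z : F, ((x ^ r : Matrix.SpecialLinearGroup (Fin n) F) : Matrix (Fin n) (Fin n) F)
      = z • (1 : Matrix (Fin n) (Fin n) F) :=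
    ⟨1, by rw [Matrix.SpecialLinearGroup.coe_pow, hx, hBr, one_smul]⟩
  have hnsx : ∀ z : F, (x : Matrix (Fin n) (Fin n) F) ≠ z • 1 := by
    intro z hz
    obtain ⟨Q, hQ, hQne⟩ := hns z
    apply hQne
    apply Cfsg.Agent.Lib.helper63.SpTI.eq_of_dvd_charpoly_scalar (ι := Fin n) z Q (h𝔪 Q hQ).1
      (h𝔪 Q hQ).2.1
    rw [← hz, hx, hBc]
    unfold blockPoly
    exact Dvd.dvd.mul_left (Multiset.dvd_prod hQ) _
  obtain ⟨W, hW, hti, hinv⟩ := H x hxSU hxr hnsx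
  rw [hx] at hinv
  obtain ⟨w₀, 𝔫, h𝔫, h1, h2, h3⟩ := gu_ti_blockPoly p hrp σ a hσ hσ' hσ2 n B hBu hBr a₀ 𝔪 h𝔪
    hBc W hti hinv
  exact ⟨w₀, 𝔫, h𝔫, by rw [← hW, h1], h2, h3⟩

end Poly

end Cfsg.Agent.Lib.helper63.SuTI
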