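import Mathlib
import Cfsg.Agent.Lib.helper63.SuTI3
import Cfsg.Agent.Lib.helper63.SpTI6

/-! Unitary matrices of odd prime order `r ≠ p`: the arithmetic conditions for the existence of
invariant totally isotropic `m`-spaces. -/

set_option autoImplicit false

namespace Cfsg.Agent.Lib.helper63.SuTI

open Module Cfsg Polynomial Cfsg.Agent.Lib.helper17 Cfsg.Agent.Lib.helper45
  Cfsg.Agent.Lib.helper48

section Arith

variable {F : Type*} [Field F] [Fintype F] {q : ℕ} (p : ℕ) [Fact p.Prime] [CharP F p] {r : ℕ}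
  [Fact r.Prime] (hrp : r ≠ p)

include hrp in
/-- **Sufficiency** for unitary matrices with `A^r = 1`. -/
theorem gu_ti_of_cond (hF : Fintype.card F = q ^ 2) (σ : F →+* F) (a : ℕ)
    (hσ : ∀ x, σ x = x ^ q) (hσ' : ∀ x, σ x = x ^ (p ^ a)) (hne : σ ≠ RingHom.id F)
    (hσ2 : ∀ x, σ (σ x) = x) (n m : ℕ) (hmn : 2 * m ≤ n) (b : ℕ)
    (hb : b = orderOf ((Fintype.card F : ℕ) : ZMod r))
    (hcond : ((∀ P ∈ cycFactors r F, tdual σ P = P) ∧ 2 * (m % b) ≤ n % b ∧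
        (r - 1) / b + 2 * (m / b) ≤ n / b) ∨
      ((∀ P ∈ cycFactors r F, tdual σ P ≠ P) ∧ 2 * (m % b) ≤ n % (2 * b)))
    (A : Matrix (Fin n) (Fin n) F) (hA : cstar σ A * A = 1) (hAr : A ^ r = 1) :
    ∃ W : Submodule F (Fin n → F), finrank F W = m ∧
      (∀ u ∈ W, ∀ v ∈ W, hermForm n F q u v = 0) ∧ W.map (Matrix.toLin' A) ≤ W := by
  classical
  have hipos := Cfsg.Agent.Lib.helper63.SpTI.orderOf_card_pos (F := F) p hrp
  rw [← hb] at hipos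
  obtain ⟨a₀, 𝔪, h𝔪, hchar, hinv, hdeg⟩ := gu_charpoly_blockPoly p hrp σ a hσ' n A hA hAr
  rw [← hb] at hdeg
  suffices hsuff : ∃ (w₀ : ℕ) (𝔫 : Multiset F[X]), (∀ P ∈ 𝔫, P ∈ cycFactors r F) ∧
      m = w₀ + b * Multiset.card 𝔫 ∧ 2 * w₀ ≤ a₀ ∧ 𝔫 + 𝔫.map (tdual σ) ≤ 𝔪 by
    obtain ⟨w₀, 𝔫, h𝔫, hm, hw, hle⟩ := hsuff
    exact gu_ti_of_blockPoly p hrp hF σ a hσ hσ' hne hσ2 n m A hA hAr a₀ 𝔪 h𝔪 hchar hinv w₀ 𝔫
      h𝔫 (by rw [← hb]; exact hm) hw hle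
  have hm1 := Nat.div_add_mod m b
  have hd1 := Nat.div_add_mod n b
  rcases hcond with ⟨hfix, hc2, hc3⟩ | ⟨hfree, hc2⟩
  · -- self-dual factors
    have hmapfix : ∀ 𝔰 : Multiset F[X], (∀ P ∈ 𝔰, P ∈ cycFactors r F) →
        𝔰.map (tdual σ) = 𝔰 := by
      intro 𝔰 h𝔰
      conv_rhs => rw [← Multiset.map_id 𝔰]
      exact Multiset.map_congr rfl (fun P hP => hfix P (h𝔰 P hP))
    obtain ⟨𝔫, 𝔯, hsplit, hnodup⟩ := Cfsg.Agent.Lib.helper63.SpTI.exists_halving 𝔪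
    have h𝔫 : ∀ P ∈ 𝔫, P ∈ cycFactors r F := by
      intro P hP
      apply h𝔪
      rw [hsplit]
      exact Multiset.mem_add.mpr (Or.inl (Multiset.mem_add.mpr (Or.inl hP)))
    have h𝔯 : ∀ P ∈ 𝔯, P ∈ cycFactors r F := by
      intro P hP
      apply h𝔪
      rw [hsplit]
      exact Multiset.mem_add.mpr (Or.inr hP)
    have hρ := Cfsg.Agent.Lib.helper63.SpTI.card_le_of_nodup p hrp 𝔯 h𝔯 hnodup
    rw [← hb] at hρ
    obtain ⟨S, hS⟩ : ∃ S, S = Multiset.card 𝔫 := ⟨_, rfl⟩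
    obtain ⟨ρ, hρdef⟩ : ∃ ρ, ρ = Multiset.card 𝔯 := ⟨_, rfl⟩
    have hcard𝔪 : Multiset.card 𝔪 = 2 * S + ρ := by
      rw [hsplit, Multiset.card_add, Multiset.card_add, ← hS, ← hρdef]; ring
    rw [hcard𝔪] at hdeg
    rw [← hρdef] at hρ
    obtain ⟨B, hB⟩ : ∃ B, B = min S (m / b) := ⟨_, rfl⟩
    have hBS : B ≤ S := by rw [hB]; exact min_le_left _ _
    have hBm : B ≤ m / b := by rw [hB]; exact min_le_right _ _
    obtain ⟨𝔫₁, 𝔫₂, hsplit2, hcard1⟩ :=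
      Cfsg.Agent.Lib.helper63.SpTI.exists_sub_card 𝔫 B (by rw [← hS]; exact hBS)
    have h𝔫₁ : ∀ P ∈ 𝔫₁, P ∈ cycFactors r F := by
      intro P hP
      apply h𝔫
      rw [hsplit2]
      exact Multiset.mem_add.mpr (Or.inl hP)
    obtain ⟨bB, hbB⟩ : ∃ bB, bB = b * B := ⟨_, rfl⟩
    have hbBm : bB ≤ b * (m / b) := by rw [hbB]; exact Nat.mul_le_mul_left b hBm
    obtain ⟨w₀, hw₀⟩ : ∃ w₀, w₀ = m - bB := ⟨_, rfl⟩
    have hmw : w₀ + bB = m := by omega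
    have hkey : 2 * w₀ ≤ a₀ := by
      have e1 : b * (2 * S + ρ) = 2 * (b * S) + b * ρ := by ring
      rw [e1] at hdeg
      rcases le_or_gt (m / b) S with hcase | hcase
      · have hBeq : B = m / b := by rw [hB]; exact min_eq_right hcase
        have hw₀eq : w₀ = m % b := by rw [hw₀, hbB, hBeq]; omega
        have hmod : n % b ≤ a₀ := by
          have e2 : n = a₀ + b * (2 * S + ρ) := by rw [e1]; omega
          have e3 : n % b = a₀ % b := by rw [e2, Nat.add_mul_mod_self_left]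
          rw [e3]
          exact Nat.mod_le _ _
        omega
      · have hBeq : B = S := by rw [hB]; exact min_eq_left (le_of_lt hcase)
        have hbρ : b * ρ ≤ b * ((r - 1) / b) := Nat.mul_le_mul_left b hρ
        have hc4 : b * ((r - 1) / b) + 2 * (b * (m / b)) ≤ b * (n / b) := by
          have := Nat.mul_le_mul_left b hc3
          calc b * ((r - 1) / b) + 2 * (b * (m / b)) = b * ((r - 1) / b + 2 * (m / b)) := by ring
            _ ≤ b * (n / b) := this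
        have hbBS : bB = b * S := by rw [hbB, hBeq]
        omega
    refine ⟨w₀, 𝔫₁, h𝔫₁, by rw [hcard1, ← hbB]; omega, hkey, ?_⟩
    rw [hmapfix 𝔫₁ h𝔫₁, hsplit, hsplit2]
    have e3 : 𝔫₁ + 𝔫₂ + (𝔫₁ + 𝔫₂) + 𝔯 = (𝔫₁ + 𝔫₁) + (𝔫₂ + 𝔫₂ + 𝔯) := by abel
    rw [e3]
    exact Multiset.le_add_right _ _
  · -- factors in dual pairs
    have hτ2 : ∀ P ∈ cycFactors r F, tdual σ (tdual σ P) = P :=
      fun P hP => tdual_tdual σ hσ2 hP.2.1 (cycFactors_coeff_zero_ne hP)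
    obtain ⟨𝔫, hsplit⟩ := Cfsg.Agent.Lib.helper63.SpTI.exists_pairing (cycFactors r F) (tdual σ)
      hτ2 hfree (Multiset.card 𝔪) 𝔪 rfl h𝔪 hinv
    have h𝔫 : ∀ P ∈ 𝔫, P ∈ cycFactors r F := by
      intro P hP
      apply h𝔪
      rw [hsplit]
      exact Multiset.mem_add.mpr (Or.inl hP)
    obtain ⟨S, hS⟩ : ∃ S, S = Multiset.card 𝔫 := ⟨_, rfl⟩
    have hcard𝔪 : Multiset.card 𝔪 = 2 * S := by
      rw [hsplit, Multiset.card_add, Multiset.card_map, ← hS]; ring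
    rw [hcard𝔪] at hdeg
    obtain ⟨B, hB⟩ : ∃ B, B = min S (m / b) := ⟨_, rfl⟩
    have hBS : B ≤ S := by rw [hB]; exact min_le_left _ _
    have hBm : B ≤ m / b := by rw [hB]; exact min_le_right _ _
    obtain ⟨𝔫₁, 𝔫₂, hsplit2, hcard1⟩ :=
      Cfsg.Agent.Lib.helper63.SpTI.exists_sub_card 𝔫 B (by rw [← hS]; exact hBS)
    have h𝔫₁ : ∀ P ∈ 𝔫₁, P ∈ cycFactors r F := by
      intro P hP
      apply h𝔫
      rw [hsplit2]
      exact Multiset.mem_add.mpr (Or.inl hP)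
    obtain ⟨bB, hbB⟩ : ∃ bB, bB = b * B := ⟨_, rfl⟩
    have hbBm : bB ≤ b * (m / b) := by rw [hbB]; exact Nat.mul_le_mul_left b hBm
    obtain ⟨w₀, hw₀⟩ : ∃ w₀, w₀ = m - bB := ⟨_, rfl⟩
    have hmw : w₀ + bB = m := by omega
    have hkey : 2 * w₀ ≤ a₀ := by
      have e1 : b * (2 * S) = 2 * (b * S) := by ring
      rcases le_or_gt (m / b) S with hcase | hcase
      · have hBeq : B = m / b := by rw [hB]; exact min_eq_right hcase
        have hw₀eq : w₀ = m % b := by rw [hw₀, hbB, hBeq]; omega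
        have hmod : n % (2 * b) ≤ a₀ := by
          have e2 : n = a₀ + (2 * b) * S := by rw [← hdeg]; ring
          have e3 : n % (2 * b) = a₀ % (2 * b) := by rw [e2, Nat.add_mul_mod_self_left]
          rw [e3]
          exact Nat.mod_le _ _
        omega
      · have hBeq : B = S := by rw [hB]; exact min_eq_left (le_of_lt hcase)
        have hbBS : bB = b * S := by rw [hbB, hBeq]
        rw [e1] at hdeg
        omega
    refine ⟨w₀, 𝔫₁, h𝔫₁, by rw [hcard1, ← hbB]; omega, hkey, ?_⟩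
    rw [hsplit, hsplit2, Multiset.map_add]
    have e3 : 𝔫₁ + 𝔫₂ + (𝔫₁.map (tdual σ) + 𝔫₂.map (tdual σ))
        = (𝔫₁ + 𝔫₁.map (tdual σ)) + (𝔫₂ + 𝔫₂.map (tdual σ)) := by abel
    rw [e3]
    exact Multiset.le_add_right _ _

end Arith

end Cfsg.Agent.Lib.helper63.SuTI
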