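import Mathlib
import Cfsg.Agent.Lib.helper63.SuTI4

/-! Elements of odd prime order `r ≠ p`, `r ∤ q + 1`, of `SU_n(q)`: necessity of the arithmetic
conditions. -/

set_option autoImplicit false

namespace Cfsg.Agent.Lib.helper63.SuTI

open Module Cfsg Polynomial Cfsg.Agent.Lib.helper17 Cfsg.Agent.Lib.helper45
  Cfsg.Agent.Lib.helper48

section Bad

variable {F : Type*} [Field F] [Fintype F] {q : ℕ} (p : ℕ) [Fact p.Prime] [CharP F p] {r : ℕ}
  [Fact r.Prime] (hrp : r ≠ p)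

include hrp in
/-- **Necessity** for odd `r ≠ p` not dividing `q + 1`. -/
theorem cond_of_su_ti (hF : Fintype.card F = q ^ 2) (σ : F →+* F) (a : ℕ)
    (hσ : ∀ x, σ x = x ^ q) (hσ' : ∀ x, σ x = x ^ (p ^ a)) (hσ2 : ∀ x, σ (σ x) = x)
    (n m : ℕ) (hm : 1 ≤ m) (hrq : ¬ r ∣ q + 1) (b c : ℕ)
    (hb : b = orderOf ((Fintype.card F : ℕ) : ZMod r))
    (hc : ((∀ P ∈ cycFactors r F, tdual σ P = P) ∧ c = b ∧ 2 ≤ b) ∨
      ((∀ P ∈ cycFactors r F, tdual σ P ≠ P) ∧ c = 2 * b))
    (he : ∃ e, n < e + 2 * m ∧ e ≤ n ∧ c ∣ e ∧ 1 ≤ e)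
    (H : ∀ x : Matrix.SpecialLinearGroup (Fin n) F, x ∈ Cfsg.SU n F q →
      (∃ z : F, ((x ^ r : Matrix.SpecialLinearGroup (Fin n) F) : Matrix (Fin n) (Fin n) F)
        = z • (1 : Matrix (Fin n) (Fin n) F)) →
      (∀ z : F, (x : Matrix (Fin n) (Fin n) F) ≠ z • (1 : Matrix (Fin n) (Fin n) F)) →
      ∃ W : Submodule F (Fin n → F), finrank F W = m ∧
        (∀ u ∈ W, ∀ v ∈ W, hermForm n F q u v = 0) ∧
        W.map (Matrix.toLin' (x : Matrix (Fin n) (Fin n) F)) ≤ W) :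
    b ≤ m ∧ 2 * (m % b) ≤ n % c ∧
      ((∀ P ∈ cycFactors r F, tdual σ P ≠ P) ∨ (r - 1) / b + 2 * (m / b) ≤ n / b) := by
  classical
  have hp : p.Prime := Fact.out
  have hr : r.Prime := Fact.out
  have hipos := Cfsg.Agent.Lib.helper63.SpTI.orderOf_card_pos (F := F) p hrp
  obtain ⟨e, he1, he2, hce, he4⟩ := he
  have hqne : ((Fintype.card F : ℕ) : ZMod r) ≠ 0 := by
    intro h0
    have h1 := (ZMod.natCast_eq_zero_iff _ _).mp h0
    exact (Nat.Prime.coprime_iff_not_dvd hr).mp (card_field_coprime p hrp).symm h1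
  have hir : orderOf ((Fintype.card F : ℕ) : ZMod r) ∣ r - 1 :=
    orderOf_dvd_of_pow_eq_one (ZMod.pow_card_sub_one_eq_one hqne)
  have hcardT := card_cycFactors (K := F) p hrp (r := r)
  rw [← hb] at hipos hir hcardT
  have hr2' : 2 ≤ r := hr.two_le
  have ht1 : 1 ≤ (r - 1) / b := Nat.div_pos (Nat.le_of_dvd (by omega) hir) hipos
  obtain ⟨T, hT⟩ : ∃ T : Finset F[X], T = (cycFactors_finite (r := r) (K := F)).toFinset :=
    ⟨_, rfl⟩
  have hTmem : ∀ P, P ∈ T ↔ P ∈ cycFactors r F := by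
    intro P; rw [hT, Set.Finite.mem_toFinset]
  have hTcard : T.card = (r - 1) / b := by
    rw [← hcardT, Nat.card_coe_set_eq,
      Set.ncard_eq_toFinset_card _ (cycFactors_finite (r := r) (K := F)), hT]
  have hm1 := Nat.div_add_mod m b
  have hd1 := Nat.div_add_mod n b
  obtain ⟨P₁, hP₁T⟩ : ∃ P₁, P₁ ∈ T := by
    apply Finset.card_pos.mp; rw [hTcard]; exact ht1
  have hP₁ : P₁ ∈ cycFactors r F := (hTmem P₁).mp hP₁T
  rcases hc with ⟨hfix, hcb, hb2⟩ | ⟨hfree, hcb⟩
  · -- self-dual factors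
    rw [hcb] at hce ⊢
    have hmapfix : ∀ 𝔰 : Multiset F[X], (∀ P ∈ 𝔰, P ∈ cycFactors r F) →
        𝔰.map (tdual σ) = 𝔰 := by
      intro 𝔰 h𝔰
      conv_rhs => rw [← Multiset.map_id 𝔰]
      exact Multiset.map_congr rfl (fun P hP => hfix P (h𝔰 P hP))
    have hdeg1 : ∀ P ∈ cycFactors r F, ∀ z : F, P ≠ X - C z := by
      intro P hP z hPz
      have := cycFactors_natDegree p hrp hP
      rw [← hb, hPz, natDegree_X_sub_C] at this
      omega
    obtain ⟨s₀, hs₀⟩ := hce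
    have hs₀pos : 1 ≤ s₀ := by
      rcases Nat.eq_zero_or_pos s₀ with h | h
      · rw [h, mul_zero] at hs₀; omega
      · exact h
    have hn'1 : 1 ≤ n / b := by
      apply Nat.div_pos _ hipos
      have : b ≤ b * s₀ := Nat.le_mul_of_pos_right b hs₀pos
      omega
    have hk2j : n % b + e ≤ n := by
      have h1 : s₀ ≤ n / b := by
        rw [Nat.le_div_iff_mul_le hipos, mul_comm]; omega
      have h2 : b * s₀ ≤ b * (n / b) := Nat.mul_le_mul_left b h1
      omega
    -- first element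
    have hmem1 : ∀ P ∈ Multiset.replicate (n / b) P₁, P ∈ cycFactors r F := by
      intro P hP; rw [Multiset.eq_of_mem_replicate hP]; exact hP₁
    obtain ⟨w₀, 𝔫, h𝔫, e1, e2, -⟩ := su_bad_template p hrp hF σ a hσ hσ' hσ2 n m (n % b)
      (Multiset.replicate (n / b) P₁) hmem1 (hmapfix _ hmem1)
      (by rw [← hb, Multiset.card_replicate]; omega) (Or.inl hrq)
      (fun z => ⟨P₁, Multiset.mem_replicate.mpr ⟨by omega, rfl⟩, hdeg1 P₁ hP₁ z⟩) H
    rw [← hb] at e1
    have hklt : n % b < b := Nat.mod_lt _ hipos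
    have hw₀lt : w₀ < b := by omega
    have hmod : m % b = w₀ := by
      rw [e1, Nat.add_mul_mod_self_left, Nat.mod_eq_of_lt hw₀lt]
    have him : b ≤ m := by
      by_contra hlt
      push Not at hlt
      have hc0 : Multiset.card 𝔫 = 0 := by
        by_contra hne
        have : b ≤ b * Multiset.card 𝔫 := Nat.le_mul_of_pos_right b (Nat.pos_of_ne_zero hne)
        omega
      rw [hc0, mul_zero, add_zero] at e1
      omega
    refine ⟨him, by omega, Or.inr ?_⟩
    -- second element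
    by_contra hlt
    push Not at hlt
    obtain ⟨t, ht⟩ : ∃ t, t = (r - 1) / b := ⟨_, rfl⟩
    obtain ⟨n', hn'⟩ : ∃ n', n' = n / b := ⟨_, rfl⟩
    obtain ⟨m', hm'⟩ : ∃ m', m' = m / b := ⟨_, rfl⟩
    rw [← ht, ← hn', ← hm'] at hlt
    rw [← ht] at hTcard ht1
    rw [← hn'] at hn'1 hd1
    rw [← hm'] at hm1
    have hm'1 : 1 ≤ m' := by rw [hm']; exact Nat.div_pos him hipos
    obtain ⟨s, hs⟩ : ∃ s, s = min t n' := ⟨_, rfl⟩
    have hs1 : 1 ≤ s := by rw [hs]; exact le_min ht1 hn'1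
    have hst : s ≤ t := by rw [hs]; exact min_le_left _ _
    have hsn : s ≤ n' := by rw [hs]; exact min_le_right _ _
    obtain ⟨T', hT'sub, hT'card⟩ := Finset.exists_subset_card_eq (s := T) (n := s)
      (by rw [hTcard]; exact hst)
    obtain ⟨Q₁, hQ₁T'⟩ : ∃ Q₁, Q₁ ∈ T' := by
      apply Finset.card_pos.mp; rw [hT'card]; exact hs1
    have hQ₁ : Q₁ ∈ cycFactors r F := (hTmem Q₁).mp (hT'sub hQ₁T')
    obtain ⟨𝔡, h𝔡⟩ : ∃ 𝔡 : Multiset F[X], 𝔡 = (T'.erase Q₁).val := ⟨_, rfl⟩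
    have h𝔡nd : 𝔡.Nodup := by rw [h𝔡]; exact (T'.erase Q₁).nodup
    have h𝔡Q : Q₁ ∉ 𝔡 := by
      rw [h𝔡]
      intro h
      exact (Finset.notMem_erase Q₁ T') (Finset.mem_val.mp h)
    have h𝔡mem : ∀ P ∈ 𝔡, P ∈ cycFactors r F := by
      intro P hP
      rw [h𝔡] at hP
      exact (hTmem P).mp (hT'sub (Finset.mem_of_mem_erase (Finset.mem_val.mp hP)))
    have h𝔡card : Multiset.card 𝔡 = s - 1 := by
      rw [h𝔡, Finset.card_val, Finset.card_erase_of_mem hQ₁T', hT'card]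
    obtain ⟨ε, a₁, hε, hodd1, hsum, hP4⟩ : ∃ ε a₁ : ℕ, ε ≤ 1 ∧ Odd a₁ ∧
        ε + a₁ + (s - 1) = n' ∧ ((n' < t ∧ a₁ = 1) ∨ (t ≤ n' ∧ a₁ ≤ n' - t + 1)) := by
      rcases lt_or_ge n' t with hcase | hcase
      · have hsn' : s = n' := by rw [hs]; exact min_eq_right (le_of_lt hcase)
        exact ⟨0, 1, by omega, odd_one, by omega, Or.inl ⟨hcase, rfl⟩⟩
      · have hst' : s = t := by rw [hs]; exact min_eq_left hcase
        rcases Nat.even_or_odd (n' - t) with hev | hod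
        · exact ⟨0, n' - t + 1, by omega, hev.add_one, by omega, Or.inr ⟨hcase, le_rfl⟩⟩
        · refine ⟨1, n' - t, le_rfl, hod, ?_, Or.inr ⟨hcase, by omega⟩⟩
          have : 1 ≤ n' - t := hod.pos
          omega
    have ha₁pos : 1 ≤ a₁ := hodd1.pos
    have hmem2 : ∀ P ∈ Multiset.replicate a₁ Q₁ + 𝔡, P ∈ cycFactors r F := by
      intro P hP
      rcases Multiset.mem_add.mp hP with h1 | h1
      · rw [Multiset.eq_of_mem_replicate h1]; exact hQ₁
      · exact h𝔡mem P h1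
    obtain ⟨w₁, 𝔫', h𝔫', f1, f2, f3⟩ := su_bad_template p hrp hF σ a hσ hσ' hσ2 n m
      (n % b + ε * b) (Multiset.replicate a₁ Q₁ + 𝔡) hmem2 (hmapfix _ hmem2)
      (by
        rw [← hb, Multiset.card_add, Multiset.card_replicate, h𝔡card]
        have e3 : b * (a₁ + (s - 1)) + ε * b = b * n' := by rw [← hsum]; ring
        omega) (Or.inl hrq)
      (fun z => ⟨Q₁, Multiset.mem_add.mpr (Or.inl (Multiset.mem_replicate.mpr ⟨by omega, rfl⟩)),
        hdeg1 Q₁ hQ₁ z⟩) H
    rw [← hb] at f1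
    rw [hmapfix 𝔫' h𝔫'] at f3
    have hεb : ε * b ≤ b := by
      calc ε * b ≤ 1 * b := Nat.mul_le_mul_right b hε
        _ = b := one_mul b
    have hw₁lt : w₁ < b := by omega
    have hcard' : Multiset.card 𝔫' = m' := by
      rw [hm', f1, Nat.add_mul_div_left _ _ hipos, Nat.div_eq_of_lt hw₁lt, zero_add]
    have hall : ∀ Q ∈ 𝔫', Q = Q₁ := by
      intro Q hQ
      by_contra hne
      have h1 := Multiset.count_le_of_le Q f3
      rw [Multiset.count_add, Multiset.count_add, Multiset.count_replicate,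
        if_neg (Ne.symm hne), zero_add] at h1
      have h2 := Multiset.nodup_iff_count_le_one.mp h𝔡nd Q
      have h3 : 1 ≤ Multiset.count Q 𝔫' := Multiset.one_le_count_iff_mem.mpr hQ
      omega
    have hrep : 𝔫' = Multiset.replicate (Multiset.card 𝔫') Q₁ :=
      Multiset.eq_replicate_card.mpr hall
    have h4 := Multiset.count_le_of_le Q₁ f3
    rw [Multiset.count_add, Multiset.count_add, Multiset.count_replicate_self,
      Multiset.count_eq_zero_of_notMem h𝔡Q, add_zero] at h4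
    have h5 : Multiset.count Q₁ 𝔫' = m' := by
      rw [hrep, Multiset.count_replicate_self, hcard']
    obtain ⟨e', he'⟩ := hodd1
    rcases hP4 with ⟨h6, h7⟩ | ⟨h6, h7⟩ <;> omega
  · -- factors in dual pairs
    rw [hcb] at hce ⊢
    have hτ2 : ∀ P ∈ cycFactors r F, tdual σ (tdual σ P) = P :=
      fun P hP => tdual_tdual σ hσ2 hP.2.1 (cycFactors_coeff_zero_ne hP)
    obtain ⟨s₀, hs₀⟩ := hce
    have hs₀pos : 1 ≤ s₀ := by
      rcases Nat.eq_zero_or_pos s₀ with h | h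
      · rw [h, mul_zero] at hs₀; omega
      · exact h
    have h2bpos : 0 < 2 * b := by omega
    have hN1 : 1 ≤ n / (2 * b) := by
      apply Nat.div_pos _ h2bpos
      have : 2 * b ≤ 2 * b * s₀ := Nat.le_mul_of_pos_right (2 * b) hs₀pos
      omega
    have hdd := Nat.div_add_mod n (2 * b)
    have hκ : n % (2 * b) + e ≤ n := by
      have h1 : s₀ ≤ n / (2 * b) := by
        rw [Nat.le_div_iff_mul_le h2bpos, mul_comm]; omega
      have h2 : 2 * b * s₀ ≤ 2 * b * (n / (2 * b)) := Nat.mul_le_mul_left (2 * b) h1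
      omega
    obtain ⟨N, hN⟩ : ∃ N, N = n / (2 * b) := ⟨_, rfl⟩
    rw [← hN] at hN1 hdd
    obtain ⟨τP, hτP⟩ : ∃ τP, τP = tdual σ P₁ := ⟨_, rfl⟩
    have hτPc : τP ∈ cycFactors r F := by
      rw [hτP]; exact tdual_mem_cycFactors p hrp σ a hσ' hP₁
    have hmem1 : ∀ P ∈ Multiset.replicate N P₁ + Multiset.replicate N τP,
        P ∈ cycFactors r F := by
      intro P hP
      rcases Multiset.mem_add.mp hP with h1 | h1
      · rw [Multiset.eq_of_mem_replicate h1]; exact hP₁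
      · rw [Multiset.eq_of_mem_replicate h1]; exact hτPc
    have hτm : (Multiset.replicate N P₁ + Multiset.replicate N τP).map (tdual σ)
        = Multiset.replicate N P₁ + Multiset.replicate N τP := by
      have e1 : tdual σ τP = P₁ := by rw [hτP]; exact hτ2 P₁ hP₁
      rw [Multiset.map_add, Multiset.map_replicate, Multiset.map_replicate, e1, ← hτP, add_comm]
    obtain ⟨w₀, 𝔫, h𝔫, e1', e2, -⟩ := su_bad_template p hrp hF σ a hσ hσ' hσ2 n m (n % (2 * b)) _
      hmem1 hτm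
      (by
        rw [← hb, Multiset.card_add, Multiset.card_replicate, Multiset.card_replicate]
        have e : b * (N + N) = 2 * b * N := by ring
        omega) (Or.inl hrq)
      (fun z => by
        by_cases hz : P₁ = X - C z
        · refine ⟨τP, Multiset.mem_add.mpr (Or.inr (Multiset.mem_replicate.mpr ⟨by omega, rfl⟩)),
            ?_⟩
          intro hz2
          exact hfree P₁ hP₁ (by rw [← hτP, hz2, hz])
        · exact ⟨P₁, Multiset.mem_add.mpr (Or.inl (Multiset.mem_replicate.mpr ⟨by omega, rfl⟩)),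
            hz⟩) H
    rw [← hb] at e1'
    have hκlt : n % (2 * b) < 2 * b := Nat.mod_lt _ h2bpos
    have hw₀lt : w₀ < b := by omega
    have hmod : m % b = w₀ := by
      rw [e1', Nat.add_mul_mod_self_left, Nat.mod_eq_of_lt hw₀lt]
    have him : b ≤ m := by
      by_contra hlt
      push Not at hlt
      have hc0 : Multiset.card 𝔫 = 0 := by
        by_contra hne
        have : b ≤ b * Multiset.card 𝔫 := Nat.le_mul_of_pos_right b (Nat.pos_of_ne_zero hne)
        omega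
      rw [hc0, mul_zero, add_zero] at e1'
      omega
    exact ⟨him, by omega, Or.inl hfree⟩

end Bad

end Cfsg.Agent.Lib.helper63.SuTI
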