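import Mathlib
import Cfsg.Agent.Lib.helper17.UFrames
import Cfsg.Agent.Lib.helper48.UnitaryConj
import Cfsg.Agent.Lib.helper63.Elusive1
import Cfsg.Agent.Lib.helper63.SuTI1

/-! Counting totally isotropic subspaces of the standard unitary space. -/

set_option autoImplicit false

namespace Cfsg.Agent.Lib.helper63.SuTI

open Module Cfsg Cfsg.Agent.Lib.helper17 Cfsg.Agent.Lib.helper48

section Count

variable {F : Type*} [Field F]

theorem span_uti {V : Type*} [AddCommGroup V] [Module F V] (σ : F →+* F)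
    (B : V →ₛₗ[σ] V →ₗ[F] F) {ι : Type*} (x : ι → V) (hx : ∀ i j, B (x i) (x j) = 0) :
    ∀ u ∈ Submodule.span F (Set.range x), ∀ v ∈ Submodule.span F (Set.range x), B u v = 0 := by
  intro u hu v hv
  induction hu using Submodule.span_induction with
  | mem u hu =>
    obtain ⟨i, rfl⟩ := hu
    induction hv using Submodule.span_induction with
    | mem v hv =>
      obtain ⟨j, rfl⟩ := hv
      exact hx i j
    | zero => simp
    | add a b _ _ ha hb => rw [map_add, ha, hb, add_zero]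
    | smul c a _ ha => rw [map_smul, ha, smul_zero]
  | zero => simp
  | add a b _ _ ha hb => rw [map_add, LinearMap.add_apply, ha, hb, add_zero]
  | smul c a _ ha => rw [map_smulₛₗ, LinearMap.smul_apply, ha, smul_zero]

theorem span_herm_ti {q : ℕ} (σ : F →+* F) (hσ : ∀ x, σ x = x ^ q) (n : ℕ) {ι : Type*}
    (x : ι → (Fin n → F)) (hx : ∀ i j, hermForm n F q (x i) (x j) = 0) :
    ∀ u ∈ Submodule.span F (Set.range x), ∀ v ∈ Submodule.span F (Set.range x),
      hermForm n F q u v = 0 := by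
  intro u hu v hv
  have h := span_uti σ (sesqOf σ (1 : Matrix (Fin n) (Fin n) F)) x
    (fun i j => by rw [sesq_one_apply σ hσ]; exact hx j i) v hv u hu
  rw [sesq_one_apply σ hσ] at h
  exact h

theorem one_le_hermCount (q n : ℕ) : 1 ≤ (Cfsg.Agent.Lib.helper7.hermCount q n).2 := by
  induction n with
  | zero => rw [Cfsg.Agent.Lib.helper7.hermCount_zero]
  | succ n ih =>
    rw [Cfsg.Agent.Lib.helper7.hermCount_succ]
    exact le_trans ih (Nat.le_add_right _ _)

variable [Fintype F] {q : ℕ}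

/-- Counting isotropic frames through their spans. -/
theorem card_uti_mul (hF : Fintype.card F = q ^ 2) (σ : F →+* F) (hσ : ∀ x, σ x = x ^ q)
    (n m : ℕ) (hm : 2 * m ≤ n) :
    Nat.card {W : Submodule F (Fin n → F) // finrank F W = m ∧
        ∀ u ∈ W, ∀ v ∈ W, hermForm n F q u v = 0} *
        ∏ i : Fin m, (Fintype.card F ^ m - Fintype.card F ^ (i : ℕ))
      = ∏ j ∈ Finset.range m,
          (q ^ 2) ^ j * ((Cfsg.Agent.Lib.helper7.hermCount q (n - 2 * j)).2 - 1) := by
  classical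
  rw [← card_UFrame hF n m hm]
  let φ : ↥(UFrame n F q m) →
      {W : Submodule F (Fin n → F) // finrank F W = m ∧
        ∀ u ∈ W, ∀ v ∈ W, hermForm n F q u v = 0} :=
    fun s => ⟨Submodule.span F (Set.range s.1),
      by rw [finrank_span_eq_card s.2.1, Fintype.card_fin], span_herm_ti σ hσ n s.1 s.2.2⟩
  have : Fintype {W : Submodule F (Fin n → F) // finrank F W = m ∧
      ∀ u ∈ W, ∀ v ∈ W, hermForm n F q u v = 0} := Fintype.ofFinite _
  have : Finite ↥(UFrame n F q m) := inferInstance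
  rw [Nat.card_congr (Equiv.sigmaFiberEquiv φ).symm, Nat.card_sigma]
  have key : ∀ W : {W : Submodule F (Fin n → F) // finrank F W = m ∧
        ∀ u ∈ W, ∀ v ∈ W, hermForm n F q u v = 0},
      Nat.card {s : ↥(UFrame n F q m) // φ s = W} =
        ∏ i : Fin m, (Fintype.card F ^ m - Fintype.card F ^ (i : ℕ)) := by
    intro W
    have h1 : Nat.card {s : ↥(UFrame n F q m) // φ s = W} =
        Nat.card {s : Fin m → (Fin n → F) //
          LinearIndependent F s ∧ Submodule.span F (Set.range s) = W.1} := by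
      apply Nat.card_congr
      refine ⟨fun s => ⟨s.1.1, s.1.2.1, ?_⟩, fun s => ⟨⟨s.1, s.2.1, ?_⟩, ?_⟩, ?_, ?_⟩
      · exact congrArg Subtype.val s.2
      · intro i j
        have hmem : ∀ i, s.1 i ∈ W.1 := by
          intro i
          have h := Submodule.subset_span (R := F) (Set.mem_range_self (f := s.1) i)
          rw [s.2.2] at h
          exact h
        exact W.2.2 _ (hmem i) _ (hmem j)
      · exact Subtype.ext s.2.2
      · intro s; rfl
      · intro s; rfl
    rw [h1, Cfsg.Agent.Lib.helper63.Elusive.card_fiber m W.1 W.2.1,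
      card_linearIndependent (K := F) (V := W.1) (le_of_eq W.2.1.symm), W.2.1]
  simp only [key, Finset.sum_const, Finset.card_univ, smul_eq_mul]
  rw [Nat.card_eq_fintype_card]

/-- The reduced form of the count. -/
theorem card_uti_mul' (hF : Fintype.card F = q ^ 2) (σ : F →+* F) (hσ : ∀ x, σ x = x ^ q)
    (n m : ℕ) (hm : 2 * m ≤ n) :
    Nat.card {W : Submodule F (Fin n → F) // finrank F W = m ∧
        ∀ u ∈ W, ∀ v ∈ W, hermForm n F q u v = 0} *
        ∏ i ∈ Finset.range m, (Fintype.card F ^ (m - i) - 1)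
      = ∏ j ∈ Finset.range m, ((Cfsg.Agent.Lib.helper7.hermCount q (n - 2 * j)).2 - 1) := by
  have h1 := card_uti_mul hF σ hσ n m hm
  rw [Fin.prod_univ_eq_prod_range (fun i => Fintype.card F ^ m - Fintype.card F ^ i) m] at h1
  have hq : 0 < Fintype.card F := Fintype.card_pos
  have e1 : ∏ i ∈ Finset.range m, (Fintype.card F ^ m - Fintype.card F ^ i)
      = (∏ i ∈ Finset.range m, Fintype.card F ^ i) *
        ∏ i ∈ Finset.range m, (Fintype.card F ^ (m - i) - 1) := by
    rw [← Finset.prod_mul_distrib]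
    apply Finset.prod_congr rfl
    intro i hi
    have hi' : i ≤ m := le_of_lt (Finset.mem_range.mp hi)
    rw [Nat.mul_sub, mul_one, ← pow_add, Nat.add_sub_cancel' hi']
  have e2 : ∏ j ∈ Finset.range m,
        (q ^ 2) ^ j * ((Cfsg.Agent.Lib.helper7.hermCount q (n - 2 * j)).2 - 1)
      = (∏ i ∈ Finset.range m, Fintype.card F ^ i) *
        ∏ j ∈ Finset.range m, ((Cfsg.Agent.Lib.helper7.hermCount q (n - 2 * j)).2 - 1) := by
    rw [← Finset.prod_mul_distrib, hF]
  rw [e1, e2] at h1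
  have hpos : 0 < ∏ i ∈ Finset.range m, Fintype.card F ^ i :=
    Finset.prod_pos (fun i _ => pow_pos hq _)
  apply Nat.eq_of_mul_eq_mul_left hpos
  rw [← h1]; ring

/-- A prime dividing the number of totally isotropic `m`-spaces. -/
theorem exists_of_dvd_card_uti (hF : Fintype.card F = q ^ 2) (σ : F →+* F)
    (hσ : ∀ x, σ x = x ^ q) (n m : ℕ) (hm : 2 * m ≤ n) (r : ℕ) [Fact r.Prime]
    (h : r ∣ Nat.card {W : Submodule F (Fin n → F) // finrank F W = m ∧
        ∀ u ∈ W, ∀ v ∈ W, hermForm n F q u v = 0}) :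
    ∃ k : ℕ, n < k + 2 * m ∧ k + 1 ≤ n ∧ 1 ≤ k ∧
      (q : ZMod r) ^ (2 * k + 1) - (-1) ^ k * (q : ZMod r) ^ (k + 1)
        + (-1) ^ k * (q : ZMod r) ^ k - 1 = 0 := by
  have hr : r.Prime := Fact.out
  have hq2 : 2 ≤ q := two_le_of_card_eq_sq hF
  have h1 := card_uti_mul' hF σ hσ n m hm
  have h3 : r ∣ ∏ j ∈ Finset.range m, ((Cfsg.Agent.Lib.helper7.hermCount q (n - 2 * j)).2 - 1) := by
    rw [← h1]; exact Dvd.dvd.mul_right h _
  obtain ⟨j, hj, hjd⟩ := (Prime.dvd_finsetProd_iff hr.prime _).mp h3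
  have hjm : j < m := Finset.mem_range.mp hj
  obtain ⟨k, hk⟩ : ∃ k, n - 2 * j = k + 1 := ⟨n - 2 * j - 1, by omega⟩
  rw [hk] at hjd
  refine ⟨k, by omega, by omega, by omega, ?_⟩
  have hcl := (Cfsg.Agent.Lib.helper7.hermCount_closed q hq2 k).2
  have h1le := one_le_hermCount q (k + 1)
  have h4 : (((Cfsg.Agent.Lib.helper7.hermCount q (k + 1)).2 - 1 : ℕ) : ZMod r) = 0 :=
    (ZMod.natCast_eq_zero_iff _ r).mpr hjd
  rw [Nat.cast_sub h1le, Nat.cast_one] at h4
  have h5 : (((Cfsg.Agent.Lib.helper7.hermCount q (k + 1)).2 : ℕ) : ZMod r)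
      = (q : ZMod r) ^ (2 * k + 1) - (-1) ^ k * (q : ZMod r) ^ (k + 1)
        + (-1) ^ k * (q : ZMod r) ^ k := by
    have h6 := congrArg (fun z : ℤ => (z : ZMod r)) hcl
    simp only [Int.cast_natCast, Int.cast_add, Int.cast_sub, Int.cast_mul, Int.cast_pow,
      Int.cast_neg, Int.cast_one] at h6
    exact h6
  rw [h5] at h4
  exact h4

/-- The characteristic does not divide the number of totally isotropic `m`-spaces. -/
theorem not_dvd_card_uti (hF : Fintype.card F = q ^ 2) (σ : F →+* F)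
    (hσ : ∀ x, σ x = x ^ q) (n m : ℕ) (hm : 2 * m ≤ n) (p : ℕ) [Fact p.Prime] [CharP F p] :
    ¬ p ∣ Nat.card {W : Submodule F (Fin n → F) // finrank F W = m ∧
        ∀ u ∈ W, ∀ v ∈ W, hermForm n F q u v = 0} := by
  intro h
  have hp : p.Prime := Fact.out
  obtain ⟨k, -, -, hk1, hk⟩ := exists_of_dvd_card_uti hF σ hσ n m hm p h
  have hq0 : (q : ZMod p) = 0 := by
    rw [ZMod.natCast_eq_zero_iff]
    obtain ⟨f', -, hcard⟩ := FiniteField.card F p
    have h1 : p ∣ q ^ 2 := by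
      rw [← hF, hcard]
      exact dvd_pow_self p (by
        have : 0 < (f' : ℕ) := f'.pos
        omega)
    exact hp.dvd_of_dvd_pow h1
  rw [hq0, zero_pow (by omega), zero_pow (by omega), zero_pow (by omega)] at hk
  have := congrArg Neg.neg hk
  simp at this

/-- The arithmetic consequence of `r` dividing the number of totally isotropic `m`-spaces. -/
theorem exists_pow_of_dvd_card_uti (hF : Fintype.card F = q ^ 2) (σ : F →+* F)
    (hσ : ∀ x, σ x = x ^ q) (n m : ℕ) (hm : 2 * m ≤ n) (r : ℕ) [Fact r.Prime]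
    (h : r ∣ Nat.card {W : Submodule F (Fin n → F) // finrank F W = m ∧
        ∀ u ∈ W, ∀ v ∈ W, hermForm n F q u v = 0}) :
    ∃ e : ℕ, n < e + 2 * m ∧ e ≤ n ∧ 1 ≤ e ∧ (-(q : ZMod r)) ^ e = 1 := by
  obtain ⟨k, hk1, hk2, hk3, hk⟩ := exists_of_dvd_card_uti hF σ hσ n m hm r h
  obtain ⟨Q, hQ⟩ : ∃ Q : ZMod r, Q = (q : ZMod r) := ⟨_, rfl⟩
  obtain ⟨ε, hε⟩ : ∃ ε : ZMod r, ε = (-1) ^ k := ⟨_, rfl⟩
  rw [← hQ, ← hε] at hk
  have hεε : ε * ε = 1 := by rw [hε, ← pow_add, ← two_mul, pow_mul, neg_one_sq, one_pow]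
  have e1 : (-Q) ^ (k + 1) = -(ε * Q ^ (k + 1)) := by
    rw [neg_pow, pow_succ (-1 : ZMod r) k, ← hε]; ring
  have e2 : (-Q) ^ k = ε * Q ^ k := by rw [neg_pow, ← hε]
  have hprod : ((-Q) ^ (k + 1) - 1) * ((-Q) ^ k - 1) = 0 := by
    rw [e1, e2]
    linear_combination (-1 : ZMod r) * hk - Q ^ (k + 1) * Q ^ k * hεε
  rw [← hQ]
  rcases mul_eq_zero.mp hprod with h1 | h1
  · exact ⟨k + 1, by omega, by omega, by omega, sub_eq_zero.mp h1⟩
  · exact ⟨k, by omega, by omega, hk3, sub_eq_zero.mp h1⟩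

end Count

end Cfsg.Agent.Lib.helper63.SuTI
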