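import Mathlib
import Cfsg.Agent.Lib.helper63.SuTI5
import Cfsg.Agent.Lib.helper63.SuTI6

/-! Arithmetic facts for the unitary totally isotropic problem, and the reduction modulo
scalars. -/

set_option autoImplicit false

namespace Cfsg.Agent.Lib.helper63.SuTI

open Module Cfsg Polynomial Cfsg.Agent.Lib.helper17 Cfsg.Agent.Lib.helper45
  Cfsg.Agent.Lib.helper48

section Arith7

variable {F : Type*} [Field F] [Fintype F] {q : ℕ} (p : ℕ) [Fact p.Prime] [CharP F p] {r : ℕ}
  [Fact r.Prime] (hrp : r ≠ p)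

include hrp in
/-- the arithmetic dictionary between `i = ord_r(q)` and the combinatorics of `cycFactors` -/
theorem su_arith (hF : Fintype.card F = q ^ 2) (hr2 : r ≠ 2) (σ : F →+* F) (a : ℕ)
    (ha : q = p ^ a) (hσ' : ∀ x, σ x = x ^ (p ^ a)) (i b c : ℕ)
    (hi : i = orderOf (q : ZMod r)) (hb : b = if Even i then i / 2 else i)
    (hc : c = if i % 4 = 0 then i else if i % 4 = 2 then i / 2 else 2 * i) :
    0 < i ∧ b = orderOf ((Fintype.card F : ℕ) : ZMod r) ∧
    (i % 4 = 2 → (∀ P ∈ cycFactors r F, tdual σ P = P) ∧ c = b) ∧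
    (i % 4 ≠ 2 → (∀ P ∈ cycFactors r F, tdual σ P ≠ P) ∧ c = 2 * b) ∧
    (r ∣ q + 1 ↔ i = 2) ∧
    (∀ e, (-(q : ZMod r)) ^ e = 1 → c ∣ e) := by
  have hp : p.Prime := Fact.out
  have hr : r.Prime := Fact.out
  have hx0 : (q : ZMod r) ≠ 0 := by
    rw [Ne, ZMod.natCast_eq_zero_iff]
    intro hdvd
    rw [ha] at hdvd
    exact hrp ((Nat.prime_dvd_prime_iff_eq hr hp).mp (hr.dvd_of_dvd_pow hdvd))
  have hneg : (-1 : ZMod r) ≠ 1 := by
    have : Fact (2 < r) := ⟨lt_of_le_of_ne hr.two_le (Ne.symm hr2)⟩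
    exact ZMod.neg_one_ne_one
  have hfin : IsOfFinOrder (q : ZMod r) := (IsUnit.mk0 _ hx0).isOfFinOrder
  have hipos' : 0 < orderOf (q : ZMod r) := hfin.orderOf_pos
  have hipos : 0 < i := hi ▸ hipos'
  have hcardcast : ((Fintype.card F : ℕ) : ZMod r) = (q : ZMod r) ^ 2 := by
    rw [hF, Nat.cast_pow]
  have hd : orderOf ((Fintype.card F : ℕ) : ZMod r) = b := by
    rw [hcardcast, orderOf_pow' _ (by norm_num), ← hi, hb]
    split_ifs with heven
    · rw [Nat.gcd_eq_right (even_iff_two_dvd.mp heven)]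
    · have hodd : Odd i := Nat.not_even_iff_odd.mp heven
      rw [Nat.Coprime.gcd_eq_one (Nat.coprime_two_right.mpr hodd), Nat.div_one]
  refine ⟨hipos, hd.symm, ?_, ?_, ?_, ?_⟩
  · intro h4
    constructor
    · intro P hP
      rw [tdual_eq_self_iff p hrp σ a hσ' hP, ← ha, hcardcast]
      exact exists_pow_sq_eq_neg hipos' (hi ▸ h4)
    · rw [hc, hb, if_neg (by omega), if_pos h4, if_pos (by rw [Nat.even_iff]; omega)]
  · intro h4
    constructor
    · intro P hP hfix
      rw [tdual_eq_self_iff p hrp σ a hσ' hP, ← ha, hcardcast] at hfix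
      obtain ⟨k, hk⟩ := hfix
      exact h4 (hi ▸ order_mod_four_of_pow_sq_eq_neg hneg hx0 hk)
    · rw [hc, hb]
      by_cases h0 : i % 4 = 0
      · rw [if_pos h0, if_pos (by rw [Nat.even_iff]; omega)]; omega
      · rw [if_neg h0, if_neg h4, if_neg (by rw [Nat.even_iff]; omega)]
  · constructor
    · intro hdvd
      have h1 : (q : ZMod r) = -1 := by
        have := (ZMod.natCast_eq_zero_iff (q + 1) r).mpr hdvd
        push_cast at this
        exact eq_neg_of_add_eq_zero_left this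
      rw [hi, h1]
      have : Fact (Nat.Prime 2) := ⟨Nat.prime_two⟩
      exact orderOf_eq_prime (by simp) hneg
    · intro h2
      have h1 : (q : ZMod r) ^ (orderOf (q : ZMod r) / 2) = -1 :=
        pow_half_order_eq_neg_one hipos' (by rw [← hi, h2]; decide)
      rw [← hi, h2] at h1
      norm_num at h1
      rw [← ZMod.natCast_eq_zero_iff]
      push_cast
      rw [h1]; ring
  · intro e he
    rw [neg_pow] at he
    have hie : ∀ k, (q : ZMod r) ^ k = 1 → i ∣ k := fun k hk => hi ▸ orderOf_dvd_of_pow_eq_one hk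
    rcases Nat.even_or_odd e with hev | hodd
    · rw [hev.neg_one_pow, one_mul] at he
      obtain ⟨t, ht⟩ := hie e he
      obtain ⟨s, hs⟩ := hev
      rw [hc]
      by_cases h0 : i % 4 = 0
      · rw [if_pos h0]; exact ⟨t, ht⟩
      · rw [if_neg h0]
        by_cases h4 : i % 4 = 2
        · rw [if_pos h4]
          exact dvd_trans (Nat.div_dvd_of_dvd (by omega)) ⟨t, ht⟩
        · rw [if_neg h4]
          have hiodd : Odd i := by rw [Nat.odd_iff]; omega
          exact Nat.Coprime.mul_dvd_of_dvd_of_dvd (Nat.coprime_two_left.mpr hiodd)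
            ⟨s, by omega⟩ ⟨t, ht⟩
    · rw [hodd.neg_one_pow] at he
      have he' : (q : ZMod r) ^ e = -1 := by
        have := congrArg Neg.neg he
        simpa using this
      have hev : Even (orderOf (q : ZMod r)) := even_order_of_pow_eq_neg_one hneg he'
      rw [← hi] at hev
      have h2e : (q : ZMod r) ^ (2 * e) = 1 := by
        rw [mul_comm, pow_mul, he']; simp
      obtain ⟨t, ht⟩ := hie _ h2e
      obtain ⟨s, hs⟩ := hodd
      obtain ⟨j, hj⟩ := hev
      rw [hc]
      by_cases h0 : i % 4 = 0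
      · exfalso
        have : 4 ∣ i := Nat.dvd_of_mod_eq_zero h0
        obtain ⟨u, hu⟩ := this
        rw [hu] at ht
        have : 2 * e = 4 * (u * t) := by rw [ht]; ring
        omega
      · rw [if_neg h0]
        by_cases h4 : i % 4 = 2
        · rw [if_pos h4]
          have hij : i / 2 = j := by omega
          rw [hij]
          refine ⟨t, ?_⟩
          have : 2 * e = 2 * (j * t) := by rw [ht, hj]; ring
          omega
        · exfalso; omega

end Arith7

section Scalar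

variable {F : Type*} [Field F]

/-- an `r`-th root inside the norm-one group, when `r ∤ q + 1` -/
theorem exists_root_of_not_dvd {q r : ℕ} (hr : r.Prime) (hq : 1 ≤ q) (σ : F →+* F)
    (hσ : ∀ x, σ x = x ^ q) (hrq : ¬ r ∣ q + 1) (z : F) (hz : z * σ z = 1) :
    ∃ ω : F, ω * σ ω = 1 ∧ ω ^ r = z := by
  have hz1 : z ^ (q + 1) = 1 := by
    rw [pow_succ, mul_comm, ← hσ]; exact hz
  have hcop : Nat.Coprime r (q + 1) := (Nat.Prime.coprime_iff_not_dvd hr).mpr hrq
  obtain ⟨t, -, ht⟩ := Nat.exists_mul_mod_eq_one_of_coprime hcop (by omega)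
  refine ⟨z ^ t, ?_, ?_⟩
  · rw [hσ, ← pow_mul, ← pow_add]
    have : t + t * q = (q + 1) * t := by ring
    rw [this, pow_mul, hz1, one_pow]
  · rw [← pow_mul]
    have h1 := Nat.div_add_mod (r * t) (q + 1)
    rw [ht] at h1
    rw [mul_comm t r, ← h1, pow_add, pow_mul, hz1, one_pow, one_mul, pow_one]

/-- unitarity of a scalar -/
theorem scalar_unitary (σ : F →+* F) (n : ℕ) (hn : 1 ≤ n) (x : Matrix (Fin n) (Fin n) F)
    (hx : cstar σ x * x = 1) (r : ℕ) (z : F) (hxr : x ^ r = z • (1 : Matrix (Fin n) (Fin n) F)) :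
    z * σ z = 1 := by
  have hx' : x * cstar σ x = 1 := mul_eq_one_comm.mp hx
  have hcomm : Commute (cstar σ x) x := by
    rw [Commute, SemiconjBy, hx, hx']
  have h1 : cstar σ (x ^ r) * x ^ r = 1 := by
    rw [cstar_pow, ← hcomm.mul_pow, hx, one_pow]
  rw [hxr] at h1
  have h2 := congrFun (congrFun h1 ⟨0, by omega⟩) ⟨0, by omega⟩
  rw [Matrix.mul_apply] at h2
  simp only [cstar_apply, Matrix.smul_apply, Matrix.one_apply, smul_eq_mul] at h2
  rw [Finset.sum_eq_single (⟨0, by omega⟩ : Fin n)] at h2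
  · simpa [mul_comm] using h2
  · intro j _ hj
    simp [hj]
  · intro h; exact absurd (Finset.mem_univ _) h

/-- dividing a unitary matrix with scalar `r`-th power by a norm-one `r`-th root -/
theorem su_scalar_reduce (σ : F →+* F) (n : ℕ) (x : Matrix (Fin n) (Fin n) F)
    (hx : cstar σ x * x = 1) (r : ℕ) (ω z : F) (hω : ω * σ ω = 1) (hωr : ω ^ r = z)
    (hxr : x ^ r = z • (1 : Matrix (Fin n) (Fin n) F)) :
    cstar σ (ω⁻¹ • x) * (ω⁻¹ • x) = 1 ∧ (ω⁻¹ • x) ^ r = 1 ∧
      ∀ W : Submodule F (Fin n → F), W.map (Matrix.toLin' (ω⁻¹ • x)) ≤ W →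
        W.map (Matrix.toLin' x) ≤ W := by
  have hω0 : ω ≠ 0 := by
    rintro rfl
    simp at hω
  have hcs : cstar σ (ω⁻¹ • x) = σ ω⁻¹ • cstar σ x := by
    ext i j
    simp [cstar_apply]
  refine ⟨?_, ?_, ?_⟩
  · rw [hcs, Matrix.smul_mul, Matrix.mul_smul, hx, smul_smul, map_inv₀, ← mul_inv, mul_comm (σ ω),
      hω, inv_one, one_smul]
  · rw [_root_.smul_pow, hxr, smul_smul, inv_pow, hωr, inv_mul_cancel₀, one_smul]
    rw [← hωr]
    exact pow_ne_zero r hω0
  · intro W hW
    rintro _ ⟨w, hw, rfl⟩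
    have h1 : Matrix.toLin' (ω⁻¹ • x) w ∈ W := hW ⟨w, hw, rfl⟩
    have h2 : Matrix.toLin' x w = ω • Matrix.toLin' (ω⁻¹ • x) w := by
      rw [map_smul, LinearMap.smul_apply, smul_smul, mul_inv_cancel₀ hω0, one_smul]
    rw [h2]
    exact W.smul_mem _ h1

end Scalar

end Cfsg.Agent.Lib.helper63.SuTI
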