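import Mathlib
import Cfsg.Agent.Lib.helper63.SuTI7
import Cfsg.Agent.Lib.helper63.Elusive2

/-! The case `r ∣ q + 1` (`r` odd) of the unitary totally isotropic problem. -/

set_option autoImplicit false

namespace Cfsg.Agent.Lib.helper63.SuTI

open Module Cfsg Polynomial Cfsg.Agent.Lib.helper17 Cfsg.Agent.Lib.helper45
  Cfsg.Agent.Lib.helper48

section Kummer

variable {K : Type*} [Field K] {ι : Type*} [Fintype ι] [DecidableEq ι]

theorem tdual_X_pow_sub_C (σ : K →+* K) (r : ℕ) (hr : r ≠ 0) (z : K) (hz : z ≠ 0) :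
    tdual σ (X ^ r - C z : K[X]) = X ^ r - C (σ z⁻¹) := by
  have h1 : (X ^ r - C z : K[X]) = X ^ r + C (-z) := by rw [C_neg, sub_eq_add_neg]
  have h2 : (X ^ r - C z : K[X]).coeff 0 = -z := by
    rw [coeff_sub, coeff_X_pow, coeff_C_zero, if_neg (Ne.symm hr), zero_sub]
  have h3 : (X ^ r : K[X]).reverse = 1 := by
    have := reverse_mul_X_pow (1 : K[X]) r
    rw [one_mul] at this
    rw [this, ← C_1, reverse_C]
  unfold tdual mrec
  rw [h2, h1, reverse_add_C, natDegree_X_pow, h3, add_mul, one_mul, mul_assoc,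
    mul_comm (X ^ r) (C _), ← mul_assoc, ← C_mul, mul_inv_cancel₀ (neg_ne_zero.mpr hz), C_1,
    one_mul, Polynomial.map_add, Polynomial.map_C, Polynomial.map_pow, Polynomial.map_X,
    add_comm, inv_neg, map_neg, C_neg, sub_eq_add_neg]

/-- the characteristic polynomial of a matrix with `A^r = z` divides a power of `X^r - z` -/
theorem charpoly_dvd_pow_of_pow_eq_scalar (A : Matrix ι ι K) (r : ℕ) (z : K)
    (hA : A ^ r = z • (1 : Matrix ι ι K)) :
    A.charpoly ∣ (X ^ r - C z : K[X]) ^ Fintype.card ι := by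
  have hcomm : Commute (Matrix.scalar ι (X : K[X])) ((C : K →+* K[X]).mapMatrix A) :=
    Matrix.scalar_commute _ (fun r' => Commute.all _ _) _
  have h := hcomm.mul_geom_sum₂ r
  have h2 : (Matrix.scalar ι (X : K[X])) ^ r - ((C : K →+* K[X]).mapMatrix A) ^ r
      = Matrix.scalar ι (X ^ r - C z : K[X]) := by
    rw [← map_pow, ← map_pow, hA, map_sub]
    congr 1
    ext i j
    by_cases hij : i = j <;> simp [hij]
  rw [h2] at h
  have hdet : (Matrix.scalar ι (X ^ r - C z : K[X])).det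
      = (X ^ r - C z : K[X]) ^ Fintype.card ι := by
    rw [Matrix.scalar_apply, Matrix.det_diagonal, Finset.prod_const, Finset.card_univ]
  have h3 := congrArg Matrix.det h
  rw [Matrix.det_mul, hdet] at h3
  exact ⟨_, h3.symm⟩

/-- a semisimple matrix whose characteristic polynomial divides a power of `X^r - z` has
`A^r = z` -/
theorem matrix_pow_eq_scalar_of_semisimple (A : Matrix ι ι K)
    (hss : Module.End.IsSemisimple (Matrix.toLin' A)) (r k : ℕ) (z : K)
    (h : A.charpoly ∣ (X ^ r - C z : K[X]) ^ k) : A ^ r = z • (1 : Matrix ι ι K) := by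
  have hsq : Squarefree (minpoly K A) := by
    have := hss.minpoly_squarefree
    rwa [Matrix.minpoly_toLin'] at this
  have h1 : minpoly K A ∣ (X ^ r - C z : K[X]) ^ k := (Matrix.minpoly_dvd_charpoly A).trans h
  have h2 : minpoly K A ∣ (X ^ r - C z : K[X]) := by
    by_cases hk : k = 0
    · rw [hk, pow_zero] at h1
      exact h1.trans (one_dvd _)
    · exact (hsq.dvd_pow_iff_dvd hk).mp h1
  obtain ⟨c, hc⟩ := h2
  have h3 : aeval A (X ^ r - C z : K[X]) = 0 := by rw [hc, map_mul, minpoly.aeval, zero_mul]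
  rw [map_sub, map_pow, aeval_X, aeval_C, sub_eq_zero] at h3
  rw [h3, Algebra.algebraMap_eq_smul_one]

/-- if `X^r - z` is irreducible and `A^r = z` then the characteristic polynomial of `A` is a power
of `X^r - z` -/
theorem charpoly_eq_pow_of_irreducible (n : ℕ) (A : Matrix (Fin n) (Fin n) K) (r : ℕ)
    (hr : r ≠ 0) (z : K) (hirr : Irreducible (X ^ r - C z : K[X]))
    (hA : A ^ r = z • (1 : Matrix (Fin n) (Fin n) K)) :
    ∃ k, n = r * k ∧ A.charpoly = (X ^ r - C z : K[X]) ^ k := by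
  have h1 := charpoly_dvd_pow_of_pow_eq_scalar A r z hA
  obtain ⟨k, -, hk⟩ := (dvd_prime_pow hirr.prime _).mp h1
  have hmon : ((X ^ r - C z : K[X]) ^ k).Monic := (monic_X_pow_sub_C z hr).pow k
  have h2 : A.charpoly = (X ^ r - C z : K[X]) ^ k :=
    eq_of_monic_of_associated (Matrix.charpoly_monic A) hmon hk
  refine ⟨k, ?_, h2⟩
  have h3 := congrArg natDegree h2
  rw [Matrix.charpoly_natDegree_eq_dim, Fintype.card_fin, natDegree_pow,
    natDegree_X_pow_sub_C] at h3
  rw [h3, mul_comm]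

/-- the determinant of a matrix with characteristic polynomial `(X^r - z)^k`, `r` odd -/
theorem det_of_charpoly_pow (n : ℕ) (A : Matrix (Fin n) (Fin n) K) (r k : ℕ) (hr : Odd r)
    (z : K) (hn : n = r * k) (hA : A.charpoly = (X ^ r - C z : K[X]) ^ k) :
    A.det = z ^ k := by
  have hr0 : r ≠ 0 := by rintro rfl; exact absurd hr (by decide)
  rw [Matrix.det_eq_sign_charpoly_coeff, hA, Fintype.card_fin, coeff_zero_eq_eval_zero, eval_pow,
    eval_sub, eval_pow, eval_X, eval_C, zero_pow hr0, zero_sub, hn, pow_mul, ← mul_pow,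
    hr.neg_one_pow, neg_mul, one_mul, neg_neg]

end Kummer

section FF

variable {F : Type*} [Field F] [Fintype F] {q : ℕ}

/-- elements of every order dividing `|F| - 1` -/
theorem exists_orderOf (d : ℕ) (hd : d ∣ Fintype.card F - 1) : ∃ z : F, orderOf z = d := by
  classical
  obtain ⟨g, hg⟩ := IsCyclic.exists_ofOrder_eq_natCard (α := Fˣ)
  rw [Nat.card_eq_fintype_card, Fintype.card_units] at hg
  have hN : Fintype.card F - 1 ≠ 0 := by
    have := Fintype.one_lt_card (α := F)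
    omega
  obtain ⟨e, he⟩ := hd
  have he0 : e ≠ 0 := by rintro rfl; rw [mul_zero] at he; exact hN he
  refine ⟨((g ^ e : Fˣ) : F), ?_⟩
  rw [orderOf_units, orderOf_pow_of_dvd he0 (by rw [hg, he]; exact dvd_mul_left e d), hg, he]
  exact Nat.mul_div_cancel d (Nat.pos_of_ne_zero he0)

theorem q_pos (hF : Fintype.card F = q ^ 2) : 1 ≤ q := by
  rcases Nat.eq_zero_or_pos q with h | h
  · rw [h] at hF
    have := Fintype.card_pos (α := F)
    omega
  · exact h

theorem card_sub_one (hF : Fintype.card F = q ^ 2) : Fintype.card F - 1 = (q - 1) * (q + 1) := by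
  have hq := q_pos hF
  obtain ⟨k, rfl⟩ : ∃ k, q = k + 1 := ⟨q - 1, by omega⟩
  rw [hF]
  have : (k + 1) ^ 2 = (k + 1 - 1) * (k + 1 + 1) + 1 := by
    simp only [Nat.add_sub_cancel]; ring
  omega

theorem pow_card_sub_one' (hF : Fintype.card F = q ^ 2) (y : F) (hy : y ≠ 0) :
    y ^ ((q - 1) * (q + 1)) = 1 := by
  rw [← card_sub_one hF]
  exact FiniteField.pow_card_sub_one_eq_one y hy

theorem not_dvd_q_sub_one {r : ℕ} (hr : r.Prime) (hr2 : r ≠ 2) (hq : 1 ≤ q) (hrq : r ∣ q + 1) :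
    ¬ r ∣ q - 1 := by
  intro h
  have h2 : r ∣ (q + 1) - (q - 1) := Nat.dvd_sub hrq h
  have e : (q + 1) - (q - 1) = 2 := by omega
  rw [e] at h2
  exact hr2 ((Nat.prime_dvd_prime_iff_eq hr Nat.prime_two).mp h2)

/-- an element of order the full `r`-part of `q + 1` is not an `r`-th power -/
theorem not_rth_power_of_order (hF : Fintype.card F = q ^ 2) {r : ℕ} [Fact r.Prime]
    (hr2 : r ≠ 2) (hrq : r ∣ q + 1) (z : F) (hz : orderOf z = r ^ padicValNat r (q + 1)) :
    ∀ y : F, y ^ r ≠ z := by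
  have hr : r.Prime := Fact.out
  have hq := q_pos hF
  intro y hy
  obtain ⟨s, hs⟩ : ∃ s, s = padicValNat r (q + 1) := ⟨_, rfl⟩
  rw [← hs] at hz
  have hs1 : 1 ≤ s := by
    rw [hs]; exact one_le_padicValNat_of_dvd (by omega) hrq
  have hz0 : z ≠ 0 := by
    rintro rfl
    rw [orderOf_eq_zero_iff'.mpr] at hz
    · exact (pow_pos hr.pos s).ne' hz.symm
    · intro n hn
      rw [zero_pow hn.ne']
      exact zero_ne_one
  have hy0 : y ≠ 0 := by
    rintro rfl
    rw [zero_pow hr.ne_zero] at hy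
    exact hz0 hy.symm
  have h1 : y ^ (r ^ (s + 1)) = 1 := by
    rw [pow_succ', pow_mul, hy, ← hz, pow_orderOf_eq_one]
  obtain ⟨j, hj, hjo⟩ := (Nat.dvd_prime_pow hr).mp (orderOf_dvd_of_pow_eq_one h1)
  have hjs : j = s + 1 := by
    by_contra hne
    have hjs : j ≤ s := by omega
    have h2 : y ^ (r ^ s) = 1 := by
      apply orderOf_dvd_iff_pow_eq_one.mp
      rw [hjo]
      exact pow_dvd_pow r hjs
    have h3 : z ^ (r ^ (s - 1)) = 1 := by
      rw [← hy, ← pow_mul, ← pow_succ']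
      have : s - 1 + 1 = s := by omega
      rw [this, h2]
    have h4 := orderOf_dvd_of_pow_eq_one h3
    rw [hz] at h4
    have h5 := (Nat.pow_dvd_pow_iff_le_right hr.one_lt).mp h4
    omega
  rw [hjs] at hjo
  have h2 : r ^ (s + 1) ∣ (q - 1) * (q + 1) := by
    rw [← hjo]
    exact orderOf_dvd_of_pow_eq_one (pow_card_sub_one' hF y hy0)
  have hcop : Nat.Coprime (r ^ (s + 1)) (q - 1) :=
    Nat.Coprime.pow_left _ ((Nat.Prime.coprime_iff_not_dvd hr).mpr
      (not_dvd_q_sub_one hr hr2 hq hrq))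
  have h3 : r ^ (s + 1) ∣ q + 1 := hcop.dvd_of_dvd_mul_left h2
  have h4 := (padicValNat_dvd_iff_le (by omega : q + 1 ≠ 0)).mp h3
  omega

/-- extraction of `r`-th roots inside the group of `(q+1)`-th roots of unity -/
theorem exists_root_of_pow_eq_one (hF : Fintype.card F = q ^ 2) {r : ℕ} (hr : r.Prime)
    (hrq : r ∣ q + 1) (z : F) (hz : z ^ (q + 1) = 1) (hz' : z ^ ((q + 1) / r) = 1) :
    ∃ ω : F, ω ^ (q + 1) = 1 ∧ ω ^ r = z := by
  classical
  have hq := q_pos hF
  obtain ⟨g, hg⟩ := IsCyclic.exists_generator (α := Fˣ)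
  have hgo : orderOf g = (q - 1) * (q + 1) := by
    rw [orderOf_eq_card_of_forall_mem_zpowers hg, Nat.card_eq_fintype_card, Fintype.card_units,
      card_sub_one hF]
  have hz0 : z ≠ 0 := by
    rintro rfl
    rw [zero_pow (by omega)] at hz
    exact zero_ne_one hz
  obtain ⟨j, hj⟩ : ∃ j : ℕ, g ^ j = Units.mk0 z hz0 := by
    have h1 := (mem_powers_iff_mem_zpowers).mpr (hg (Units.mk0 z hz0))
    exact (Submonoid.mem_powers_iff _ _).mp h1
  obtain ⟨N', hN'⟩ := hrq
  have hN'pos : 0 < N' := by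
    rcases Nat.eq_zero_or_pos N' with h | h
    · rw [h, mul_zero] at hN'; omega
    · exact h
  have hdiv : (q + 1) / r = N' := by
    rw [hN']; exact Nat.mul_div_cancel_left N' hr.pos
  rw [hdiv] at hz'
  have h2 : g ^ (j * N') = 1 := by
    rw [pow_mul, hj]
    ext
    rw [Units.val_pow_eq_pow_val, Units.val_mk0, hz', Units.val_one]
  have h3 : (q - 1) * (q + 1) ∣ j * N' := by
    rw [← hgo]; exact orderOf_dvd_of_pow_eq_one h2
  have h4 : (q - 1) * r ∣ j := by
    have e : (q - 1) * (q + 1) = (q - 1) * r * N' := by rw [hN']; ring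
    rw [e] at h3
    exact Nat.dvd_of_mul_dvd_mul_right hN'pos h3
  obtain ⟨t, ht⟩ := h4
  refine ⟨((g ^ ((q - 1) * t) : Fˣ) : F), ?_, ?_⟩
  · rw [← Units.val_pow_eq_pow_val, ← pow_mul]
    have e : (q - 1) * t * (q + 1) = (q - 1) * (q + 1) * t := by ring
    rw [e, pow_mul, ← hgo, pow_orderOf_eq_one, one_pow, Units.val_one]
  · rw [← Units.val_pow_eq_pow_val, ← pow_mul]
    have e : (q - 1) * t * r = j := by rw [ht]; ring
    rw [e, hj, Units.val_mk0]

/-- an `r`-th root in `F` of a norm-one element has norm one -/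
theorem rth_root_norm_one (hF : Fintype.card F = q ^ 2) {r : ℕ} (hr : r.Prime) (hr2 : r ≠ 2)
    (hrq : r ∣ q + 1) (z : F) (hz : z ^ (q + 1) = 1) (y : F) (hy : y ^ r = z) :
    y ^ (q + 1) = 1 := by
  have hq := q_pos hF
  have hy0 : y ≠ 0 := by
    rintro rfl
    rw [zero_pow hr.ne_zero] at hy
    rw [← hy, zero_pow (by omega)] at hz
    exact zero_ne_one hz
  have h1 : (y ^ (q + 1)) ^ r = 1 := by
    rw [← pow_mul, mul_comm, pow_mul, hy, hz]
  have h2 : (y ^ (q + 1)) ^ (q - 1) = 1 := by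
    rw [← pow_mul, mul_comm]
    exact pow_card_sub_one' hF y hy0
  have h3 := pow_gcd_eq_one.mpr ⟨h1, h2⟩
  have hcop : Nat.Coprime r (q - 1) :=
    (Nat.Prime.coprime_iff_not_dvd hr).mpr (not_dvd_q_sub_one hr hr2 hq hrq)
  rw [Nat.Coprime.gcd_eq_one hcop, pow_one] at h3
  exact h3

end FF

end Cfsg.Agent.Lib.helper63.SuTI
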