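import Mathlib
import Cfsg.Agent.Lib.helper63.SuTI8

/-! The case `r ∣ q + 1` (`r` odd) of the unitary totally isotropic problem: the three
statements. -/

set_option autoImplicit false

namespace Cfsg.Agent.Lib.helper63.SuTI

open Module Cfsg Polynomial Cfsg.Agent.Lib.helper17 Cfsg.Agent.Lib.helper45
  Cfsg.Agent.Lib.helper48

section I2

variable {F : Type*} [Field F] [Fintype F] {q : ℕ} (p : ℕ) [Fact p.Prime] [CharP F p] {r : ℕ}
  [Fact r.Prime] (hrp : r ≠ p)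

include hrp in
/-- necessity of `n - 2m ≥ r - 1` when `r ∣ q + 1` -/
theorem i2_cond_a (hF : Fintype.card F = q ^ 2) (σ : F →+* F) (a : ℕ)
    (hσ : ∀ x, σ x = x ^ q) (hσ' : ∀ x, σ x = x ^ (p ^ a)) (hσ2 : ∀ x, σ (σ x) = x)
    (n m : ℕ) (hm : 1 ≤ m) (hmn : 2 * m ≤ n) (hr2 : r ≠ 2)
    (hb1 : orderOf ((Fintype.card F : ℕ) : ZMod r) = 1)
    (hfix : ∀ P ∈ cycFactors r F, tdual σ P = P)
    (H : ∀ x : Matrix.SpecialLinearGroup (Fin n) F, x ∈ Cfsg.SU n F q →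
      (∃ z : F, ((x ^ r : Matrix.SpecialLinearGroup (Fin n) F) : Matrix (Fin n) (Fin n) F)
        = z • (1 : Matrix (Fin n) (Fin n) F)) →
      (∀ z : F, (x : Matrix (Fin n) (Fin n) F) ≠ z • (1 : Matrix (Fin n) (Fin n) F)) →
      ∃ W : Submodule F (Fin n → F), finrank F W = m ∧
        (∀ u ∈ W, ∀ v ∈ W, hermForm n F q u v = 0) ∧
        W.map (Matrix.toLin' (x : Matrix (Fin n) (Fin n) F)) ≤ W) :
    (r - 1) + 2 * m ≤ n := by
  classical
  have hr : r.Prime := Fact.out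
  by_contra hlt
  push Not at hlt
  obtain ⟨t, ht⟩ : ∃ t, t = n - 2 * m := ⟨_, rfl⟩
  obtain ⟨J, hJ⟩ : ∃ J, J = (t + 2) / 2 := ⟨_, rfl⟩
  obtain ⟨ρ, hρ⟩ := hr.odd_of_ne_two hr2
  have hJ1 : 1 ≤ J := by omega
  have hJr : 2 * J ≤ r - 1 := by omega
  have hJn : 2 * J ≤ n := by omega
  have hJt : t + 1 ≤ 2 * J := by omega
  obtain ⟨T, hT⟩ : ∃ T : Finset F[X], T = (cycFactors_finite (r := r) (K := F)).toFinset :=
    ⟨_, rfl⟩
  have hTmem : ∀ P, P ∈ T ↔ P ∈ cycFactors r F := by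
    intro P; rw [hT, Set.Finite.mem_toFinset]
  have hTcard : T.card = r - 1 := by
    have hcardT := card_cycFactors (K := F) p hrp (r := r)
    rw [hb1, Nat.div_one] at hcardT
    rw [← hcardT, Nat.card_coe_set_eq,
      Set.ncard_eq_toFinset_card _ (cycFactors_finite (r := r) (K := F)), hT]
  obtain ⟨τ, hτdef⟩ : ∃ τ : F[X] → F[X], τ = tdual (RingHom.id F) := ⟨_, rfl⟩
  have hτmem : ∀ P ∈ cycFactors r F, τ P ∈ cycFactors r F := by
    intro P hP; rw [hτdef]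
    exact tdual_mem_cycFactors p hrp (RingHom.id F) 0 (id_frob p) hP
  have hτ2 : ∀ P ∈ cycFactors r F, τ (τ P) = P := by
    intro P hP; rw [hτdef]; exact Cfsg.Agent.Lib.helper63.SpTI.tdual_tdual_cyc hP
  have hτfree : ∀ P ∈ cycFactors r F, τ P ≠ P := by
    intro P hP; rw [hτdef]
    exact Cfsg.Agent.Lib.helper63.SpTI.tdual_free p hrp hr2 (by rw [hb1]; exact odd_one) hP
  have hinj : Set.InjOn τ (T : Set F[X]) := by
    intro P hP Q hQ hPQ
    have h1 := hτ2 P ((hTmem P).mp hP)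
    have h2 := hτ2 Q ((hTmem Q).mp hQ)
    rw [← h1, ← h2, hPQ]
  have himg : T.image τ = T := by
    apply Finset.eq_of_subset_of_card_le
    · intro P hP
      obtain ⟨Q, hQ, rfl⟩ := Finset.mem_image.mp hP
      exact (hTmem _).mpr (hτmem Q ((hTmem Q).mp hQ))
    · rw [Finset.card_image_of_injOn hinj]
  have hmapT : T.val.map τ = T.val := by
    rw [← Finset.image_val_of_injOn hinj, himg]
  obtain ⟨𝔫₀, h𝔫₀⟩ := Cfsg.Agent.Lib.helper63.SpTI.exists_pairing (cycFactors r F) τ hτ2 hτfree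
    T.card T.val rfl (fun P hP => (hTmem P).mp (Finset.mem_val.mp hP)) hmapT
  have hcard0 : 2 * Multiset.card 𝔫₀ = r - 1 := by
    have := congrArg Multiset.card h𝔫₀
    rw [Multiset.card_add, Multiset.card_map, Finset.card_val, hTcard] at this
    omega
  obtain ⟨𝔫, 𝔲, h𝔫𝔲, h𝔫card⟩ :=
    Cfsg.Agent.Lib.helper63.SpTI.exists_sub_card 𝔫₀ J (by omega)
  obtain ⟨𝔪, h𝔪def⟩ : ∃ 𝔪 : Multiset F[X], 𝔪 = 𝔫 + 𝔫.map τ := ⟨_, rfl⟩
  have h𝔪le : 𝔪 ≤ T.val := by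
    rw [h𝔪def, h𝔫₀, h𝔫𝔲, Multiset.map_add]
    calc 𝔫 + 𝔫.map τ ≤ (𝔫 + 𝔫.map τ) + (𝔲 + 𝔲.map τ) := Multiset.le_add_right _ _
      _ = 𝔫 + 𝔲 + (Multiset.map τ 𝔫 + Multiset.map τ 𝔲) := by abel
  have h𝔪nd : 𝔪.Nodup := Multiset.nodup_of_le h𝔪le T.nodup
  have h𝔪mem : ∀ P ∈ 𝔪, P ∈ cycFactors r F := fun P hP =>
    (hTmem P).mp (Finset.mem_val.mp (Multiset.mem_of_le h𝔪le hP))
  have h𝔪card : Multiset.card 𝔪 = 2 * J := by
    rw [h𝔪def, Multiset.card_add, Multiset.card_map, h𝔫card]; omega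
  have hmapfix : ∀ 𝔰 : Multiset F[X], (∀ P ∈ 𝔰, P ∈ cycFactors r F) →
      𝔰.map (tdual σ) = 𝔰 := by
    intro 𝔰 h𝔰
    conv_rhs => rw [← Multiset.map_id 𝔰]
    exact Multiset.map_congr rfl (fun P hP => hfix P (h𝔰 P hP))
  have h𝔫mem : ∀ P ∈ 𝔫, P ∈ cycFactors r F := fun P hP =>
    h𝔪mem P (by rw [h𝔪def]; exact Multiset.mem_add.mpr (Or.inl hP))
  have hcoeff : (blockPoly (n - 2 * J) 𝔪).coeff 0 = (-1) ^ n := by
    have hmon : 𝔫.prod.Monic := by
      have := monic_multiset_prod_of_monic 𝔫 id (fun P hP => (h𝔫mem P hP).2.1)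
      rwa [Multiset.map_id] at this
    have h0 : 𝔫.prod.coeff 0 ≠ 0 := by
      rw [coeff_zero_multiset_prod]
      apply Multiset.prod_ne_zero
      intro h
      obtain ⟨P, hP, hP0⟩ := Multiset.mem_map.mp h
      exact cycFactors_coeff_zero_ne (h𝔫mem P hP) hP0
    have e1 : (𝔫.map τ).prod.coeff 0 = (𝔫.prod.coeff 0)⁻¹ := by
      rw [hτdef, ← tdual_multiset_prod]
      unfold tdual
      rw [Polynomial.map_id, mrec_coeff_zero, hmon.leadingCoeff, one_mul]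
    unfold blockPoly
    rw [mul_coeff_zero, h𝔪def, Multiset.prod_add, mul_coeff_zero, e1, mul_inv_cancel₀ h0,
      mul_one, coeff_zero_eq_eval_zero, eval_pow, eval_sub, eval_X, eval_C, zero_sub]
    have e2 : n = (n - 2 * J) + 2 * J := by omega
    conv_rhs => rw [e2, pow_add, pow_mul, neg_one_sq, one_pow, mul_one]
  obtain ⟨P₀, hP₀⟩ : ∃ P₀, P₀ ∈ 𝔫 := Multiset.card_pos_iff_exists_mem.mp (by omega)
  have hns : ∀ z : F, ∃ Q ∈ 𝔪, Q ≠ X - C z := by
    intro z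
    by_cases hPz : P₀ = X - C z
    · refine ⟨τ P₀, ?_, ?_⟩
      · rw [h𝔪def]
        exact Multiset.mem_add.mpr (Or.inr (Multiset.mem_map_of_mem τ hP₀))
      · rw [← hPz]; exact hτfree P₀ (h𝔫mem P₀ hP₀)
    · exact ⟨P₀, by rw [h𝔪def]; exact Multiset.mem_add.mpr (Or.inl hP₀), hPz⟩
  obtain ⟨w₀, 𝔫', h𝔫', e1, e2, e3⟩ := su_bad_template p hrp hF σ a hσ hσ' hσ2 n m (n - 2 * J) 𝔪
    h𝔪mem (hmapfix 𝔪 h𝔪mem) (by rw [hb1, h𝔪card]; omega) (Or.inr hcoeff) hns H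
  rw [hmapfix 𝔫' h𝔫'] at e3
  rw [hb1, one_mul] at e1
  have h𝔫'0 : 𝔫' = 0 := by
    by_contra hne
    obtain ⟨P, hP⟩ := Multiset.exists_mem_of_ne_zero hne
    have h1 : Multiset.count P (𝔫' + 𝔫') ≤ Multiset.count P 𝔪 := Multiset.count_le_of_le P e3
    rw [Multiset.count_add] at h1
    have h2 : 1 ≤ Multiset.count P 𝔫' := Multiset.one_le_count_iff_mem.mpr hP
    have h3 := Multiset.nodup_iff_count_le_one.mp h𝔪nd P
    omega
  rw [h𝔫'0, Multiset.card_zero] at e1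
  omega

omit [Fact r.Prime] in
theorem not_dvd_r_mul (hF : Fintype.card F = q ^ 2) (hrp : r ≠ p) (hr : r.Prime) :
    ¬ p ∣ r * (q + 1) := by
  have hp : p.Prime := Fact.out
  intro h
  rcases (Nat.Prime.dvd_mul hp).mp h with h1 | h1
  · exact hrp ((Nat.prime_dvd_prime_iff_eq hp hr).mp h1).symm
  · obtain ⟨f', -, hcard⟩ := FiniteField.card F p
    have h2 : p ∣ q ^ 2 := by
      rw [← hF, hcard]
      exact dvd_pow_self p (by
        have : 0 < (f' : ℕ) := f'.pos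
        omega)
    have h3 : p ∣ q := hp.dvd_of_dvd_pow h2
    have h4 : p ∣ 1 := (Nat.dvd_add_right h3).mp h1
    exact hp.one_lt.ne' (Nat.dvd_one.mp h4)

include hrp in
/-- necessity of `r ∣ m` or `(n)_r ≤ (q+1)_r` when `r ∣ q + 1` -/
theorem i2_cond_b (hF : Fintype.card F = q ^ 2) (σ : F →+* F)
    (hσ : ∀ x, σ x = x ^ q) (n m : ℕ) (hn : 1 ≤ n) (hr2 : r ≠ 2) (hrq : r ∣ q + 1)
    (H : ∀ x : Matrix.SpecialLinearGroup (Fin n) F, x ∈ Cfsg.SU n F q →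
      (∃ z : F, ((x ^ r : Matrix.SpecialLinearGroup (Fin n) F) : Matrix (Fin n) (Fin n) F)
        = z • (1 : Matrix (Fin n) (Fin n) F)) →
      (∀ z : F, (x : Matrix (Fin n) (Fin n) F) ≠ z • (1 : Matrix (Fin n) (Fin n) F)) →
      ∃ W : Submodule F (Fin n → F), finrank F W = m ∧
        (∀ u ∈ W, ∀ v ∈ W, hermForm n F q u v = 0) ∧
        W.map (Matrix.toLin' (x : Matrix (Fin n) (Fin n) F)) ≤ W) :
    r ∣ m ∨ padicValNat r n ≤ padicValNat r (q + 1) := by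
  classical
  have hr : r.Prime := Fact.out
  have hq := q_pos hF
  by_contra hcon
  push Not at hcon
  obtain ⟨hrm, hlt⟩ := hcon
  obtain ⟨s, hs⟩ : ∃ s, s = padicValNat r (q + 1) := ⟨_, rfl⟩
  rw [← hs] at hlt
  have hrs : r ^ s ∣ q + 1 := by rw [hs]; exact pow_padicValNat_dvd
  obtain ⟨z, hz⟩ := exists_orderOf (F := F) (r ^ s)
    (by rw [card_sub_one hF]; exact Dvd.dvd.mul_left hrs _)
  have hz1 : z ^ (q + 1) = 1 := orderOf_dvd_iff_pow_eq_one.mp (hz ▸ hrs)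
  have hz0 : z ≠ 0 := by
    rintro rfl
    rw [zero_pow (by omega)] at hz1
    exact zero_ne_one hz1
  have hnr := not_rth_power_of_order hF hr2 hrq z (by rw [hz, hs])
  have hirr : Irreducible (X ^ r - C z : F[X]) := X_pow_sub_C_irreducible_of_prime hr hnr
  have hdvd : r ^ (s + 1) ∣ n := (padicValNat_dvd_iff_le (by omega : n ≠ 0)).mpr (by omega)
  obtain ⟨k, hk⟩ := hdvd
  obtain ⟨k', hk'⟩ : ∃ k', k' = r ^ s * k := ⟨_, rfl⟩
  have hnk : n = r * k' := by rw [hk, hk', pow_succ]; ring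
  have hσz : σ z⁻¹ = z := by
    rw [hσ, inv_pow]
    have h1 : z ^ q * z = 1 := by rw [← pow_succ]; exact hz1
    rw [eq_inv_of_mul_eq_one_left h1, inv_inv]
  have hfτ : tdual σ ((X ^ r - C z : F[X]) ^ k') = (X ^ r - C z : F[X]) ^ k' := by
    rw [tdual_pow, tdual_X_pow_sub_C σ r hr.ne_zero z hz0, hσz]
  have hfm : ((X ^ r - C z : F[X]) ^ k').Monic := (monic_X_pow_sub_C z hr.ne_zero).pow k'
  have hfd : ((X ^ r - C z : F[X]) ^ k').natDegree = n := by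
    rw [natDegree_pow, natDegree_X_pow_sub_C, hnk, mul_comm]
  have hf0 : ((X ^ r - C z : F[X]) ^ k').coeff 0 ≠ 0 := by
    rw [coeff_zero_eq_eval_zero, eval_pow, eval_sub, eval_pow, eval_X, eval_C,
      zero_pow hr.ne_zero, zero_sub]
    exact pow_ne_zero _ (neg_ne_zero.mpr hz0)
  obtain ⟨B, K, hKp, hBK, hBu, hBc⟩ := exists_gu_charpoly hF p σ hσ n _ hfd hfm hf0 hfτ
  have hss := isSemisimple_toLin'_of_pow_eq_one p B K hKp hBK
  have hBr : B ^ r = z • (1 : Matrix (Fin n) (Fin n) F) :=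
    matrix_pow_eq_scalar_of_semisimple B hss r k' z (by rw [hBc])
  have hdet : B.det = 1 := by
    rw [det_of_charpoly_pow n B r k' (hr.odd_of_ne_two hr2) z hnk hBc, hk', pow_mul, ← hz,
      pow_orderOf_eq_one, one_pow]
  obtain ⟨x, hx⟩ : ∃ x : Matrix.SpecialLinearGroup (Fin n) F,
      (x : Matrix (Fin n) (Fin n) F) = B := ⟨⟨B, hdet⟩, rfl⟩
  have hxSU : x ∈ Cfsg.SU n F q := by
    rw [mem_SU_iff_cstar σ hσ, hx]; exact hBu
  have hns : ∀ c : F, (x : Matrix (Fin n) (Fin n) F) ≠ c • (1 : Matrix (Fin n) (Fin n) F) := by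
    intro c hc
    apply hnr c
    rw [hx] at hc
    rw [hc, _root_.smul_pow, one_pow] at hBr
    have h2 := congrFun (congrFun hBr ⟨0, by omega⟩) ⟨0, by omega⟩
    simpa using h2
  obtain ⟨W, hW, -, hinv⟩ := H x hxSU ⟨z, by
    rw [Matrix.SpecialLinearGroup.coe_pow, hx]; exact hBr⟩ hns
  rw [hx] at hinv
  apply hrm
  rw [← hW]
  apply Cfsg.Agent.Lib.helper63.Elusive.dvd_finrank_of_invariant r hr.ne_zero z hirr
    (Matrix.toLin' B) _ W (fun w hw => hinv ⟨w, hw, rfl⟩)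
  rw [← Matrix.toLin'_pow, hBr]
  ext v
  simp

include hrp in
/-- sufficiency when `x^r = z` with `z` not an `r`-th power of a norm-one element -/
theorem i2_suff_B (hF : Fintype.card F = q ^ 2) (σ : F →+* F)
    (hσ : ∀ x, σ x = x ^ q) (hne : σ ≠ RingHom.id F) (hσ2 : ∀ x, σ (σ x) = x)
    (n m : ℕ) (hn : 1 ≤ n) (hmn : 2 * m ≤ n) (hr2 : r ≠ 2) (hrq : r ∣ q + 1)
    (hcond : r ∣ m ∨ padicValNat r n ≤ padicValNat r (q + 1))
    (x : Matrix (Fin n) (Fin n) F) (hx : cstar σ x * x = 1) (hdet : x.det = 1) (z : F)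
    (hxr : x ^ r = z • (1 : Matrix (Fin n) (Fin n) F))
    (hno : ¬ ∃ ω : F, ω * σ ω = 1 ∧ ω ^ r = z) :
    ∃ W : Submodule F (Fin n → F), finrank F W = m ∧
      (∀ u ∈ W, ∀ v ∈ W, hermForm n F q u v = 0) ∧ W.map (Matrix.toLin' x) ≤ W := by
  classical
  have hr : r.Prime := Fact.out
  have hq := q_pos hF
  have hzσ : z * σ z = 1 := scalar_unitary σ n hn x hx r z hxr
  have hz1 : z ^ (q + 1) = 1 := by
    rw [pow_succ, mul_comm, ← hσ]; exact hzσ
  have hz0 : z ≠ 0 := by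
    rintro rfl
    rw [zero_pow (by omega)] at hz1
    exact zero_ne_one hz1
  have hnorm : ∀ ω : F, ω ^ (q + 1) = 1 → ω * σ ω = 1 := by
    intro ω hω
    rw [hσ, ← pow_succ']; exact hω
  have hnr : ∀ y : F, y ^ r ≠ z := fun y hy =>
    hno ⟨y, hnorm y (rth_root_norm_one hF hr hr2 hrq z hz1 y hy), hy⟩
  have hirr : Irreducible (X ^ r - C z : F[X]) := X_pow_sub_C_irreducible_of_prime hr hnr
  obtain ⟨k, hnk, hchar⟩ := charpoly_eq_pow_of_irreducible n x r hr.ne_zero z hirr hxr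
  have hzk : z ^ k = 1 := by
    rw [← det_of_charpoly_pow n x r k (hr.odd_of_ne_two hr2) z hnk hchar, hdet]
  have hz' : z ^ ((q + 1) / r) ≠ 1 := by
    intro h
    obtain ⟨ω, h1, h2⟩ := exists_root_of_pow_eq_one hF hr hrq z hz1 h
    exact hno ⟨ω, hnorm ω h1, h2⟩
  have hk0 : k ≠ 0 := by
    rintro rfl
    omega
  rcases hcond with hrm | hval
  · obtain ⟨m', hm'⟩ := hrm
    have hm'k : 2 * m' ≤ k := by
      have h0 : 2 * m ≤ n := hmn
      rw [hm', hnk] at h0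
      have h1 : r * (2 * m') ≤ r * k := by
        calc r * (2 * m') = 2 * (r * m') := by ring
          _ ≤ r * k := h0
      exact Nat.le_of_mul_le_mul_left h1 hr.pos
    have hσz : σ z⁻¹ = z := by
      rw [map_inv₀, eq_inv_of_mul_eq_one_left (by rw [mul_comm]; exact hzσ : σ z * z = 1),
        inv_inv]
    have hτ : ∀ j : ℕ, tdual σ ((X ^ r - C z : F[X]) ^ j) = (X ^ r - C z : F[X]) ^ j := by
      intro j
      rw [tdual_pow, tdual_X_pow_sub_C σ r hr.ne_zero z hz0, hσz]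
    have hmonj : ∀ j : ℕ, ((X ^ r - C z : F[X]) ^ j).Monic := fun j =>
      (monic_X_pow_sub_C z hr.ne_zero).pow j
    refine gu_ti_of_charpoly hF p σ hσ hne hσ2 n m x hx (r * (q + 1)) ?_
      (not_dvd_r_mul p hF hrp hr) ((X ^ r - C z : F[X]) ^ m') ((X ^ r - C z : F[X]) ^ (k - 2 * m'))
      (hmonj _) ?_ (hmonj _) (hτ _) ?_
    · rw [pow_mul, hxr, _root_.smul_pow, one_pow, hz1, one_smul]
    · rw [natDegree_pow, natDegree_X_pow_sub_C, hm', mul_comm]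
    · rw [hτ, hchar, ← pow_add, ← pow_add]
      congr 1
      omega
  · exfalso
    have hv : padicValNat r n = padicValNat r k + 1 := by
      rw [hnk, padicValNat.mul hr.ne_zero hk0, padicValNat_self, add_comm]
    obtain ⟨g, hg⟩ : ∃ g, g = Nat.gcd k (q + 1) := ⟨_, rfl⟩
    obtain ⟨c, hc⟩ : g ∣ q + 1 := hg ▸ Nat.gcd_dvd_right _ _
    have hgk : g ∣ k := hg ▸ Nat.gcd_dvd_left _ _
    have hzg : z ^ g = 1 := by rw [hg]; exact pow_gcd_eq_one.mpr ⟨hzk, hz1⟩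
    have hg0 : g ≠ 0 := by
      intro h; rw [h, zero_mul] at hc; omega
    have hc0 : c ≠ 0 := by
      rintro rfl; rw [mul_zero] at hc; omega
    have hrc : r ∣ c := by
      by_contra hnd
      have h1 : padicValNat r (q + 1) = padicValNat r g := by
        rw [hc, padicValNat.mul hg0 hc0, padicValNat.eq_zero_of_not_dvd hnd, add_zero]
      have h2 : padicValNat r g ≤ padicValNat r k := by
        rw [← padicValNat_dvd_iff_le hk0]
        exact dvd_trans pow_padicValNat_dvd hgk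
      omega
    obtain ⟨c', hc'⟩ := hrc
    apply hz'
    have e : (q + 1) / r = g * c' := by
      rw [hc, hc']
      have : g * (r * c') = r * (g * c') := by ring
      rw [this, Nat.mul_div_cancel_left _ hr.pos]
    rw [e, pow_mul, hzg, one_pow]

end I2

end Cfsg.Agent.Lib.helper63.SuTI
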