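import Mathlib
import Cfsg.Agent.Lib.helper63.SuTI9
import Cfsg.Agent.Lib.helper63.SpTI8

/-! The case `r = 2` of the unitary totally isotropic problem. -/

set_option autoImplicit false

namespace Cfsg.Agent.Lib.helper63.SuTI

open Module Cfsg Polynomial Cfsg.Agent.Lib.helper17 Cfsg.Agent.Lib.helper45
  Cfsg.Agent.Lib.helper48

section Eigen

variable {F : Type*} [Field F]

/-- subspaces of every smaller dimension -/
theorem exists_sub_finrank {V : Type*} [AddCommGroup V] [Module F V] [FiniteDimensional F V]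
    (E : Submodule F V) (m : ℕ) (hm : m ≤ finrank F E) :
    ∃ W : Submodule F V, W ≤ E ∧ finrank F W = m := by
  classical
  obtain ⟨b, -⟩ : ∃ b : Basis (Fin (finrank F E)) F E, b = Module.finBasis F E := ⟨_, rfl⟩
  obtain ⟨f, hf⟩ : ∃ f : Fin m → V, f = fun i => ((b (Fin.castLE hm i) : E) : V) := ⟨_, rfl⟩
  have hli : LinearIndependent F f := by
    have h1 : LinearIndependent F (fun i : Fin m => b (Fin.castLE hm i)) :=
      b.linearIndependent.comp _ (Fin.castLE_injective hm)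
    have h2 := h1.map' E.subtype (Submodule.ker_subtype E)
    rw [hf]
    exact h2
  refine ⟨Submodule.span F (Set.range f), ?_, ?_⟩
  · rw [Submodule.span_le]
    rintro _ ⟨i, rfl⟩
    rw [hf]
    exact (b (Fin.castLE hm i)).2
  · rw [finrank_span_eq_card hli, Fintype.card_fin]

/-- an eigenspace for an eigenvalue of norm `-1` is totally isotropic -/
theorem ti_of_eigen {q : ℕ} (σ : F →+* F) (hσ : ∀ x, σ x = x ^ q) (h2 : (2 : F) ≠ 0)
    (n m : ℕ) (x : Matrix (Fin n) (Fin n) F) (hx : cstar σ x * x = 1) (μ : F)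
    (hμ : μ * σ μ = -1)
    (hE : m ≤ finrank F
      (LinearMap.ker (Matrix.toLin' x - μ • (1 : Module.End F (Fin n → F))))) :
    ∃ W : Submodule F (Fin n → F), finrank F W = m ∧
      (∀ u ∈ W, ∀ v ∈ W, hermForm n F q u v = 0) ∧ W.map (Matrix.toLin' x) ≤ W := by
  obtain ⟨W, hWE, hW⟩ := exists_sub_finrank _ m hE
  have hmem : ∀ w ∈ W, x.mulVec w = μ • w := by
    intro w hw
    have h1 := hWE hw
    rw [LinearMap.mem_ker, LinearMap.sub_apply, LinearMap.smul_apply, Matrix.toLin'_apply,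
      sub_eq_zero] at h1
    simpa using h1
  refine ⟨W, hW, ?_, ?_⟩
  · intro u hu v hv
    have h1 := hermForm_of_cstar σ hσ n x hx u v
    rw [hmem u hu, hmem v hv] at h1
    have h3 : hermForm n F q (μ • u) (μ • v) = (μ * σ μ) * hermForm n F q u v := by
      unfold hermForm
      rw [Finset.mul_sum]
      apply Finset.sum_congr rfl
      intro i _
      rw [Pi.smul_apply, Pi.smul_apply, smul_eq_mul, smul_eq_mul, mul_pow, hσ]
      ring
    rw [h3, hμ] at h1
    have h4 : (2 : F) * hermForm n F q u v = 0 := by linear_combination -h1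
    exact (mul_eq_zero.mp h4).resolve_left h2
  · rintro _ ⟨w, hw, rfl⟩
    rw [Matrix.toLin'_apply, hmem w hw]
    exact W.smul_mem _ hw

/-- unitary `x` with `x² = l²`, `l` of norm `-1` -/
theorem two_good_anti {q : ℕ} (σ : F →+* F) (hσ : ∀ x, σ x = x ^ q) (h2 : (2 : F) ≠ 0)
    (n m : ℕ) (hmn : 2 * m ≤ n) (x : Matrix (Fin n) (Fin n) F) (hx : cstar σ x * x = 1)
    (l : F) (hl : l * σ l = -1) (hxr : x ^ 2 = (l * l) • (1 : Matrix (Fin n) (Fin n) F)) :
    ∃ W : Submodule F (Fin n → F), finrank F W = m ∧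
      (∀ u ∈ W, ∀ v ∈ W, hermForm n F q u v = 0) ∧ W.map (Matrix.toLin' x) ≤ W := by
  obtain ⟨L, hL⟩ : ∃ L : Module.End F (Fin n → F), L = Matrix.toLin' x := ⟨_, rfl⟩
  have hL2 : L * L = (l * l) • (1 : Module.End F (Fin n → F)) := by
    rw [hL, ← pow_two, ← Matrix.toLin'_pow, hxr]
    ext v
    simp
  have hprod : (L - l • (1 : Module.End F (Fin n → F))) * (L + l • 1) = 0 := by
    have hc : Commute L (l • (1 : Module.End F (Fin n → F))) :=
      (Commute.one_right L).smul_right l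
    rw [← hc.mul_self_sub_mul_self_eq', smul_mul_smul_comm, mul_one, hL2, sub_self]
  have hrange : LinearMap.range (L + l • (1 : Module.End F (Fin n → F)))
      ≤ LinearMap.ker (L - l • (1 : Module.End F (Fin n → F))) := by
    rintro _ ⟨v, rfl⟩
    rw [LinearMap.mem_ker, ← Module.End.mul_apply, hprod]
    rfl
  have h1 := LinearMap.finrank_range_add_finrank_ker (L + l • (1 : Module.End F (Fin n → F)))
  rw [Module.finrank_fin_fun] at h1
  have h2' := Submodule.finrank_mono hrange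
  have hneg : (L + l • (1 : Module.End F (Fin n → F))) = L - (-l) • 1 := by
    module
  by_cases hcase : m ≤ finrank F (LinearMap.ker (L - l • (1 : Module.End F (Fin n → F))))
  · rw [hL] at hcase
    exact ti_of_eigen σ hσ h2 n m x hx l hl hcase
  · have hcase' : m ≤ finrank F
        (LinearMap.ker (L - (-l) • (1 : Module.End F (Fin n → F)))) := by
      rw [← hneg]; omega
    rw [hL] at hcase'
    exact ti_of_eigen σ hσ h2 n m x hx (-l) (by rw [map_neg, neg_mul_neg]; exact hl) hcase'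

theorem two_arith (hneg : (-1 : F) ≠ 1) (l : F) (q n : ℕ) (hn : n ≠ 0)
    (hl : l ^ (q + 1) = 1) (hln : l ^ n = -1)
    (hv : padicValNat 2 (q + 1) ≤ padicValNat 2 n) : False := by
  obtain ⟨s, hs⟩ : ∃ s, s = padicValNat 2 (q + 1) := ⟨_, rfl⟩
  rw [← hs] at hv
  have h1 : 2 ^ s ∣ n := (padicValNat_dvd_iff_le hn).mpr hv
  obtain ⟨n', hn'⟩ := h1
  obtain ⟨u, hu⟩ : 2 ^ s ∣ q + 1 := by rw [hs]; exact pow_padicValNat_dvd
  have hodd : Odd u := by
    by_contra hev
    rw [Nat.not_odd_iff_even] at hev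
    obtain ⟨c, hc⟩ := hev
    have h2 : 2 ^ (s + 1) ∣ q + 1 := ⟨c, by rw [hu, hc, pow_succ]; ring⟩
    have h3 := (padicValNat_dvd_iff_le (by omega : q + 1 ≠ 0)).mp h2
    omega
  have h4 : (l ^ n) ^ u = 1 := by
    rw [← pow_mul, hn']
    have : 2 ^ s * n' * u = (q + 1) * n' := by rw [hu]; ring
    rw [this, pow_mul, hl, one_pow]
  rw [hln, hodd.neg_one_pow] at h4
  exact hneg h4

end Eigen

section TwoCase

variable {F : Type*} [Field F] [Fintype F] {q : ℕ} (p : ℕ) [Fact p.Prime] [CharP F p]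

omit [Fintype F] in
include p in
theorem neg_one_ne_one_of_char (hp2 : p ≠ 2) : (-1 : F) ≠ 1 := by
  intro h'
  have h2 := Cfsg.Agent.Lib.helper63.SpTI.two_ne_zero_of_char (F := F) p hp2
  apply h2
  have : (2 : F) = 1 - (-1) := by ring
  rw [this, h', sub_self]

include p in
theorem orderOf_card_two (hp2 : p ≠ 2) : orderOf ((Fintype.card F : ℕ) : ZMod 2) = 1 := by
  rw [ZMod.natCast_eq_one_iff_odd.mpr (Cfsg.Agent.Lib.helper63.SpTI.card_odd p hp2), orderOf_one]

include p in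
/-- the characteristic polynomial of a unitary involution -/
theorem two_blocks (hp2 : p ≠ 2) (σ : F →+* F) (a : ℕ) (hσ' : ∀ x, σ x = x ^ (p ^ a)) (n : ℕ)
    (A : Matrix (Fin n) (Fin n) F) (hA : cstar σ A * A = 1) (hA2 : A ^ 2 = 1) :
    ∃ a₀ a₁ : ℕ, a₀ + a₁ = n ∧
      A.charpoly = blockPoly a₀ (Multiset.replicate a₁ (X - C (-1 : F))) ∧
      A.det = (-1) ^ a₁ := by
  have : Fact (Nat.Prime 2) := ⟨Nat.prime_two⟩
  obtain ⟨a₀, 𝔪, h𝔪, hchar, -, hdeg⟩ :=
    gu_charpoly_blockPoly p (Ne.symm hp2) σ a hσ' n A hA hA2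
  rw [orderOf_card_two p hp2, one_mul] at hdeg
  have h𝔪eq : 𝔪 = Multiset.replicate (Multiset.card 𝔪) (X - C (-1 : F)) :=
    Multiset.eq_replicate_card.mpr
      (fun P hP => Cfsg.Agent.Lib.helper63.SpTI.cycFactors_two (h𝔪 P hP))
  obtain ⟨a₁, ha₁⟩ : ∃ a₁, a₁ = Multiset.card 𝔪 := ⟨_, rfl⟩
  rw [← ha₁] at h𝔪eq hdeg
  rw [h𝔪eq] at hchar
  refine ⟨a₀, a₁, hdeg, hchar, ?_⟩
  rw [Matrix.det_eq_sign_charpoly_coeff, hchar, Fintype.card_fin]
  unfold blockPoly
  rw [Multiset.prod_replicate, coeff_zero_eq_eval_zero, eval_mul, eval_pow, eval_pow, eval_sub,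
    eval_sub, eval_X, eval_C, eval_C, zero_sub, zero_sub, neg_neg, one_pow, mul_one, ← pow_add,
    ← hdeg]
  have : a₀ + a₁ + a₀ = a₁ + 2 * a₀ := by ring
  rw [this, pow_add, pow_mul, neg_one_sq, one_pow, mul_one]

include p in
/-- unitary involutions fixing totally isotropic `m`-spaces -/
theorem two_good_split (hF : Fintype.card F = q ^ 2) (hp2 : p ≠ 2) (σ : F →+* F) (a : ℕ)
    (hσ : ∀ x, σ x = x ^ q) (hσ' : ∀ x, σ x = x ^ (p ^ a)) (hne : σ ≠ RingHom.id F)
    (hσ2 : ∀ x, σ (σ x) = x) (n m : ℕ) (hmn : 2 * m ≤ n)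
    (A : Matrix (Fin n) (Fin n) F) (hA : cstar σ A * A = 1) (hA2 : A ^ 2 = 1)
    (h : 2 * m < n ∨ A.det ≠ -1) :
    ∃ W : Submodule F (Fin n → F), finrank F W = m ∧
      (∀ u ∈ W, ∀ v ∈ W, hermForm n F q u v = 0) ∧ W.map (Matrix.toLin' A) ≤ W := by
  have : Fact (Nat.Prime 2) := ⟨Nat.prime_two⟩
  have hrp : (2 : ℕ) ≠ p := Ne.symm hp2
  obtain ⟨a₀, a₁, hsum, hchar, hdet⟩ := two_blocks p hp2 σ a hσ' n A hA hA2
  have hPmem : (X - C (-1 : F)) ∈ cycFactors 2 F := by
    refine ⟨irreducible_X_sub_C _, monic_X_sub_C _, ?_⟩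
    rw [cyclotomic_two, map_neg, map_one, sub_neg_eq_add]
  have hPτ : tdual σ (X - C (-1 : F)) = X - C (-1 : F) :=
    Cfsg.Agent.Lib.helper63.SpTI.cycFactors_two (tdual_mem_cycFactors p hrp σ a hσ' hPmem)
  have h1 := orderOf_card_two (F := F) p hp2
  have hmapτ : ∀ k : ℕ, (Multiset.replicate k (X - C (-1 : F))).map (tdual σ)
      = Multiset.replicate k (X - C (-1 : F)) := by
    intro k; rw [Multiset.map_replicate, hPτ]
  have hmem : ∀ k : ℕ, ∀ P ∈ Multiset.replicate k (X - C (-1 : F)), P ∈ cycFactors 2 F := by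
    intro k P hP; rw [Multiset.eq_of_mem_replicate hP]; exact hPmem
  have hpar : 2 * m < n ∨ Even a₁ := by
    rcases h with h | h
    · exact Or.inl h
    · right
      by_contra hodd
      rw [Nat.not_even_iff_odd] at hodd
      rw [hdet, hodd.neg_one_pow] at h
      exact h rfl
  obtain ⟨w₀, hw₀⟩ : ∃ w₀, w₀ = min (a₀ / 2) m := ⟨_, rfl⟩
  have hw₀m : w₀ ≤ m := by rw [hw₀]; exact min_le_right _ _
  have hw₀a : 2 * w₀ ≤ a₀ := by
    have : w₀ ≤ a₀ / 2 := by rw [hw₀]; exact min_le_left _ _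
    omega
  have hw₁ : 2 * (m - w₀) ≤ a₁ := by
    rcases le_total (a₀ / 2) m with hc | hc
    · have : w₀ = a₀ / 2 := by rw [hw₀]; exact min_eq_left hc
      rcases hpar with hp | ⟨c, hc'⟩
      · omega
      · omega
    · have : w₀ = m := by rw [hw₀]; exact min_eq_right hc
      omega
  exact gu_ti_of_blockPoly p hrp hF σ a hσ hσ' hne hσ2 n m A hA hA2 a₀ _ (hmem a₁) hchar
    (hmapτ a₁) w₀ (Multiset.replicate (m - w₀) (X - C (-1 : F))) (hmem _)
    (by rw [h1, Multiset.card_replicate]; omega) hw₀a (by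
      rw [hmapτ, ← Multiset.replicate_add]
      exact (Multiset.replicate_le_replicate _).mpr (by omega))

include p in
/-- unitary involutions of determinant `-1` fix no totally isotropic space of half the
dimension -/
theorem two_bad (hp2 : p ≠ 2) (σ : F →+* F) (a : ℕ)
    (hσ : ∀ x, σ x = x ^ q) (hσ' : ∀ x, σ x = x ^ (p ^ a)) (hσ2 : ∀ x, σ (σ x) = x)
    (n m : ℕ) (hmn : n = 2 * m)
    (A : Matrix (Fin n) (Fin n) F) (hA : cstar σ A * A = 1) (hA2 : A ^ 2 = 1)
    (hdet : A.det = -1) (W : Submodule F (Fin n → F)) (hW : finrank F W = m)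
    (hti : ∀ u ∈ W, ∀ v ∈ W, hermForm n F q u v = 0)
    (hinv : W.map (Matrix.toLin' A) ≤ W) : False := by
  have : Fact (Nat.Prime 2) := ⟨Nat.prime_two⟩
  have hrp : (2 : ℕ) ≠ p := Ne.symm hp2
  obtain ⟨a₀, a₁, hsum, hchar, hdet'⟩ := two_blocks p hp2 σ a hσ' n A hA hA2
  have hneg1 := neg_one_ne_one_of_char (F := F) p hp2
  have hodd : Odd a₁ := by
    rw [hdet] at hdet'
    exact (neg_one_pow_eq_neg_one_iff_odd hneg1).mp hdet'.symm
  have hPmem : (X - C (-1 : F)) ∈ cycFactors 2 F := by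
    refine ⟨irreducible_X_sub_C _, monic_X_sub_C _, ?_⟩
    rw [cyclotomic_two, map_neg, map_one, sub_neg_eq_add]
  have hmem : ∀ P ∈ Multiset.replicate a₁ (X - C (-1 : F)), P ∈ cycFactors 2 F := by
    intro P hP; rw [Multiset.eq_of_mem_replicate hP]; exact hPmem
  obtain ⟨w₀, 𝔫, h𝔫, e1, e2, e3⟩ :=
    gu_ti_blockPoly p hrp σ a hσ hσ' hσ2 n A hA hA2 a₀ _ hmem hchar W hti hinv
  rw [orderOf_card_two p hp2, one_mul, hW] at e1
  have h3 := Multiset.card_le_card e3
  rw [Multiset.card_add, Multiset.card_map, Multiset.card_replicate] at h3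
  obtain ⟨c, hc⟩ := hodd
  omega

include p in
/-- **The case `r = 2`.** -/
theorem su_two_case (hF : Fintype.card F = q ^ 2) (hp2 : p ≠ 2) (σ : F →+* F) (a : ℕ)
    (hσ : ∀ x, σ x = x ^ q) (hσ' : ∀ x, σ x = x ^ (p ^ a)) (hne : σ ≠ RingHom.id F)
    (hσ2 : ∀ x, σ (σ x) = x) (n m : ℕ) (hm : 1 ≤ m) (hmn : 2 * m ≤ n) :
    (∀ x : Matrix.SpecialLinearGroup (Fin n) F, x ∈ Cfsg.SU n F q →
      (∃ z : F, ((x ^ 2 : Matrix.SpecialLinearGroup (Fin n) F) : Matrix (Fin n) (Fin n) F)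
        = z • (1 : Matrix (Fin n) (Fin n) F)) →
      (∀ z : F, (x : Matrix (Fin n) (Fin n) F) ≠ z • (1 : Matrix (Fin n) (Fin n) F)) →
      ∃ W : Submodule F (Fin n → F), finrank F W = m ∧
        (∀ u ∈ W, ∀ v ∈ W, hermForm n F q u v = 0) ∧
        W.map (Matrix.toLin' (x : Matrix (Fin n) (Fin n) F)) ≤ W) ↔
    (2 * m < n ∨ padicValNat 2 (q + 1) ≤ padicValNat 2 n) := by
  classical
  have hq := q_pos hF
  have h2 : (2 : F) ≠ 0 := Cfsg.Agent.Lib.helper63.SpTI.two_ne_zero_of_char (F := F) p hp2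
  have hneg1 := neg_one_ne_one_of_char (F := F) p hp2
  have hqodd : Odd q := by
    have h1 := Cfsg.Agent.Lib.helper63.SpTI.card_odd (F := F) p hp2
    rw [hF] at h1
    exact (Nat.odd_pow_iff (by norm_num)).mp h1
  constructor
  · intro H
    by_contra hcon
    push Not at hcon
    obtain ⟨hn2, hv⟩ := hcon
    have hnm : n = 2 * m := by omega
    obtain ⟨k, n', hn'odd, hnk⟩ := Nat.exists_eq_two_pow_mul_odd (by omega : n ≠ 0)
    have hvk : padicValNat 2 n = k := by
      rw [hnk, padicValNat.mul (by positivity)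
        (by rintro rfl; exact absurd hn'odd (by decide)), padicValNat.prime_pow,
        padicValNat.eq_zero_of_not_dvd hn'odd.not_two_dvd_nat, add_zero]
    rw [hvk] at hv
    have hdvd : 2 ^ (k + 1) ∣ q + 1 :=
      (padicValNat_dvd_iff_le (by omega : q + 1 ≠ 0)).mpr (by omega)
    obtain ⟨ω, hω⟩ := exists_orderOf (F := F) (2 ^ (k + 1))
      (by rw [card_sub_one hF]; exact Dvd.dvd.mul_left hdvd _)
    have hω1 : ω ^ (q + 1) = 1 := orderOf_dvd_iff_pow_eq_one.mp (hω ▸ hdvd)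
    have hω0 : ω ≠ 0 := by
      rintro rfl
      rw [zero_pow (by omega)] at hω1
      exact zero_ne_one hω1
    have hωk : ω ^ (2 ^ k) = -1 := by
      have h3 : ω ^ (2 ^ k) * ω ^ (2 ^ k) = 1 := by
        rw [← pow_add, ← two_mul, ← pow_succ', ← hω, pow_orderOf_eq_one]
      rcases mul_self_eq_one_iff.mp h3 with h4 | h4
      · exfalso
        have h5 := orderOf_dvd_of_pow_eq_one h4
        rw [hω] at h5
        have h6 := (Nat.pow_dvd_pow_iff_le_right (by norm_num : 1 < 2)).mp h5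
        omega
      · exact h4
    have hωn : ω ^ n = -1 := by rw [hnk, pow_mul, hωk, hn'odd.neg_one_pow]
    have hn2' : 2 ≤ n := by omega
    obtain ⟨i0, hi0⟩ : ∃ i0 : Fin n, i0.val = 0 := ⟨⟨0, by omega⟩, rfl⟩
    obtain ⟨i1, hi1⟩ : ∃ i1 : Fin n, i1.val = 1 := ⟨⟨1, by omega⟩, rfl⟩
    have hi10 : i1 ≠ i0 := by
      intro h; rw [h] at hi1; omega
    obtain ⟨d, hd⟩ : ∃ d : Fin n → F,
        d = fun i => if i = i0 then (-1 : F) else 1 := ⟨_, rfl⟩
    have hdd : ∀ i, d i * d i = 1 := by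
      intro i; rw [hd]; dsimp only; split_ifs <;> simp
    have hσd : ∀ i, σ (d i) = d i := by
      intro i; rw [hd]; dsimp only; split_ifs <;> simp
    obtain ⟨x₀, hx₀⟩ : ∃ x₀ : Matrix (Fin n) (Fin n) F, x₀ = Matrix.diagonal d := ⟨_, rfl⟩
    have hx₀sq : x₀ * x₀ = 1 := by
      rw [hx₀, Matrix.diagonal_mul_diagonal]
      simp_rw [hdd]
      exact Matrix.diagonal_one
    have hx₀u : cstar σ x₀ * x₀ = 1 := by
      have : cstar σ x₀ = x₀ := by
        rw [hx₀]; ext i j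
        rw [cstar_apply, Matrix.diagonal_apply, Matrix.diagonal_apply]
        by_cases hij : i = j
        · subst hij; simp [hσd]
        · rw [if_neg hij, if_neg (Ne.symm hij), map_zero]
      rw [this, hx₀sq]
    have hx₀2 : x₀ ^ 2 = 1 := by rw [pow_two, hx₀sq]
    have hx₀det : x₀.det = -1 := by
      rw [hx₀, Matrix.det_diagonal, hd,
        Finset.prod_ite_eq' Finset.univ i0 (fun _ => (-1 : F))]
      simp
    have hdet : (ω • x₀).det = 1 := by
      rw [Matrix.det_smul, Fintype.card_fin, hωn, hx₀det]; ring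
    obtain ⟨x, hx⟩ : ∃ x : Matrix.SpecialLinearGroup (Fin n) F,
        (x : Matrix (Fin n) (Fin n) F) = ω • x₀ := ⟨⟨_, hdet⟩, rfl⟩
    have hωσ : ω * σ ω = 1 := by rw [hσ, ← pow_succ']; exact hω1
    have hxSU : x ∈ Cfsg.SU n F q := by
      rw [mem_SU_iff_cstar σ hσ, hx]
      have hcs : cstar σ (ω • x₀) = σ ω • cstar σ x₀ := by ext i j; simp [cstar_apply]
      rw [hcs, Matrix.smul_mul, Matrix.mul_smul, hx₀u, smul_smul, mul_comm, hωσ, one_smul]
    have hxsq : ((x ^ 2 : Matrix.SpecialLinearGroup (Fin n) F) : Matrix (Fin n) (Fin n) F)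
        = (ω ^ 2) • (1 : Matrix (Fin n) (Fin n) F) := by
      rw [Matrix.SpecialLinearGroup.coe_pow, hx, _root_.smul_pow, hx₀2]
    have hns : ∀ c : F,
        (x : Matrix (Fin n) (Fin n) F) ≠ c • (1 : Matrix (Fin n) (Fin n) F) := by
      intro c hc
      rw [hx, hx₀] at hc
      have e0 := congrFun (congrFun hc i0) i0
      have e1 := congrFun (congrFun hc i1) i1
      rw [Matrix.smul_apply, Matrix.smul_apply, Matrix.diagonal_apply_eq, Matrix.one_apply_eq,
        hd] at e0 e1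
      simp only [smul_eq_mul, mul_one, if_true] at e0
      simp only [smul_eq_mul, mul_one, if_neg hi10] at e1
      have : (2 : F) * ω = 0 := by linear_combination e1 - e0
      exact hω0 ((mul_eq_zero.mp this).resolve_left h2)
    obtain ⟨W, hW, hti, hinv⟩ := H x hxSU ⟨_, hxsq⟩ hns
    apply two_bad p hp2 σ a hσ hσ' hσ2 n m hnm x₀ hx₀u hx₀2 hx₀det W hW hti
    rintro _ ⟨w, hw, rfl⟩
    have h5 : Matrix.toLin' (x : Matrix (Fin n) (Fin n) F) w ∈ W := hinv ⟨w, hw, rfl⟩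
    rw [hx] at h5
    have h6 : Matrix.toLin' x₀ w = ω⁻¹ • Matrix.toLin' (ω • x₀) w := by
      rw [map_smul, LinearMap.smul_apply, smul_smul, inv_mul_cancel₀ hω0, one_smul]
    rw [h6]; exact W.smul_mem _ h5
  · intro hcond x hxSU ⟨z, hz⟩ hns
    rw [Matrix.SpecialLinearGroup.coe_pow] at hz
    have hxu := (mem_SU_iff_cstar σ hσ x).mp hxSU
    have hzσ : z * σ z = 1 := scalar_unitary σ n (by omega) _ hxu 2 z hz
    have hz1 : z ^ (q + 1) = 1 := by rw [pow_succ, mul_comm, ← hσ]; exact hzσ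
    have hz0 : z ≠ 0 := by
      rintro rfl
      rw [zero_pow (by omega)] at hz1
      exact zero_ne_one hz1
    have hsq : IsSquare z := by
      rw [FiniteField.isSquare_iff (by rw [ringChar.eq F p]; exact hp2) hz0, hF]
      obtain ⟨t, ht⟩ := hqodd
      have : q ^ 2 / 2 = (q + 1) * t := by
        rw [ht]
        have : (2 * t + 1) ^ 2 = 2 * ((2 * t + 1 + 1) * t) + 1 := by ring
        omega
      rw [this, pow_mul, hz1, one_pow]
    obtain ⟨l, hl⟩ := hsq
    have hνsq : (l * σ l) * (l * σ l) = 1 := by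
      have : (l * σ l) * (l * σ l) = (l * l) * σ (l * l) := by rw [map_mul]; ring
      rw [this, ← hl, hzσ]
    rcases mul_self_eq_one_iff.mp hνsq with hν | hν
    · obtain ⟨hA₀, hA₀2, hWW⟩ := su_scalar_reduce σ n (x : Matrix (Fin n) (Fin n) F) hxu 2 l z
        hν (by rw [pow_two, hl]) hz
      have hgood : 2 * m < n ∨ (l⁻¹ • (x : Matrix (Fin n) (Fin n) F)).det ≠ -1 := by
        rcases hcond with hc | hc
        · exact Or.inl hc
        · right
          intro hdet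
          rw [Matrix.det_smul, Fintype.card_fin, x.det_coe, mul_one, inv_pow] at hdet
          have hln : l ^ n = -1 := by
            rw [← inv_inv (l ^ n), hdet]; simp
          have hl1 : l ^ (q + 1) = 1 := by rw [pow_succ', ← hσ]; exact hν
          exact two_arith hneg1 l q n (by omega) hl1 hln hc
      obtain ⟨W, hW, hti, hinv⟩ :=
        two_good_split p hF hp2 σ a hσ hσ' hne hσ2 n m hmn _ hA₀ hA₀2 hgood
      exact ⟨W, hW, hti, hWW W hinv⟩
    · exact two_good_anti σ hσ h2 n m hmn _ hxu l hν (by rw [hz, hl])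

end TwoCase

end Cfsg.Agent.Lib.helper63.SuTI
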