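/-
S5972 split project (helper24), piece SPBAD: for `i = ord_r(q)` even and `1 ≤ o ≤ (r-1)/i`, a
symplectic model of dimension `i (2s + o)` with an isometry of order `r` without fixed vectors
all of whose invariant totally isotropic subspaces have dimension at most `i s`
(characteristic polynomial `P₁^(2s+1) P₂ ⋯ P_o`).
-/
import Mathlib
import Cfsg.Agent.Lib.helper63.SpTI7

set_option autoImplicit false
set_option linter.unusedSectionVars false
set_option linter.unusedVariables false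

namespace Cfsg.Agent.Lib.helper24

open Module Polynomial Cfsg.Agent.Lib.helper17 Cfsg.Agent.Lib.helper45
  Cfsg.Agent.Lib.helper63.SpTI

universe u

section stsgeneric

variable {F : Type u} [Field F] [Fintype F]

/-- PIECE SPBAD. -/
theorem sts_sp_bad (p : ℕ) [Fact p.Prime] [CharP F p] (r : ℕ) [Fact r.Prime] (hrp : r ≠ p)
    (hr2 : r ≠ 2) (hev : Even (orderOf ((Fintype.card F : ℕ) : ZMod r)))
    (s o : ℕ) (ho1 : 1 ≤ o) (hot : o ≤ (r - 1) / orderOf ((Fintype.card F : ℕ) : ZMod r)) :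
    ∃ (V : Type u) (_ : AddCommGroup V) (_ : Module F V) (_ : FiniteDimensional F V)
      (ω : V →ₗ[F] V →ₗ[F] F) (a b : Module.End F V),
      (∀ v, ω v v = 0) ∧ (∀ v, (∀ w, ω v w = 0) → v = 0) ∧
      (∀ v w, ω (a v) (a w) = ω v w) ∧ a * b = 1 ∧ a ^ r = 1 ∧
      finrank F V = orderOf ((Fintype.card F : ℕ) : ZMod r) * (2 * s + o) ∧
      (∀ v, a v = v → v = 0) ∧
      ∀ W : Submodule F V, (∀ u ∈ W, ∀ v ∈ W, ω u v = 0) → (∀ w ∈ W, a w ∈ W) →
        finrank F W ≤ orderOf ((Fintype.card F : ℕ) : ZMod r) * s := by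
  classical
  have hp : p.Prime := Fact.out
  have hr : r.Prime := Fact.out
  have hipos := orderOf_card_pos (F := F) p hrp
  have hcardT := card_cycFactors (K := F) p hrp (r := r)
  have hfixτ : ∀ P ∈ cycFactors r F, tdual (RingHom.id F) P = P :=
    fun P hP => tdual_fix p hrp hev hP
  obtain ⟨i, hi⟩ : ∃ i, i = orderOf ((Fintype.card F : ℕ) : ZMod r) := ⟨_, rfl⟩
  rw [← hi] at hipos hcardT hev hot ⊢
  have hmapfix : ∀ 𝔰 : Multiset F[X], (∀ P ∈ 𝔰, P ∈ cycFactors r F) →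
      𝔰.map (tdual (RingHom.id F)) = 𝔰 := by
    intro 𝔰 h𝔰
    conv_rhs => rw [← Multiset.map_id 𝔰]
    exact Multiset.map_congr rfl (fun P hP => hfixτ P (h𝔰 P hP))
  -- the finite set of cyclotomic factors
  obtain ⟨T, hT⟩ : ∃ T : Finset F[X], T = (cycFactors_finite (r := r) (K := F)).toFinset :=
    ⟨_, rfl⟩
  have hTmem : ∀ P, P ∈ T ↔ P ∈ cycFactors r F := by
    intro P; rw [hT, Set.Finite.mem_toFinset]
  have hTcard : T.card = (r - 1) / i := by
    rw [← hcardT, Nat.card_coe_set_eq,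
      Set.ncard_eq_toFinset_card _ (cycFactors_finite (r := r) (K := F)), hT]
  obtain ⟨T', hT'sub, hT'card⟩ := Finset.exists_subset_card_eq (s := T) (n := o)
    (by rw [hTcard]; exact hot)
  obtain ⟨Q₁, hQ₁T'⟩ : ∃ Q₁, Q₁ ∈ T' := by
    apply Finset.card_pos.mp; rw [hT'card]; exact ho1
  have hQ₁ : Q₁ ∈ cycFactors r F := (hTmem Q₁).mp (hT'sub hQ₁T')
  obtain ⟨𝔡, h𝔡⟩ : ∃ 𝔡 : Multiset F[X], 𝔡 = (T'.erase Q₁).val := ⟨_, rfl⟩
  have h𝔡nd : 𝔡.Nodup := by rw [h𝔡]; exact (T'.erase Q₁).nodup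
  have h𝔡Q : Q₁ ∉ 𝔡 := by
    rw [h𝔡]
    intro h
    exact (Finset.notMem_erase Q₁ T') (Finset.mem_val.mp h)
  have h𝔡mem : ∀ P ∈ 𝔡, P ∈ cycFactors r F := by
    intro P hP
    rw [h𝔡] at hP
    exact (hTmem P).mp (hT'sub (Finset.mem_of_mem_erase (Finset.mem_val.mp hP)))
  have h𝔡card : Multiset.card 𝔡 = o - 1 := by
    rw [h𝔡, Finset.card_val, Finset.card_erase_of_mem hQ₁T', hT'card]
  -- the multiset `P₁^(2s+1) P₂ ⋯ P_o`
  obtain ⟨𝔪, h𝔪def⟩ : ∃ 𝔪 : Multiset F[X], 𝔪 = Multiset.replicate (2 * s + 1) Q₁ + 𝔡 :=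
    ⟨_, rfl⟩
  have h𝔪 : ∀ P ∈ 𝔪, P ∈ cycFactors r F := by
    intro P hP
    rw [h𝔪def] at hP
    rcases Multiset.mem_add.mp hP with h1 | h1
    · rw [Multiset.eq_of_mem_replicate h1]; exact hQ₁
    · exact h𝔡mem P h1
  have hcard𝔪 : Multiset.card 𝔪 = 2 * s + o := by
    rw [h𝔪def, Multiset.card_add, Multiset.card_replicate, h𝔡card]; omega
  obtain ⟨e, he⟩ := hev
  have hmem : blockPoly 0 𝔪 ∈ sdPolys r (RingHom.id F) (2 * (e * (2 * s + o))) := by
    refine ⟨blockPoly_monic 0 𝔪 h𝔪, ?_, ?_, blockPoly_dvd 0 𝔪 h𝔪⟩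
    · rw [blockPoly_natDegree p hrp 0 𝔪 h𝔪, ← hi, hcard𝔪, zero_add, he]; ring
    · rw [tdual_blockPoly, hmapfix 𝔪 h𝔪]
  obtain ⟨V, i1, i2, i3, ω, a, b, halt, hnd, hiso, hab, har, hchar⟩ :=
    spRealizable_of_sdPolys p hrp hr2 _ hmem
  have hrF : ((r : ℕ) : F) ≠ 0 := natCast_ne_zero_of_charP p hrp F
  refine ⟨V, i1, i2, i3, ω, a, b, halt, hnd, hiso, hab, har, ?_, ?_, ?_⟩
  · -- the dimension
    rw [← LinearMap.charpoly_natDegree a, hchar, blockPoly_natDegree p hrp 0 𝔪 h𝔪, ← hi,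
      hcard𝔪, zero_add]
  · -- no fixed vectors
    intro v hv
    by_contra hv0
    have h1 : a.HasEigenvalue 1 := Module.End.hasEigenvalue_of_hasEigenvector
      ⟨Module.End.mem_eigenspace_iff.mpr (by rw [hv, one_smul]), hv0⟩
    have h2 := (Module.End.hasEigenvalue_iff_isRoot_charpoly a 1).mp h1
    rw [hchar] at h2
    unfold blockPoly at h2
    rw [IsRoot.def, pow_zero, one_mul, eval_multiset_prod] at h2
    have h3 := Multiset.prod_eq_zero_iff.mp h2
    obtain ⟨P, hP, hP0⟩ := Multiset.mem_map.mp h3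
    obtain ⟨c, hc⟩ := (h𝔪 P hP).2.2
    have h4 : eval 1 (cyclotomic r F) = ((r : ℕ) : F) := eval_one_cyclotomic_prime
    rw [hc, eval_mul, hP0, zero_mul] at h4
    exact hrF h4.symm
  · -- the bound
    intro W hti hinv
    have hss : a.IsSemisimple := by
      apply Module.End.isSemisimple_of_squarefree_aeval_eq_zero
        (p := (X ^ r - C (1 : F) : F[X]))
      · exact (separable_X_pow_sub_C (1 : F) hrF one_ne_zero).squarefree
      · simp [har]
    obtain ⟨g, hgm, hgd, hgdvd⟩ := charpoly_ti_dvd ω a b halt hnd hiso hab hss W hti hinv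
    rw [hchar] at hgdvd
    obtain ⟨w₀, 𝔫, h𝔫, h1, h2, h3⟩ := ti_blockPoly p hrp 0 𝔪 h𝔪 g hgm hgdvd
    rw [hmapfix 𝔫 h𝔫, h𝔪def] at h3
    have hall : ∀ Q ∈ 𝔫, Q = Q₁ := by
      intro Q hQ
      by_contra hne
      have k1 := Multiset.count_le_of_le Q h3
      rw [Multiset.count_add, Multiset.count_add, Multiset.count_replicate,
        if_neg (Ne.symm hne), zero_add] at k1
      have k2 := Multiset.nodup_iff_count_le_one.mp h𝔡nd Q
      have k3 : 1 ≤ Multiset.count Q 𝔫 := Multiset.one_le_count_iff_mem.mpr hQ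
      omega
    have hrep : 𝔫 = Multiset.replicate (Multiset.card 𝔫) Q₁ :=
      Multiset.eq_replicate_card.mpr hall
    have h4 := Multiset.count_le_of_le Q₁ h3
    rw [Multiset.count_add, Multiset.count_add, Multiset.count_replicate_self,
      Multiset.count_eq_zero_of_notMem h𝔡Q, add_zero] at h4
    have h5 : Multiset.count Q₁ 𝔫 = Multiset.card 𝔫 := by
      conv_lhs => rw [hrep]
      rw [Multiset.count_replicate_self]
    have h6 : Multiset.card 𝔫 ≤ s := by omega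
    have hw0 : w₀ = 0 := by omega
    rw [← hgd, h1, ← hi, hw0, zero_add]
    exact Nat.mul_le_mul_left i h6

end stsgeneric

end Cfsg.Agent.Lib.helper24
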