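import Mathlib
import Cfsg.Prelude.Def_Solvable
import Cfsg.Agent.Lib.helper38.RO1
import Cfsg.Agent.Lib.helper38.RONorm
import Cfsg.Agent.Lib.helper52.ROPerm

/-! Piece `DEC2` of the split proof of S4330 (owner helper38): `step_elemAb_move`. -/

set_option autoImplicit false
open Pointwise

namespace Cfsg.Agent.Lib.helper38.RO

universe u v

/-! ## Piece DEC2 (file `Lib/<you>/RODec2.lean`) -/
theorem step_elemAb_move (p : ℕ) [Fact p.Prime] {M : Type v} [CommGroup M] [Finite M]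
    (hcop : ¬ p ∣ Nat.card M)
    (N Q X : Subgroup (MulAut M)) (hQN : Q ≤ N)
    (hnorm : ∀ n ∈ N, ∀ q ∈ Q, n * q * n⁻¹ ∈ Q) (hQ : IsPGroup p ↥Q) (hXQ : X ≤ Q)
    (B : Subgroup (MulAut M)) (hBQ : B ≤ Q) (hBn : ∀ n ∈ N, ∀ b ∈ B, n * b * n⁻¹ ∈ B)
    (hBc : ∀ a ∈ B, ∀ b ∈ B, a * b = b * a) (hBp : ∀ b ∈ B, b ^ p = 1)
    (hBfix : fixedPts B = ⊥)
    (hII : ∃ x ∈ X, ∃ D : Subgroup (MulAut M), IsMaxIn B D ∧ fixedPts D ≠ ⊥ ∧ conjSub x D ≠ D) :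
    ∃ m : M, ∀ n ∈ N, ∃ x ∈ X, (n * x * n⁻¹) m ≠ m := by
  classical
  -- N normalizes B
  have hNB : ∀ n ∈ N, conjSub n B = B := fun n hn =>
    conjSub_eq_self_of_normal (hBn n hn)
      (fun d hd => by simpa using hBn n⁻¹ (inv_mem hn) d hd)
  have hΛ : ∀ n ∈ N, ∀ D : Subgroup (MulAut M), IsMaxIn B D ∧ fixedPts D ≠ ⊥ →
      IsMaxIn B (conjSub n D) ∧ fixedPts (conjSub n D) ≠ ⊥ := by
    rintro n hn D ⟨hD1, hD2⟩
    refine ⟨isMaxIn_conjSub n B D (hNB n hn) hD1, ?_⟩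
    obtain ⟨⟨m, hm⟩, hm1⟩ := (Subgroup.ne_bot_iff_exists_ne_one).mp hD2
    intro h
    have h1 := map_mem_fixedPts_conjSub (n := n) hm
    rw [h, Subgroup.mem_bot] at h1
    apply hm1
    apply Subtype.ext
    exact (MulEquiv.map_eq_one_iff n).mp h1
  let act : MulAction ↥N {D : Subgroup (MulAut M) // IsMaxIn B D ∧ fixedPts D ≠ ⊥} :=
    { smul := fun n D => ⟨conjSub (n : MulAut M) D.1, hΛ n n.2 D.1 D.2⟩
      one_smul := fun D => Subtype.ext (conjSub_one _)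
      mul_smul := fun a b D => Subtype.ext (conjSub_mul _ _ _) }
  have hsmul : ∀ (n : ↥N) (D : {D : Subgroup (MulAut M) // IsMaxIn B D ∧ fixedPts D ≠ ⊥}),
      (n • D).1 = conjSub (n : MulAut M) D.1 := fun _ _ => rfl
  have hQnorm : (Q.subgroupOf N).Normal := by
    refine ⟨fun q hq g => ?_⟩
    rw [Subgroup.mem_subgroupOf] at hq ⊢
    exact hnorm g g.2 q hq
  have hQ' : IsPGroup p ↥(Q.subgroupOf N) :=
    hQ.of_equiv (Subgroup.subgroupOfEquivOfLe hQN).symm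
  have hXQ' : X.subgroupOf N ≤ Q.subgroupOf N := by
    intro x hx
    rw [Subgroup.mem_subgroupOf] at hx ⊢
    exact hXQ hx
  have hX' : ∃ x ∈ X.subgroupOf N,
      ∃ a : {D : Subgroup (MulAut M) // IsMaxIn B D ∧ fixedPts D ≠ ⊥}, x • a ≠ a := by
    obtain ⟨x, hx, D, hD1, hD2, hD3⟩ := hII
    refine ⟨⟨x, hQN (hXQ hx)⟩, ?_, ⟨D, hD1, hD2⟩, ?_⟩
    · rw [Subgroup.mem_subgroupOf]; exact hx
    · intro h
      exact hD3 (congrArg Subtype.val h)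
  obtain ⟨S, hS⟩ := exists_set_not_stabilized p (Q.subgroupOf N) hQ' (X.subgroupOf N) hXQ' hX'
  -- choose a nontrivial fixed point for each D
  have hch : ∀ D : {D : Subgroup (MulAut M) // IsMaxIn B D ∧ fixedPts D ≠ ⊥},
      ∃ m : M, m ∈ fixedPts D.1 ∧ m ≠ 1 := by
    intro D
    obtain ⟨⟨m, hm⟩, hm1⟩ := (Subgroup.ne_bot_iff_exists_ne_one).mp D.2.2
    exact ⟨m, hm, fun h => hm1 (Subtype.ext h)⟩
  choose μ hμ1 hμ2 using hch
  have : Fintype {D : Subgroup (MulAut M) // IsMaxIn B D ∧ fixedPts D ≠ ⊥} := Fintype.ofFinite _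
  obtain ⟨m, hmdef⟩ : ∃ m : M, m = ∏ D ∈ Finset.univ.filter (fun D => D ∈ S), μ D := ⟨_, rfl⟩
  have hnm : ∀ D₀ : {D : Subgroup (MulAut M) // IsMaxIn B D ∧ fixedPts D ≠ ⊥},
      normMap D₀.1 m = ∏ D ∈ Finset.univ.filter (fun D => D ∈ S), normMap D₀.1 (μ D) := by
    intro D₀
    rw [hmdef]
    exact map_prod (normHom D₀.1) _ _
  have hne1 : ∀ D₀ D : {D : Subgroup (MulAut M) // IsMaxIn B D ∧ fixedPts D ≠ ⊥},
      D₀ ≠ D → normMap D₀.1 (μ D) = 1 := by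
    intro D₀ D hne
    exact normMap_eq_one_of_ne B D₀.1 D.1 hBc hBfix D₀.2.1 D.2.1
      (fun h => hne (Subtype.ext h)) (μ D) (hμ1 D)
  have hin : ∀ D₀ : {D : Subgroup (MulAut M) // IsMaxIn B D ∧ fixedPts D ≠ ⊥},
      D₀ ∈ S → normMap D₀.1 m = μ D₀ ^ Nat.card ↥D₀.1 := by
    intro D₀ hD₀
    rw [hnm, Finset.prod_eq_single_of_mem D₀ (by simp [hD₀])
      (fun D _ hD => hne1 D₀ D (Ne.symm hD))]
    exact normMap_of_mem_fixedPts D₀.1 (μ D₀) (hμ1 D₀)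
  have hout : ∀ D₀ : {D : Subgroup (MulAut M) // IsMaxIn B D ∧ fixedPts D ≠ ⊥},
      D₀ ∉ S → normMap D₀.1 m = 1 := by
    intro D₀ hD₀
    rw [hnm]
    apply Finset.prod_eq_one
    intro D hD
    rw [Finset.mem_filter] at hD
    exact hne1 D₀ D (fun h => hD₀ (h ▸ hD.2))
  refine ⟨m, fun n hn => ?_⟩
  obtain ⟨x, hx, s, hs, hns⟩ := hS ⟨n, hn⟩
  rw [Subgroup.mem_subgroupOf] at hx
  refine ⟨(x : MulAut M), hx, ?_⟩
  intro hfix
  obtain ⟨g, hgdef⟩ : ∃ g : ↥N, g = ⟨n, hn⟩ * x * (⟨n, hn⟩ : ↥N)⁻¹ := ⟨_, rfl⟩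
  have hgval : (g : MulAut M) = n * (x : MulAut M) * n⁻¹ := by rw [hgdef]; rfl
  rw [← hgdef] at hns
  rw [← hgval] at hfix
  have e1 : normMap (g • s).1 m = 1 := hout (g • s) hns
  have e2 : (g : MulAut M) (normMap s.1 m) = normMap (g • s).1 m := by
    rw [map_normMap, hfix, hsmul]
  have e3 : normMap s.1 m = μ s ^ Nat.card ↥s.1 := hin s hs
  rw [e1, e3] at e2
  have e4 : μ s ^ Nat.card ↥s.1 = 1 := (MulEquiv.map_eq_one_iff (g : MulAut M)).mp e2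
  have hsp : IsPGroup p ↥s.1 := hQ.to_le (le_trans (le_of_lt s.2.1.1) hBQ)
  obtain ⟨k, hk⟩ := hsp.exists_card_eq
  rw [hk] at e4
  have e5 : μ s ^ Nat.card M = 1 := pow_card_eq_one'
  have hcop' : Nat.Coprime (p ^ k) (Nat.card M) :=
    Nat.Coprime.pow_left k ((Nat.Prime.coprime_iff_not_dvd Fact.out).mpr hcop)
  have hd := Nat.dvd_gcd (orderOf_dvd_of_pow_eq_one e4) (orderOf_dvd_of_pow_eq_one e5)
  rw [hcop'] at hd
  exact hμ2 s (orderOf_eq_one_iff.mp (Nat.dvd_one.mp hd))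

end Cfsg.Agent.Lib.helper38.RO
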