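import Mathlib
import Cfsg.Prelude.Def_Solvable
import Cfsg.Agent.Lib.helper38.RO1
import Cfsg.Agent.Lib.helper49.ROR2
import Cfsg.Agent.Lib.helper39.ROExT

/-! Piece `EX-B` of the split proof of S4330 (owner helper38): `ex_abelian`. -/

set_option autoImplicit false
open Pointwise

namespace Cfsg.Agent.Lib.helper38.RO

universe u v

theorem ex_abelian (p : ℕ) [Fact p.Prime] {M : Type v} [CommGroup M] [Finite M]
    (hcop : ¬ p ∣ Nat.card M) (k : ℕ) (ih : EXGoal.{v} p k)
    (E Z : Subgroup (MulAut M)) (hk : Nat.card ↥E ≤ k + 1) (hZE : Z ≤ E)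
    (hZcard : Nat.card ↥Z = p)
    (hEp : ∀ e ∈ E, e ^ p = 1)
    (hZfix : fixedPts Z = ⊥)
    (hab : ∀ a ∈ E, ∀ b ∈ E, a * b = b * a) :
    ∃ m : M, ∀ e ∈ E, e m = m → e = 1 := by
  classical
  have hp : p.Prime := Fact.out
  -- powers of an automorphism fixing a point fix it
  have hpowfix : ∀ (c : MulAut M) (w : M), c w = w → ∀ i : ℕ, (c ^ i) w = w := by
    intro c w hcw i
    induction i with
    | zero => rfl
    | succ i ih' =>
      rw [pow_succ]
      show (c ^ i) (c w) = w
      rw [hcw, ih']
  have hzpowfix : ∀ (c : MulAut M) (w : M), c w = w → w ∈ fixedPts (Subgroup.zpowers c) := by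
    intro c w hcw y hy
    obtain ⟨i, rfl⟩ := Subgroup.mem_zpowers_iff.mp hy
    have h1 : c⁻¹ w = w := by
      have h := congrArg (c⁻¹ : MulAut M) hcw
      rw [MulAut.inv_apply_self] at h
      exact h.symm
    cases i with
    | ofNat i => simpa using hpowfix c w hcw i
    | negSucc i =>
      rw [zpow_negSucc, ← inv_pow]
      exact hpowfix c⁻¹ w h1 (i + 1)
  -- nontrivial elements of Z are fixed-point-free
  have hfpf : ∀ d ∈ Z, d ≠ 1 → ∀ m : M, d m = m → m = 1 := by
    intro d hd hd1 m hm
    have hord : orderOf d = p := orderOf_eq_prime (hEp d (hZE hd)) hd1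
    have hzp : Subgroup.zpowers d = Z := by
      apply Subgroup.eq_of_le_of_card_ge
      · rw [Subgroup.zpowers_le]; exact hd
      · rw [Nat.card_zpowers, hord, hZcard]
    have h1 := hzpowfix d m hm
    rw [hzp, hZfix, Subgroup.mem_bot] at h1
    exact h1
  -- a generator of Z
  have hZne : Z ≠ ⊥ := by
    intro h
    rw [h, Subgroup.card_bot] at hZcard
    exact hp.one_lt.ne hZcard
  obtain ⟨⟨z, hz⟩, hz1'⟩ := (Subgroup.ne_bot_iff_exists_ne_one).mp hZne
  have hz1 : z ≠ 1 := fun h => hz1' (Subtype.ext h)
  have hzE : z ∈ E := hZE hz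
  have hzp : z ^ p = 1 := hEp z hzE
  have hzord : orderOf z = p := orderOf_eq_prime hzp hz1
  by_cases hEZ : E ≤ Z
  · -- E = Z
    obtain ⟨m, hm⟩ : ∃ m : M, z m ≠ m := by
      by_contra hcon
      push Not at hcon
      exact hz1 (MulEquiv.ext hcon)
    have hm1 : m ≠ 1 := by
      rintro rfl
      exact hm (map_one z)
    refine ⟨m, fun e he hem => ?_⟩
    by_contra he1
    exact hm1 (hfpf e (hEZ he) he1 m hem)
  · obtain ⟨a, haE, haZ⟩ := SetLike.not_le_iff_exists.mp hEZ
    have haz : a * z = z * a := hab a haE z hzE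
    have hap : a ^ p = 1 := hEp a haE
    have hcE : ∀ j : ℕ, a * z ^ j ∈ E := fun j => E.mul_mem haE (E.pow_mem hzE j)
    have hc1 : ∀ j : ℕ, a * z ^ j ≠ 1 := by
      intro j h
      apply haZ
      have h' : a = (z ^ j)⁻¹ := eq_inv_of_mul_eq_one_left h
      rw [h']
      exact Z.inv_mem (Z.pow_mem hz j)
    -- Lemma A
    have hA : ∀ (c d : MulAut M), c * d = d * c → d ^ p = 1 → (∀ m : M, d m = m → m = 1) →
        ∀ w : M, c w = w → cycProd (c * d) p w = 1 := by
      intro c d hcd hdp hdf w hcw
      have h1 : cycProd (c * d) p w = cycProd d p w := by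
        unfold cycProd
        apply Finset.prod_congr rfl
        intro i _
        have hcomm : Commute c d := hcd
        rw [hcomm.mul_pow, (hcomm.pow_pow i i).eq]
        show (d ^ i) ((c ^ i) w) = (d ^ i) w
        rw [hpowfix c w hcw i]
      rw [h1]
      exact hdf _ (cycProd_fixed d p hdp w)
    -- the vectors w_j
    have hw : ∀ j : ℕ, ∃ w : M, (a * z ^ j) w = w ∧
        ∀ e ∈ E, e w = w → ∀ m : M, (a * z ^ j) m = m → e m = m := by
      intro j
      by_cases hMj : fixedPts (Subgroup.zpowers (a * z ^ j)) = ⊥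
      · refine ⟨1, map_one _, fun e he _ m hm => ?_⟩
        have h1 := hzpowfix _ m hm
        rw [hMj, Subgroup.mem_bot] at h1
        rw [h1, map_one]
      · obtain ⟨w, hw1, hw2⟩ := ex_transport p hcop k ih E Z hZE hZcard
          (fun z' hz' e he => hab z' (hZE hz') e he) hEp
          (fun e he f hf => by
            have h : e * f * e⁻¹ * f⁻¹ = 1 := by rw [hab e he f hf]; group
            rw [h]; exact Z.one_mem)
          hZfix (fixedPts (Subgroup.zpowers (a * z ^ j)))
          (fun e he m hm y hy => by
            have hyE : y ∈ E := (Subgroup.zpowers_le.mpr (hcE j)) hy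
            have h1 : y (e m) = (y * e) m := rfl
            rw [h1, hab y hyE e he]
            show e (y m) = e m
            rw [hm y hy])
          hMj
          (Or.inr ⟨hk, a * z ^ j, hcE j, hc1 j, fun m hm => hm _ (Subgroup.mem_zpowers _)⟩)
        refine ⟨w, hw1 _ (Subgroup.mem_zpowers _), fun e he hew m hm => ?_⟩
        exact hw2 e he hew m (hzpowfix _ m hm)
    choose w hw1 hw2 using hw
    refine ⟨∏ j ∈ Finset.range p, w j, fun e he hem => ?_⟩
    -- e fixes each w j (j < p)
    have hfixw : ∀ j < p, e (w j) = w j := by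
      intro j hj
      have h1 : cycProd (a * z ^ j) p (∏ l ∈ Finset.range p, w l) = w j ^ p := by
        have hhom : cycProd (a * z ^ j) p (∏ l ∈ Finset.range p, w l)
            = ∏ l ∈ Finset.range p, cycProd (a * z ^ j) p (w l) :=
          map_prod (⟨⟨cycProd (a * z ^ j) p, cycProd_one _ _⟩, cycProd_mul _ _⟩ : M →* M) _ _
        rw [hhom, Finset.prod_eq_single_of_mem j (Finset.mem_range.mpr hj)]
        · exact cycProd_of_fixed _ _ _ (hw1 j)
        · intro l hl hlj
          rw [Finset.mem_range] at hl
          have hdec : a * z ^ j = (a * z ^ l) * z ^ (j + p - l) := by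
            rw [mul_assoc, ← pow_add]
            have h : l + (j + p - l) = j + p := by omega
            rw [h, pow_add, hzp, mul_one]
          rw [hdec]
          apply hA
          · exact hab _ (hcE l) _ (E.pow_mem hzE _)
          · rw [← pow_mul, mul_comm, pow_mul, hzp, one_pow]
          · apply hfpf _ (Z.pow_mem hz _)
            intro h
            have hdvd : p ∣ j + p - l := by
              have h' := orderOf_dvd_of_pow_eq_one h
              rwa [hzord] at h'
            obtain ⟨q, hq⟩ := hdvd
            have hq2 : q < 2 := by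
              by_contra hcon
              push Not at hcon
              have h2p : 2 * p ≤ p * q := by nlinarith
              omega
            interval_cases q
            · omega
            · apply hlj; omega
          · exact hw1 l
      have h2 : e (cycProd (a * z ^ j) p (∏ l ∈ Finset.range p, w l))
          = cycProd (a * z ^ j) p (e (∏ l ∈ Finset.range p, w l)) :=
        cycProd_comm _ e (hab e he _ (hcE j)) p _
      rw [hem, h1, map_pow] at h2
      have h3 : (e (w j) / w j) ^ p = 1 := by rw [div_pow, h2, div_self']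
      have h4 : (e (w j) / w j) ^ Nat.card M = 1 := pow_card_eq_one'
      have hcop' : Nat.Coprime p (Nat.card M) := (Nat.Prime.coprime_iff_not_dvd hp).mpr hcop
      have hd := Nat.dvd_gcd (orderOf_dvd_of_pow_eq_one h3) (orderOf_dvd_of_pow_eq_one h4)
      rw [hcop'] at hd
      exact div_eq_one.mp (orderOf_eq_one_iff.mp (Nat.dvd_one.mp hd))
    -- e is trivial on M
    have htop := gen_rank_two' p hcop a z haz hap hzp (hfpf z hz hz1)
      (fixedPts (Subgroup.zpowers e))
      (fun j hj m hm => hzpowfix e m (hw2 j e he (hfixw j hj) m hm))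
    apply MulEquiv.ext
    intro m
    have hm : m ∈ fixedPts (Subgroup.zpowers e) := by rw [htop]; trivial
    exact hm e (Subgroup.mem_zpowers e)

end Cfsg.Agent.Lib.helper38.RO
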