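/-
S2522 split project (helper51), piece CHILD: from vector-level data `(x, lam)` to the bordered
form.  `helper63_child_core` takes the output of piece COMPL (`compl_basis`) as hypotheses.
-/
import Mathlib
import Cfsg.Agent.Lib.helper51.LevDefs
import Cfsg.Agent.Lib.helper6.LevCOMPL

set_option autoImplicit false

namespace Cfsg.Agent.Lib.helper51.Lev

open Matrix

variable {K : Type*} [Field K]

theorem helper63_child_core {ι : Type} [Fintype ι] [DecidableEq ι] (g : Matrix ι ι K)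
    (hdet : g.det = 1) (x lam c r : ι → K)
    (hgx : lam ⬝ᵥ (g *ᵥ x) = 1)
    (h1 : ∀ a : K, ∃ h, lam ⬝ᵥ h = 0 ∧ Dt g x lam h ≠ a • h)
    (h2 : ∀ h, lam ⬝ᵥ h = 0 → Dt g x lam h = h → h = 0)
    (h3 : Fintype.card ι = 3 ∨
      ∀ s : K, ∃ h, lam ⬝ᵥ h = 0 ∧ Dt g x lam (Dt g x lam h) ≠ s • Dt g x lam h - h)
    (h4 : g *ᵥ x ≠ x)
    (h5 : ∃ h, lam ⬝ᵥ h = 0 ∧ lam ⬝ᵥ (g *ᵥ h) ≠ 0)
    (h6 : lam ⬝ᵥ c ≠ 0) (h7 : r ⬝ᵥ x ≠ 0)
    (m : ℕ) (P : Matrix ι (Unit ⊕ Fin m) K) (P' : Matrix (Unit ⊕ Fin m) ι K)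
    (hPP' : P * P' = 1) (hP'P : P' * P = 1) (hm : m + 1 = Fintype.card ι)
    (hPx : ∀ i, P i (Sum.inl ()) = x i) (hP'l : ∀ i, P' (Sum.inl ()) i = lam i) :
    Child g c r := by
  classical
  obtain ⟨M, hM⟩ : ∃ M : Matrix (Unit ⊕ Fin m) (Unit ⊕ Fin m) K, M = P' * g * P := ⟨_, rfl⟩
  -- basic transfer facts
  have hPM : P * M = g * P := by
    rw [hM, ← Matrix.mul_assoc, ← Matrix.mul_assoc, hPP', Matrix.one_mul]
  have hgP : ∀ v : Unit ⊕ Fin m → K, g *ᵥ (P *ᵥ v) = P *ᵥ (M *ᵥ v) := by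
    intro v
    rw [Matrix.mulVec_mulVec, Matrix.mulVec_mulVec, hPM]
  have hP'h : ∀ h : ι → K, (P' *ᵥ h) (Sum.inl ()) = lam ⬝ᵥ h := by
    intro h
    simp only [Matrix.mulVec, dotProduct, hP'l]
  have hP'P' : ∀ v : Unit ⊕ Fin m → K, P' *ᵥ (P *ᵥ v) = v := by
    intro v
    rw [Matrix.mulVec_mulVec, hP'P, Matrix.one_mulVec]
  have hPP'' : ∀ h : ι → K, P *ᵥ (P' *ᵥ h) = h := by
    intro h
    rw [Matrix.mulVec_mulVec, hPP', Matrix.one_mulVec]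
  have hlamP : ∀ v : Unit ⊕ Fin m → K, lam ⬝ᵥ (P *ᵥ v) = v (Sum.inl ()) := by
    intro v
    rw [← hP'h, hP'P']
  have hPe : P *ᵥ (Pi.single (Sum.inl ()) 1) = x := by
    ext i
    rw [Matrix.mulVec_single_one]
    exact hPx i
  have hMe : ∀ a, (M *ᵥ (Pi.single (Sum.inl ()) 1)) a = M a (Sum.inl ()) := by
    intro a
    rw [Matrix.mulVec_single_one]
    rfl
  have hgx' : g *ᵥ x = P *ᵥ (M *ᵥ (Pi.single (Sum.inl ()) 1)) := by
    rw [← hgP, hPe]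
  have hM11 : M (Sum.inl ()) (Sum.inl ()) = 1 := by
    rw [← hMe, ← hlamP (M *ᵥ (Pi.single (Sum.inl ()) 1)), ← hgx', hgx]
  -- the data
  obtain ⟨r₁, hr₁⟩ : ∃ r₁ : Fin m → K, r₁ = fun j => M (Sum.inl ()) (Sum.inr j) := ⟨_, rfl⟩
  obtain ⟨c₁, hc₁⟩ : ∃ c₁ : Fin m → K, c₁ = fun i => M (Sum.inr i) (Sum.inl ()) := ⟨_, rfl⟩
  obtain ⟨D, hD⟩ : ∃ D : Matrix (Fin m) (Fin m) K,
      D = (Matrix.of fun i j => M (Sum.inr i) (Sum.inr j)) - vecMulVec c₁ r₁ := ⟨_, rfl⟩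
  have hblock : M = fromBlocks (1 : Matrix Unit Unit K) (replicateRow Unit r₁)
      (replicateCol Unit c₁) (D + vecMulVec c₁ r₁) := by
    ext (u | i) (v | j)
    · simp [hM11]
    · simp [hr₁]
    · simp [hc₁]
    · simp [hD]
  have hdetD : D.det = 1 := by
    have e1 : M.det = g.det := by
      rw [hM]
      exact Matrix.det_conj_of_mul_eq_one hP'P hPP'
    rw [hblock, Matrix.det_fromBlocks_one₁₁, hdet] at e1
    rw [← e1]
    congr 1
    rw [← Matrix.vecMulVec_eq Unit c₁ r₁]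
    abel
  -- the embedding of `Fin m → K` onto `ker lam`
  have hMφ : ∀ y : Fin m → K, M *ᵥ (Sum.elim (0 : Unit → K) y) =
      Sum.elim (fun _ => r₁ ⬝ᵥ y) (D *ᵥ y + (r₁ ⬝ᵥ y) • c₁) := by
    intro y
    rw [hblock, Matrix.fromBlocks_mulVec]
    ext (u | i)
    · simp [Matrix.mulVec, dotProduct]
    · simp only [Function.comp_def, Sum.elim_inl, Sum.elim_inr, Pi.add_apply, Pi.smul_apply,
        smul_eq_mul, Matrix.mulVec, dotProduct, Matrix.add_apply, vecMulVec_apply, add_mul,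
        Finset.sum_add_distrib, Pi.zero_apply, mul_zero, Finset.sum_const_zero, zero_add,
        replicateCol_apply, mul_assoc]
      congr 1
      rw [Finset.sum_mul]
      apply Finset.sum_congr rfl
      intro j _
      ring
  have hMe' : M *ᵥ (Pi.single (Sum.inl ()) 1) = Sum.elim (fun _ => (1 : K)) c₁ := by
    ext (u | i)
    · rw [hMe]; simpa using hM11
    · rw [hMe]; simp [hc₁]
  have hlamφ : ∀ y : Fin m → K, lam ⬝ᵥ (P *ᵥ (Sum.elim (0 : Unit → K) y)) = 0 := by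
    intro y
    rw [hlamP]; rfl
  have hker : ∀ h : ι → K, lam ⬝ᵥ h = 0 →
      ∃ y : Fin m → K, h = P *ᵥ (Sum.elim (0 : Unit → K) y) := by
    intro h hh
    refine ⟨fun j => (P' *ᵥ h) (Sum.inr j), ?_⟩
    have : Sum.elim (0 : Unit → K) (fun j => (P' *ᵥ h) (Sum.inr j)) = P' *ᵥ h := by
      ext (u | j)
      · simp [hP'h, hh]
      · simp
    rw [this, hPP'']
  have hlamg : ∀ y : Fin m → K,
      lam ⬝ᵥ (g *ᵥ (P *ᵥ (Sum.elim (0 : Unit → K) y))) = r₁ ⬝ᵥ y := by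
    intro y
    rw [hgP, hlamP, hMφ]; rfl
  have hDt : ∀ y : Fin m → K, Dt g x lam (P *ᵥ (Sum.elim (0 : Unit → K) y)) =
      P *ᵥ (Sum.elim (0 : Unit → K) (D *ᵥ y)) := by
    intro y
    unfold Dt
    rw [hlamg, hgx', hMe', hgP, hMφ, ← Matrix.mulVec_smul, ← Matrix.mulVec_sub]
    congr 1
    ext (u | i)
    · simp
    · simp
  have hφinj : ∀ y y' : Fin m → K, P *ᵥ (Sum.elim (0 : Unit → K) y) =
      P *ᵥ (Sum.elim (0 : Unit → K) y') → y = y' := by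
    intro y y' hyy
    have := congrArg (fun v => P' *ᵥ v) hyy
    simp only [hP'P'] at this
    ext j
    simpa using congrFun this (Sum.inr j)
  have hφsmul : ∀ (a : K) (y : Fin m → K), P *ᵥ (Sum.elim (0 : Unit → K) (a • y)) =
      a • P *ᵥ (Sum.elim (0 : Unit → K) y) := by
    intro a y
    rw [← Matrix.mulVec_smul]
    congr 1
    ext (u | i) <;> simp
  have hφsub : ∀ (y y' : Fin m → K), P *ᵥ (Sum.elim (0 : Unit → K) (y - y')) =
      P *ᵥ (Sum.elim (0 : Unit → K) y) - P *ᵥ (Sum.elim (0 : Unit → K) y') := by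
    intro y y'
    rw [← Matrix.mulVec_sub]
    congr 1
    ext (u | i) <;> simp
  refine ⟨m, P, P', D, c₁, r₁, hPP', hP'P, hm, ?_, hdetD, ?_, ?_, ?_, ?_, ?_, ?_, ?_⟩
  · rw [← hM]; exact hblock
  · -- NonScalar D
    rintro ⟨a, ha⟩
    obtain ⟨h, hh0, hh⟩ := h1 a
    obtain ⟨y, rfl⟩ := hker h hh0
    apply hh
    rw [hDt, ha, Matrix.smul_mulVec, Matrix.one_mulVec, hφsmul]
  · -- IsUnit (D - 1)
    rw [← Matrix.mulVec_injective_iff_isUnit]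
    intro y y' hyy
    have hyy' : (D - 1) *ᵥ y = (D - 1) *ᵥ y' := hyy
    have e1 : D *ᵥ (y - y') = y - y' := by
      have : (D - 1) *ᵥ (y - y') = 0 := by
        rw [Matrix.mulVec_sub, hyy', sub_self]
      rw [Matrix.sub_mulVec, Matrix.one_mulVec, sub_eq_zero] at this
      exact this
    have e2 := h2 _ (hlamφ (y - y')) (by rw [hDt, e1])
    have e3 : y - y' = 0 := by
      apply hφinj
      rw [e2]
      have : Sum.elim (0 : Unit → K) (0 : Fin m → K) = 0 := by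
        ext (u | i) <;> simp
      rw [this, Matrix.mulVec_zero]
    exact sub_eq_zero.mp e3
  · -- m = 2 ∨ ¬ IsQ1 D
    rcases h3 with h3 | h3
    · left; omega
    · right
      rintro ⟨s, hs⟩
      obtain ⟨h, hh0, hh⟩ := h3 s
      obtain ⟨y, rfl⟩ := hker h hh0
      apply hh
      rw [hDt, hDt, Matrix.mulVec_mulVec, hs, Matrix.sub_mulVec, Matrix.smul_mulVec,
        Matrix.one_mulVec, hφsub, hφsmul]
  · -- c₁ ≠ 0
    intro hc0
    apply h4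
    rw [hgx', hMe', hc0, ← hPe]
    congr 1
    ext (u | i) <;> simp
  · -- r₁ ≠ 0
    intro hr0
    obtain ⟨h, hh0, hh⟩ := h5
    obtain ⟨y, rfl⟩ := hker h hh0
    apply hh
    rw [hlamg, hr0, zero_dotProduct]
  · rw [hP'h]; exact h6
  · have : (r ᵥ* P) (Sum.inl ()) = r ⬝ᵥ x := by
      simp only [Matrix.vecMul, dotProduct, hPx]
    rw [this]; exact h7

/-- PIECE CHILD: from vector-level data `(x, lam)` to the bordered form. -/
theorem child_of_vec {ι : Type} [Fintype ι] [DecidableEq ι] (g : Matrix ι ι K)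
    (hdet : g.det = 1) (x lam c r : ι → K)
    (hx : lam ⬝ᵥ x = 1) (hgx : lam ⬝ᵥ (g *ᵥ x) = 1)
    (h1 : ∀ a : K, ∃ h, lam ⬝ᵥ h = 0 ∧ Dt g x lam h ≠ a • h)
    (h2 : ∀ h, lam ⬝ᵥ h = 0 → Dt g x lam h = h → h = 0)
    (h3 : Fintype.card ι = 3 ∨
      ∀ s : K, ∃ h, lam ⬝ᵥ h = 0 ∧ Dt g x lam (Dt g x lam h) ≠ s • Dt g x lam h - h)
    (h4 : g *ᵥ x ≠ x)
    (h5 : ∃ h, lam ⬝ᵥ h = 0 ∧ lam ⬝ᵥ (g *ᵥ h) ≠ 0)
    (h6 : lam ⬝ᵥ c ≠ 0) (h7 : r ⬝ᵥ x ≠ 0) : Child g c r := by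
  obtain ⟨m, P, P', hPP', hP'P, hm, hPx, hP'l⟩ := compl_basis x lam hx
  exact helper63_child_core g hdet x lam c r hgx h1 h2 h3 h4 h5 h6 h7 m P P' hPP' hP'P hm
    hPx hP'l

end Cfsg.Agent.Lib.helper51.Lev
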