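/-
S2522 split project (helper51), piece GOODZ: a vector with independent Krylov triple, off a
hyperplane and off a line.
-/
import Mathlib
import Cfsg.Agent.Lib.helper51.LevDefs
import Cfsg.Agent.Lib.helper80.LevUTIL

set_option autoImplicit false

namespace Cfsg.Agent.Lib.helper51.Lev

open Matrix

variable {K : Type*} [Field K]

/-- Moving `w` along `z₀` makes the Krylov triple independent for some parameter. -/
theorem helper63_goodz_shift (hK : 4 ≤ Cardinal.mk K) {ι : Type} [Fintype ι] [DecidableEq ι]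
    (g : Matrix ι ι K) (z₀ : ι → K)
    (hz₀ : LinearIndependent K ![z₀, g *ᵥ z₀, g *ᵥ (g *ᵥ z₀)]) (w : ι → K) :
    ∃ s : K, LinearIndependent K
      ![w + s • z₀, g *ᵥ (w + s • z₀), g *ᵥ (g *ᵥ (w + s • z₀))] := by
  classical
  -- dual functionals
  have hdual : ∀ i : Fin 3, ∃ lam : ι → K, ∀ j : Fin 3,
      lam ⬝ᵥ (![z₀, g *ᵥ z₀, g *ᵥ (g *ᵥ z₀)] j) = (Pi.single i 1 : Fin 3 → K) j :=
    fun i => exists_dual _ hz₀ (Pi.single i 1)
  choose lam hlam using hdual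
  obtain ⟨W, hW⟩ : ∃ W : Matrix (Fin 3) (Fin 3) K,
      W = Matrix.of fun i j => lam i ⬝ᵥ (![w, g *ᵥ w, g *ᵥ (g *ᵥ w)] j) := ⟨_, rfl⟩
  -- a parameter off the roots of the characteristic polynomial of `-W`
  have hmonic : (-W).charpoly.Monic := Matrix.charpoly_monic _
  have hne : (-W).charpoly ≠ 0 := hmonic.ne_zero
  have hdeg : (-W).charpoly.natDegree = 3 := by
    rw [Matrix.charpoly_natDegree_eq_dim]; rfl
  have hcard : ((-W).charpoly.roots.toFinset.card + 1 : ℕ) ≤ 4 := by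
    have h1 := Multiset.toFinset_card_le (-W).charpoly.roots
    have h2 := Polynomial.card_roots' (-W).charpoly
    omega
  have hcard' : (((-W).charpoly.roots.toFinset.card + 1 : ℕ) : Cardinal) ≤ Cardinal.mk K := by
    refine le_trans ?_ hK
    exact_mod_cast hcard
  obtain ⟨s, hs⟩ := exists_notMem_of_card _ hcard'
  have hs' : Polynomial.eval s (-W).charpoly ≠ 0 := by
    intro h0
    apply hs
    rw [Multiset.mem_toFinset, Polynomial.mem_roots hne]
    exact h0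
  rw [Matrix.eval_charpoly] at hs'
  refine ⟨s, ?_⟩
  have hv : ∀ j : Fin 3, ![w + s • z₀, g *ᵥ (w + s • z₀), g *ᵥ (g *ᵥ (w + s • z₀))] j =
      ![w, g *ᵥ w, g *ᵥ (g *ᵥ w)] j + s • ![z₀, g *ᵥ z₀, g *ᵥ (g *ᵥ z₀)] j := by
    intro j
    fin_cases j <;> simp [Matrix.mulVec_add, Matrix.mulVec_smul]
  have hN : ∀ i j : Fin 3,
      lam i ⬝ᵥ (![w + s • z₀, g *ᵥ (w + s • z₀), g *ᵥ (g *ᵥ (w + s • z₀))] j) =
        (Matrix.scalar (Fin 3) s - -W) i j := by
    intro i j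
    rw [hv, dotProduct_add, dotProduct_smul, hlam, hW]
    simp only [Matrix.scalar_apply, Matrix.sub_apply, Matrix.neg_apply, Matrix.of_apply,
      Matrix.diagonal_apply, Pi.single_apply, smul_eq_mul]
    by_cases hij : i = j
    · subst hij; simp; ring
    · have hji : ¬ j = i := fun h => hij h.symm
      simp [hij, hji]
  rw [Fintype.linearIndependent_iff]
  intro a ha
  have hNa : (Matrix.scalar (Fin 3) s - -W) *ᵥ a = 0 := by
    ext i
    have := congrArg (fun v => lam i ⬝ᵥ v) ha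
    simp only [dotProduct_sum, dotProduct_smul, dotProduct_zero, hN, smul_eq_mul] at this
    simp only [Matrix.mulVec, dotProduct, Pi.zero_apply]
    rw [← this]
    apply Finset.sum_congr rfl
    intro j _
    ring
  have := Matrix.eq_zero_of_mulVec_eq_zero hs' hNa
  intro i
  rw [this]; rfl

/-- The case where `ρ` vanishes at `z₀`. -/
theorem helper63_goodz_A (hK : 4 ≤ Cardinal.mk K) {ι : Type} [Fintype ι] [DecidableEq ι]
    (h3 : 3 ≤ Fintype.card ι) (g : Matrix ι ι K) (z₀ : ι → K)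
    (hz₀ : LinearIndependent K ![z₀, g *ᵥ z₀, g *ᵥ (g *ᵥ z₀)]) (ρ d : ι → K) (hρ : ρ ≠ 0)
    (hρz : ρ ⬝ᵥ z₀ = 0) :
    ∃ z : ι → K, LinearIndependent K ![z, g *ᵥ z, g *ᵥ (g *ᵥ z)] ∧ ρ ⬝ᵥ z ≠ 0 ∧
      ∀ a : K, z ≠ a • d := by
  classical
  -- the hyperplane `ker ρ` and the plane spanned by `z₀`, `d`
  let φ : (ι → K) →ₗ[K] K :=
    { toFun := fun v => ρ ⬝ᵥ v
      map_add' := fun v w => dotProduct_add ρ v w
      map_smul' := fun a v => by simp [dotProduct_smul] }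
  have hφ : ∀ v, φ v = ρ ⬝ᵥ v := fun v => rfl
  have hker : LinearMap.ker φ ≠ ⊤ := by
    intro htop
    apply hρ
    ext i
    have : Pi.single i (1 : K) ∈ LinearMap.ker φ := by rw [htop]; trivial
    rw [LinearMap.mem_ker, hφ, dotProduct_single_one] at this
    exact this
  have hspan : Submodule.span K (Set.range ![z₀, d]) ≠ ⊤ := by
    intro htop
    have h1 := finrank_range_le_card (R := K) ![z₀, d]
    have h2 : Set.finrank K (Set.range ![z₀, d]) = Fintype.card ι := by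
      unfold Set.finrank
      rw [htop, finrank_top, Module.finrank_fintype_fun_eq_card]
    rw [h2] at h1
    simp at h1
    omega
  have h2K : ((2 : ℕ) : Cardinal) ≤ Cardinal.mk K := by
    refine le_trans ?_ hK
    exact_mod_cast (by norm_num : (2 : ℕ) ≤ 4)
  obtain ⟨w, hw⟩ := avoid 2 h2K ![LinearMap.ker φ, Submodule.span K (Set.range ![z₀, d])]
    (by
      intro i
      fin_cases i
      · exact hker
      · exact hspan)
  have hw0 : ρ ⬝ᵥ w ≠ 0 := by
    have := hw 0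
    intro h0
    apply this
    show w ∈ LinearMap.ker φ
    rw [LinearMap.mem_ker, hφ]
    exact h0
  have hw1 : w ∉ Submodule.span K (Set.range ![z₀, d]) := hw 1
  obtain ⟨s, hs⟩ := helper63_goodz_shift hK g z₀ hz₀ w
  refine ⟨w + s • z₀, hs, ?_, ?_⟩
  · rw [dotProduct_add, dotProduct_smul, hρz, smul_zero, add_zero]
    exact hw0
  · intro a ha
    apply hw1
    have e : w = a • d - s • z₀ := by
      rw [← ha]; abel
    rw [e]
    apply Submodule.sub_mem
    · apply Submodule.smul_mem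
      apply Submodule.subset_span
      exact ⟨1, rfl⟩
    · apply Submodule.smul_mem
      apply Submodule.subset_span
      exact ⟨0, rfl⟩

/-- PIECE GOODZ. -/
theorem good_z (hK : 4 ≤ Cardinal.mk K) {ι : Type} [Fintype ι] [DecidableEq ι]
    (h3 : 3 ≤ Fintype.card ι) (g : Matrix ι ι K) (hg : IsUnit g) (z₀ : ι → K)
    (hz₀ : LinearIndependent K ![z₀, g *ᵥ z₀, g *ᵥ (g *ᵥ z₀)]) (ρ d : ι → K) (hρ : ρ ≠ 0) :
    ∃ z : ι → K, LinearIndependent K ![z, g *ᵥ z, g *ᵥ (g *ᵥ z)] ∧ ρ ⬝ᵥ z ≠ 0 ∧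
      ∀ a : K, z ≠ a • d := by
  classical
  by_cases hρz : ρ ⬝ᵥ z₀ = 0
  · exact helper63_goodz_A hK h3 g z₀ hz₀ ρ d hρ hρz
  by_cases hd : ∃ a : K, z₀ = a • d
  swap
  · push Not at hd
    exact ⟨z₀, hz₀, hρz, hd⟩
  obtain ⟨a, ha⟩ := hd
  have hz0 : z₀ ≠ 0 := hz₀.ne_zero 0
  have ha0 : a ≠ 0 := by
    rintro rfl
    apply hz0
    rw [ha, zero_smul]
  -- the Krylov triple of `g z₀`
  have hinj : Function.Injective g.mulVec := Matrix.mulVec_injective_iff_isUnit.mpr hg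
  have hker : LinearMap.ker (Matrix.mulVecLin g) = ⊥ := by
    rw [LinearMap.ker_eq_bot]
    exact hinj
  have hz₁ : LinearIndependent K
      ![g *ᵥ z₀, g *ᵥ (g *ᵥ z₀), g *ᵥ (g *ᵥ (g *ᵥ z₀))] := by
    have := hz₀.map' (Matrix.mulVecLin g) hker
    have hh : (⇑(Matrix.mulVecLin g) ∘ ![z₀, g *ᵥ z₀, g *ᵥ (g *ᵥ z₀)]) =
        ![g *ᵥ z₀, g *ᵥ (g *ᵥ z₀), g *ᵥ (g *ᵥ (g *ᵥ z₀))] := by
      ext j : 1
      fin_cases j <;> rfl
    rw [← hh]
    exact this
  by_cases hρ1 : ρ ⬝ᵥ (g *ᵥ z₀) = 0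
  · exact helper63_goodz_A hK h3 g (g *ᵥ z₀) hz₁ ρ d hρ hρ1
  refine ⟨g *ᵥ z₀, hz₁, hρ1, ?_⟩
  intro a' ha'
  -- then `g z₀ = (a' / a) z₀`, against independence
  have hdz : d = a⁻¹ • z₀ := by
    rw [ha, smul_smul, inv_mul_cancel₀ ha0, one_smul]
  rw [Fintype.linearIndependent_iff] at hz₀
  have := hz₀ ![a' * a⁻¹, -1, 0] (by
    simp only [Fin.sum_univ_three]
    simp
    rw [ha', hdz, smul_smul]
    abel) 1
  simp at this

end Cfsg.Agent.Lib.helper51.Lev
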