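import Mathlib

/-!
# Moment sums for multiply transitive actions

For a finite group `G` acting on a finite set `Ω`, let `f g` be the number of fixed points of `g`
and `t g` the number of points lying in a 2-cycle of `g`.  If the action is 4-transitive we
compute the sums over `G` of `f^(k)` (falling factorials, `k ≤ 4`), `t`, `t f`, `t f (f-1)` and
`t (t-2)`: each of them equals `|G|`.
-/

set_option autoImplicit false

namespace Cfsg.Agent.Lib.helper63.AC

open Finset

section Burnside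

variable {G : Type*} [Group G] [Fintype G]

/-- "Twisted Burnside": for a transitive action on a nonempty finite set `X` and any map
`φ : X → X`, the number of pairs `(g, x)` with `g • x = φ x` is `|G|`. -/
theorem twisted_burnside {X : Type*} [Finite X] [MulAction G X]
    [MulAction.IsPretransitive G X] [Nonempty X] (φ : X → X) :
    ∑ g : G, Nat.card {x : X // g • x = φ x} = Fintype.card G := by
  classical
  have := Fintype.ofFinite X
  have h0 : ∀ g : G, Nat.card {x : X // g • x = φ x}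
      = (univ.filter (fun x : X => g • x = φ x)).card := by
    intro g
    rw [Nat.card_eq_fintype_card, Fintype.card_subtype]
  have h1 : ∑ g : G, (univ.filter (fun x : X => g • x = φ x)).card
      = ∑ x : X, (univ.filter (fun g : G => g • x = φ x)).card := by
    simp only [Finset.card_filter]
    exact Finset.sum_comm
  have h2 : ∀ x : X, (univ.filter (fun g : G => g • x = φ x)).card * Fintype.card X
      = Fintype.card G := by
    intro x
    obtain ⟨g₀, hg₀⟩ := MulAction.exists_smul_eq G x (φ x)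
    have hc : (univ.filter (fun g : G => g • x = φ x)).card
        = Nat.card (MulAction.stabilizer G x) := by
      rw [← Nat.card_eq_finsetCard]
      apply Nat.card_congr
      refine ⟨fun g => ⟨g₀⁻¹ * g.1, ?_⟩, fun h => ⟨g₀ * h.1, ?_⟩, ?_, ?_⟩
      · have := (Finset.mem_filter.mp g.2).2
        rw [MulAction.mem_stabilizer_iff, mul_smul, this, ← hg₀, inv_smul_smul]
      · rw [Finset.mem_filter]
        refine ⟨Finset.mem_univ _, ?_⟩
        rw [mul_smul, MulAction.mem_stabilizer_iff.mp h.2, hg₀]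
      · intro g; ext; simp
      · intro h; ext; simp
    have h3 := Subgroup.card_mul_index (MulAction.stabilizer G x)
    rw [MulAction.index_stabilizer_of_transitive, Nat.card_eq_fintype_card (α := X),
      Nat.card_eq_fintype_card (α := G)] at h3
    rw [hc]; exact h3
  have h3 : (∑ x : X, (univ.filter (fun g : G => g • x = φ x)).card) * Fintype.card X
      = Fintype.card G * Fintype.card X := by
    rw [Finset.sum_mul, Finset.sum_congr rfl (fun x _ => h2 x)]
    simp [mul_comm]
  rw [Finset.sum_congr rfl (fun g _ => h0 g), h1]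
  exact Nat.eq_of_mul_eq_mul_right Fintype.card_pos h3

end Burnside

section Emb

variable {Ω : Type*}

/-- The embedding `Fin 2 ↪ Ω` with values `a, b`. -/
def emb2 (a b : Ω) (h : a ≠ b) : Fin 2 ↪ Ω :=
  ⟨![a, b], by
    intro i j hij
    fin_cases i <;> fin_cases j <;> simp_all⟩

/-- The embedding `Fin 3 ↪ Ω` with values `a, b, c`. -/
def emb3 (a b c : Ω) (h : a ≠ b ∧ a ≠ c ∧ b ≠ c) : Fin 3 ↪ Ω :=
  ⟨![a, b, c], by
    obtain ⟨h1, h2, h3⟩ := h
    intro i j hij
    fin_cases i <;> fin_cases j <;> simp_all⟩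

/-- The embedding `Fin 4 ↪ Ω` with values `a, b, c, d`. -/
def emb4 (a b c d : Ω) (h : a ≠ b ∧ a ≠ c ∧ a ≠ d ∧ b ≠ c ∧ b ≠ d ∧ c ≠ d) : Fin 4 ↪ Ω :=
  ⟨![a, b, c, d], by
    obtain ⟨h1, h2, h3, h4, h5, h6⟩ := h
    intro i j hij
    fin_cases i <;> fin_cases j <;> simp_all⟩

@[simp] theorem emb2_zero (a b : Ω) (h : a ≠ b) : emb2 a b h 0 = a := rfl
@[simp] theorem emb2_one (a b : Ω) (h : a ≠ b) : emb2 a b h 1 = b := rfl
@[simp] theorem emb3_zero (a b c : Ω) (h) : emb3 a b c h 0 = a := rfl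
@[simp] theorem emb3_one (a b c : Ω) (h) : emb3 a b c h 1 = b := rfl
@[simp] theorem emb3_two (a b c : Ω) (h) : emb3 a b c h 2 = c := rfl
@[simp] theorem emb4_zero (a b c d : Ω) (h) : emb4 a b c d h 0 = a := rfl
@[simp] theorem emb4_one (a b c d : Ω) (h) : emb4 a b c d h 1 = b := rfl
@[simp] theorem emb4_two (a b c d : Ω) (h) : emb4 a b c d h 2 = c := rfl
@[simp] theorem emb4_three (a b c d : Ω) (h) : emb4 a b c d h 3 = d := rfl

theorem emb_ext2 {x y : Fin 2 ↪ Ω} (h0 : x 0 = y 0) (h1 : x 1 = y 1) : x = y := by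
  ext i; fin_cases i
  · exact h0
  · exact h1

theorem emb_ext3 {x y : Fin 3 ↪ Ω} (h0 : x 0 = y 0) (h1 : x 1 = y 1) (h2 : x 2 = y 2) :
    x = y := by
  ext i; fin_cases i
  · exact h0
  · exact h1
  · exact h2

theorem emb_ext4 {x y : Fin 4 ↪ Ω} (h0 : x 0 = y 0) (h1 : x 1 = y 1) (h2 : x 2 = y 2)
    (h3 : x 3 = y 3) : x = y := by
  ext i; fin_cases i
  · exact h0
  · exact h1
  · exact h2
  · exact h3

end Emb

section Counts

variable {G : Type*} [Group G] (Ω : Type*) [Fintype Ω] [DecidableEq Ω] [MulAction G Ω]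

/-- Number of fixed points. -/
def fixN (g : G) : ℕ := (univ.filter (fun a : Ω => g • a = a)).card

/-- Number of points lying in a 2-cycle. -/
def twoN (g : G) : ℕ := (univ.filter (fun a : Ω => g • a ≠ a ∧ g • g • a = a)).card

variable {Ω}

theorem smul_mem_two (g : G) {a : Ω} (ha : g • a ≠ a ∧ g • g • a = a) :
    g • (g • a) ≠ g • a ∧ g • g • (g • a) = g • a := by
  refine ⟨?_, by rw [ha.2]⟩
  rw [ha.2]; exact fun h => ha.1 h.symm

theorem twoN_eq_zero_or (g : G) : twoN Ω g = 0 ∨ 2 ≤ twoN Ω g := by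
  unfold twoN
  rcases Finset.eq_empty_or_nonempty (univ.filter (fun a : Ω => g • a ≠ a ∧ g • g • a = a))
    with h | ⟨a, ha⟩
  · left; rw [h]; rfl
  · right
    have ha' := (Finset.mem_filter.mp ha).2
    have hb : g • a ∈ univ.filter (fun a : Ω => g • a ≠ a ∧ g • g • a = a) :=
      Finset.mem_filter.mpr ⟨Finset.mem_univ _, smul_mem_two g ha'⟩
    have : ({a, g • a} : Finset Ω) ⊆ univ.filter (fun a : Ω => g • a ≠ a ∧ g • g • a = a) := by
      intro c hc
      rcases Finset.mem_insert.mp hc with rfl | hc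
      · exact ha
      · rw [Finset.mem_singleton.mp hc]; exact hb
    calc 2 = ({a, g • a} : Finset Ω).card := (Finset.card_pair (fun h => ha'.1 h.symm)).symm
      _ ≤ _ := Finset.card_le_card this

/-- Embeddings fixed by `g`. -/
theorem count_id (k : ℕ) (g : G) :
    Nat.card {x : Fin k ↪ Ω // g • x = x} = (fixN Ω g).descFactorial k := by
  classical
  have h1 : Nat.card {x : Fin k ↪ Ω // g • x = x}
      = Fintype.card (Fin k ↪ {a : Ω // g • a = a}) := by
    rw [← Nat.card_eq_fintype_card]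
    apply Nat.card_congr
    exact
      { toFun := fun x => ⟨fun i => ⟨x.1 i, by
            have := congrArg (fun y : Fin k ↪ Ω => y i) x.2
            simpa [Function.Embedding.smul_apply] using this⟩,
          fun i j h => x.1.injective (congrArg Subtype.val h)⟩
        invFun := fun y => ⟨⟨fun i => (y i).1, fun i j h => y.injective (Subtype.ext h)⟩, by
            ext i
            simp only [Function.Embedding.smul_apply]
            exact (y i).2⟩
        left_inv := fun x => by ext i; rfl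
        right_inv := fun y => by ext i; rfl }
  rw [h1, Fintype.card_embedding_eq, Fintype.card_fin, Fintype.card_subtype]
  rfl

/-- Pairs interchanged by `g`. -/
theorem count_sw2 (g : G) :
    Nat.card {x : Fin 2 ↪ Ω // g • x 0 = x 1 ∧ g • x 1 = x 0} = twoN Ω g := by
  classical
  rw [Nat.card_eq_fintype_card, Fintype.card_subtype]
  unfold twoN
  refine Finset.card_bij (fun x _ => x 0) ?_ ?_ ?_
  · intro x hx
    obtain ⟨h0, h1⟩ := (Finset.mem_filter.mp hx).2
    refine Finset.mem_filter.mpr ⟨Finset.mem_univ _, ?_, ?_⟩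
    · rw [h0]; exact fun h => absurd (x.injective h) (by decide)
    · rw [h0, h1]
  · intro x hx y hy hxy
    obtain ⟨h0, h1⟩ := (Finset.mem_filter.mp hx).2
    obtain ⟨k0, k1⟩ := (Finset.mem_filter.mp hy).2
    exact emb_ext2 hxy (by rw [← h0, ← k0, hxy])
  · intro a ha
    obtain ⟨h1, h2⟩ := (Finset.mem_filter.mp ha).2
    refine ⟨emb2 a (g • a) (fun h => h1 h.symm), ?_, rfl⟩
    exact Finset.mem_filter.mpr ⟨Finset.mem_univ _, rfl, h2⟩

/-- Triples `(a, b, c)` with `a, b` interchanged and `c` fixed. -/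
theorem count_sw3 (g : G) :
    Nat.card {x : Fin 3 ↪ Ω // g • x 0 = x 1 ∧ g • x 1 = x 0 ∧ g • x 2 = x 2}
      = twoN Ω g * fixN Ω g := by
  classical
  rw [Nat.card_eq_fintype_card, Fintype.card_subtype]
  unfold twoN fixN
  rw [← Finset.card_product]
  refine Finset.card_bij (fun x _ => (x 0, x 2)) ?_ ?_ ?_
  · intro x hx
    obtain ⟨h0, h1, h2⟩ := (Finset.mem_filter.mp hx).2
    refine Finset.mem_product.mpr ⟨Finset.mem_filter.mpr ⟨Finset.mem_univ _, ?_, ?_⟩,
      Finset.mem_filter.mpr ⟨Finset.mem_univ _, h2⟩⟩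
    · rw [h0]; exact fun h => absurd (x.injective h) (by decide)
    · rw [h0, h1]
  · intro x hx y hy hxy
    obtain ⟨h0, h1, h2⟩ := (Finset.mem_filter.mp hx).2
    obtain ⟨k0, k1, k2⟩ := (Finset.mem_filter.mp hy).2
    have e0 : x 0 = y 0 := congrArg Prod.fst hxy
    have e2 : x 2 = y 2 := congrArg Prod.snd hxy
    exact emb_ext3 e0 (by rw [← h0, ← k0, e0]) e2
  · rintro ⟨a, c⟩ hp
    obtain ⟨ha, hc⟩ := Finset.mem_product.mp hp
    obtain ⟨h1, h2⟩ := (Finset.mem_filter.mp ha).2
    have hc' : g • c = c := (Finset.mem_filter.mp hc).2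
    have hac : a ≠ c := fun h => h1 (by rw [h]; exact hc')
    have hgac : g • a ≠ c := fun h => h1 (by
      have h3 := hc'; rw [← h, h2] at h3; exact h3.symm)
    refine ⟨emb3 a (g • a) c ⟨fun h => h1 h.symm, hac, hgac⟩, ?_, rfl⟩
    exact Finset.mem_filter.mpr ⟨Finset.mem_univ _, rfl, h2, hc'⟩

/-- Quadruples `(a, b, c, d)` with `a, b` interchanged and `c, d` fixed. -/
theorem count_sw4a (g : G) :
    Nat.card {x : Fin 4 ↪ Ω // g • x 0 = x 1 ∧ g • x 1 = x 0 ∧ g • x 2 = x 2 ∧ g • x 3 = x 3}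
      = twoN Ω g * (fixN Ω g * fixN Ω g - fixN Ω g) := by
  classical
  rw [Nat.card_eq_fintype_card, Fintype.card_subtype]
  unfold twoN fixN
  rw [← Finset.offDiag_card, ← Finset.card_product]
  refine Finset.card_bij (fun x _ => (x 0, (x 2, x 3))) ?_ ?_ ?_
  · intro x hx
    obtain ⟨h0, h1, h2, h3⟩ := (Finset.mem_filter.mp hx).2
    refine Finset.mem_product.mpr ⟨Finset.mem_filter.mpr ⟨Finset.mem_univ _, ?_, ?_⟩,
      Finset.mem_offDiag.mpr ⟨Finset.mem_filter.mpr ⟨Finset.mem_univ _, h2⟩,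
        Finset.mem_filter.mpr ⟨Finset.mem_univ _, h3⟩, ?_⟩⟩
    · rw [h0]; exact fun h => absurd (x.injective h) (by decide)
    · rw [h0, h1]
    · exact fun h => absurd (x.injective h) (by decide)
  · intro x hx y hy hxy
    obtain ⟨h0, h1, h2, h3⟩ := (Finset.mem_filter.mp hx).2
    obtain ⟨k0, k1, k2, k3⟩ := (Finset.mem_filter.mp hy).2
    have e0 : x 0 = y 0 := congrArg Prod.fst hxy
    have e2 : x 2 = y 2 := congrArg (fun p => p.2.1) hxy
    have e3 : x 3 = y 3 := congrArg (fun p => p.2.2) hxy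
    exact emb_ext4 e0 (by rw [← h0, ← k0, e0]) e2 e3
  · rintro ⟨a, c, d⟩ hp
    obtain ⟨ha, hcd⟩ := Finset.mem_product.mp hp
    obtain ⟨h1, h2⟩ := (Finset.mem_filter.mp ha).2
    obtain ⟨hc, hd, hcd'⟩ := Finset.mem_offDiag.mp hcd
    have hc' : g • c = c := (Finset.mem_filter.mp hc).2
    have hd' : g • d = d := (Finset.mem_filter.mp hd).2
    have key : ∀ e : Ω, g • e = e → a ≠ e ∧ g • a ≠ e := by
      intro e he
      refine ⟨fun h => h1 (by rw [h]; exact he), fun h => h1 ?_⟩
      have h3 := he; rw [← h, h2] at h3; exact h3.symm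
    refine ⟨emb4 a (g • a) c d ⟨fun h => h1 h.symm, (key c hc').1, (key d hd').1,
      (key c hc').2, (key d hd').2, hcd'⟩, ?_, rfl⟩
    exact Finset.mem_filter.mpr ⟨Finset.mem_univ _, rfl, h2, hc', hd'⟩

/-- Quadruples `(a, b, c, d)` with `a, b` interchanged and `c, d` interchanged. -/
theorem count_sw4b (g : G) :
    Nat.card {x : Fin 4 ↪ Ω // g • x 0 = x 1 ∧ g • x 1 = x 0 ∧ g • x 2 = x 3 ∧ g • x 3 = x 2}
      = twoN Ω g * (twoN Ω g - 2) := by
  classical
  rw [Nat.card_eq_fintype_card, Fintype.card_subtype]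
  unfold twoN
  set T := univ.filter (fun a : Ω => g • a ≠ a ∧ g • g • a = a) with hT
  have hmemT : ∀ a : Ω, a ∈ T ↔ (g • a ≠ a ∧ g • g • a = a) := by
    intro a; rw [hT, Finset.mem_filter]; simp
  have hcard : (univ.filter (fun x : Fin 4 ↪ Ω =>
        g • x 0 = x 1 ∧ g • x 1 = x 0 ∧ g • x 2 = x 3 ∧ g • x 3 = x 2)).card
      = ((T ×ˢ T).filter (fun p : Ω × Ω => p.2 ≠ p.1 ∧ p.2 ≠ g • p.1)).card := by
    refine Finset.card_bij (fun x _ => (x 0, x 2)) ?_ ?_ ?_
    · intro x hx
      obtain ⟨h0, h1, h2, h3⟩ := (Finset.mem_filter.mp hx).2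
      refine Finset.mem_filter.mpr ⟨Finset.mem_product.mpr ⟨(hmemT _).mpr ⟨?_, ?_⟩,
        (hmemT _).mpr ⟨?_, ?_⟩⟩, ?_, ?_⟩
      · rw [h0]; exact fun h => absurd (x.injective h) (by decide)
      · rw [h0, h1]
      · rw [h2]; exact fun h => absurd (x.injective h) (by decide)
      · rw [h2, h3]
      · exact fun h => absurd (x.injective h) (by decide)
      · show x 2 ≠ g • x 0
        rw [h0]; exact fun h => absurd (x.injective h) (by decide)
    · intro x hx y hy hxy
      obtain ⟨h0, h1, h2, h3⟩ := (Finset.mem_filter.mp hx).2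
      obtain ⟨k0, k1, k2, k3⟩ := (Finset.mem_filter.mp hy).2
      have e0 : x 0 = y 0 := congrArg Prod.fst hxy
      have e2 : x 2 = y 2 := congrArg Prod.snd hxy
      exact emb_ext4 e0 (by rw [← h0, ← k0, e0]) e2 (by rw [← h2, ← k2, e2])
    · rintro ⟨a, c⟩ hp
      obtain ⟨hp1, hca, hcga⟩ := Finset.mem_filter.mp hp
      obtain ⟨ha, hc⟩ := Finset.mem_product.mp hp1
      obtain ⟨a1, a2⟩ := (hmemT a).mp ha
      obtain ⟨c1, c2⟩ := (hmemT c).mp hc
      have hca : c ≠ a := hca
      have hcga : c ≠ g • a := hcga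
      have h1 : a ≠ g • c := by
        intro h
        apply hcga
        rw [h, c2]
      have h2 : g • a ≠ g • c := fun h => hca ((MulAction.injective g h).symm)
      refine ⟨emb4 a (g • a) c (g • c) ⟨fun h => a1 h.symm, fun h => hca h.symm, h1,
        fun h => hcga h.symm, h2, fun h => c1 h.symm⟩, ?_, rfl⟩
      exact Finset.mem_filter.mpr ⟨Finset.mem_univ _, rfl, a2, rfl, c2⟩
  have hsum : ((T ×ˢ T).filter (fun p : Ω × Ω => p.2 ≠ p.1 ∧ p.2 ≠ g • p.1)).card
      = ∑ a ∈ T, (T.card - 2) := by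
    rw [Finset.card_filter, Finset.sum_product]
    refine Finset.sum_congr rfl (fun a ha => ?_)
    rw [← Finset.card_filter]
    have hE : T.filter (fun c => c ≠ a ∧ c ≠ g • a) = (T.erase a).erase (g • a) := by
      ext c; simp only [Finset.mem_filter, Finset.mem_erase]; tauto
    obtain ⟨a1, a2⟩ := (hmemT a).mp ha
    have hga : g • a ∈ T.erase a :=
      Finset.mem_erase.mpr ⟨a1, (hmemT _).mpr (smul_mem_two g ⟨a1, a2⟩)⟩
    rw [hE, Finset.card_erase_of_mem hga, Finset.card_erase_of_mem ha]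
    rfl
  rw [hcard, hsum, Finset.sum_const, smul_eq_mul]

end Counts

section Moments

variable {G : Type*} [Group G] [Fintype G] {Ω : Type*} [Fintype Ω] [DecidableEq Ω]
  [MulAction G Ω]

theorem sum_descFactorial (h4 : MulAction.IsMultiplyPretransitive G Ω 4)
    (hΩ : 4 ≤ Fintype.card Ω) (k : ℕ) (hk : k ≤ 4) :
    ∑ g : G, (fixN Ω g).descFactorial k = Fintype.card G := by
  have hk' : MulAction.IsPretransitive G (Fin k ↪ Ω) :=
    MulAction.isMultiplyPretransitive_of_le (n := 4) hk
      (by rw [Nat.card_eq_fintype_card]; exact hΩ)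
  have hne : Nonempty (Fin k ↪ Ω) :=
    Function.Embedding.nonempty_of_card_le (by rw [Fintype.card_fin]; omega)
  have := twisted_burnside (G := G) (X := Fin k ↪ Ω) id
  rw [← this]
  exact Finset.sum_congr rfl (fun g _ => (count_id k g).symm)

theorem sum_twoN (h4 : MulAction.IsMultiplyPretransitive G Ω 4)
    (hΩ : 4 ≤ Fintype.card Ω) :
    ∑ g : G, twoN Ω g = Fintype.card G := by
  have hk' : MulAction.IsPretransitive G (Fin 2 ↪ Ω) :=
    MulAction.isMultiplyPretransitive_of_le (n := 4) (by norm_num)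
      (by rw [Nat.card_eq_fintype_card]; exact hΩ)
  have hne : Nonempty (Fin 2 ↪ Ω) :=
    Function.Embedding.nonempty_of_card_le (by rw [Fintype.card_fin]; omega)
  have := twisted_burnside (G := G) (X := Fin 2 ↪ Ω)
    (fun x => emb2 (x 1) (x 0) (fun h => absurd (x.injective h) (by decide)))
  rw [← this]
  refine Finset.sum_congr rfl (fun g _ => ?_)
  rw [← count_sw2 g]
  refine Nat.card_congr (Equiv.subtypeEquivRight (fun x => ?_))
  constructor
  · rintro ⟨h0, h1⟩
    exact emb_ext2 h0 h1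
  · intro h
    exact ⟨congrArg (fun y : Fin 2 ↪ Ω => y 0) h, congrArg (fun y : Fin 2 ↪ Ω => y 1) h⟩

theorem sum_twoN_fixN (h4 : MulAction.IsMultiplyPretransitive G Ω 4)
    (hΩ : 4 ≤ Fintype.card Ω) :
    ∑ g : G, twoN Ω g * fixN Ω g = Fintype.card G := by
  have hk' : MulAction.IsPretransitive G (Fin 3 ↪ Ω) :=
    MulAction.isMultiplyPretransitive_of_le (n := 4) (by norm_num)
      (by rw [Nat.card_eq_fintype_card]; exact hΩ)
  have hne : Nonempty (Fin 3 ↪ Ω) :=
    Function.Embedding.nonempty_of_card_le (by rw [Fintype.card_fin]; omega)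
  have := twisted_burnside (G := G) (X := Fin 3 ↪ Ω)
    (fun x => emb3 (x 1) (x 0) (x 2) ⟨fun h => absurd (x.injective h) (by decide),
      fun h => absurd (x.injective h) (by decide), fun h => absurd (x.injective h) (by decide)⟩)
  rw [← this]
  refine Finset.sum_congr rfl (fun g _ => ?_)
  rw [← count_sw3 g]
  refine Nat.card_congr (Equiv.subtypeEquivRight (fun x => ?_))
  constructor
  · rintro ⟨h0, h1, h2⟩
    exact emb_ext3 h0 h1 h2
  · intro h
    exact ⟨congrArg (fun y : Fin 3 ↪ Ω => y 0) h, congrArg (fun y : Fin 3 ↪ Ω => y 1) h,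
      congrArg (fun y : Fin 3 ↪ Ω => y 2) h⟩

theorem sum_twoN_fixN2 (h4 : MulAction.IsMultiplyPretransitive G Ω 4)
    (hΩ : 4 ≤ Fintype.card Ω) :
    ∑ g : G, twoN Ω g * (fixN Ω g * fixN Ω g - fixN Ω g) = Fintype.card G := by
  have hne : Nonempty (Fin 4 ↪ Ω) :=
    Function.Embedding.nonempty_of_card_le (by rw [Fintype.card_fin]; omega)
  have := twisted_burnside (G := G) (X := Fin 4 ↪ Ω)
    (fun x => emb4 (x 1) (x 0) (x 2) (x 3) ⟨fun h => absurd (x.injective h) (by decide),
      fun h => absurd (x.injective h) (by decide), fun h => absurd (x.injective h) (by decide),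
      fun h => absurd (x.injective h) (by decide), fun h => absurd (x.injective h) (by decide),
      fun h => absurd (x.injective h) (by decide)⟩)
  rw [← this]
  refine Finset.sum_congr rfl (fun g _ => ?_)
  rw [← count_sw4a g]
  refine Nat.card_congr (Equiv.subtypeEquivRight (fun x => ?_))
  constructor
  · rintro ⟨h0, h1, h2, h3⟩
    exact emb_ext4 h0 h1 h2 h3
  · intro h
    exact ⟨congrArg (fun y : Fin 4 ↪ Ω => y 0) h, congrArg (fun y : Fin 4 ↪ Ω => y 1) h,
      congrArg (fun y : Fin 4 ↪ Ω => y 2) h, congrArg (fun y : Fin 4 ↪ Ω => y 3) h⟩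

theorem sum_twoN_twoN (h4 : MulAction.IsMultiplyPretransitive G Ω 4)
    (hΩ : 4 ≤ Fintype.card Ω) :
    ∑ g : G, twoN Ω g * (twoN Ω g - 2) = Fintype.card G := by
  have hne : Nonempty (Fin 4 ↪ Ω) :=
    Function.Embedding.nonempty_of_card_le (by rw [Fintype.card_fin]; omega)
  have := twisted_burnside (G := G) (X := Fin 4 ↪ Ω)
    (fun x => emb4 (x 1) (x 0) (x 3) (x 2) ⟨fun h => absurd (x.injective h) (by decide),
      fun h => absurd (x.injective h) (by decide), fun h => absurd (x.injective h) (by decide),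
      fun h => absurd (x.injective h) (by decide), fun h => absurd (x.injective h) (by decide),
      fun h => absurd (x.injective h) (by decide)⟩)
  rw [← this]
  refine Finset.sum_congr rfl (fun g _ => ?_)
  rw [← count_sw4b g]
  refine Nat.card_congr (Equiv.subtypeEquivRight (fun x => ?_))
  constructor
  · rintro ⟨h0, h1, h2, h3⟩
    exact emb_ext4 h0 h1 h2 h3
  · intro h
    exact ⟨congrArg (fun y : Fin 4 ↪ Ω => y 0) h, congrArg (fun y : Fin 4 ↪ Ω => y 1) h,
      congrArg (fun y : Fin 4 ↪ Ω => y 2) h, congrArg (fun y : Fin 4 ↪ Ω => y 3) h⟩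

end Moments

end Cfsg.Agent.Lib.helper63.AC
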