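import Mathlib
import Cfsg.Agent.Lib.helper63.ACMoments
import Cfsg.Agent.Lib.helper16.PermChar

/-!
# Three irreducible characters of a 4-transitive group

For a 4-transitive action of a finite group `G` on `Ω` (with `|Ω| ≥ 4`), writing `f` for the number
of fixed points and `t` for the number of points in 2-cycles, the class functions
`f - 1`, `(f (f - 3) + t) / 2` and `((f - 1) (f - 2) - t) / 2` are irreducible characters.
-/

set_option autoImplicit false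

namespace Cfsg.Agent.Lib.helper63.AC

open Finset
open scoped Pointwise
open Cfsg.Agent.Lib.helper4 Cfsg.Agent.Lib.helper16

section IntMoments

variable {G : Type*} [Group G] [Fintype G] {Ω : Type*} [Fintype Ω] [DecidableEq Ω]
  [MulAction G Ω]

theorem descFac_cast (f : ℕ) :
    ((f.descFactorial 1 : ℕ) : ℤ) = f ∧ ((f.descFactorial 2 : ℕ) : ℤ) = f * (f - 1) ∧
    ((f.descFactorial 3 : ℕ) : ℤ) = f * (f - 1) * (f - 2) ∧
    ((f.descFactorial 4 : ℕ) : ℤ) = f * (f - 1) * (f - 2) * (f - 3) := by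
  rcases f with _ | _ | _ | _ | f
  · simp [Nat.descFactorial]
  · simp [Nat.descFactorial]
  · simp [Nat.descFactorial]
  · simp [Nat.descFactorial]
  · have e1 : f + 1 + 1 + 1 + 1 - 1 = f + 3 := by omega
    have e2 : f + 1 + 1 + 1 + 1 - 2 = f + 2 := by omega
    have e3 : f + 1 + 1 + 1 + 1 - 3 = f + 1 := by omega
    refine ⟨?_, ?_, ?_, ?_⟩
    · simp [Nat.descFactorial]
    · simp only [Nat.descFactorial, e1, Nat.sub_zero]; push_cast; ring
    · simp only [Nat.descFactorial, e1, e2, Nat.sub_zero]; push_cast; ring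
    · simp only [Nat.descFactorial, e1, e2, e3, Nat.sub_zero]; push_cast; ring

variable (h4 : MulAction.IsMultiplyPretransitive G Ω 4) (hΩ : 4 ≤ Fintype.card Ω)
include h4 hΩ

theorem int_m1 : ∑ g : G, (fixN Ω g : ℤ) = Fintype.card G := by
  have := sum_descFactorial h4 hΩ 1 (by norm_num)
  rw [← this]; push_cast
  exact Finset.sum_congr rfl (fun g _ => (descFac_cast _).1.symm)

theorem int_m2 : ∑ g : G, (fixN Ω g : ℤ) * ((fixN Ω g : ℤ) - 1) = Fintype.card G := by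
  have := sum_descFactorial h4 hΩ 2 (by norm_num)
  rw [← this]; push_cast
  exact Finset.sum_congr rfl (fun g _ => (descFac_cast _).2.1.symm)

theorem int_m3 :
    ∑ g : G, (fixN Ω g : ℤ) * ((fixN Ω g : ℤ) - 1) * ((fixN Ω g : ℤ) - 2) = Fintype.card G := by
  have := sum_descFactorial h4 hΩ 3 (by norm_num)
  rw [← this]; push_cast
  exact Finset.sum_congr rfl (fun g _ => (descFac_cast _).2.2.1.symm)

theorem int_m4 :
    ∑ g : G, (fixN Ω g : ℤ) * ((fixN Ω g : ℤ) - 1) * ((fixN Ω g : ℤ) - 2) * ((fixN Ω g : ℤ) - 3)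
      = Fintype.card G := by
  have := sum_descFactorial h4 hΩ 4 (by norm_num)
  rw [← this]; push_cast
  exact Finset.sum_congr rfl (fun g _ => (descFac_cast _).2.2.2.symm)

theorem int_t2 : ∑ g : G, (twoN Ω g : ℤ) = Fintype.card G := by
  have := sum_twoN h4 hΩ
  rw [← this]; push_cast; rfl

theorem int_t3 : ∑ g : G, (twoN Ω g : ℤ) * (fixN Ω g : ℤ) = Fintype.card G := by
  have := sum_twoN_fixN h4 hΩ
  rw [← this]; push_cast; rfl

theorem int_t4 :
    ∑ g : G, (twoN Ω g : ℤ) * ((fixN Ω g : ℤ) * ((fixN Ω g : ℤ) - 1)) = Fintype.card G := by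
  have := sum_twoN_fixN2 h4 hΩ
  rw [← this, Nat.cast_sum]
  refine Finset.sum_congr rfl (fun g _ => ?_)
  rw [Nat.cast_mul, Nat.cast_sub (Nat.le_mul_self _)]
  push_cast; ring

theorem int_tt :
    ∑ g : G, (twoN Ω g : ℤ) * ((twoN Ω g : ℤ) - 2) = Fintype.card G := by
  have := sum_twoN_twoN h4 hΩ
  rw [← this, Nat.cast_sum]
  refine Finset.sum_congr rfl (fun g _ => ?_)
  rcases twoN_eq_zero_or (Ω := Ω) g with h | h
  · rw [h]; simp
  · rw [Nat.cast_mul, Nat.cast_sub h]; push_cast; ring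

theorem sum_sq1 :
    ∑ g : G, ((fixN Ω g : ℤ) - 1) ^ 2 = 1 ^ 2 * (Fintype.card G : ℤ) := by
  have key : ∀ g : G, ((fixN Ω g : ℤ) - 1) ^ 2
      = (fixN Ω g : ℤ) * ((fixN Ω g : ℤ) - 1) - (fixN Ω g : ℤ) + 1 := fun g => by ring
  have hsum : ∑ g : G, ((fixN Ω g : ℤ) - 1) ^ 2
      = (∑ g : G, (fixN Ω g : ℤ) * ((fixN Ω g : ℤ) - 1)) - (∑ g : G, (fixN Ω g : ℤ))
        + (Fintype.card G : ℤ) := by
    simp only [key, Finset.sum_add_distrib, Finset.sum_sub_distrib, Finset.sum_const,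
      Finset.card_univ, nsmul_eq_mul, mul_one]
  rw [hsum, int_m1 h4 hΩ, int_m2 h4 hΩ]; ring

theorem sum_sq2 :
    ∑ g : G, ((fixN Ω g : ℤ) * ((fixN Ω g : ℤ) - 3) + (twoN Ω g : ℤ)) ^ 2
      = 2 ^ 2 * (Fintype.card G : ℤ) := by
  have key : ∀ g : G, ((fixN Ω g : ℤ) * ((fixN Ω g : ℤ) - 3) + (twoN Ω g : ℤ)) ^ 2
      = (fixN Ω g : ℤ) * ((fixN Ω g : ℤ) - 1) * ((fixN Ω g : ℤ) - 2) * ((fixN Ω g : ℤ) - 3)
        + 4 * (fixN Ω g : ℤ)
        + 2 * ((twoN Ω g : ℤ) * ((fixN Ω g : ℤ) * ((fixN Ω g : ℤ) - 1)))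
        + (twoN Ω g : ℤ) * ((twoN Ω g : ℤ) - 2)
        + 2 * (twoN Ω g : ℤ)
        - 4 * ((twoN Ω g : ℤ) * (fixN Ω g : ℤ))
        - 2 * ((fixN Ω g : ℤ) * ((fixN Ω g : ℤ) - 1)) := fun g => by ring
  have hsum : ∑ g : G, ((fixN Ω g : ℤ) * ((fixN Ω g : ℤ) - 3) + (twoN Ω g : ℤ)) ^ 2
      = (∑ g : G, (fixN Ω g : ℤ) * ((fixN Ω g : ℤ) - 1) * ((fixN Ω g : ℤ) - 2)
            * ((fixN Ω g : ℤ) - 3))
        + 4 * (∑ g : G, (fixN Ω g : ℤ))
        + 2 * (∑ g : G, (twoN Ω g : ℤ) * ((fixN Ω g : ℤ) * ((fixN Ω g : ℤ) - 1)))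
        + (∑ g : G, (twoN Ω g : ℤ) * ((twoN Ω g : ℤ) - 2))
        + 2 * (∑ g : G, (twoN Ω g : ℤ))
        - 4 * (∑ g : G, (twoN Ω g : ℤ) * (fixN Ω g : ℤ))
        - 2 * (∑ g : G, (fixN Ω g : ℤ) * ((fixN Ω g : ℤ) - 1)) := by
    simp only [key, Finset.sum_add_distrib, Finset.sum_sub_distrib, Finset.mul_sum]
  rw [hsum, int_m1 h4 hΩ, int_m2 h4 hΩ, int_m4 h4 hΩ, int_t2 h4 hΩ, int_t3 h4 hΩ,
    int_t4 h4 hΩ, int_tt h4 hΩ]
  ring

theorem sum_sq3 :
    ∑ g : G, (((fixN Ω g : ℤ) - 1) * ((fixN Ω g : ℤ) - 2) - (twoN Ω g : ℤ)) ^ 2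
      = 2 ^ 2 * (Fintype.card G : ℤ) := by
  have key : ∀ g : G, (((fixN Ω g : ℤ) - 1) * ((fixN Ω g : ℤ) - 2) - (twoN Ω g : ℤ)) ^ 2
      = (fixN Ω g : ℤ) * ((fixN Ω g : ℤ) - 1) * ((fixN Ω g : ℤ) - 2) * ((fixN Ω g : ℤ) - 3)
        + 2 * ((fixN Ω g : ℤ) * ((fixN Ω g : ℤ) - 1))
        + 4
        + 4 * ((twoN Ω g : ℤ) * (fixN Ω g : ℤ))
        + (twoN Ω g : ℤ) * ((twoN Ω g : ℤ) - 2)
        - 4 * (fixN Ω g : ℤ)
        - 2 * ((twoN Ω g : ℤ) * ((fixN Ω g : ℤ) * ((fixN Ω g : ℤ) - 1)))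
        - 2 * (twoN Ω g : ℤ) := fun g => by ring
  have hsum : ∑ g : G, (((fixN Ω g : ℤ) - 1) * ((fixN Ω g : ℤ) - 2) - (twoN Ω g : ℤ)) ^ 2
      = (∑ g : G, (fixN Ω g : ℤ) * ((fixN Ω g : ℤ) - 1) * ((fixN Ω g : ℤ) - 2)
            * ((fixN Ω g : ℤ) - 3))
        + 2 * (∑ g : G, (fixN Ω g : ℤ) * ((fixN Ω g : ℤ) - 1))
        + 4 * (Fintype.card G : ℤ)
        + 4 * (∑ g : G, (twoN Ω g : ℤ) * (fixN Ω g : ℤ))
        + (∑ g : G, (twoN Ω g : ℤ) * ((twoN Ω g : ℤ) - 2))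
        - 4 * (∑ g : G, (fixN Ω g : ℤ))
        - 2 * (∑ g : G, (twoN Ω g : ℤ) * ((fixN Ω g : ℤ) * ((fixN Ω g : ℤ) - 1)))
        - 2 * (∑ g : G, (twoN Ω g : ℤ)) := by
    simp only [key, Finset.sum_add_distrib, Finset.sum_sub_distrib, Finset.mul_sum,
      Finset.sum_const, Finset.card_univ, nsmul_eq_mul]
    ring
  rw [hsum, int_m1 h4 hΩ, int_m2 h4 hΩ, int_m4 h4 hΩ, int_t2 h4 hΩ, int_t3 h4 hΩ,
    int_t4 h4 hΩ, int_tt h4 hΩ]
  ring

end IntMoments

section Pairs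

variable {G : Type*} [Group G] {Ω : Type*} [Fintype Ω] [DecidableEq Ω] [MulAction G Ω]

omit [Fintype Ω] in
theorem finset_pair_eq_pair_iff {a b x y : Ω} :
    ({a, b} : Finset Ω) = {x, y} ↔ (a = x ∧ b = y) ∨ (a = y ∧ b = x) := by
  constructor
  · intro h
    have := congrArg (fun s : Finset Ω => (s : Set Ω)) h
    simp only [Finset.coe_insert, Finset.coe_singleton] at this
    exact Set.pair_eq_pair_iff.mp this
  · rintro (⟨rfl, rfl⟩ | ⟨rfl, rfl⟩)
    · rfl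
    · exact Finset.pair_comm _ _

/-- Twice the number of 2-subsets fixed by `g` is `f (f - 1) + t`. -/
theorem two_mul_card_fixedBy_pairs (g : G) :
    2 * Nat.card (MulAction.fixedBy (Set.powersetCard Ω 2) g)
      = fixN Ω g * fixN Ω g - fixN Ω g + twoN Ω g := by
  classical
  set P : Finset (Finset Ω) := (univ.filter (fun s : Finset Ω => s.card = 2 ∧ g • s = s))
    with hP
  have hPcard : Nat.card (MulAction.fixedBy (Set.powersetCard Ω 2) g) = P.card := by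
    rw [← Nat.card_eq_finsetCard]
    apply Nat.card_congr
    refine ⟨fun s => ⟨s.1.1, ?_⟩, fun s => ⟨⟨s.1, ?_⟩, ?_⟩, ?_, ?_⟩
    · rw [hP, Finset.mem_filter]
      refine ⟨Finset.mem_univ _, s.1.2, ?_⟩
      have h2 : g • s.1 = s.1 := s.2
      have := congrArg Subtype.val h2
      rwa [Set.powersetCard.coe_smul] at this
    · exact (Finset.mem_filter.mp s.2).2.1
    · show g • _ = _
      apply Subtype.ext
      rw [Set.powersetCard.coe_smul]
      exact (Finset.mem_filter.mp s.2).2.2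
    · intro s; rfl
    · intro s; rfl
  set A : Finset (Ω × Ω) := univ.filter (fun p : Ω × Ω => p.1 ≠ p.2 ∧
      ((g • p.1 = p.1 ∧ g • p.2 = p.2) ∨ (g • p.1 = p.2 ∧ g • p.2 = p.1))) with hA
  have hfix : ∀ x y : Ω, g • ({x, y} : Finset Ω) = {x, y} ↔
      ((g • x = x ∧ g • y = y) ∨ (g • x = y ∧ g • y = x)) := by
    intro x y
    rw [Finset.smul_finset_insert, Finset.smul_finset_singleton]
    exact finset_pair_eq_pair_iff
  have h1 : A.card = ∑ s ∈ P, (A.filter (fun p => ({p.1, p.2} : Finset Ω) = s)).card := by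
    apply Finset.card_eq_sum_card_fiberwise
    intro p hp
    obtain ⟨hne, hor⟩ := (Finset.mem_filter.mp hp).2
    rw [hP]
    exact Finset.mem_filter.mpr ⟨Finset.mem_univ _, Finset.card_pair hne, (hfix _ _).mpr hor⟩
  have h2 : ∀ s ∈ P, (A.filter (fun p => ({p.1, p.2} : Finset Ω) = s)).card = 2 := by
    intro s hs
    obtain ⟨hs2, hsg⟩ := (Finset.mem_filter.mp hs).2
    obtain ⟨x, y, hxy, rfl⟩ := Finset.card_eq_two.mp hs2
    have hor := (hfix x y).mp hsg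
    have : A.filter (fun p => ({p.1, p.2} : Finset Ω) = {x, y}) = {(x, y), (y, x)} := by
      ext ⟨a, b⟩
      simp only [Finset.mem_filter, Finset.mem_insert, Finset.mem_singleton, Prod.mk.injEq]
      constructor
      · rintro ⟨_, h⟩
        exact finset_pair_eq_pair_iff.mp h
      · rintro (⟨rfl, rfl⟩ | ⟨rfl, rfl⟩)
        · exact ⟨Finset.mem_filter.mpr ⟨Finset.mem_univ _, hxy, hor⟩, rfl⟩
        · refine ⟨Finset.mem_filter.mpr ⟨Finset.mem_univ _, hxy.symm, ?_⟩,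
            Finset.pair_comm _ _⟩
          rcases hor with ⟨h1, h2⟩ | ⟨h1, h2⟩
          · exact Or.inl ⟨h2, h1⟩
          · exact Or.inr ⟨h2, h1⟩
    rw [this]
    exact Finset.card_pair (fun h => hxy (congrArg Prod.fst h))
  have h3 : A.card = 2 * P.card := by
    rw [h1, Finset.sum_congr rfl h2, Finset.sum_const, smul_eq_mul, mul_comm]
  set F := univ.filter (fun a : Ω => g • a = a) with hF
  set T := univ.filter (fun a : Ω => g • a ≠ a ∧ g • g • a = a) with hT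
  have hAeq : A = F.offDiag ∪ T.image (fun a => (a, g • a)) := by
    ext ⟨a, b⟩
    simp only [hA, hF, hT, Finset.mem_filter, Finset.mem_univ, true_and, Finset.mem_union,
      Finset.mem_offDiag, Finset.mem_image, Prod.mk.injEq]
    constructor
    · rintro ⟨hne, ⟨h1, h2⟩ | ⟨h1, h2⟩⟩
      · exact Or.inl ⟨h1, h2, hne⟩
      · refine Or.inr ⟨a, ⟨?_, ?_⟩, rfl, h1⟩
        · rw [h1]; exact fun h => hne h.symm
        · rw [h1, h2]
    · rintro (⟨h1, h2, hne⟩ | ⟨c, ⟨c1, c2⟩, rfl, rfl⟩)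
      · exact ⟨hne, Or.inl ⟨h1, h2⟩⟩
      · exact ⟨fun h => c1 h.symm, Or.inr ⟨rfl, c2⟩⟩
  have hdisj : Disjoint F.offDiag (T.image (fun a => (a, g • a))) := by
    rw [Finset.disjoint_left]
    rintro ⟨a, b⟩ h1 h2
    obtain ⟨ha, -, -⟩ := Finset.mem_offDiag.mp h1
    obtain ⟨c, hc, hcab⟩ := Finset.mem_image.mp h2
    have : c = a := congrArg Prod.fst hcab
    subst this
    exact ((Finset.mem_filter.mp hc).2.1) (Finset.mem_filter.mp ha).2
  have h4 : A.card = F.card * F.card - F.card + T.card := by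
    rw [hAeq, Finset.card_union_of_disjoint hdisj, Finset.offDiag_card,
      Finset.card_image_of_injective _ (fun a b h => congrArg Prod.fst h)]
  rw [hPcard, ← h3, h4]
  rfl

end Pairs

section Chars

variable (G : Type*) [Group G] [Fintype G] (Ω : Type*) [Fintype Ω] [DecidableEq Ω]
  [MulAction G Ω]

/-- `f - 1`. -/
noncomputable def ch1 : G → ℂ := fun g => (fixN Ω g : ℂ) - 1

/-- `(f (f - 3) + t) / 2`. -/
noncomputable def ch2 : G → ℂ :=
  fun g => ((fixN Ω g : ℂ) * ((fixN Ω g : ℂ) - 3) + (twoN Ω g : ℂ)) / 2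

/-- `((f - 1) (f - 2) - t) / 2`. -/
noncomputable def ch3 : G → ℂ :=
  fun g => (((fixN Ω g : ℂ) - 1) * ((fixN Ω g : ℂ) - 2) - (twoN Ω g : ℂ)) / 2

variable {G Ω}

omit [Fintype G] in
theorem fixN_one : fixN Ω (1 : G) = Fintype.card Ω := by
  unfold fixN; simp

omit [Fintype G] in
theorem twoN_one : twoN Ω (1 : G) = 0 := by
  unfold twoN; simp

omit [Fintype G] in
theorem permChar_eq (g : G) : (Cfsg.permRep ℂ G Ω).character g = (fixN Ω g : ℂ) := by
  rw [permRep_character]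
  congr 1
  unfold fixN
  rw [← Fintype.card_subtype, ← Nat.card_eq_fintype_card]
  exact Nat.card_congr (Equiv.subtypeEquivRight (fun a => MulAction.mem_fixedBy))

omit [Fintype G] in
theorem pairChar_eq (g : G) :
    (Cfsg.permRep ℂ G (Set.powersetCard Ω 2)).character g
      = ((fixN Ω g : ℂ) * ((fixN Ω g : ℂ) - 1) + twoN Ω g) / 2 := by
  have := Fintype.ofFinite (Set.powersetCard Ω 2)
  rw [permRep_character]
  have h := two_mul_card_fixedBy_pairs (Ω := Ω) g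
  have h' : (2 : ℂ) * (Nat.card (MulAction.fixedBy (Set.powersetCard Ω 2) g) : ℂ)
      = (fixN Ω g : ℂ) * ((fixN Ω g : ℂ) - 1) + twoN Ω g := by
    have := congrArg (fun n : ℕ => (n : ℂ)) h
    simp only [Nat.cast_mul, Nat.cast_add, Nat.cast_ofNat] at this
    rw [this, Nat.cast_sub (Nat.le_mul_self _)]; push_cast; ring
  rw [← h']; ring

omit [Fintype G] in
theorem gen1 : Cfsg.IsGeneralizedCharacter G (ch1 G Ω) := by
  have : ch1 G Ω = (Cfsg.permRep ℂ G Ω).character - (fun _ => (1 : ℂ)) := by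
    funext g; simp only [ch1, Pi.sub_apply, permChar_eq]
  rw [this]
  exact isGeneralizedCharacter_sub (isGeneralizedCharacter_of_isCharacter (isCharacter_of_rep _))
    (isGeneralizedCharacter_of_isCharacter isCharacter_one)

omit [Fintype G] in
theorem gen2 : Cfsg.IsGeneralizedCharacter G (ch2 G Ω) := by
  have : ch2 G Ω = (Cfsg.permRep ℂ G (Set.powersetCard Ω 2)).character
      - (Cfsg.permRep ℂ G Ω).character := by
    funext g; simp only [ch2, Pi.sub_apply]; rw [pairChar_eq, permChar_eq]; ring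
  rw [this]
  exact isGeneralizedCharacter_sub (isGeneralizedCharacter_of_isCharacter (isCharacter_of_rep _))
    (isGeneralizedCharacter_of_isCharacter (isCharacter_of_rep _))

omit [Fintype G] in
theorem gen3 : Cfsg.IsGeneralizedCharacter G (ch3 G Ω) := by
  have : ch3 G Ω = ch1 G Ω * ch1 G Ω
      - (Cfsg.permRep ℂ G (Set.powersetCard Ω 2)).character := by
    funext g; simp only [ch3, ch1, Pi.sub_apply, Pi.mul_apply, pairChar_eq]; ring
  rw [this]
  exact isGeneralizedCharacter_sub (isGeneralizedCharacter_mul gen1 gen1)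
    (isGeneralizedCharacter_of_isCharacter (isCharacter_of_rep _))

omit [DecidableEq Ω] [Fintype Ω] [MulAction G Ω] in
theorem norm_one_of_int (θ : G → ℂ) (z : G → ℤ) (d : ℤ) (hd : d ≠ 0)
    (hθ : ∀ g, θ g = (z g : ℂ) / (d : ℂ))
    (hz : ∑ g, z g ^ 2 = d ^ 2 * (Fintype.card G : ℤ)) : Cfsg.classInner θ θ = 1 := by
  unfold Cfsg.classInner
  have hd' : (d : ℂ) ≠ 0 := by exact_mod_cast hd
  have h1 : ∀ g, θ g * (starRingEnd ℂ) (θ g) = ((z g ^ 2 : ℤ) : ℂ) / ((d : ℂ) ^ 2) := by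
    intro g
    rw [hθ g, map_div₀, map_intCast, map_intCast]
    push_cast; field_simp
  rw [Finset.sum_congr rfl (fun g _ => h1 g), ← Finset.sum_div, ← Int.cast_sum, hz,
    Nat.card_eq_fintype_card]
  have hN : (Fintype.card G : ℂ) ≠ 0 := by exact_mod_cast Fintype.card_ne_zero
  push_cast; field_simp

variable (h4 : MulAction.IsMultiplyPretransitive G Ω 4) (hΩ : 4 ≤ Fintype.card Ω)
include h4 hΩ

theorem irr1 : Cfsg.IsIrrCharacter G (ch1 G Ω) := by
  apply isIrrCharacter_of_generalized_of_norm_one_of_pos gen1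
  · apply norm_one_of_int (ch1 G Ω) (fun g => (fixN Ω g : ℤ) - 1) 1 one_ne_zero
    · intro g; simp [ch1]
    · exact sum_sq1 h4 hΩ
  · have h : ch1 G Ω 1 = (((Fintype.card Ω : ℝ) - 1 : ℝ) : ℂ) := by
      simp [ch1, fixN_one]
    have h' : (4 : ℝ) ≤ Fintype.card Ω := by exact_mod_cast hΩ
    rw [h, Complex.ofReal_re]; linarith

theorem irr2 : Cfsg.IsIrrCharacter G (ch2 G Ω) := by
  apply isIrrCharacter_of_generalized_of_norm_one_of_pos gen2
  · apply norm_one_of_int (ch2 G Ω)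
      (fun g => (fixN Ω g : ℤ) * ((fixN Ω g : ℤ) - 3) + (twoN Ω g : ℤ)) 2 two_ne_zero
    · intro g; simp [ch2]
    · exact sum_sq2 h4 hΩ
  · have h : ch2 G Ω 1
        = ((((Fintype.card Ω : ℝ) * ((Fintype.card Ω : ℝ) - 3)) / 2 : ℝ) : ℂ) := by
      simp [ch2, fixN_one, twoN_one]
    have h' : (4 : ℝ) ≤ Fintype.card Ω := by exact_mod_cast hΩ
    rw [h, Complex.ofReal_re]; nlinarith

theorem irr3 : Cfsg.IsIrrCharacter G (ch3 G Ω) := by
  apply isIrrCharacter_of_generalized_of_norm_one_of_pos gen3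
  · apply norm_one_of_int (ch3 G Ω)
      (fun g => ((fixN Ω g : ℤ) - 1) * ((fixN Ω g : ℤ) - 2) - (twoN Ω g : ℤ)) 2 two_ne_zero
    · intro g; simp [ch3]
    · exact sum_sq3 h4 hΩ
  · have h : ch3 G Ω 1
        = (((((Fintype.card Ω : ℝ) - 1) * ((Fintype.card Ω : ℝ) - 2)) / 2 : ℝ) : ℂ) := by
      simp [ch3, fixN_one, twoN_one]
    have h' : (4 : ℝ) ≤ Fintype.card Ω := by exact_mod_cast hΩ
    rw [h, Complex.ofReal_re]; nlinarith

end Chars

end Cfsg.Agent.Lib.helper63.AC
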