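import Mathlib
import Cfsg.Agent.Lib.helper63.ACMoments

/-!
# Permutations of `Fin n` with prescribed numbers of fixed points and 2-cycle points
-/

set_option autoImplicit false

namespace Cfsg.Agent.Lib.helper63.AC

open Finset Equiv

section Transport

variable {α : Type*} [Fintype α] [DecidableEq α]

theorem fixN_perm (σ : Perm α) : fixN α σ = (univ.filter (fun a : α => σ a = a)).card := rfl

theorem twoN_perm (σ : Perm α) :
    twoN α σ = (univ.filter (fun a : α => σ a ≠ a ∧ σ (σ a) = a)).card := rfl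

theorem fixN_perm_one : fixN α (1 : Perm α) = Fintype.card α := by
  rw [fixN_perm]; simp

theorem twoN_perm_one : twoN α (1 : Perm α) = 0 := by
  rw [twoN_perm]; simp

theorem exists_transport {n : ℕ} (hα : Fintype.card α = n) (σ : Perm α) :
    ∃ z : Perm (Fin n), Perm.sign z = Perm.sign σ ∧ (∀ k : ℕ, σ ^ k = 1 → z ^ k = 1) ∧
      (σ ≠ 1 → z ≠ 1) ∧ fixN (Fin n) z = fixN α σ ∧ twoN (Fin n) z = twoN α σ := by
  let e : α ≃ Fin n := Fintype.equivFinOfCardEq hα
  have hpow : ∀ k : ℕ, (e.permCongr σ) ^ k = e.permCongr (σ ^ k) := by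
    intro k
    induction k with
    | zero => ext x; simp
    | succ k ih => rw [pow_succ, ih, pow_succ]; ext x; simp [Equiv.permCongr_apply]
  refine ⟨e.permCongr σ, Perm.sign_permCongr e σ, ?_, ?_, ?_, ?_⟩
  · intro k hk
    rw [hpow, hk]; ext x; simp
  · intro h1 h2
    apply h1
    ext a
    have := congrArg (fun p : Perm (Fin n) => e.symm (p (e a))) h2
    simpa [Equiv.permCongr_apply] using this
  · rw [fixN_perm, fixN_perm]
    symm
    refine Finset.card_equiv e (fun a => ?_)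
    rw [Finset.mem_filter, Finset.mem_filter]
    simp [Equiv.permCongr_apply]
  · rw [twoN_perm, twoN_perm]
    symm
    refine Finset.card_equiv e (fun a => ?_)
    rw [Finset.mem_filter, Finset.mem_filter]
    simp [Equiv.permCongr_apply]

variable {β : Type*} [Fintype β] [DecidableEq β]

theorem fixN_sumCongr (σ : Perm α) (τ : Perm β) :
    fixN (α ⊕ β) (Perm.sumCongr σ τ) = fixN α σ + fixN β τ := by
  rw [fixN_perm, fixN_perm, fixN_perm]
  simp only [Finset.card_filter]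
  rw [Fintype.sum_sum_type]
  simp

theorem twoN_sumCongr (σ : Perm α) (τ : Perm β) :
    twoN (α ⊕ β) (Perm.sumCongr σ τ) = twoN α σ + twoN β τ := by
  rw [twoN_perm, twoN_perm, twoN_perm]
  simp only [Finset.card_filter]
  rw [Fintype.sum_sum_type]
  simp

theorem sumCongr_pow (σ : Perm α) (τ : Perm β) (k : ℕ) :
    (Perm.sumCongr σ τ) ^ k = Perm.sumCongr (σ ^ k) (τ ^ k) := by
  induction k with
  | zero => simp
  | succ k ih => rw [pow_succ, ih, Perm.sumCongr_mul, pow_succ, pow_succ]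

end Transport

section Block

/-- The permutation `(j, i) ↦ (j, c i)` of `Fin m × Fin k`. -/
def blockPerm (m : ℕ) {k : ℕ} (c : Perm (Fin k)) : Perm (Fin m × Fin k) :=
  Equiv.prodCongr (Equiv.refl _) c

@[simp] theorem blockPerm_apply (m : ℕ) {k : ℕ} (c : Perm (Fin k)) (j : Fin m) (i : Fin k) :
    blockPerm m c (j, i) = (j, c i) := rfl

theorem blockPerm_pow (m : ℕ) {k : ℕ} (c : Perm (Fin k)) (e : ℕ) :
    (blockPerm m c) ^ e = blockPerm m (c ^ e) := by
  induction e with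
  | zero => ext ⟨j, i⟩ <;> simp
  | succ e ih =>
    rw [pow_succ, ih, pow_succ]
    ext ⟨j, i⟩ <;> simp [Perm.mul_apply]

theorem blockPerm_one (m : ℕ) {k : ℕ} : blockPerm m (1 : Perm (Fin k)) = 1 := by
  ext ⟨j, i⟩ <;> simp

theorem fixN_block (m : ℕ) {k : ℕ} (c : Perm (Fin k)) (hc : ∀ i, c i ≠ i) :
    fixN (Fin m × Fin k) (blockPerm m c) = 0 := by
  rw [fixN_perm, Finset.card_eq_zero, Finset.filter_eq_empty_iff]
  rintro ⟨j, i⟩ - h
  exact hc i (congrArg Prod.snd h)

theorem twoN_block (m : ℕ) {k : ℕ} (c : Perm (Fin k)) (hc : ∀ i, c (c i) ≠ i) :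
    twoN (Fin m × Fin k) (blockPerm m c) = 0 := by
  rw [twoN_perm, Finset.card_eq_zero, Finset.filter_eq_empty_iff]
  rintro ⟨j, i⟩ - ⟨-, h⟩
  exact hc i (congrArg Prod.snd h)

end Block

section Small

theorem rot2_fix : fixN (Fin 2) (finRotate 2) = 0 := by decide
theorem rot2_two : twoN (Fin 2) (finRotate 2) = 2 := by decide
theorem rot4_fix : fixN (Fin 4) (finRotate 4) = 0 := by decide
theorem rot4_two : twoN (Fin 4) (finRotate 4) = 0 := by decide
theorem rot8_fix : fixN (Fin 8) (finRotate 8) = 0 := by decide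
theorem rot8_two : twoN (Fin 8) (finRotate 8) = 0 := by decide
theorem rot2_pow : (finRotate 2) ^ 8 = 1 := by decide
theorem rot4_pow : (finRotate 4) ^ 8 = 1 := by decide
theorem rot8_pow : (finRotate 8) ^ 8 = 1 := by decide
theorem rot8sq_ne : ∀ i : Fin 8, (finRotate 8 ^ 2) i ≠ i := by decide
theorem rot8sq_ne2 : ∀ i : Fin 8, (finRotate 8 ^ 2) ((finRotate 8 ^ 2) i) ≠ i := by decide
theorem rot8sq_pow : (finRotate 8 ^ 2) ^ 8 = 1 := by
  rw [← pow_mul, pow_mul', rot8_pow, one_pow]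
theorem rot3_ne : ∀ i : Fin 3, (finRotate 3) i ≠ i := by decide
theorem rot3_ne2 : ∀ i : Fin 3, (finRotate 3) ((finRotate 3) i) ≠ i := by decide
theorem rot3_pow : (finRotate 3) ^ 3 = 1 := by decide

end Small

section Exist

theorem sign_eq_one_of_pow_three {α : Type*} [Fintype α] [DecidableEq α] (σ : Perm α)
    (h : σ ^ 3 = 1) : Perm.sign σ = 1 := by
  have h1 : (Perm.sign σ) ^ 3 = 1 := by rw [← map_pow, h, map_one]
  rcases Int.units_eq_one_or (Perm.sign σ) with h2 | h2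
  · exact h2
  · rw [h2] at h1; exact absurd h1 (by decide)

theorem exists_with_tail {β : Type*} [Fintype β] [DecidableEq β] (τ : Perm β)
    (hs : Perm.sign τ = 1) (h8 : τ ^ 8 = 1) (m n : ℕ) (hn : n = 8 * m + Fintype.card β) :
    ∃ z : Perm (Fin n), Perm.sign z = 1 ∧ z ^ 8 = 1 ∧ fixN (Fin n) z = fixN β τ ∧
      twoN (Fin n) z = twoN β τ := by
  have hcard : Fintype.card ((Fin m × Fin 8) ⊕ β) = n := by
    rw [Fintype.card_sum, Fintype.card_prod, Fintype.card_fin, Fintype.card_fin, hn]; ring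
  obtain ⟨z, h1, h2, -, h4, h5⟩ := exists_transport hcard
    (Perm.sumCongr (blockPerm m (finRotate 8 ^ 2)) τ)
  refine ⟨z, ?_, ?_, ?_, ?_⟩
  · rw [h1, Perm.sign_sumCongr, hs, mul_one, ← blockPerm_pow, map_pow]
    exact Int.units_sq _
  · apply h2
    rw [sumCongr_pow, h8, blockPerm_pow, rot8sq_pow, blockPerm_one, Perm.sumCongr_one]
  · rw [h4, fixN_sumCongr, fixN_block _ _ rot8sq_ne, zero_add]
  · rw [h5, twoN_sumCongr, twoN_block _ _ rot8sq_ne2, zero_add]

/-- For `n ≥ 7` there is an even permutation of 2-power order of `Fin n` whose numbers `(f, t)`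
of fixed points and of points in 2-cycles are among `f = 1`, `(0, 0)`, `(3, 0)`, `(2, 0)`,
`(0, 2)`. -/
theorem exists_two_elem (n : ℕ) (hn : 7 ≤ n) :
    ∃ z : Perm (Fin n), Perm.sign z = 1 ∧ z ^ 8 = 1 ∧
      (fixN (Fin n) z = 1 ∨ (fixN (Fin n) z = 0 ∧ twoN (Fin n) z = 0) ∨
        (fixN (Fin n) z = 3 ∧ twoN (Fin n) z = 0) ∨ (fixN (Fin n) z = 2 ∧ twoN (Fin n) z = 0) ∨
        (fixN (Fin n) z = 0 ∧ twoN (Fin n) z = 2)) := by
  have hdm : n = 8 * (n / 8) + n % 8 := (Nat.div_add_mod n 8).symm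
  have hcases : n % 8 = 0 ∨ n % 8 = 1 ∨ n % 8 = 2 ∨ n % 8 = 3 ∨ n % 8 = 4 ∨ n % 8 = 5 ∨
      n % 8 = 6 ∨ n % 8 = 7 := by omega
  rcases hcases with h | h | h | h | h | h | h | h
  · obtain ⟨z, h1, h2, h3, h4⟩ := exists_with_tail (1 : Perm (Fin 0)) (by simp) (by simp)
      (n / 8) n (by rw [Fintype.card_fin]; omega)
    refine ⟨z, h1, h2, Or.inr (Or.inl ⟨?_, ?_⟩)⟩
    · rw [h3, fixN_perm_one, Fintype.card_fin]
    · rw [h4, twoN_perm_one]
  · obtain ⟨z, h1, h2, h3, h4⟩ := exists_with_tail (1 : Perm (Fin 1)) (by simp) (by simp)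
      (n / 8) n (by rw [Fintype.card_fin]; omega)
    refine ⟨z, h1, h2, Or.inl ?_⟩
    rw [h3, fixN_perm_one, Fintype.card_fin]
  · obtain ⟨z, h1, h2, h3, h4⟩ := exists_with_tail (1 : Perm (Fin 2)) (by simp) (by simp)
      (n / 8) n (by rw [Fintype.card_fin]; omega)
    refine ⟨z, h1, h2, Or.inr (Or.inr (Or.inr (Or.inl ⟨?_, ?_⟩)))⟩
    · rw [h3, fixN_perm_one, Fintype.card_fin]
    · rw [h4, twoN_perm_one]
  · obtain ⟨z, h1, h2, h3, h4⟩ := exists_with_tail (1 : Perm (Fin 3)) (by simp) (by simp)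
      (n / 8) n (by rw [Fintype.card_fin]; omega)
    refine ⟨z, h1, h2, Or.inr (Or.inr (Or.inl ⟨?_, ?_⟩))⟩
    · rw [h3, fixN_perm_one, Fintype.card_fin]
    · rw [h4, twoN_perm_one]
  · obtain ⟨z, h1, h2, h3, h4⟩ := exists_with_tail
      (Perm.sumCongr (finRotate 8) (finRotate 4))
      (by rw [Perm.sign_sumCongr, sign_finRotate, sign_finRotate]; decide)
      (by rw [sumCongr_pow, rot8_pow, rot4_pow, Perm.sumCongr_one])
      (n / 8 - 1) n (by rw [Fintype.card_sum, Fintype.card_fin, Fintype.card_fin]; omega)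
    refine ⟨z, h1, h2, Or.inr (Or.inl ⟨?_, ?_⟩)⟩
    · rw [h3, fixN_sumCongr, rot8_fix, rot4_fix]
    · rw [h4, twoN_sumCongr, rot8_two, rot4_two]
  · obtain ⟨z, h1, h2, h3, h4⟩ := exists_with_tail
      (Perm.sumCongr (Perm.sumCongr (finRotate 2) (finRotate 2)) (1 : Perm (Fin 1)))
      (by rw [Perm.sign_sumCongr, Perm.sign_sumCongr, sign_finRotate]; simp)
      (by rw [sumCongr_pow, sumCongr_pow, rot2_pow, one_pow, Perm.sumCongr_one,
        Perm.sumCongr_one])
      (n / 8) n (by simp only [Fintype.card_sum, Fintype.card_fin]; omega)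
    refine ⟨z, h1, h2, Or.inl ?_⟩
    rw [h3, fixN_sumCongr, fixN_sumCongr, rot2_fix, fixN_perm_one, Fintype.card_fin]
  · obtain ⟨z, h1, h2, h3, h4⟩ := exists_with_tail
      (Perm.sumCongr (finRotate 4) (finRotate 2))
      (by rw [Perm.sign_sumCongr, sign_finRotate, sign_finRotate]; decide)
      (by rw [sumCongr_pow, rot4_pow, rot2_pow, Perm.sumCongr_one])
      (n / 8) n (by rw [Fintype.card_sum, Fintype.card_fin, Fintype.card_fin]; omega)
    refine ⟨z, h1, h2, Or.inr (Or.inr (Or.inr (Or.inr ⟨?_, ?_⟩)))⟩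
    · rw [h3, fixN_sumCongr, rot4_fix, rot2_fix]
    · rw [h4, twoN_sumCongr, rot4_two, rot2_two]
  · obtain ⟨z, h1, h2, h3, h4⟩ := exists_with_tail
      (Perm.sumCongr (Perm.sumCongr (finRotate 4) (finRotate 2)) (1 : Perm (Fin 1)))
      (by rw [Perm.sign_sumCongr, Perm.sign_sumCongr, sign_finRotate, sign_finRotate, map_one]
          decide)
      (by rw [sumCongr_pow, sumCongr_pow, rot4_pow, rot2_pow, one_pow, Perm.sumCongr_one,
        Perm.sumCongr_one])
      (n / 8) n (by simp only [Fintype.card_sum, Fintype.card_fin]; omega)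
    refine ⟨z, h1, h2, Or.inl ?_⟩
    rw [h3, fixN_sumCongr, fixN_sumCongr, rot4_fix, rot2_fix, fixN_perm_one, Fintype.card_fin]

/-- For `n ≥ 3` there is an even permutation of order 3 of `Fin n` with `n % 3` fixed points
(and no 2-cycles). -/
theorem exists_three_elem (n : ℕ) (hn : 3 ≤ n) :
    ∃ y : Perm (Fin n), Perm.sign y = 1 ∧ orderOf y = 3 ∧ fixN (Fin n) y = n % 3 ∧
      twoN (Fin n) y = 0 := by
  have hcard : Fintype.card ((Fin (n / 3) × Fin 3) ⊕ Fin (n % 3)) = n := by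
    rw [Fintype.card_sum, Fintype.card_prod, Fintype.card_fin, Fintype.card_fin,
      Fintype.card_fin]
    exact Nat.div_add_mod' n 3
  have hpow : (Perm.sumCongr (blockPerm (n / 3) (finRotate 3)) (1 : Perm (Fin (n % 3)))) ^ 3
      = 1 := by
    rw [sumCongr_pow, blockPerm_pow, rot3_pow, blockPerm_one, one_pow, Perm.sumCongr_one]
  have hne : Perm.sumCongr (blockPerm (n / 3) (finRotate 3)) (1 : Perm (Fin (n % 3))) ≠ 1 := by
    intro h
    have hpos : 0 < n / 3 := Nat.div_pos hn (by norm_num)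
    have := congrArg (fun p : Perm ((Fin (n / 3) × Fin 3) ⊕ Fin (n % 3)) =>
      p (Sum.inl (⟨0, hpos⟩, 0))) h
    simp only [Perm.sumCongr_apply, Sum.map_inl, blockPerm_apply, Perm.coe_one, id_eq,
      Sum.inl.injEq, Prod.mk.injEq, true_and] at this
    exact rot3_ne 0 this
  obtain ⟨z, h1, h2, h3, h4, h5⟩ := exists_transport hcard
    (Perm.sumCongr (blockPerm (n / 3) (finRotate 3)) (1 : Perm (Fin (n % 3))))
  have hz3 : z ^ 3 = 1 := h2 3 hpow
  have : Fact (Nat.Prime 3) := ⟨Nat.prime_three⟩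
  refine ⟨z, sign_eq_one_of_pow_three z hz3, orderOf_eq_prime hz3 (h3 hne), ?_, ?_⟩
  · rw [h4, fixN_sumCongr, fixN_block _ _ rot3_ne, fixN_perm_one, Fintype.card_fin, zero_add]
  · rw [h5, twoN_sumCongr, twoN_block _ _ rot3_ne2, twoN_perm_one]

end Exist

end Cfsg.Agent.Lib.helper63.AC
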