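import Cfsg.Agent.Lib.helper34.Deg11Defs

/-! Piece `P4` of the split proof of S0679 (owner helper34). -/

set_option autoImplicit false

namespace Cfsg.Agent.Lib.helper63

open Cfsg Cfsg.Agent.Lib.helper34

/-! PIECE P4 (order 7920 and at most 3 fixed points ⟹ sharply 4-transitive) -/
theorem deg11_sharp4 {α : Type*} [Fintype α] [DecidableEq α] (hα : Fintype.card α = 11)
    (G : Subgroup (Equiv.Perm α)) [MulAction.IsPretransitive G α]
    (K : Subgroup (Equiv.Perm GolayPt)) (φ : α ≃ Pt11) (e : G ≃* K) (hK : K ≤ F11)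
    (heq : ∀ (g : G) (a : α), ((e g : Equiv.Perm GolayPt) (φ a : GolayPt)) = (φ ((g : Equiv.Perm α) a) : GolayPt))
    (hcard : Nat.card K = 7920) (hfix : ∀ k ∈ K, k ≠ 1 → mfix k ≤ 3) :
    MulAction.IsMultiplyPretransitive G α 4 ∧ ∀ x : Fin 4 ↪ α, MulAction.stabilizer G x = ⊥ := by
  classical
  -- stabilizers are trivial
  have hstab : ∀ x : Fin 4 ↪ α, MulAction.stabilizer G x = ⊥ := by
    intro x
    rw [eq_bot_iff]
    intro g hg
    rw [MulAction.mem_stabilizer_iff] at hg
    rw [Subgroup.mem_bot]
    by_contra hg1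
    have hk1 : (e g : Equiv.Perm GolayPt) ≠ 1 := by
      intro h
      apply hg1
      have h' : e g = 1 := Subtype.ext h
      exact e.injective (by rw [h', map_one])
    have h3 := hfix (e g) (e g).2 hk1
    have hfixpt : ∀ i : Fin 4, (g : Equiv.Perm α) (x i) = x i := by
      intro i
      have h := congrArg (fun f : Fin 4 ↪ α => f i) hg
      have h' : (g • x) i = x i := h
      rw [Function.Embedding.smul_apply] at h'
      exact h'
    obtain ⟨s, hsdef⟩ : ∃ s : Finset ℕ,
        s = Finset.univ.image (fun i : Fin 4 => idx (φ (x i) : GolayPt)) := ⟨_, rfl⟩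
    have hs : s ⊆ (Finset.range 11).filter
        (fun t => idx ((e g : Equiv.Perm GolayPt) (ptOf t)) = t) := by
      intro t ht
      rw [hsdef, Finset.mem_image] at ht
      obtain ⟨i, -, rfl⟩ := ht
      rw [Finset.mem_filter, Finset.mem_range]
      refine ⟨(φ (x i)).2, ?_⟩
      rw [ptOf_idx, heq, hfixpt]
    have hcs : s.card = 4 := by
      rw [hsdef, Finset.card_image_of_injective]
      · simp
      · intro i j hij
        have h1 : (φ (x i) : GolayPt) = φ (x j) := idx_injective hij
        exact x.injective (φ.injective (Subtype.ext h1))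
    have h4 := Finset.card_le_card hs
    unfold mfix at h3
    omega
  refine ⟨?_, hstab⟩
  have hG : Nat.card G = 7920 := by rw [Nat.card_congr e.toEquiv, hcard]
  have hE : Nat.card (Fin 4 ↪ α) = 7920 := by
    rw [Nat.card_eq_fintype_card, Fintype.card_embedding_eq, hα, Fintype.card_fin]
    decide
  refine ⟨fun x y => ?_⟩
  have horb : MulAction.orbit G x = Set.univ := by
    have h1 := MulAction.index_stabilizer G x
    rw [hstab x, Subgroup.index_bot, hG] at h1
    rw [Set.eq_univ_iff_ncard, hE]
    exact h1.symm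
  have hy : y ∈ MulAction.orbit G x := by rw [horb]; trivial
  exact hy

end Cfsg.Agent.Lib.helper63
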