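import Cfsg.Agent.Lib.helper34.Deg11Defs

/-! Piece `T` of the split proof of S0679 (owner helper34). -/

set_option autoImplicit false

namespace Cfsg.Agent.Lib.helper63

open Cfsg Cfsg.Agent.Lib.helper34

/-- `Pt11` has 11 elements. -/
theorem card_Pt11 : Fintype.card Pt11 = 11 := by
  have e : Pt11 ≃ Fin 11 :=
    { toFun := fun p => ⟨idx p.1, p.2⟩
      invFun := fun i => ⟨ptOf i.1, by rw [idx_ptOf (by omega)]; exact i.2⟩
      left_inv := fun p => Subtype.ext (ptOf_idx p.1)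
      right_inv := fun i => Fin.ext (idx_ptOf (by omega)) }
  rw [Fintype.card_congr e, Fintype.card_fin]

/-- A permutation of order 11 of an 11-element type is an 11-cycle. -/
theorem cycleType_of_order11 {β : Type*} [Fintype β] [DecidableEq β] (hβ : Fintype.card β = 11)
    (σ : Equiv.Perm β) (hσ : orderOf σ = 11) : σ.cycleType = {11} := by
  have hc : σ.IsCycle :=
    Equiv.Perm.isCycle_of_prime_order'' (by rw [hβ]; norm_num) (by rw [hσ, hβ])
  rw [hc.cycleType, ← hc.orderOf, hσ]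

/-! PIECE T (transport to the model) -/
theorem deg11_transport {α : Type*} [Fintype α] [DecidableEq α] (hα : Fintype.card α = 11)
    (G : Subgroup (Equiv.Perm α)) [MulAction.IsPretransitive G α]
    (d : Equiv.Perm GolayPt) (hd : d ∈ F11) (hd11 : orderOf d = 11) :
    ∃ (K : Subgroup (Equiv.Perm GolayPt)) (φ : α ≃ Pt11) (e : G ≃* K),
      K ≤ F11 ∧ d ∈ K ∧
      ∀ (g : G) (a : α), ((e g : Equiv.Perm GolayPt) (φ a : GolayPt)) = (φ ((g : Equiv.Perm α) a) : GolayPt) := by
  classical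
  -- `d` restricted to `Pt11`
  have hd1 : ∀ p : GolayPt, idx (d p) < 11 ↔ idx p < 11 := by
    intro p
    constructor
    · intro h
      by_contra hp
      have h2 := hd p (not_lt.mp hp)
      rw [h2] at h
      exact hp h
    · intro h
      by_contra hp
      have h2 := hd (d p) (not_lt.mp hp)
      have h3 : d p = p := d.injective h2
      rw [h3] at hp
      exact hp h
  have hd2 : ∀ p : GolayPt, d p ≠ p → idx p < 11 := by
    intro p hp
    by_contra h
    exact hp (hd p (not_lt.mp h))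
  obtain ⟨d', hd'def⟩ : ∃ d' : Equiv.Perm Pt11, d' = d.subtypePerm hd1 := ⟨_, rfl⟩
  have hd' : Equiv.Perm.ofSubtype d' = d := by
    rw [hd'def]; exact Equiv.Perm.ofSubtype_subtypePerm hd1 hd2
  have hd'ord : orderOf d' = 11 := by
    rw [← hd11, ← hd', orderOf_injective Equiv.Perm.ofSubtype Equiv.Perm.ofSubtype_injective]
  have hd'ct : d'.cycleType = {11} := cycleType_of_order11 card_Pt11 d' hd'ord
  -- an element of order 11 in G
  have h11 : 11 ∣ Nat.card G := by
    have hne : Nonempty α := by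
      rw [← Fintype.card_pos_iff, hα]; norm_num
    obtain ⟨a⟩ := hne
    have h := MulAction.index_stabilizer_of_transitive G a
    rw [Nat.card_eq_fintype_card, hα] at h
    rw [← h]
    exact Subgroup.index_dvd_card _
  have : Fact (Nat.Prime 11) := ⟨by norm_num⟩
  obtain ⟨g, hg⟩ := exists_prime_orderOf_dvd_card' 11 h11
  have hg' : orderOf (g : Equiv.Perm α) = 11 := by rw [Subgroup.orderOf_coe, hg]
  obtain ⟨φ₀⟩ : Nonempty (α ≃ Pt11) := ⟨Fintype.equivOfCardEq (by rw [hα, card_Pt11])⟩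
  have hgct : (φ₀.permCongrHom (g : Equiv.Perm α)).cycleType = {11} := by
    apply cycleType_of_order11 card_Pt11
    rw [MulEquiv.orderOf_eq, hg']
  have hconj : IsConj (φ₀.permCongrHom (g : Equiv.Perm α)) d' := by
    rw [Equiv.Perm.isConj_iff_cycleType_eq, hgct, hd'ct]
  obtain ⟨c, hc⟩ := isConj_iff.mp hconj
  obtain ⟨φ, hφdef⟩ : ∃ φ : α ≃ Pt11, φ = φ₀.trans c := ⟨_, rfl⟩
  obtain ⟨Ψ, hΨdef⟩ : ∃ Ψ : Equiv.Perm α →* Equiv.Perm GolayPt,
      Ψ = Equiv.Perm.ofSubtype.comp φ.permCongrHom.toMonoidHom := ⟨_, rfl⟩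
  have hΨinj : Function.Injective Ψ := by
    rw [hΨdef]
    exact Equiv.Perm.ofSubtype_injective.comp φ.permCongrHom.injective
  have hΨapp : ∀ (σ : Equiv.Perm α) (a : α), Ψ σ (φ a : GolayPt) = (φ (σ a) : GolayPt) := by
    intro σ a
    rw [hΨdef]
    show Equiv.Perm.ofSubtype (φ.permCongrHom σ) (φ a : GolayPt) = _
    rw [Equiv.Perm.ofSubtype_apply_coe]
    simp [Equiv.permCongrHom]
  have hΨF : ∀ σ : Equiv.Perm α, Ψ σ ∈ F11 := by
    intro σ p hp
    rw [hΨdef]
    show Equiv.Perm.ofSubtype (φ.permCongrHom σ) p = p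
    exact Equiv.Perm.ofSubtype_apply_of_not_mem _ (not_lt.mpr hp)
  have hΨg : Ψ (g : Equiv.Perm α) = d := by
    rw [← hd', hΨdef]
    show Equiv.Perm.ofSubtype (φ.permCongrHom (g : Equiv.Perm α)) = Equiv.Perm.ofSubtype d'
    congr 1
    rw [← hc]
    ext p
    simp [hφdef, Equiv.permCongrHom]
  refine ⟨G.map Ψ, φ, G.equivMapOfInjective Ψ hΨinj, ?_, ?_, ?_⟩
  · rintro _ ⟨σ, -, rfl⟩
    exact hΨF σ
  · exact ⟨g, g.2, hΨg⟩
  · intro g' a
    rw [Subgroup.coe_equivMapOfInjective_apply]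
    exact hΨapp _ a

end Cfsg.Agent.Lib.helper63
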