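import Mathlib

/-!
Counting lemmas for derangements in finite transitive permutation groups
(Burnside's lemma in `Nat.card` form, Jordan's lemma, the subgroup generated by derangements).
-/

set_option autoImplicit false
set_option linter.style.haveILetI false

namespace Cfsg.Agent.Lib.helper63

open MulAction

section Burnside

variable {G Ω : Type*} [Group G] [MulAction G Ω]

/-- Burnside's lemma with `Nat.card`. -/
theorem sum_natCard_fixedBy [Fintype G] [Finite Ω] :
    ∑ g : G, Nat.card (fixedBy Ω g) = Nat.card (orbitRel.Quotient G Ω) * Nat.card G := by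
  classical
  haveI := Fintype.ofFinite Ω
  haveI : Fintype (orbitRel.Quotient G Ω) := Fintype.ofFinite _
  have h := MulAction.sum_card_fixedBy_eq_card_orbits_mul_card_group G Ω
  simp only [Nat.card_eq_fintype_card]
  convert h using 1

/-- In a transitive action on a nonempty finite set there is exactly one orbit. -/
theorem natCard_orbits_eq_one [IsPretransitive G Ω] [Nonempty Ω] :
    Nat.card (orbitRel.Quotient G Ω) = 1 := by
  haveI : Subsingleton (orbitRel.Quotient G Ω) :=
    (pretransitive_iff_subsingleton_quotient G Ω).1 inferInstance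
  haveI : Nonempty (orbitRel.Quotient G Ω) := Nonempty.map (Quotient.mk'') inferInstance
  exact Nat.card_eq_one_iff_unique.2 ⟨inferInstance, inferInstance⟩

/-- Jordan's lemma, sharpened: if `G` is transitive on the finite set `Ω` and the subgroup `D`
contains all derangements, then `D` is transitive and every element outside `D` has exactly one
fixed point. -/
theorem derangement_subgroup_main [Finite G] [Finite Ω] [IsPretransitive G Ω] (D : Subgroup G)
    (hD : ∀ g : G, (∀ ω : Ω, g • ω ≠ ω) → g ∈ D) :
    IsPretransitive D Ω ∧ ∀ g : G, g ∉ D → Nat.card (fixedBy Ω g) = 1 := by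
  classical
  rcases isEmpty_or_nonempty Ω with hΩ | hΩ
  · refine ⟨⟨fun x => isEmptyElim x⟩, fun g hg => ?_⟩
    exact absurd (hD g (fun ω => isEmptyElim ω)) hg
  cases nonempty_fintype G
  have h1 : ∑ g : G, Nat.card (fixedBy Ω g) = Nat.card G := by
    rw [sum_natCard_fixedBy, natCard_orbits_eq_one, one_mul]
  have h2 : ∑ d : D, Nat.card (fixedBy Ω (d : G)) = Nat.card (orbitRel.Quotient D Ω) * Nat.card D :=
    sum_natCard_fixedBy (G := D) (Ω := Ω)
  have h3 : ∑ g : G, Nat.card (fixedBy Ω g) =
      ∑ g ∈ Finset.univ.filter (· ∈ D), Nat.card (fixedBy Ω g) +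
      ∑ g ∈ Finset.univ.filter (· ∉ D), Nat.card (fixedBy Ω g) :=
    (Finset.sum_filter_add_sum_filter_not _ _ _).symm
  have h4 : ∑ g ∈ Finset.univ.filter (· ∈ D), Nat.card (fixedBy Ω g) =
      ∑ d : D, Nat.card (fixedBy Ω (d : G)) := by
    rw [Finset.sum_subtype (p := (· ∈ D)) (Finset.univ.filter (· ∈ D)) (by simp)]
  have h5 : ∀ g ∈ Finset.univ.filter (fun g : G => g ∉ D), 1 ≤ Nat.card (fixedBy Ω g) := by
    intro g hg
    have hg' : g ∉ D := (Finset.mem_filter.1 hg).2
    have : ∃ ω : Ω, g • ω = ω := by
      by_contra hcon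
      push Not at hcon
      exact hg' (hD g hcon)
    obtain ⟨ω, hω⟩ := this
    haveI : Nonempty (fixedBy Ω g) := ⟨⟨ω, hω⟩⟩
    exact Nat.card_pos
  have h6 : (Finset.univ.filter (fun g : G => g ∉ D)).card ≤
      ∑ g ∈ Finset.univ.filter (fun g : G => g ∉ D), Nat.card (fixedBy Ω g) := by
    rw [Finset.card_eq_sum_ones]
    exact Finset.sum_le_sum h5
  have h7 : (Finset.univ.filter (fun g : G => g ∉ D)).card + Nat.card D = Nat.card G := by
    have := Finset.card_filter_add_card_filter_not (s := (Finset.univ : Finset G)) (· ∈ D)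
    rw [Finset.card_univ] at this
    have h8 : (Finset.univ.filter (fun g : G => g ∈ D)).card = Nat.card D := by
      rw [Nat.card_eq_fintype_card, Fintype.card_subtype]
    rw [Nat.card_eq_fintype_card (α := G)]
    omega
  have hDpos : 0 < Nat.card D := Nat.card_pos
  set k := Nat.card (orbitRel.Quotient D Ω) with hk
  have hkpos : 0 < k := by
    haveI : Nonempty (orbitRel.Quotient D Ω) := Nonempty.map (Quotient.mk'') hΩ
    exact Nat.card_pos
  have hk1 : k = 1 := by
    have : k * Nat.card D ≤ Nat.card D := by
      have := h1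
      rw [h3, h4, h2] at this
      omega
    have : k ≤ 1 := by
      by_contra hcon
      push Not at hcon
      nlinarith
    omega
  refine ⟨?_, ?_⟩
  · rw [pretransitive_iff_subsingleton_quotient]
    exact (Nat.card_eq_one_iff_unique.1 hk1).1
  · have h9 : ∑ g ∈ Finset.univ.filter (fun g : G => g ∉ D), (1 : ℕ) =
        ∑ g ∈ Finset.univ.filter (fun g : G => g ∉ D), Nat.card (fixedBy Ω g) := by
      rw [← Finset.card_eq_sum_ones]
      have := h1
      rw [h3, h4, h2, hk1, one_mul] at this
      omega
    have h10 := (Finset.sum_eq_sum_iff_of_le h5).1 h9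
    intro g hg
    exact (h10 g (by simp [hg])).symm

end Burnside

end Cfsg.Agent.Lib.helper63
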