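import Mathlib
import Cfsg.Agent.Lib.helper63.Derange

/-!
More counting lemmas for the subgroup generated by derangements: the rank formula.
-/

set_option autoImplicit false
set_option linter.style.haveILetI false

namespace Cfsg.Agent.Lib.helper63

open MulAction

section Rank

variable {G Ω : Type*} [Group G] [MulAction G Ω]

/-- The fixed points of `g` on `Ω × Ω` are the pairs of fixed points. -/
def fixedByProdEquiv (g : G) : fixedBy (Ω × Ω) g ≃ fixedBy Ω g × fixedBy Ω g where
  toFun x := (⟨x.1.1, congrArg Prod.fst x.2⟩, ⟨x.1.2, congrArg Prod.snd x.2⟩)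
  invFun y := ⟨(y.1.1, y.2.1), Prod.ext y.1.2 y.2.2⟩
  left_inv x := by rfl
  right_inv y := by rfl

theorem natCard_fixedBy_prod (g : G) :
    Nat.card (fixedBy (Ω × Ω) g) = Nat.card (fixedBy Ω g) * Nat.card (fixedBy Ω g) := by
  rw [Nat.card_congr (fixedByProdEquiv g), Nat.card_prod]

/-- The rank formula: if `G` is transitive on `Ω` and the subgroup `D` contains all derangements,
then `rank D - 1 = (rank G - 1) * [G : D]`. -/
theorem derangement_rank_formula [Finite G] [Finite Ω] [IsPretransitive G Ω] (D : Subgroup G)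
    (hD : ∀ g : G, (∀ ω : Ω, g • ω ≠ ω) → g ∈ D) :
    Nat.card (orbitRel.Quotient D (Ω × Ω)) - 1 =
      (Nat.card (orbitRel.Quotient G (Ω × Ω)) - 1) * D.index := by
  classical
  rcases isEmpty_or_nonempty Ω with hΩ | hΩ
  · haveI : IsEmpty (orbitRel.Quotient D (Ω × Ω)) := by
      refine ⟨fun q => ?_⟩
      induction q using Quotient.inductionOn' with
      | h a => exact hΩ.elim a.1
    haveI : IsEmpty (orbitRel.Quotient G (Ω × Ω)) := by
      refine ⟨fun q => ?_⟩
      induction q using Quotient.inductionOn' with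
      | h a => exact hΩ.elim a.1
    simp
  cases nonempty_fintype G
  obtain ⟨-, hfix⟩ := derangement_subgroup_main D hD
  have h1 : ∑ g : G, Nat.card (fixedBy (Ω × Ω) g) =
      Nat.card (orbitRel.Quotient G (Ω × Ω)) * Nat.card G := sum_natCard_fixedBy
  have h2 : ∑ d : D, Nat.card (fixedBy (Ω × Ω) (d : G)) =
      Nat.card (orbitRel.Quotient D (Ω × Ω)) * Nat.card D :=
    sum_natCard_fixedBy (G := D) (Ω := Ω × Ω)
  have h3 : ∑ g : G, Nat.card (fixedBy (Ω × Ω) g) =
      ∑ g ∈ Finset.univ.filter (· ∈ D), Nat.card (fixedBy (Ω × Ω) g) +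
      ∑ g ∈ Finset.univ.filter (· ∉ D), Nat.card (fixedBy (Ω × Ω) g) :=
    (Finset.sum_filter_add_sum_filter_not _ _ _).symm
  have h4 : ∑ g ∈ Finset.univ.filter (· ∈ D), Nat.card (fixedBy (Ω × Ω) g) =
      ∑ d : D, Nat.card (fixedBy (Ω × Ω) (d : G)) := by
    rw [Finset.sum_subtype (p := (· ∈ D)) (Finset.univ.filter (· ∈ D)) (by simp)]
  have h5 : ∑ g ∈ Finset.univ.filter (fun g : G => g ∉ D), Nat.card (fixedBy (Ω × Ω) g) =
      (Finset.univ.filter (fun g : G => g ∉ D)).card := by
    rw [Finset.card_eq_sum_ones]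
    refine Finset.sum_congr rfl (fun g hg => ?_)
    rw [natCard_fixedBy_prod, hfix g (Finset.mem_filter.1 hg).2]
  have h7 : (Finset.univ.filter (fun g : G => g ∉ D)).card + Nat.card D = Nat.card G := by
    have := Finset.card_filter_add_card_filter_not (s := (Finset.univ : Finset G)) (· ∈ D)
    rw [Finset.card_univ] at this
    have h8 : (Finset.univ.filter (fun g : G => g ∈ D)).card = Nat.card D := by
      rw [Nat.card_eq_fintype_card, Fintype.card_subtype]
    rw [Nat.card_eq_fintype_card (α := G)]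
    omega
  have hDpos : 0 < Nat.card D := Nat.card_pos
  have hidx : D.index * Nat.card D = Nat.card G := D.index_mul_card
  have hidxpos : 0 < D.index := Nat.pos_of_ne_zero (Subgroup.index_ne_zero_of_finite)
  set rD := Nat.card (orbitRel.Quotient D (Ω × Ω)) with hrD
  set rG := Nat.card (orbitRel.Quotient G (Ω × Ω)) with hrG
  have hrGpos : 0 < rG := by
    haveI : Nonempty (orbitRel.Quotient G (Ω × Ω)) :=
      Nonempty.map (Quotient.mk'') (inferInstance : Nonempty (Ω × Ω))
    exact Nat.card_pos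
  have hrDpos : 0 < rD := by
    haveI : Nonempty (orbitRel.Quotient D (Ω × Ω)) :=
      Nonempty.map (Quotient.mk'') (inferInstance : Nonempty (Ω × Ω))
    exact Nat.card_pos
  have key : rG * Nat.card G + Nat.card D = rD * Nat.card D + Nat.card G := by
    have := h1
    rw [h3, h4, h2, h5] at this
    omega
  rw [← hidx] at key
  have key2 : rG * D.index + 1 = rD + D.index := by
    have : (rG * D.index + 1) * Nat.card D = (rD + D.index) * Nat.card D := by nlinarith
    exact Nat.eq_of_mul_eq_mul_right hDpos this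
  obtain ⟨a, ha⟩ : ∃ a, rG = a + 1 := ⟨rG - 1, by omega⟩
  obtain ⟨b, hb⟩ : ∃ b, rD = b + 1 := ⟨rD - 1, by omega⟩
  rw [ha, hb] at key2 ⊢
  simp only [Nat.add_sub_cancel]
  nlinarith

end Rank

end Cfsg.Agent.Lib.helper63
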