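import Mathlib
import Cfsg.Agent.Lib.helper63.Derange

/-!
The index of a subgroup containing all derangements of a transitive group divides `n - 1`.
-/

set_option autoImplicit false
set_option linter.style.haveILetI false

namespace Cfsg.Agent.Lib.helper63

open MulAction

section Index

/-- If all point stabilizers of the action of `H` on the finite set `Y` lie in the subgroup `K`,
then the index of `K` divides the size of `Y`. -/
theorem index_dvd_natCard_of_stabilizer_le {H Y : Type*} [Group H] [MulAction H Y] [Finite Y]
    (K : Subgroup H) (hK : ∀ y : Y, stabilizer H y ≤ K) : K.index ∣ Nat.card Y := by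
  classical
  haveI : Fintype (orbitRel.Quotient H Y) := Fintype.ofFinite _
  have e := selfEquivSigmaOrbitsQuotientStabilizer H Y
  haveI : ∀ ω : Quotient (orbitRel H Y), Finite (H ⧸ stabilizer H ω.out) := by
    intro ω
    have hinj : Function.Injective (fun q : H ⧸ stabilizer H ω.out =>
        e.symm ⟨ω, q⟩) := by
      intro q1 q2 h
      have := e.symm.injective h
      simpa using this
    exact Finite.of_injective _ hinj
  rw [Nat.card_congr e, Nat.card_sigma]
  refine Finset.dvd_sum (fun ω _ => ?_)
  exact Subgroup.index_dvd_of_le (hK _)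

variable {G Ω : Type*} [Group G] [MulAction G Ω]

/-- Version for an invariant subset of a point stabilizer. -/
theorem relIndex_stabilizer_dvd_natCard (D : Subgroup G) (α : Ω)
    (Y : SubMulAction (stabilizer G α) Ω) [Finite Y]
    (hD : ∀ g : G, g • α = α → ∀ y ∈ Y, g • y = y → g ∈ D) :
    D.relIndex (stabilizer G α) ∣ Nat.card Y := by
  rw [Subgroup.relIndex]
  apply index_dvd_natCard_of_stabilizer_le
  intro y h hh
  rw [Subgroup.mem_subgroupOf]
  refine hD h h.2 y y.2 ?_
  have := congrArg Subtype.val (mem_stabilizer_iff.1 hh)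
  rw [SubMulAction.val_smul] at this
  exact this

/-- If `D` is transitive then its index equals its relative index in a point stabilizer. -/
theorem relIndex_stabilizer_eq_index [Finite Ω] (D : Subgroup G) [IsPretransitive D Ω] (α : Ω) :
    D.relIndex (stabilizer G α) = D.index := by
  haveI : Nonempty Ω := ⟨α⟩
  haveI : IsPretransitive G Ω := by
    refine ⟨fun x y => ?_⟩
    obtain ⟨d, hd⟩ := exists_smul_eq D x y
    exact ⟨d, hd⟩
  set H := stabilizer G α with hH
  have h1 : H.index = Nat.card Ω := index_stabilizer_of_transitive G α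
  have h2 : H.relIndex D = Nat.card Ω := by
    have key : H.subgroupOf D = stabilizer D α := by
      ext; rfl
    rw [Subgroup.relIndex, key, index_stabilizer_of_transitive]
  have h3 : (H ⊓ D).relIndex H * H.index = (H ⊓ D).index := Subgroup.relIndex_mul_index inf_le_left
  have h4 : (H ⊓ D).relIndex D * D.index = (H ⊓ D).index := Subgroup.relIndex_mul_index inf_le_right
  rw [Subgroup.inf_relIndex_left] at h3
  rw [Subgroup.inf_relIndex_right] at h4
  rw [h1] at h3
  rw [h2] at h4
  have hpos : 0 < Nat.card Ω := Nat.card_pos
  have : D.relIndex H * Nat.card Ω = D.index * Nat.card Ω := by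
    rw [h3, ← h4, mul_comm]
  exact Nat.eq_of_mul_eq_mul_right hpos this

/-- An element fixing two distinct points lies in every subgroup containing all derangements. -/
theorem mem_of_fixes_two [Finite G] [Finite Ω] [IsPretransitive G Ω] (D : Subgroup G)
    (hD : ∀ g : G, (∀ ω : Ω, g • ω ≠ ω) → g ∈ D) (g : G) (α β : Ω) (hαβ : α ≠ β)
    (hα : g • α = α) (hβ : g • β = β) : g ∈ D := by
  by_contra hg
  have h1 := (derangement_subgroup_main D hD).2 g hg
  have h2 := (Nat.card_eq_one_iff_unique.1 h1).1
  have h3 : (⟨α, hα⟩ : fixedBy Ω g) = ⟨β, hβ⟩ := Subsingleton.elim _ _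
  exact hαβ (congrArg Subtype.val h3)

/-- The index of a subgroup containing all derangements of a finite transitive group divides
`n - 1`. -/
theorem derangement_index_dvd [Finite G] [Finite Ω] [IsPretransitive G Ω] (D : Subgroup G)
    (hD : ∀ g : G, (∀ ω : Ω, g • ω ≠ ω) → g ∈ D) : D.index ∣ Nat.card Ω - 1 := by
  rcases isEmpty_or_nonempty Ω with hΩ | ⟨⟨α⟩⟩
  · simp
  haveI := (derangement_subgroup_main D hD).1
  rw [← relIndex_stabilizer_eq_index D α]
  have h1 : Nat.card (SubMulAction.ofStabilizer G α) + 1 = Nat.card Ω :=
    SubMulAction.nat_card_ofStabilizer_add_one_eq G α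
  have h2 : Nat.card Ω - 1 = Nat.card (SubMulAction.ofStabilizer G α) := by omega
  rw [h2]
  apply relIndex_stabilizer_dvd_natCard
  intro g hg y hy hgy
  exact mem_of_fixes_two D hD g α y (Ne.symm ((SubMulAction.mem_ofStabilizer_iff G α).1 hy)) hg hgy

/-- The subgroup generated by the derangements is normal. -/
theorem closure_derangements_normal :
    (Subgroup.closure {g : G | ∀ ω : Ω, g • ω ≠ ω}).Normal := by
  refine ⟨fun n hn g => ?_⟩
  induction hn using Subgroup.closure_induction with
  | mem x hx =>
    apply Subgroup.subset_closure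
    intro ω h
    apply hx (g⁻¹ • ω)
    have := congrArg (fun z => g⁻¹ • z) h
    simpa [mul_smul] using this
  | one => simp
  | mul x y _ _ hx hy =>
    have : g * (x * y) * g⁻¹ = (g * x * g⁻¹) * (g * y * g⁻¹) := by group
    rw [this]
    exact Subgroup.mul_mem _ hx hy
  | inv x _ hx =>
    have : g * x⁻¹ * g⁻¹ = (g * x * g⁻¹)⁻¹ := by group
    rw [this]
    exact Subgroup.inv_mem _ hx

end Index

end Cfsg.Agent.Lib.helper63
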