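import Mathlib
import Cfsg.Agent.Lib.helper63.Derange

/-!
Transitive groups in which all derangements are involutions: every non-identity element with
a fixed point has exactly one fixed point (a counting argument via the Cameron–Cohen identity).
-/

set_option autoImplicit false
set_option linter.style.haveILetI false
set_option linter.unusedSectionVars false

namespace Cfsg.Agent.Lib.helper63

open MulAction

section Inv

variable {G Ω : Type*} [Group G] [MulAction G Ω] [Fintype G] [Fintype Ω] [DecidableEq Ω]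

/-- number of fixed points of `g` -/
def fixN (Ω : Type*) [MulAction G Ω] [Fintype Ω] [DecidableEq Ω] (g : G) : ℕ :=
  (Finset.univ.filter (fun ω : Ω => g • ω = ω)).card

/-- size of the two-point stabilizer -/
def stab2 (G : Type*) [Group G] [MulAction G Ω] [Fintype G] (α β : Ω) : ℕ :=
  (Finset.univ.filter (fun g : G => g • α = α ∧ g • β = β)).card

theorem fixN_eq_natCard (g : G) : fixN Ω g = Nat.card (fixedBy Ω g) := by
  rw [Nat.card_eq_fintype_card, Fintype.card_subtype]
  rfl

theorem sum_fixN : ∑ g : G, fixN Ω g = ∑ α : Ω, stab2 G α α := by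
  unfold fixN stab2
  simp only [Finset.card_filter]
  rw [Finset.sum_comm]
  refine Finset.sum_congr rfl (fun α _ => Finset.sum_congr rfl (fun g _ => ?_))
  simp

theorem sum_fixN_sq : ∑ g : G, fixN Ω g * fixN Ω g = ∑ α : Ω, ∑ β : Ω, stab2 G α β := by
  unfold fixN stab2
  simp only [Finset.card_filter]
  simp only [Finset.sum_mul_sum]
  rw [Finset.sum_comm]
  refine Finset.sum_congr rfl (fun α _ => ?_)
  rw [Finset.sum_comm]
  refine Finset.sum_congr rfl (fun β _ => Finset.sum_congr rfl (fun g _ => ?_))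
  by_cases h1 : g • α = α <;> by_cases h2 : g • β = β <;> simp [h1, h2]

theorem sum_fixN_eq_card [IsPretransitive G Ω] [Nonempty Ω] :
    ∑ g : G, fixN Ω g = Fintype.card G := by
  have h := sum_natCard_fixedBy (G := G) (Ω := Ω)
  rw [natCard_orbits_eq_one, one_mul, Nat.card_eq_fintype_card] at h
  rw [← h]
  exact Finset.sum_congr rfl (fun g _ => fixN_eq_natCard g)

/-- the number of derangement-involutions carrying `α` to `β` is at most the size of the
two-point stabilizer -/
theorem card_der_le_stab2 (hinv : ∀ g : G, (∀ ω : Ω, g • ω ≠ ω) → g * g = 1) (α β : Ω) :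
    (Finset.univ.filter (fun t : G => (∀ ω : Ω, t • ω ≠ ω) ∧ t • α = β)).card ≤ stab2 G α β := by
  rcases (Finset.univ.filter (fun t : G => (∀ ω : Ω, t • ω ≠ ω) ∧ t • α = β)).eq_empty_or_nonempty
    with h | ⟨t0, ht0⟩
  · rw [h]; simp
  · rw [Finset.mem_filter] at ht0
    obtain ⟨-, ht0d, ht0α⟩ := ht0
    have ht0sq := hinv t0 ht0d
    have ht0β : t0 • β = α := by
      rw [← ht0α, ← mul_smul, ht0sq, one_smul]
    unfold stab2
    apply Finset.card_le_card_of_injOn (fun t => t0 * t)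
    · intro t ht
      rw [Finset.mem_coe, Finset.mem_filter] at ht
      obtain ⟨-, htd, htα⟩ := ht
      have htsq := hinv t htd
      have htβ : t • β = α := by
        rw [← htα, ← mul_smul, htsq, one_smul]
      rw [Finset.mem_coe, Finset.mem_filter]
      refine ⟨Finset.mem_univ _, ?_, ?_⟩
      · rw [mul_smul, htα, ht0β]
      · rw [mul_smul, htβ, ht0α]
    · intro t _ t' _ h
      exact mul_left_cancel h

theorem card_der_add_le (hinv : ∀ g : G, (∀ ω : Ω, g • ω ≠ ω) → g * g = 1) (α : Ω) :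
    (Finset.univ.filter (fun t : G => ∀ ω : Ω, t • ω ≠ ω)).card + stab2 G α α ≤
      ∑ β : Ω, stab2 G α β := by
  have h1 : (Finset.univ.filter (fun t : G => ∀ ω : Ω, t • ω ≠ ω)).card =
      ∑ β : Ω, ((Finset.univ.filter (fun t : G => ∀ ω : Ω, t • ω ≠ ω)).filter
        (fun t => t • α = β)).card :=
    Finset.card_eq_sum_card_fiberwise (fun t _ => Finset.mem_coe.2 (Finset.mem_univ _))
  have h2 : ∀ β : Ω, ((Finset.univ.filter (fun t : G => ∀ ω : Ω, t • ω ≠ ω)).filter
        (fun t => t • α = β)).card ≤ if β = α then 0 else stab2 G α β := by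
    intro β
    split_ifs with hβ
    · rw [Nat.le_zero, Finset.card_eq_zero, Finset.filter_eq_empty_iff]
      intro t ht
      rw [Finset.mem_filter] at ht
      rw [hβ]
      exact ht.2 α
    · rw [Finset.filter_filter]
      exact card_der_le_stab2 hinv α β
  have h3 : ∑ β : Ω, (if β = α then 0 else stab2 G α β) + stab2 G α α = ∑ β : Ω, stab2 G α β := by
    rw [← Finset.sum_erase_add _ _ (Finset.mem_univ α), ← Finset.sum_erase_add _ _ (Finset.mem_univ α)]
    simp only [if_true, add_zero]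
    congr 1
    refine Finset.sum_congr rfl (fun β hβ => ?_)
    rw [if_neg (Finset.ne_of_mem_erase hβ)]
  rw [h1, ← h3]
  exact Nat.add_le_add_right (Finset.sum_le_sum (fun β _ => h2 β)) _

theorem card_der_mul_add_le (hinv : ∀ g : G, (∀ ω : Ω, g • ω ≠ ω) → g * g = 1) :
    Fintype.card Ω * (Finset.univ.filter (fun t : G => ∀ ω : Ω, t • ω ≠ ω)).card +
      ∑ g : G, fixN Ω g ≤ ∑ g : G, fixN Ω g * fixN Ω g := by
  rw [sum_fixN, sum_fixN_sq]
  have h := Finset.sum_le_sum (fun α (_ : α ∈ (Finset.univ : Finset Ω)) => card_der_add_le hinv α)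
  rw [Finset.sum_add_distrib, Finset.sum_const, Finset.card_univ, smul_eq_mul] at h
  exact h

/-- In a finite transitive group all of whose derangements are involutions, an element with a
fixed point fixes exactly one point or all points. -/
theorem fixN_eq_one_or_card [IsPretransitive G Ω]
    (hinv : ∀ g : G, (∀ ω : Ω, g • ω ≠ ω) → g * g = 1) (g : G) (hg : ∃ ω : Ω, g • ω = ω) :
    fixN Ω g = 1 ∨ fixN Ω g = Fintype.card Ω := by
  obtain ⟨ω0, hω0⟩ := hg
  haveI : Nonempty Ω := ⟨ω0⟩
  set n := Fintype.card Ω with hn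
  set Δ := Finset.univ.filter (fun t : G => ∀ ω : Ω, t • ω ≠ ω) with hΔ
  have hB : ∑ g : G, fixN Ω g = Fintype.card G := sum_fixN_eq_card
  have h6 : n * Δ.card + ∑ g : G, fixN Ω g ≤ ∑ g : G, fixN Ω g * fixN Ω g :=
    card_der_mul_add_le hinv
  -- Cameron–Cohen
  have hCC : ∑ g : G, ((fixN Ω g : ℤ) - 1) * ((n : ℤ) - fixN Ω g) =
      (∑ g : G, (fixN Ω g : ℤ)) - ∑ g : G, (fixN Ω g : ℤ) * fixN Ω g := by
    have h1 : ∀ g : G, ((fixN Ω g : ℤ) - 1) * ((n : ℤ) - fixN Ω g) =
        ((n : ℤ) + 1) * fixN Ω g - (fixN Ω g : ℤ) * fixN Ω g - n := fun g => by ring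
    simp only [h1]
    rw [Finset.sum_sub_distrib, Finset.sum_sub_distrib, ← Finset.mul_sum, Finset.sum_const,
      Finset.card_univ, nsmul_eq_mul]
    have hB' : ∑ g : G, (fixN Ω g : ℤ) = Fintype.card G := by exact_mod_cast hB
    rw [hB']
    ring
  have hsplit : ∑ g : G, ((fixN Ω g : ℤ) - 1) * ((n : ℤ) - fixN Ω g) =
      ∑ g ∈ Δ, ((fixN Ω g : ℤ) - 1) * ((n : ℤ) - fixN Ω g) +
      ∑ g ∈ Finset.univ.filter (fun t : G => ¬ ∀ ω : Ω, t • ω ≠ ω),
        ((fixN Ω g : ℤ) - 1) * ((n : ℤ) - fixN Ω g) :=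
    (Finset.sum_filter_add_sum_filter_not _ _ _).symm
  have hΔsum : ∑ g ∈ Δ, ((fixN Ω g : ℤ) - 1) * ((n : ℤ) - fixN Ω g) = -((n : ℤ) * Δ.card) := by
    have : ∀ g ∈ Δ, ((fixN Ω g : ℤ) - 1) * ((n : ℤ) - fixN Ω g) = -(n : ℤ) := by
      intro g hg
      rw [hΔ, Finset.mem_filter] at hg
      have : fixN Ω g = 0 := by
        unfold fixN
        rw [Finset.card_eq_zero, Finset.filter_eq_empty_iff]
        intro ω _
        exact hg.2 ω
      rw [this]; simp
    rw [Finset.sum_congr rfl this, Finset.sum_const, nsmul_eq_mul]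
    ring
  have hnonneg : ∀ g ∈ Finset.univ.filter (fun t : G => ¬ ∀ ω : Ω, t • ω ≠ ω),
      0 ≤ ((fixN Ω g : ℤ) - 1) * ((n : ℤ) - fixN Ω g) := by
    intro g hg
    rw [Finset.mem_filter] at hg
    have hg2 := hg.2
    push Not at hg2
    obtain ⟨ω, hω⟩ := hg2
    have h1 : 1 ≤ fixN Ω g := by
      unfold fixN
      exact Finset.card_pos.2 ⟨ω, by simp [hω]⟩
    have h2 : fixN Ω g ≤ n := by
      unfold fixN
      exact Finset.card_le_univ _
    have h1' : (0 : ℤ) ≤ (fixN Ω g : ℤ) - 1 := by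
      have : (1 : ℤ) ≤ fixN Ω g := by exact_mod_cast h1
      linarith
    have h2' : (0 : ℤ) ≤ (n : ℤ) - fixN Ω g := by
      have : (fixN Ω g : ℤ) ≤ n := by exact_mod_cast h2
      linarith
    exact mul_nonneg h1' h2'
  have hle : ∑ g ∈ Finset.univ.filter (fun t : G => ¬ ∀ ω : Ω, t • ω ≠ ω),
      ((fixN Ω g : ℤ) - 1) * ((n : ℤ) - fixN Ω g) ≤ 0 := by
    have h6' : (n : ℤ) * Δ.card + ∑ g : G, (fixN Ω g : ℤ) ≤ ∑ g : G, (fixN Ω g : ℤ) * fixN Ω g := by
      exact_mod_cast h6
    have := hCC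
    rw [hsplit, hΔsum] at this
    linarith
  have hzero := (Finset.sum_eq_zero_iff_of_nonneg hnonneg).1
    (le_antisymm hle (Finset.sum_nonneg hnonneg))
  have hg0 := hzero g (by simp only [Finset.mem_filter, Finset.mem_univ, true_and]; push Not; exact ⟨ω0, hω0⟩)
  rcases mul_eq_zero.1 hg0 with h | h
  · left
    have : (fixN Ω g : ℤ) = 1 := by linarith
    exact_mod_cast this
  · right
    have : (fixN Ω g : ℤ) = n := by linarith
    exact_mod_cast this

end Inv

end Cfsg.Agent.Lib.helper63
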