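import Mathlib
import Cfsg.Agent.Lib.helper63.Elusive5

set_option autoImplicit false

namespace Cfsg.Agent.Lib.helper63.Elusive

open Module Polynomial

universe u

theorem mod_sub (a b i : ℕ) (hb : b ≤ a) (h : b % i ≤ a % i) : (a - b) % i = a % i - b % i := by
  rcases Nat.eq_zero_or_pos i with h0 | hi
  · subst h0; simp
  have h1 : a = i * (a / i) + a % i := (Nat.div_add_mod a i).symm
  have h2 : b = i * (b / i) + b % i := (Nat.div_add_mod b i).symm
  have h3 : a % i < i := Nat.mod_lt _ hi
  have h4 : b / i ≤ a / i := Nat.div_le_div_right hb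
  have h5 : i * (b / i) ≤ i * (a / i) := Nat.mul_le_mul_left i h4
  have h6 : i * (a / i - b / i) = i * (a / i) - i * (b / i) := Nat.mul_sub i _ _
  have h7 : a - b = (a % i - b % i) + i * (a / i - b / i) := by omega
  rw [h7, Nat.add_mul_mod_self_left, Nat.mod_eq_of_lt (by omega)]

section Count

variable {F V : Type*} [Field F] [Fintype F] [AddCommGroup V] [Module F V] [Finite V]

/-- The cancelled counting identity for `d`-subspaces. -/
theorem card_subspaces_mul' (d : ℕ) (hd : d ≤ finrank F V) :
    Nat.card {W : Submodule F V // finrank F W = d} *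
        ∏ j ∈ Finset.range d, (Fintype.card F ^ (d - j) - 1) =
      ∏ j ∈ Finset.range d, (Fintype.card F ^ (finrank F V - j) - 1) := by
  have h1 := card_subspaces_mul (F := F) (V := V) d hd
  rw [prod_sub_eq _ _ d le_rfl, prod_sub_eq _ _ d hd] at h1
  have hq : 0 < Fintype.card F := Fintype.card_pos
  have hpos : 0 < ∏ i : Fin d, Fintype.card F ^ (i : ℕ) :=
    Finset.prod_pos (fun i _ => pow_pos hq _)
  rw [← Fin.prod_univ_eq_prod_range (fun j => Fintype.card F ^ (d - j) - 1) d,
    ← Fin.prod_univ_eq_prod_range (fun j => Fintype.card F ^ (finrank F V - j) - 1) d]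
  apply Nat.eq_of_mul_eq_mul_left hpos
  rw [← h1]; ring

omit [Field F] [Fintype F] [AddCommGroup V] [Module F V] [Finite V] in
theorem prod_split (q n a b : ℕ) :
    ∏ j ∈ Finset.range (a + b), (q ^ (n - j) - 1) =
      (∏ j ∈ Finset.range a, (q ^ (n - j) - 1)) * ∏ j ∈ Finset.range b, (q ^ (n - a - j) - 1) := by
  rw [Finset.prod_range_add]
  congr 1
  apply Finset.prod_congr rfl
  intro j _
  rw [Nat.sub_add_eq]

omit [Field F] [Fintype F] [AddCommGroup V] [Module F V] [Finite V] in
theorem prod_pos' (q d : ℕ) (hq : 2 ≤ q) : 0 < ∏ j ∈ Finset.range d, (q ^ (d - j) - 1) := by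
  apply Finset.prod_pos
  intro j hj
  have h1 : j < d := Finset.mem_range.mp hj
  have h2 : 2 ≤ q ^ (d - j) := by
    calc 2 ≤ q := hq
      _ = q ^ 1 := (pow_one q).symm
      _ ≤ q ^ (d - j) := Nat.pow_le_pow_right (by omega) (by omega)
  omega

/-- Dual form: a prime dividing the number of `d`-subspaces divides some `q^(n-j) - 1` with
`j < n - d`. -/
theorem exists_dvd_of_dvd_card_subspaces' (d : ℕ) (hd : d ≤ finrank F V) (r : ℕ) (hr : r.Prime)
    (h : r ∣ Nat.card {W : Submodule F V // finrank F W = d}) :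
    ∃ j, j < finrank F V - d ∧ r ∣ Fintype.card F ^ (finrank F V - j) - 1 := by
  have hq : 2 ≤ Fintype.card F := Fintype.one_lt_card
  have h1 := card_subspaces_mul' (F := F) (V := V) d hd
  obtain ⟨e, he⟩ : ∃ e, finrank F V = d + e := ⟨finrank F V - d, by omega⟩
  have h2 := prod_split (Fintype.card F) (finrank F V) d e
  have h3 := prod_split (Fintype.card F) (finrank F V) e d
  rw [← he] at h2
  rw [add_comm e d, ← he] at h3
  have he' : finrank F V - d = e := by omega
  have hd' : finrank F V - e = d := by omega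
  rw [he'] at h2
  rw [hd'] at h3
  have h4 : Nat.card {W : Submodule F V // finrank F W = d} *
      ∏ j ∈ Finset.range e, (Fintype.card F ^ (e - j) - 1) =
      ∏ j ∈ Finset.range e, (Fintype.card F ^ (finrank F V - j) - 1) := by
    apply Nat.eq_of_mul_eq_mul_right (prod_pos' (Fintype.card F) d hq)
    rw [← h3, h2, ← h1]; ring
  have h5 : r ∣ ∏ j ∈ Finset.range e, (Fintype.card F ^ (finrank F V - j) - 1) := by
    rw [← h4]; exact Dvd.dvd.mul_right h _
  obtain ⟨j, hj, hjd⟩ := (Prime.dvd_finsetProd_iff hr.prime _).mp h5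
  exact ⟨j, by rw [he']; exact Finset.mem_range.mp hj, hjd⟩

/-- Counting flags `U ≤ W`. -/
theorem card_flags_mul (m d : ℕ) (hmd : m ≤ d) :
    Nat.card {P : Submodule F V × Submodule F V //
        P.1 ≤ P.2 ∧ finrank F P.1 = m ∧ finrank F P.2 = d} *
        ∏ j ∈ Finset.range m, (Fintype.card F ^ (m - j) - 1) =
      Nat.card {W : Submodule F V // finrank F W = d} *
        ∏ j ∈ Finset.range m, (Fintype.card F ^ (d - j) - 1) := by
  classical
  have : Fintype {W : Submodule F V // finrank F W = d} := Fintype.ofFinite _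
  have e1 : {P : Submodule F V × Submodule F V //
        P.1 ≤ P.2 ∧ finrank F P.1 = m ∧ finrank F P.2 = d} ≃
      Σ W : {W : Submodule F V // finrank F W = d},
        {U : Submodule F V // U ≤ W.1 ∧ finrank F U = m} :=
    { toFun := fun P => ⟨⟨P.1.2, P.2.2.2⟩, ⟨P.1.1, P.2.1, P.2.2.1⟩⟩
      invFun := fun s => ⟨(s.2.1, s.1.1), s.2.2.1, s.2.2.2, s.1.2⟩
      left_inv := fun P => rfl
      right_inv := fun s => rfl }
  have key : ∀ W : {W : Submodule F V // finrank F W = d},
      Nat.card {U : Submodule F V // U ≤ W.1 ∧ finrank F U = m} *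
        ∏ j ∈ Finset.range m, (Fintype.card F ^ (m - j) - 1) =
        ∏ j ∈ Finset.range m, (Fintype.card F ^ (d - j) - 1) := by
    intro W
    have e2 : {U : Submodule F V // U ≤ W.1 ∧ finrank F U = m} ≃
        {U' : Submodule F W.1 // finrank F U' = m} :=
      { toFun := fun U => ⟨Submodule.comap W.1.subtype U.1, by
          rw [(Submodule.comapSubtypeEquivOfLe U.2.1).finrank_eq]; exact U.2.2⟩
        invFun := fun U' => ⟨Submodule.map W.1.subtype U'.1, Submodule.map_subtype_le W.1 U'.1, by
          rw [Submodule.finrank_map_subtype_eq]; exact U'.2⟩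
        left_inv := fun U => by
          apply Subtype.ext
          show Submodule.map W.1.subtype (Submodule.comap W.1.subtype U.1) = U.1
          rw [Submodule.map_comap_subtype]
          exact inf_eq_right.mpr U.2.1
        right_inv := fun U' => by
          apply Subtype.ext
          show Submodule.comap W.1.subtype (Submodule.map W.1.subtype U'.1) = U'.1
          exact Submodule.comap_map_eq_of_injective (Submodule.injective_subtype W.1) U'.1 }
    rw [Nat.card_congr e2]
    have h1 := card_subspaces_mul' (F := F) (V := W.1) m (by rw [W.2]; exact hmd)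
    rw [W.2] at h1
    exact h1
  rw [Nat.card_congr e1, Nat.card_sigma, Finset.sum_mul]
  simp only [key, Finset.sum_const, Finset.card_univ, smul_eq_mul]
  rw [Nat.card_eq_fintype_card]

/-- A prime dividing the number of `(m, n-m)`-flags. -/
theorem exists_dvd_of_dvd_card_flags (m : ℕ) (hm : 2 * m ≤ finrank F V) (r : ℕ) (hr : r.Prime)
    (h : r ∣ Nat.card {P : Submodule F V × Submodule F V //
        P.1 ≤ P.2 ∧ finrank F P.1 = m ∧ finrank F P.2 = finrank F V - m}) :
    (∃ j, j < m ∧ r ∣ Fintype.card F ^ (finrank F V - j) - 1) ∨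
      (∃ j, j < m ∧ r ∣ Fintype.card F ^ (finrank F V - m - j) - 1) := by
  have hq : 2 ≤ Fintype.card F := Fintype.one_lt_card
  have h1 := card_flags_mul (F := F) (V := V) m (finrank F V - m) (by omega)
  have h2 : r ∣ Nat.card {W : Submodule F V // finrank F W = finrank F V - m} *
      ∏ j ∈ Finset.range m, (Fintype.card F ^ (finrank F V - m - j) - 1) := by
    rw [← h1]; exact Dvd.dvd.mul_right h _
  rcases (Nat.Prime.dvd_mul hr).mp h2 with h3 | h3
  · left
    obtain ⟨j, hj, hjd⟩ := exists_dvd_of_dvd_card_subspaces' (F := F) (V := V)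
      (finrank F V - m) (by omega) r hr h3
    exact ⟨j, by omega, hjd⟩
  · right
    obtain ⟨j, hj, hjd⟩ := (Prime.dvd_finsetProd_iff hr.prime _).mp h3
    exact ⟨j, Finset.mem_range.mp hj, hjd⟩

end Count

end Cfsg.Agent.Lib.helper63.Elusive
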