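import Mathlib
import Cfsg.Agent.Lib.helper63.Elusive6

set_option autoImplicit false

namespace Cfsg.Agent.Lib.helper63.Elusive

open Module Polynomial

universe u

section Bad

variable {F : Type*} [Field F] [Fintype F]

/-- For `f^r = 1` and an invariant `W`, `ord_r(q)` divides `dim W - dim (W ∩ Fix f)`. -/
theorem orderOf_dvd_finrank_sub_inf {V : Type*} [AddCommGroup V] [Module F V] [Finite V]
    (r : ℕ) [Fact r.Prime] (hq : ((Fintype.card F : ℕ) : ZMod r) ≠ 0)
    (f : V →ₗ[F] V) (hf : f ^ r = 1) (W : Submodule F V) (hW : ∀ w ∈ W, f w ∈ W) :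
    orderOf ((Fintype.card F : ℕ) : ZMod r) ∣
      finrank F W - finrank F ↥(W ⊓ LinearMap.ker (f - 1)) := by
  have hres : (f.restrict hW) ^ r = 1 := by
    rw [Module.End.pow_restrict]
    apply LinearMap.ext
    intro w
    apply Subtype.ext
    simp [hf]
  have h5 := orderOf_dvd_finrank_sub r hq (f.restrict hW) hres
  have h6 : (LinearMap.ker (f.restrict hW - 1)).map W.subtype = W ⊓ LinearMap.ker (f - 1) := by
    ext v
    rw [Submodule.mem_inf, Submodule.mem_map]
    constructor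
    · rintro ⟨w, hw, rfl⟩
      rw [LinearMap.mem_ker, LinearMap.sub_apply, sub_eq_zero] at hw
      refine ⟨w.2, ?_⟩
      rw [LinearMap.mem_ker, LinearMap.sub_apply, sub_eq_zero]
      exact congrArg Subtype.val hw
    · rintro ⟨hv1, hv2⟩
      rw [LinearMap.mem_ker, LinearMap.sub_apply, sub_eq_zero] at hv2
      refine ⟨⟨v, hv1⟩, ?_, rfl⟩
      rw [LinearMap.mem_ker, LinearMap.sub_apply, sub_eq_zero]
      exact Subtype.ext hv2
  rw [← h6, Submodule.finrank_map_subtype_eq]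
  exact h5

/-- The bad element when `r ∣ q - 1`: an `x ∈ SL_n` with `x^r` a non-`r`-th-power scalar. -/
theorem bad_elt_one (n : ℕ) (hn : 2 ≤ n) (r : ℕ) [Fact r.Prime]
    (hdvd : r ∣ Fintype.card F - 1)
    (hneg : ¬ (padicValNat r n ≤ padicValNat r (Fintype.card F - 1) ∧
      (r = 2 → Even n → Fintype.card F % 4 = 1))) :
    ∃ x : Matrix (Fin n) (Fin n) F, x.det = 1 ∧ (∃ c : F, x ^ r = c • 1) ∧
      (∀ d : F, x ≠ d • 1) ∧
      ∀ W : Submodule F (Fin n → F), (∀ w ∈ W, Matrix.toLin' x w ∈ W) → r ∣ finrank F W := by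
  classical
  have hr : r.Prime := Fact.out
  push Not at hneg
  obtain ⟨c, k, hc, hnk, hdetc⟩ : ∃ (c : F) (k : ℕ), (∀ d : F, d ^ r ≠ c) ∧ n = r * k ∧
      (-1 : F) ^ n * (-c) ^ k = 1 := by
    by_cases hv : padicValNat r n ≤ padicValNat r (Fintype.card F - 1)
    · obtain ⟨h2, hev, hq4⟩ := hneg hv
      obtain ⟨k, hk⟩ := hev
      refine ⟨-1, k, ?_, by rw [h2, hk]; ring, ?_⟩
      · intro d hd
        have hodd : Fintype.card F % 2 = 1 := by
          rw [h2] at hdvd
          have := Fintype.card_pos (α := F)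
          omega
        have hns : ¬ IsSquare (-1 : F) := by
          rw [FiniteField.isSquare_neg_one_iff]; omega
        apply hns
        exact ⟨d, by rw [← hd, h2, pow_two]⟩
      · rw [neg_neg, one_pow, mul_one]
        exact Even.neg_one_pow ⟨k, hk⟩
    · push Not at hv
      obtain ⟨c, hc1, hc2⟩ := exists_non_power (F := F) r hdvd
      have hn0 : n ≠ 0 := by omega
      have h3 : r ^ (padicValNat r (Fintype.card F - 1) + 1) ∣ n :=
        (padicValNat_dvd_iff_le hn0).mpr hv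
      obtain ⟨t, ht⟩ := h3
      have he1 : 1 ≤ padicValNat r (Fintype.card F - 1) :=
        one_le_padicValNat_of_dvd card_sub_one_ne_zero hdvd
      obtain ⟨e, he⟩ : ∃ e, e = padicValNat r (Fintype.card F - 1) := ⟨_, rfl⟩
      rw [← he] at hc2 ht he1
      have hnk : n = r * (r ^ e * t) := by rw [ht, pow_succ]; ring
      refine ⟨c, r ^ e * t, hc1, hnk, ?_⟩
      have hck : c ^ (r ^ e * t) = 1 := by rw [pow_mul, hc2, one_pow]
      rcases hr.eq_two_or_odd' with h | h
      · have hkev : Even (r ^ e * t) := by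
          rw [h]
          exact Even.mul_right ((Nat.even_pow).mpr ⟨even_two, by omega⟩) t
        have hnev : Even n := by
          rw [hnk, h]; exact even_two_mul _
        rw [hnev.neg_one_pow, one_mul, hkev.neg_pow, hck]
      · have h4 : (-1 : F) ^ n * (-c) ^ (r ^ e * t) = c ^ (r ^ e * t) := by
          rw [hnk, pow_mul, ← mul_pow, h.neg_one_pow]; simp
        rw [h4, hck]
  have hirr : Irreducible (X ^ r - C c : F[X]) := X_pow_sub_C_irreducible_of_prime hr hc
  obtain ⟨f, hf⟩ := exists_end_pow_eq (F := F) r hr.ne_zero c k n hnk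
  have hx : (LinearMap.toMatrix' f) ^ r = c • (1 : Matrix (Fin n) (Fin n) F) :=
    toMatrix'_pow_eq f r c hf
  obtain ⟨k', hk', hdet'⟩ := det_of_pow_eq r hr.ne_zero c hirr _ hx
  rw [Fintype.card_fin] at hk' hdet'
  have hkk : k' = k := Nat.eq_of_mul_eq_mul_left hr.pos (hk'.symm.trans hnk)
  rw [hkk, hdetc] at hdet'
  refine ⟨LinearMap.toMatrix' f, hdet', ⟨c, hx⟩, ?_, ?_⟩
  · intro d hd
    rw [hd, _root_.smul_pow, one_pow] at hx
    have h0 := congrFun (congrFun hx ⟨0, by omega⟩) ⟨0, by omega⟩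
    simp at h0
    exact hc d h0
  · intro W hW
    rw [Matrix.toLin'_toMatrix'] at hW
    exact dvd_finrank_of_invariant r hr.ne_zero c hirr f hf W hW

/-- The bad element when `ord_r(q) ≥ 2`: an `x ∈ SL_n` of order `r` with small fixed space. -/
theorem bad_elt_two {p : ℕ} [Fact p.Prime] [CharP F p] (n : ℕ) (hn : 2 ≤ n) (r : ℕ)
    [Fact r.Prime] (hrp : r ≠ p) (hi2 : 2 ≤ orderOf ((Fintype.card F : ℕ) : ZMod r))
    (hin : orderOf ((Fintype.card F : ℕ) : ZMod r) ≤ n) :
    ∃ x : Matrix (Fin n) (Fin n) F, x.det = 1 ∧ x ^ r = (1 : F) • 1 ∧ (∀ d : F, x ≠ d • 1) ∧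
      (Matrix.toLin' x) ^ r = 1 ∧
      finrank F (LinearMap.ker (Matrix.toLin' x - 1)) ≤
        n % orderOf ((Fintype.card F : ℕ) : ZMod r) := by
  classical
  have hr : r.Prime := Fact.out
  have hfin : finrank F (Fin n → F) = n := by simp
  have hq0 := natCast_card_ne_zero (F := F) r hrp
  obtain ⟨i, hi⟩ : ∃ i, i = orderOf ((Fintype.card F : ℕ) : ZMod r) := ⟨_, rfl⟩
  rw [← hi] at hi2 hin ⊢
  have hnd : ¬ r ∣ Fintype.card F - 1 := by
    intro h
    have h1 := (dvd_card_sub_one_iff r).mpr h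
    omega
  obtain ⟨g, hg1, hg2⟩ := exists_block (F := F) r hq0 i hi (by omega)
  obtain ⟨f, hf1, hf2⟩ := exists_end_order (F := F) r i (n / i) (n % i) n
    (Nat.div_add_mod n i).symm g hg1 hg2
  have hmodlt : n % i < i := Nat.mod_lt _ (by omega)
  have hx : (LinearMap.toMatrix' f) ^ r = (1 : F) • (1 : Matrix (Fin n) (Fin n) F) :=
    toMatrix'_pow_eq f r 1 (by rw [hf1, one_smul])
  have hdet : (LinearMap.toMatrix' f).det = 1 := by
    apply eq_one_of_pow_eq_one r hnd
    rw [← Matrix.det_pow, hx, one_smul, Matrix.det_one]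
  refine ⟨LinearMap.toMatrix' f, hdet, hx, ?_, ?_, ?_⟩
  · intro d hd
    have hd1 : d = 1 := by
      apply eq_one_of_pow_eq_one r hnd
      rw [hd, _root_.smul_pow, one_pow] at hx
      have h0 := congrFun (congrFun hx ⟨0, by omega⟩) ⟨0, by omega⟩
      simpa using h0
    rw [hd1, one_smul] at hd
    have hf_one : f = 1 := by
      have h1 := congrArg Matrix.toLin' hd
      rw [Matrix.toLin'_toMatrix', Matrix.toLin'_one] at h1
      exact h1
    rw [hf_one, sub_self, LinearMap.ker_zero, finrank_top, hfin] at hf2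
    omega
  · rw [Matrix.toLin'_toMatrix']; exact hf1
  · rw [Matrix.toLin'_toMatrix']; exact hf2

end Bad

section Flags

variable {F : Type*} [Field F] [Fintype F]

/-- Invariant flags for `f^r = 1`. -/
theorem exists_flag_of_order (p f' : ℕ) [Fact p.Prime] (hF : Fintype.card F = p ^ f')
    (r : ℕ) [Fact r.Prime] (hpr : p.Coprime r)
    (V : Type u) [AddCommGroup V] [Module F V] [Finite V] (f : V →ₗ[F] V) (hf : f ^ r = 1)
    (m : ℕ) (hm : 2 * m ≤ finrank F V)
    (h1 : m % orderOf ((Fintype.card F : ℕ) : ZMod r) ≤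
      finrank F V % orderOf ((Fintype.card F : ℕ) : ZMod r))
    (h2 : (finrank F V - 2 * m) % orderOf ((Fintype.card F : ℕ) : ZMod r) ≤
      (finrank F V - m) % orderOf ((Fintype.card F : ℕ) : ZMod r)) :
    ∃ U W : Submodule F V, U ≤ W ∧ finrank F U = m ∧ finrank F W = finrank F V - m ∧
      (∀ u ∈ U, f u ∈ U) ∧ (∀ w ∈ W, f w ∈ W) := by
  obtain ⟨U, hU1, hU2⟩ := exists_invariant_of_order p f' hF r hpr m V f hf (by omega) h1
  have hUc : U ≤ U.comap f := fun z hz => hU2 z hz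
  have hq : finrank F (V ⧸ U) + finrank F U = finrank F V :=
    Submodule.finrank_quotient_add_finrank U
  have hfb : (U.mapQ U f hUc) ^ r = 1 := mapQ_pow_eq_one f U hUc r hf
  have hfinq : Finite (V ⧸ U) := Finite.of_surjective _ (Submodule.Quotient.mk_surjective U)
  have hq' : finrank F (V ⧸ U) = finrank F V - m := by omega
  obtain ⟨Wb, hWb1, hWb2⟩ := exists_invariant_of_order p f' hF r hpr (finrank F V - 2 * m)
    (V ⧸ U) (U.mapQ U f hUc) hfb (by omega) (by rw [hq']; exact h2)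
  obtain ⟨W, hUW, hW1, hW2⟩ := lift_invariant f U hUc Wb hWb2
  exact ⟨U, W, hUW, hU1, by rw [hW1, hWb1, hU1]; omega, hU2, hW2⟩

omit [Fintype F] in
/-- Invariant flags for `f^r = c`, `X^r - c` irreducible. -/
theorem exists_flag_of_pow_eq (r : ℕ) (hr : r ≠ 0) (c : F)
    (hirr : Irreducible (X ^ r - C c : F[X]))
    (V : Type u) [AddCommGroup V] [Module F V] [Module.Finite F V] (f : V →ₗ[F] V)
    (hf : f ^ r = c • 1) (k k' : ℕ) (hn : finrank F V = r * k) (hm : 2 * k' ≤ k) :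
    ∃ U W : Submodule F V, U ≤ W ∧ finrank F U = r * k' ∧
      finrank F W = finrank F V - r * k' ∧ (∀ u ∈ U, f u ∈ U) ∧ (∀ w ∈ W, f w ∈ W) := by
  obtain ⟨k'', hk''⟩ : ∃ k'', k = 2 * k' + k'' := ⟨k - 2 * k', by omega⟩
  have hn' : finrank F V = 2 * (r * k') + r * k'' := by rw [hn, hk'']; ring
  obtain ⟨U, hU1, hU2⟩ := exists_invariant_of_pow_eq r hr c hirr k' V f hf (by omega)
  have hUc : U ≤ U.comap f := fun z hz => hU2 z hz
  have hq : finrank F (V ⧸ U) + finrank F U = finrank F V :=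
    Submodule.finrank_quotient_add_finrank U
  have hfb : (U.mapQ U f hUc) ^ r = c • 1 := mapQ_pow_eq_smul f U hUc r c hf
  obtain ⟨Wb, hWb1, hWb2⟩ := exists_invariant_of_pow_eq r hr c hirr k'' (V ⧸ U)
    (U.mapQ U f hUc) hfb (by omega)
  obtain ⟨W, hUW, hW1, hW2⟩ := lift_invariant f U hUc Wb hWb2
  exact ⟨U, W, hUW, hU1, by rw [hW1, hWb1, hU1]; omega, hU2, hW2⟩

/-- Sufficiency for flags. -/
theorem flags_of_cond {p : ℕ} [Fact p.Prime] [CharP F p] (n m : ℕ) (hn : 2 ≤ n)
    (hmn : 2 * m < n) (r : ℕ) [Fact r.Prime] (hrp : r ≠ p)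
    (hcond : (orderOf ((Fintype.card F : ℕ) : ZMod r) = 1 ∧ (r ∣ m ∨
        (padicValNat r n ≤ padicValNat r (Fintype.card F - 1) ∧
          (r = 2 → Even n → Fintype.card F % 4 = 1)))) ∨
      (2 ≤ orderOf ((Fintype.card F : ℕ) : ZMod r) ∧
        2 * (m % orderOf ((Fintype.card F : ℕ) : ZMod r)) ≤
          n % orderOf ((Fintype.card F : ℕ) : ZMod r)))
    (x : Matrix (Fin n) (Fin n) F) (hdet : x.det = 1) (c : F) (hx : x ^ r = c • 1) :
    ∃ U W : Submodule F (Fin n → F), U ≤ W ∧ finrank F U = m ∧ finrank F W = n - m ∧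
      (∀ u ∈ U, Matrix.toLin' x u ∈ U) ∧ (∀ w ∈ W, Matrix.toLin' x w ∈ W) := by
  classical
  have hr : r.Prime := Fact.out
  have hfin : finrank F (Fin n → F) = n := by simp
  have hf : (Matrix.toLin' x) ^ r = c • 1 := by rw [← toLin'_pow', hx, toLin'_smul_one]
  have hc0 : c ≠ 0 := by
    rintro rfl
    have h1 : (x ^ r).det = 0 := by
      rw [hx, zero_smul]
      have : Nonempty (Fin n) := ⟨⟨0, by omega⟩⟩
      exact Matrix.det_zero
    rw [Matrix.det_pow, hdet, one_pow] at h1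
    exact one_ne_zero h1
  obtain ⟨f', hp', hF⟩ := FiniteField.card F p
  have hpr : p.Coprime r := (Nat.coprime_primes hp' hr).mpr (Ne.symm hrp)
  have key : (∃ d : F, d ^ r = c) →
      (m % orderOf ((Fintype.card F : ℕ) : ZMod r) ≤
        n % orderOf ((Fintype.card F : ℕ) : ZMod r)) →
      ((n - 2 * m) % orderOf ((Fintype.card F : ℕ) : ZMod r) ≤
        (n - m) % orderOf ((Fintype.card F : ℕ) : ZMod r)) →
      ∃ U W : Submodule F (Fin n → F), U ≤ W ∧ finrank F U = m ∧ finrank F W = n - m ∧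
        (∀ u ∈ U, Matrix.toLin' x u ∈ U) ∧ (∀ w ∈ W, Matrix.toLin' x w ∈ W) := by
    rintro ⟨d, rfl⟩ hmod1 hmod2
    have hd : d ≠ 0 := by
      rintro rfl
      exact hc0 (zero_pow hr.ne_zero)
    have hg : (d⁻¹ • Matrix.toLin' x) ^ r = 1 := by
      rw [_root_.smul_pow, hf, smul_smul, inv_pow, inv_mul_cancel₀ (pow_ne_zero _ hd), one_smul]
    obtain ⟨U, W, hUW, hU1, hW1, hU2, hW2⟩ := exists_flag_of_order p f' hF r hpr (Fin n → F)
      (d⁻¹ • Matrix.toLin' x) hg m (by rw [hfin]; omega) (by rw [hfin]; exact hmod1)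
      (by rw [hfin]; exact hmod2)
    rw [hfin] at hW1
    refine ⟨U, W, hUW, hU1, hW1, ?_, ?_⟩
    · intro w hw
      have h1 := U.smul_mem d (hU2 w hw)
      rwa [LinearMap.smul_apply, smul_smul, mul_inv_cancel₀ hd, one_smul] at h1
    · intro w hw
      have h1 := W.smul_mem d (hW2 w hw)
      rwa [LinearMap.smul_apply, smul_smul, mul_inv_cancel₀ hd, one_smul] at h1
  rcases hcond with ⟨hi, hc⟩ | ⟨hi, hmod⟩
  · have hdvd : r ∣ Fintype.card F - 1 := (dvd_card_sub_one_iff r).mp hi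
    by_cases hex : ∃ d : F, d ^ r = c
    · exact key hex (by rw [hi]; simp [Nat.mod_one]) (by rw [hi]; simp [Nat.mod_one])
    · push Not at hex
      have hirr : Irreducible (X ^ r - C c : F[X]) := X_pow_sub_C_irreducible_of_prime hr hex
      obtain ⟨k, hk, hdet'⟩ := det_of_pow_eq r hr.ne_zero c hirr x hx
      rw [Fintype.card_fin] at hk hdet'
      rcases hc with hrm | ⟨hv, h2⟩
      · obtain ⟨k', hk'⟩ := hrm
        have h2k : 2 * k' ≤ k := by
          have h3 : r * (2 * k') ≤ r * k := by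
            have h4 : r * (2 * k') = 2 * m := by rw [hk']; ring
            rw [h4, ← hk]; omega
          exact Nat.le_of_mul_le_mul_left h3 hr.pos
        obtain ⟨U, W, hUW, hU1, hW1, hU2, hW2⟩ := exists_flag_of_pow_eq r hr.ne_zero c hirr
          (Fin n → F) (Matrix.toLin' x) hf k k' (by rw [hfin]; exact hk) h2k
        rw [hfin, ← hk'] at hW1
        rw [← hk'] at hU1
        exact ⟨U, W, hUW, hU1, hW1, hU2, hW2⟩
      · exfalso
        have hk0 : k ≠ 0 := by
          rintro rfl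
          omega
        rw [hdet] at hdet'
        exact no_bad_scalar r hdvd c hex n k hk0 hk hdet'.symm hv h2
  · have hnd : ¬ r ∣ Fintype.card F - 1 := by
      intro h
      have h1 := (dvd_card_sub_one_iff r).mpr h
      omega
    have hcop : (Nat.card Fˣ).Coprime r := by
      rw [Nat.card_eq_fintype_card, Fintype.card_units]
      exact ((Nat.Prime.coprime_iff_not_dvd hr).mpr hnd).symm
    have h1 := (powCoprime hcop).apply_symm_apply (Units.mk0 c hc0)
    rw [powCoprime_apply] at h1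
    obtain ⟨i, hi'⟩ : ∃ i, i = orderOf ((Fintype.card F : ℕ) : ZMod r) := ⟨_, rfl⟩
    rw [← hi'] at hmod hi key
    have hm1 : (n - m) % i = n % i - m % i := mod_sub n m i (by omega) (by omega)
    have hm2 : (n - m - m) % i = (n - m) % i - m % i := mod_sub (n - m) m i (by omega) (by omega)
    have hm3 : n - 2 * m = n - m - m := by omega
    refine key ⟨(((powCoprime hcop).symm (Units.mk0 c hc0) : Fˣ) : F), ?_⟩ (by omega)
      (by rw [hm3, hm2]; omega)
    rw [← Units.val_pow_eq_pow_val, h1]; rfl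

/-- Necessity for flags. -/
theorem cond_of_flags {p : ℕ} [Fact p.Prime] [CharP F p] (n m : ℕ) (hn : 2 ≤ n) (hm : 1 ≤ m)
    (hmn : 2 * m < n) (r : ℕ) [Fact r.Prime]
    (hrΩ : (∃ j, j < m ∧ r ∣ Fintype.card F ^ (n - j) - 1) ∨
      (∃ j, j < m ∧ r ∣ Fintype.card F ^ (n - m - j) - 1))
    (H : ∀ x : Matrix (Fin n) (Fin n) F, x.det = 1 → (∃ c : F, x ^ r = c • 1) →
      (∀ c : F, x ≠ c • 1) →
      ∃ U W : Submodule F (Fin n → F), U ≤ W ∧ finrank F U = m ∧ finrank F W = n - m ∧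
        (∀ u ∈ U, Matrix.toLin' x u ∈ U) ∧ (∀ w ∈ W, Matrix.toLin' x w ∈ W)) :
    r ≠ p ∧
      ((orderOf ((Fintype.card F : ℕ) : ZMod r) = 1 ∧ (r ∣ m ∨
        (padicValNat r n ≤ padicValNat r (Fintype.card F - 1) ∧
          (r = 2 → Even n → Fintype.card F % 4 = 1)))) ∨
      (2 ≤ orderOf ((Fintype.card F : ℕ) : ZMod r) ∧
        orderOf ((Fintype.card F : ℕ) : ZMod r) ≤ m ∧
        2 * (m % orderOf ((Fintype.card F : ℕ) : ZMod r)) ≤
          n % orderOf ((Fintype.card F : ℕ) : ZMod r))) := by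
  classical
  have hr : r.Prime := Fact.out
  have hfin : finrank F (Fin n → F) = n := by simp
  obtain ⟨f', hp', hF⟩ := FiniteField.card F p
  -- a common exponent
  obtain ⟨t, ht1, htn, htd⟩ : ∃ t, 1 ≤ t ∧ t ≤ n ∧ r ∣ Fintype.card F ^ t - 1 := by
    rcases hrΩ with ⟨j, hj, hjd⟩ | ⟨j, hj, hjd⟩
    · exact ⟨n - j, by omega, by omega, hjd⟩
    · exact ⟨n - m - j, by omega, by omega, hjd⟩
  have hq1 : ∀ t : ℕ, 1 ≤ Fintype.card F ^ t := fun t => Nat.one_le_pow _ _ Fintype.card_pos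
  have hrp : r ≠ p := by
    rintro rfl
    have h1 : r ∣ Fintype.card F ^ t := by
      rw [hF, ← pow_mul]
      apply dvd_pow_self
      have h2 : 0 < (f' : ℕ) := f'.pos
      exact (Nat.mul_pos h2 (by omega)).ne'
    have h2 : r ∣ 1 := by
      have h3 := Nat.dvd_sub h1 htd
      rwa [Nat.sub_sub_self (hq1 t)] at h3
    exact hr.one_lt.ne' (Nat.dvd_one.mp h2)
  refine ⟨hrp, ?_⟩
  have hq0 := natCast_card_ne_zero (F := F) r hrp
  obtain ⟨i, hi⟩ : ∃ i, i = orderOf ((Fintype.card F : ℕ) : ZMod r) := ⟨_, rfl⟩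
  have hi1 : 1 ≤ i := by rw [hi]; exact orderOf_pos' r hrp
  have hdvd_of : ∀ t : ℕ, r ∣ Fintype.card F ^ t - 1 → i ∣ t := by
    intro t htd
    rw [hi, orderOf_dvd_iff_pow_eq_one]
    have h1 := (ZMod.natCast_eq_zero_iff _ _).mpr htd
    rw [Nat.cast_sub (hq1 t), Nat.cast_pow, Nat.cast_one, sub_eq_zero] at h1
    exact h1
  have hin : i ≤ n := le_trans (Nat.le_of_dvd (by omega) (hdvd_of t htd)) htn
  rw [← hi]
  by_cases hi_one : i = 1
  · left
    refine ⟨hi_one, ?_⟩
    have hdvd : r ∣ Fintype.card F - 1 := (dvd_card_sub_one_iff r).mp (hi ▸ hi_one)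
    by_contra hneg
    push Not at hneg
    obtain ⟨hrm, hneg2⟩ := hneg
    have hneg3 : ¬ (padicValNat r n ≤ padicValNat r (Fintype.card F - 1) ∧
        (r = 2 → Even n → Fintype.card F % 4 = 1)) := by
      rintro ⟨h1, h2⟩
      obtain ⟨h3, h4, h5⟩ := hneg2 h1
      exact h5 (h2 h3 h4)
    obtain ⟨x, hx1, hx2, hx3, hx4⟩ := bad_elt_one (F := F) n hn r hdvd hneg3
    obtain ⟨U, W, _, hU1, _, hU2, _⟩ := H x hx1 hx2 hx3
    have h5 := hx4 U hU2
    rw [hU1] at h5
    exact hrm h5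
  · right
    have hi2 : 2 ≤ i := by omega
    obtain ⟨x, hx1, hx2, hx3, hx4, hx5⟩ := bad_elt_two (F := F) n hn r hrp (by rw [← hi]; exact hi2)
      (by rw [← hi]; exact hin)
    rw [← hi] at hx5
    obtain ⟨U, W, hUW, hU1, hW1, hU2, hW2⟩ := H x hx1 ⟨1, hx2⟩ hx3
    have hu := orderOf_dvd_finrank_sub_inf r hq0 (Matrix.toLin' x) hx4 U hU2
    have hw := orderOf_dvd_finrank_sub_inf r hq0 (Matrix.toLin' x) hx4 W hW2
    rw [← hi, hU1] at hu
    rw [← hi, hW1] at hw
    obtain ⟨u0, hu0⟩ : ∃ u0, u0 = finrank F ↥(U ⊓ LinearMap.ker (Matrix.toLin' x - 1)) := ⟨_, rfl⟩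
    obtain ⟨w0, hw0⟩ : ∃ w0, w0 = finrank F ↥(W ⊓ LinearMap.ker (Matrix.toLin' x - 1)) := ⟨_, rfl⟩
    rw [← hu0] at hu
    rw [← hw0] at hw
    have h1 : u0 ≤ w0 := by
      rw [hu0, hw0]
      exact Submodule.finrank_mono (inf_le_inf_right _ hUW)
    have h2 : w0 ≤ n % i := by
      rw [hw0]
      exact le_trans (Submodule.finrank_mono inf_le_right) hx5
    have h3 : u0 ≤ m := by
      rw [hu0, ← hU1]
      exact Submodule.finrank_mono inf_le_left
    have h4 : w0 ≤ n - m := by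
      rw [hw0, ← hW1]
      exact Submodule.finrank_mono inf_le_left
    have hmodlt : n % i < i := Nat.mod_lt _ (by omega)
    have hmu : m % i = u0 := by
      obtain ⟨t', ht'⟩ := hu
      have h8 : m = u0 + i * t' := by omega
      rw [h8, Nat.add_mul_mod_self_left, Nat.mod_eq_of_lt (by omega)]
    have hmw : (n - m) % i = w0 := by
      obtain ⟨t', ht'⟩ := hw
      have h8 : n - m = w0 + i * t' := by omega
      rw [h8, Nat.add_mul_mod_self_left, Nat.mod_eq_of_lt (by omega)]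
    have hm1 : (n - m) % i = n % i - m % i := mod_sub n m i (by omega) (by omega)
    have h2a : 2 * (m % i) ≤ n % i := by omega
    refine ⟨hi2, ?_, h2a⟩
    by_contra hlt
    push Not at hlt
    have hmm : m % i = m := Nat.mod_eq_of_lt hlt
    rcases hrΩ with ⟨j, hj, hjd⟩ | ⟨j, hj, hjd⟩
    · obtain ⟨t', ht'⟩ := hdvd_of _ hjd
      have h9 : n = j + i * t' := by omega
      have h10 : n % i = j % i := by rw [h9, Nat.add_mul_mod_self_left]
      have h11 := Nat.mod_le j i
      omega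
    · obtain ⟨t', ht'⟩ := hdvd_of _ hjd
      have h9 : n - m = j + i * t' := by omega
      have h10 : (n - m) % i = j % i := by rw [h9, Nat.add_mul_mod_self_left]
      have h11 := Nat.mod_le j i
      omega

end Flags

end Cfsg.Agent.Lib.helper63.Elusive
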