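/-
S1906 piece AUT: conjugation by an element mapping a finite subgroup into itself is an
automorphism of it.
-/
import Mathlib

set_option autoImplicit false

namespace Cfsg.Agent.Lib.helper63.G3

/-- PIECE AUT. Conjugation by an element mapping a finite subgroup into itself is an
automorphism of it. -/
theorem conj_aut {G : Type*} [Group G] (X : Subgroup G) [Finite X] (n : G)
    (hn : ∀ x ∈ X, n⁻¹ * x * n ∈ X) :
    ∃ α : ↥X ≃* ↥X, ∀ x : ↥X, ((α x : ↥X) : G) = n⁻¹ * (x : G) * n := by
  let f : X →* X :=
    { toFun := fun x => ⟨n⁻¹ * (x : G) * n, hn x x.2⟩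
      map_one' := by
        apply Subtype.ext
        show n⁻¹ * ((1 : X) : G) * n = ((1 : X) : G)
        rw [Subgroup.coe_one]; group
      map_mul' := by
        intro a b
        apply Subtype.ext
        show n⁻¹ * ((a * b : X) : G) * n = (n⁻¹ * (a : G) * n) * (n⁻¹ * (b : G) * n)
        rw [Subgroup.coe_mul]; group }
  have hinj : Function.Injective f := by
    intro a b hab
    have h : n⁻¹ * (a : G) * n = n⁻¹ * (b : G) * n := congrArg Subtype.val hab
    apply Subtype.ext
    exact mul_left_cancel (mul_right_cancel h)
  have hbij : Function.Bijective f := Finite.injective_iff_bijective.mp hinj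
  exact ⟨MulEquiv.ofBijective f hbij, fun x => rfl⟩

end Cfsg.Agent.Lib.helper63.G3
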