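/-
S1906 piece GC: a nonabelian finite 2-group has a central involution inside its commutator
subgroup.
-/
import Mathlib

set_option autoImplicit false

namespace Cfsg.Agent.Lib.helper63.G3

open scoped commutatorElement

/-- PIECE GC. A nonabelian finite 2-group has a central involution inside its commutator
subgroup. -/
theorem comm_center {P : Type*} [Group P] [Finite P] (hP : IsPGroup 2 P)
    (hna : ¬ ∀ a b : P, a * b = b * a) :
    ∃ c : P, c ∈ commutator P ∧ c ∈ Subgroup.center P ∧ c ≠ 1 ∧ c * c = 1 := by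
  classical
  have h2 : Fact (Nat.Prime 2) := ⟨Nat.prime_two⟩
  obtain ⟨D, hD⟩ : ∃ D : Subgroup P, D = commutator P := ⟨_, rfl⟩
  have hDn : D.Normal := by rw [hD]; infer_instance
  have hDne : D ≠ ⊥ := by
    intro h
    apply hna
    intro a b
    have h1 : ⁅a, b⁆ ∈ commutator P :=
      Subgroup.commutator_mem_commutator (Subgroup.mem_top a) (Subgroup.mem_top b)
    rw [← hD, h, Subgroup.mem_bot] at h1
    exact commutatorElement_eq_one_iff_mul_comm.mp h1
  let _ : MulAction P D := MulAction.compHom D (MulAut.conjNormal (H := D))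
  have hsm : ∀ (g : P) (d : D), ((g • d : D) : P) = g * d * g⁻¹ :=
    fun g d => MulAut.conjNormal_apply (H := D) g d
  have hmod := hP.card_modEq_card_fixedPoints D
  have hDcard : 2 ∣ Nat.card D := by
    obtain ⟨k, hk⟩ := (hP.to_subgroup D).exists_card_eq
    rw [hk]
    have : k ≠ 0 := by
      rintro rfl
      rw [pow_zero] at hk
      exact hDne (Subgroup.card_eq_one.mp hk)
    exact dvd_pow_self 2 this
  have hfix2 : 2 ∣ Nat.card (MulAction.fixedPoints P D) :=
    (Nat.modEq_zero_iff_dvd).mp (hmod.symm.trans ((Nat.modEq_zero_iff_dvd).mpr hDcard))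
  have hnt : ∃ d : D, d ∈ MulAction.fixedPoints P D ∧ d ≠ 1 := by
    by_contra hcon
    push Not at hcon
    have hsub : Subsingleton (MulAction.fixedPoints P D) :=
      ⟨fun a b => Subtype.ext (by rw [hcon a a.2, hcon b b.2])⟩
    have hle : Nat.card (MulAction.fixedPoints P D) ≤ 1 := Finite.card_le_one_iff_subsingleton.mpr hsub
    have hpos : 0 < Nat.card (MulAction.fixedPoints P D) := Nat.pos_of_ne_zero (by
      intro h0
      have hne : Nonempty (MulAction.fixedPoints P D) := ⟨⟨1, by
        intro g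
        apply Subtype.ext
        rw [hsm]
        simp⟩⟩
      exact (Nat.card_pos (α := MulAction.fixedPoints P D)).ne' h0)
    have h1 : Nat.card (MulAction.fixedPoints P D) = 1 := by omega
    rw [h1] at hfix2
    norm_num at hfix2
  obtain ⟨d, hdfix, hd1⟩ := hnt
  have hc0D : (d : P) ∈ commutator P := by rw [← hD]; exact d.2
  have hc0Z : (d : P) ∈ Subgroup.center P := by
    rw [Subgroup.mem_center_iff]
    intro g
    have h1 := congrArg Subtype.val ((MulAction.mem_fixedPoints.mp hdfix) g)
    rw [hsm] at h1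
    calc g * (d : P) = g * d * g⁻¹ * g := by group
      _ = d * g := by rw [h1]
  have hc01 : (d : P) ≠ 1 := fun h => hd1 (Subtype.ext h)
  obtain ⟨k, hk⟩ := hP (d : P)
  have hordd : orderOf (d : P) ∣ 2 ^ k := orderOf_dvd_of_pow_eq_one hk
  obtain ⟨j, hj, hjk⟩ := (Nat.dvd_prime_pow Nat.prime_two).mp hordd
  have hj0 : j ≠ 0 := by
    rintro rfl
    rw [pow_zero, orderOf_eq_one_iff] at hjk
    exact hc01 hjk
  have h2dvd : 2 ∣ orderOf (d : P) := by rw [hjk]; exact dvd_pow_self 2 hj0
  have hn0 : orderOf (d : P) ≠ 0 := (orderOf_pos _).ne'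
  have hy : orderOf ((d : P) ^ (orderOf (d : P) / 2)) = 2 := orderOf_pow_orderOf_div hn0 h2dvd
  refine ⟨(d : P) ^ (orderOf (d : P) / 2), Subgroup.pow_mem _ hc0D _, Subgroup.pow_mem _ hc0Z _,
    ?_, ?_⟩
  · intro h
    rw [h, orderOf_one] at hy
    norm_num at hy
  · have h3 := pow_orderOf_eq_one ((d : P) ^ (orderOf (d : P) / 2))
    rw [hy, pow_two] at h3
    exact h3

end Cfsg.Agent.Lib.helper63.G3
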