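/-
S1906 piece IX: a homomorphism to the units of a field taking the value `-1 ≠ 1` yields a
subgroup of index 2.
-/
import Mathlib

set_option autoImplicit false

namespace Cfsg.Agent.Lib.helper63.G3

/-- PIECE IX. A homomorphism to the units of a field taking the value `-1 ≠ 1` yields a subgroup
of index 2. -/
theorem index_two_of_hom {G : Type*} [Group G] [Finite G] {F : Type*} [Field F]
    (h2 : (2 : F) ≠ 0) (V : G →* Fˣ) (z : G) (hV : V z = -1) :
    ∃ H : Subgroup G, H.index = 2 := by
  classical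
  have hneg : (-1 : Fˣ) ≠ 1 := by
    intro h
    have h' : ((-1 : Fˣ) : F) = ((1 : Fˣ) : F) := congrArg Units.val h
    rw [Units.val_neg, Units.val_one] at h'
    apply h2
    have : (2 : F) = 1 - (-1) := by ring
    rw [this, h', sub_self]
  -- the range is a finite cyclic group of even order
  have hfin : Finite V.range := Finite.of_surjective V.rangeRestrict V.rangeRestrict_surjective
  have hcyc : IsCyclic V.range := inferInstance
  obtain ⟨r, hr⟩ := IsCyclic.exists_generator (α := V.range)
  obtain ⟨g0, hg0⟩ := r.2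
  obtain ⟨m, hm⟩ : ∃ m : ℕ, m = Nat.card V.range := ⟨_, rfl⟩
  have hord : orderOf r = m := by
    rw [hm]; exact orderOf_eq_card_of_forall_mem_zpowers hr
  have hord' : orderOf (V g0) = m := by
    rw [← hord, hg0, Subgroup.orderOf_coe]
  have hm2 : 2 ∣ m := by
    have h1 : orderOf (⟨V z, ⟨z, rfl⟩⟩ : V.range) ∣ Nat.card V.range := orderOf_dvd_natCard _
    have h3 : orderOf (V z) = 2 := by
      rw [hV, orderOf_eq_iff (by norm_num)]
      refine ⟨by simp, ?_⟩
      intro k hk hk0
      interval_cases k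
      simpa using hneg
    have h4 : orderOf (⟨V z, ⟨z, rfl⟩⟩ : V.range) = orderOf (V z) := by
      rw [← Subgroup.orderOf_coe]
    rw [h4, h3] at h1
    rw [hm]; exact h1
  have hmpos : 0 < m := by
    rw [hm]; exact Nat.card_pos
  obtain ⟨W, hW⟩ : ∃ W : G →* Fˣ, W = (powMonoidHom (m / 2)).comp V := ⟨_, rfl⟩
  have hWapp : ∀ g, W g = V g ^ (m / 2) := by
    intro g; rw [hW]; rfl
  have hWsq : ∀ g, W g = 1 ∨ W g = -1 := by
    intro g
    have h1 : (W g) ^ 2 = 1 := by
      rw [hWapp, ← pow_mul, Nat.div_mul_cancel hm2]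
      have h5 : (⟨V g, ⟨g, rfl⟩⟩ : V.range) ^ Nat.card V.range = 1 := pow_card_eq_one'
      have h6 : ((⟨V g, ⟨g, rfl⟩⟩ : V.range) ^ Nat.card V.range : V.range).val
          = V g ^ Nat.card V.range := rfl
      rw [hm, ← h6, h5]; rfl
    have h2' : ((W g : Fˣ) : F) ^ 2 = 1 := by
      rw [← Units.val_pow_eq_pow_val, h1, Units.val_one]
    rcases sq_eq_one_iff.mp h2' with h | h
    · left; exact Units.ext (by rw [h, Units.val_one])
    · right; exact Units.ext (by rw [h, Units.val_neg, Units.val_one])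
  have hWg0 : W g0 = -1 := by
    rcases hWsq g0 with h | h
    · exfalso
      rw [hWapp] at h
      have hlt : m / 2 < orderOf (V g0) := by
        rw [hord']; exact Nat.div_lt_self hmpos (by norm_num)
      have hpos : 0 < m / 2 := Nat.div_pos (Nat.le_of_dvd hmpos hm2) (by norm_num)
      exact pow_ne_one_of_lt_orderOf hpos.ne' hlt h
    · exact h
  refine ⟨W.ker, ?_⟩
  rw [Subgroup.index_eq_two_iff]
  refine ⟨g0, fun b => ?_⟩
  rw [MonoidHom.mem_ker, MonoidHom.mem_ker, map_mul, hWg0]
  rcases hWsq b with h | h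
  · rw [h]
    right
    exact ⟨rfl, by rw [one_mul]; exact hneg⟩
  · rw [h]
    left
    exact ⟨by rw [neg_mul_neg, one_mul], hneg⟩

end Cfsg.Agent.Lib.helper63.G3
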