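/-
S1906 piece RK1: an idempotent 3×3 matrix of trace 1 has rank one.
-/
import Mathlib
import Cfsg.Agent.Lib.helper38.G3ADJ

set_option autoImplicit false

namespace Cfsg.Agent.Lib.helper63.G3

open Matrix

set_option maxHeartbeats 4000000 in
/-- All 2×2 minors of a 3×3 matrix with vanishing adjugate vanish. -/
theorem rk1_minors {F : Type*} [Field F] (P : Matrix (Fin 3) (Fin 3) F) (hadj : P.adjugate = 0) :
    ∀ i l k j : Fin 3, P i k * P l j = P i j * P l k := by
  rw [Matrix.adjugate_fin_three] at hadj
  have e00 : P 1 1 * P 2 2 - P 1 2 * P 2 1 = 0 := by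
    have h := congrFun (congrFun hadj 0) 0
    simp at h
    linear_combination h
  have e01 : -(P 0 1 * P 2 2) + P 0 2 * P 2 1 = 0 := by
    have h := congrFun (congrFun hadj 0) 1
    simp at h
    linear_combination h
  have e02 : P 0 1 * P 1 2 - P 0 2 * P 1 1 = 0 := by
    have h := congrFun (congrFun hadj 0) 2
    simp at h
    linear_combination h
  have e10 : -(P 1 0 * P 2 2) + P 1 2 * P 2 0 = 0 := by
    have h := congrFun (congrFun hadj 1) 0
    simp at h
    linear_combination h
  have e11 : P 0 0 * P 2 2 - P 0 2 * P 2 0 = 0 := by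
    have h := congrFun (congrFun hadj 1) 1
    simp at h
    linear_combination h
  have e12 : -(P 0 0 * P 1 2) + P 0 2 * P 1 0 = 0 := by
    have h := congrFun (congrFun hadj 1) 2
    simp at h
    linear_combination h
  have e20 : P 1 0 * P 2 1 - P 1 1 * P 2 0 = 0 := by
    have h := congrFun (congrFun hadj 2) 0
    simp at h
    linear_combination h
  have e21 : -(P 0 0 * P 2 1) + P 0 1 * P 2 0 = 0 := by
    have h := congrFun (congrFun hadj 2) 1
    simp at h
    linear_combination h
  have e22 : P 0 0 * P 1 1 - P 0 1 * P 1 0 = 0 := by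
    have h := congrFun (congrFun hadj 2) 2
    simp at h
    linear_combination h
  clear hadj
  intro i l k j
  fin_cases i <;> fin_cases l <;> fin_cases k <;> fin_cases j <;>
    simp only [Fin.zero_eta, Fin.mk_one, Fin.reduceFinMk] <;>
    first
      | ring1
      | linear_combination e00 | linear_combination -e00
      | linear_combination e01 | linear_combination -e01
      | linear_combination e02 | linear_combination -e02
      | linear_combination e10 | linear_combination -e10
      | linear_combination e11 | linear_combination -e11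
      | linear_combination e12 | linear_combination -e12
      | linear_combination e20 | linear_combination -e20
      | linear_combination e21 | linear_combination -e21
      | linear_combination e22 | linear_combination -e22

/-- PIECE RK1. An idempotent of trace 1 has rank one. -/
theorem rank_one {F : Type*} [Field F] (h2 : (2 : F) ≠ 0) (P : Matrix (Fin 3) (Fin 3) F)
    (hP : P * P = P) (ht : P.trace = 1) (A : Matrix (Fin 3) (Fin 3) F) :
    P * A * P = (A * P).trace • P := by
  have hadj : P.adjugate = 0 := by
    have h := Cfsg.Agent.Lib.helper38.G3.adj3 P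
    rw [hP, ht] at h
    have h0 : (2 : F) • P.adjugate = 0 := by
      rw [h]; simp
    exact (smul_eq_zero.mp h0).resolve_left h2
  have hm := rk1_minors P hadj
  ext i j
  simp only [Matrix.mul_apply, Matrix.smul_apply, smul_eq_mul, Matrix.trace, Matrix.diag_apply,
    Fin.sum_univ_three]
  linear_combination A 0 0 * hm i 0 0 j + A 0 1 * hm i 1 0 j + A 0 2 * hm i 2 0 j
    + A 1 0 * hm i 0 1 j + A 1 1 * hm i 1 1 j + A 1 2 * hm i 2 1 j
    + A 2 0 * hm i 0 2 j + A 2 1 * hm i 1 2 j + A 2 2 * hm i 2 2 j

end Cfsg.Agent.Lib.helper63.G3
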