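import Mathlib

set_option autoImplicit false
set_option linter.unusedSectionVars false

namespace Cfsg.Agent.Lib.helper63.IG

open Equiv Equiv.Perm

variable {α : Type*} [Fintype α] [DecidableEq α]

/-- The length of the cycle of `σ` through `a`. -/
noncomputable abbrev per (σ : Perm α) (a : α) : ℕ := Function.minimalPeriod (σ : α → α) a

theorem pow_fix_iff (σ : Perm α) (a : α) (k : ℕ) : (σ ^ k) a = a ↔ per σ a ∣ k := by
  rw [← Function.isPeriodicPt_iff_minimalPeriod_dvd]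
  rfl

theorem per_pos (σ : Perm α) (a : α) : 0 < per σ a := by
  have h : per σ a ∣ orderOf σ := by
    rw [← pow_fix_iff, pow_orderOf_eq_one]; rfl
  exact Nat.pos_of_dvd_of_pos h (orderOf_pos σ)

theorem pow_per (σ : Perm α) (a : α) : (σ ^ per σ a) a = a :=
  (pow_fix_iff σ a _).2 dvd_rfl

theorem pow_ne_of_lt (σ : Perm α) (a : α) {k : ℕ} (h0 : 0 < k) (hk : k < per σ a) :
    (σ ^ k) a ≠ a := by
  intro h
  have := Nat.le_of_dvd h0 ((pow_fix_iff σ a k).1 h)
  omega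

theorem per_eq_one_iff (σ : Perm α) (a : α) : per σ a = 1 ↔ σ a = a := by
  constructor
  · intro h
    have := pow_per σ a
    rw [h, pow_one] at this
    exact this
  · intro h
    have h1 : per σ a ∣ 1 := by
      rw [← pow_fix_iff, pow_one]; exact h
    exact Nat.dvd_one.1 h1

theorem per_eq_of_sameCycle {σ : Perm α} {a b : α} (h : SameCycle σ a b) : per σ a = per σ b := by
  obtain ⟨i, rfl⟩ := h
  apply Nat.dvd_antisymm
  · rw [← pow_fix_iff]
    have h1 := pow_per σ ((σ ^ i) a)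
    have h2 : (σ ^ per σ ((σ ^ i) a)) ((σ ^ i) a) = (σ ^ i) ((σ ^ per σ ((σ ^ i) a)) a) := by
      rw [← Perm.mul_apply, ← Perm.mul_apply, ← zpow_natCast, ← zpow_add, ← zpow_add, add_comm]
    rw [h2] at h1
    exact (σ ^ i).injective h1
  · rw [← pow_fix_iff]
    rw [← Perm.mul_apply, ← zpow_natCast, ← zpow_add, add_comm, zpow_add, Perm.mul_apply,
      zpow_natCast, pow_per]

theorem pow_mod_per (σ : Perm α) (a : α) (i : ℕ) : (σ ^ (i % per σ a)) a = (σ ^ i) a := by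
  conv_rhs => rw [← Nat.mod_add_div i (per σ a)]
  rw [pow_add, Perm.mul_apply]
  congr 1
  exact ((pow_fix_iff σ a _).2 (dvd_mul_right _ _)).symm

theorem sameCycle_iff_lt {σ : Perm α} {a b : α} :
    SameCycle σ a b ↔ ∃ i : ℕ, i < per σ a ∧ (σ ^ i) a = b := by
  constructor
  · intro h
    obtain ⟨i, hi⟩ := h.exists_nat_pow_eq
    exact ⟨i % per σ a, Nat.mod_lt _ (per_pos σ a), by rw [pow_mod_per, hi]⟩
  · rintro ⟨i, -, hi⟩
    exact ⟨i, by rw [zpow_natCast]; exact hi⟩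

theorem sameCycle_pow (σ : Perm α) (a : α) (i : ℕ) : SameCycle σ a ((σ ^ i) a) :=
  ⟨i, by rw [zpow_natCast]⟩

theorem sameCycle_fixed {σ : Perm α} {q p : α} (hq : σ q = q) : SameCycle σ q p ↔ p = q := by
  constructor
  · intro h
    obtain ⟨i, hi, rfl⟩ := sameCycle_iff_lt.1 h
    have h1 : per σ q = 1 := (per_eq_one_iff σ q).2 hq
    have : i = 0 := by omega
    subst this
    simp
  · rintro rfl
    exact SameCycle.refl _ _

theorem odd_orderOf_iff (σ : Perm α) : Odd (orderOf σ) ↔ ∀ a, Odd (per σ a) := by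
  constructor
  · intro h a
    have h1 : per σ a ∣ orderOf σ := by
      rw [← pow_fix_iff, pow_orderOf_eq_one]; rfl
    exact Odd.of_dvd_nat h h1
  · intro h
    have h1 : σ ^ (∏ a, per σ a) = 1 := by
      ext a
      rw [Perm.one_apply, pow_fix_iff]
      exact Finset.dvd_prod_of_mem _ (Finset.mem_univ a)
    have h2 := orderOf_dvd_of_pow_eq_one h1
    refine Odd.of_dvd_nat ?_ h2
    exact Finset.prod_induction _ Odd (fun _ _ => Odd.mul) odd_one (fun a _ => h a)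

/-- `X` is the cycle (as a set) of `σ` through `r`, of length `ℓ`. -/
def IsCls (σ : Perm α) (X : Set α) (r : α) (ℓ : ℕ) : Prop :=
  (∀ p, p ∈ X ↔ SameCycle σ r p) ∧ per σ r = ℓ

theorem isCls_self (σ : Perm α) (a : α) : IsCls σ {p | SameCycle σ a p} a (per σ a) :=
  ⟨fun _ => Iff.rfl, rfl⟩

theorem isCls_fixed {σ : Perm α} {q : α} (hq : σ q = q) : IsCls σ {q} q 1 :=
  ⟨fun p => by rw [sameCycle_fixed hq]; rfl, (per_eq_one_iff σ q).2 hq⟩

theorem IsCls.rep_mem {σ : Perm α} {X : Set α} {r : α} {ℓ : ℕ} (h : IsCls σ X r ℓ) : r ∈ X :=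
  (h.1 r).2 (SameCycle.refl _ _)

theorem IsCls.per_eq {σ : Perm α} {X : Set α} {r : α} {ℓ : ℕ} (h : IsCls σ X r ℓ) {p : α}
    (hp : p ∈ X) : per σ p = ℓ := by
  rw [← h.2]
  exact (per_eq_of_sameCycle ((h.1 p).1 hp)).symm

theorem IsCls.change_rep {σ : Perm α} {X : Set α} {r : α} {ℓ : ℕ} (h : IsCls σ X r ℓ) {r' : α}
    (hr' : r' ∈ X) : IsCls σ X r' ℓ := by
  have h1 : SameCycle σ r r' := (h.1 r').1 hr'
  refine ⟨fun p => ?_, h.per_eq hr'⟩
  rw [h.1 p]
  exact ⟨fun h2 => h1.symm.trans h2, fun h2 => h1.trans h2⟩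

theorem IsCls.pow_mem {σ : Perm α} {X : Set α} {r : α} {ℓ : ℕ} (h : IsCls σ X r ℓ) (i : ℕ) :
    (σ ^ i) r ∈ X :=
  (h.1 _).2 (sameCycle_pow σ r i)

theorem IsCls.apply_mem {σ : Perm α} {X : Set α} {r : α} {ℓ : ℕ} (h : IsCls σ X r ℓ) {p : α}
    (hp : p ∈ X) : σ p ∈ X := by
  have := (h.change_rep hp).pow_mem 1
  simpa using this

theorem IsCls.exists_pow {σ : Perm α} {X : Set α} {r : α} {ℓ : ℕ} (h : IsCls σ X r ℓ) {p : α}
    (hp : p ∈ X) : ∃ i : ℕ, i < ℓ ∧ (σ ^ i) r = p := by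
  have := sameCycle_iff_lt.1 ((h.1 p).1 hp)
  rw [h.2] at this
  exact this

/-- Points outside the cycles of `a` and `b` are not affected by multiplying with `swap a b`. -/
theorem unaff_pow {σ : Perm α} {a b p : α} (ha : ¬ SameCycle σ a p) (hb : ¬ SameCycle σ b p)
    (k : ℕ) : ((swap a b * σ) ^ k) p = (σ ^ k) p := by
  induction k with
  | zero => simp
  | succ k ih =>
    rw [pow_succ', Perm.mul_apply, ih, Perm.mul_apply, ← Perm.mul_apply σ, ← pow_succ']
    apply swap_apply_of_ne_of_ne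
    · intro h
      exact ha (h ▸ (sameCycle_pow σ p (k + 1)).symm)
    · intro h
      exact hb (h ▸ (sameCycle_pow σ p (k + 1)).symm)

theorem unaff_cls {σ : Perm α} {X : Set α} {r : α} {ℓ : ℕ} (h : IsCls σ X r ℓ) {a b : α}
    (ha : a ∉ X) (hb : b ∉ X) : IsCls (swap a b * σ) X r ℓ := by
  have hnot : ∀ p ∈ X, ¬ SameCycle σ a p ∧ ¬ SameCycle σ b p := by
    intro p hp
    have hp' := (h.1 p).1 hp
    constructor
    · intro h1
      exact ha ((h.1 a).2 (hp'.trans h1.symm))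
    · intro h1
      exact hb ((h.1 b).2 (hp'.trans h1.symm))
  have hr := hnot r h.rep_mem
  have hper : per (swap a b * σ) r = ℓ := by
    rw [← h.2]
    apply Nat.dvd_antisymm
    · rw [← pow_fix_iff, unaff_pow hr.1 hr.2, pow_per]
    · rw [← pow_fix_iff, ← unaff_pow hr.1 hr.2, pow_per]
  refine ⟨fun p => ?_, hper⟩
  rw [h.1 p]
  constructor
  · intro h1
    obtain ⟨i, hi⟩ := h1.exists_nat_pow_eq
    refine ⟨i, ?_⟩
    rw [zpow_natCast, unaff_pow hr.1 hr.2, hi]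
  · intro h1
    obtain ⟨i, hi⟩ := h1.exists_nat_pow_eq
    refine ⟨i, ?_⟩
    rw [zpow_natCast, ← unaff_pow hr.1 hr.2, hi]

/-- Merging two distinct cycles by a transposition. -/
theorem merge_cls {σ : Perm α} {X Y : Set α} {a b : α} {ℓ₁ ℓ₂ : ℕ} (hX : IsCls σ X a ℓ₁)
    (hY : IsCls σ Y b ℓ₂) (hb : b ∉ X) : IsCls (swap a b * σ) (X ∪ Y) a (ℓ₁ + ℓ₂) := by
  have ha : a ∉ Y := by
    intro h
    exact hb ((hX.1 b).2 ((hY.1 a).1 h).symm)
  have hℓ₁ : 0 < ℓ₁ := hX.2 ▸ per_pos σ a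
  have hℓ₂ : 0 < ℓ₂ := hY.2 ▸ per_pos σ b
  have hab : a ≠ b := fun h => hb (h ▸ hX.rep_mem)
  -- powers along the first cycle
  have h1 : ∀ i, i < ℓ₁ → ((swap a b * σ) ^ i) a = (σ ^ i) a := by
    intro i
    induction i with
    | zero => intro _; simp
    | succ i ih =>
      intro hi
      rw [pow_succ', Perm.mul_apply, ih (by omega), Perm.mul_apply, ← Perm.mul_apply σ, ← pow_succ']
      apply swap_apply_of_ne_of_ne
      · exact pow_ne_of_lt σ a (by omega) (by rw [hX.2]; exact hi)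
      · intro h
        exact hb (h ▸ hX.pow_mem (i + 1))
  have h2 : ((swap a b * σ) ^ ℓ₁) a = b := by
    obtain ⟨k, rfl⟩ : ∃ k, ℓ₁ = k + 1 := ⟨ℓ₁ - 1, by omega⟩
    rw [pow_succ', Perm.mul_apply, h1 k (by omega), Perm.mul_apply, ← Perm.mul_apply σ, ← pow_succ']
    have : (σ ^ (k + 1)) a = a := by rw [← hX.2]; exact pow_per σ a
    rw [this, swap_apply_left]
  have h3 : ∀ j, j < ℓ₂ → ((swap a b * σ) ^ j) b = (σ ^ j) b := by
    intro j
    induction j with
    | zero => intro _; simp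
    | succ j ih =>
      intro hj
      rw [pow_succ', Perm.mul_apply, ih (by omega), Perm.mul_apply, ← Perm.mul_apply σ, ← pow_succ']
      apply swap_apply_of_ne_of_ne
      · intro h
        exact ha (h ▸ hY.pow_mem (j + 1))
      · exact pow_ne_of_lt σ b (by omega) (by rw [hY.2]; exact hj)
  have h4 : ((swap a b * σ) ^ ℓ₂) b = a := by
    obtain ⟨k, rfl⟩ : ∃ k, ℓ₂ = k + 1 := ⟨ℓ₂ - 1, by omega⟩
    rw [pow_succ', Perm.mul_apply, h3 k (by omega), Perm.mul_apply, ← Perm.mul_apply σ, ← pow_succ']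
    have : (σ ^ (k + 1)) b = b := by rw [← hY.2]; exact pow_per σ b
    rw [this, swap_apply_right]
  have h5 : ∀ j, j < ℓ₂ → ((swap a b * σ) ^ (ℓ₁ + j)) a = (σ ^ j) b := by
    intro j hj
    rw [add_comm, pow_add, Perm.mul_apply, h2, h3 j hj]
  have h6 : ((swap a b * σ) ^ (ℓ₁ + ℓ₂)) a = a := by
    rw [add_comm, pow_add, Perm.mul_apply, h2, h4]
  have hper : per (swap a b * σ) a = ℓ₁ + ℓ₂ := by
    have hd : per (swap a b * σ) a ∣ ℓ₁ + ℓ₂ := (pow_fix_iff _ _ _).1 h6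
    have hle := Nat.le_of_dvd (by omega) hd
    by_contra hne
    have hlt : per (swap a b * σ) a < ℓ₁ + ℓ₂ := by omega
    have hp := pow_per (swap a b * σ) a
    have hpos := per_pos (swap a b * σ) a
    by_cases hc : per (swap a b * σ) a < ℓ₁
    · rw [h1 _ hc] at hp
      exact pow_ne_of_lt σ a hpos (by rw [hX.2]; exact hc) hp
    · obtain ⟨j, hj⟩ : ∃ j, per (swap a b * σ) a = ℓ₁ + j := ⟨per (swap a b * σ) a - ℓ₁, by omega⟩
      rw [hj, h5 j (by omega)] at hp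
      exact ha (hp ▸ hY.pow_mem j)
  refine ⟨fun p => ?_, hper⟩
  constructor
  · rintro (hp | hp)
    · obtain ⟨i, hi, rfl⟩ := hX.exists_pow hp
      rw [← h1 i hi]
      exact sameCycle_pow _ _ _
    · obtain ⟨j, hj, rfl⟩ := hY.exists_pow hp
      rw [← h5 j hj]
      exact sameCycle_pow _ _ _
  · intro hp
    obtain ⟨k, hk, rfl⟩ := sameCycle_iff_lt.1 hp
    rw [hper] at hk
    by_cases hc : k < ℓ₁
    · left
      rw [h1 k hc]
      exact hX.pow_mem k
    · right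
      obtain ⟨j, rfl⟩ : ∃ j, k = ℓ₁ + j := ⟨k - ℓ₁, by omega⟩
      rw [h5 j (by omega)]
      exact hY.pow_mem j

theorem skip_fix (σ : Perm α) (q : α) : (swap q (σ q) * σ) q = q := by
  rw [Perm.mul_apply, swap_apply_right]

/-- Removing a point from its cycle. -/
theorem skip_cls {σ : Perm α} {X : Set α} {q : α} {ℓ : ℕ} (hX : IsCls σ X q ℓ) (hq : σ q ≠ q) :
    IsCls (swap q (σ q) * σ) (X \ {q}) (σ q) (ℓ - 1) := by
  have hℓ : 2 ≤ ℓ := by
    have h1 := per_pos σ q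
    have h2 : per σ q ≠ 1 := fun h => hq ((per_eq_one_iff σ q).1 h)
    rw [hX.2] at h1 h2
    omega
  have h1 : ∀ i, i + 1 < ℓ → ((swap q (σ q) * σ) ^ i) (σ q) = (σ ^ (i + 1)) q := by
    intro i
    induction i with
    | zero => intro _; simp
    | succ i ih =>
      intro hi
      rw [pow_succ', Perm.mul_apply, ih (by omega), Perm.mul_apply, ← Perm.mul_apply σ, ← pow_succ']
      apply swap_apply_of_ne_of_ne
      · exact pow_ne_of_lt σ q (by omega) (by rw [hX.2]; exact hi)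
      · intro h
        rw [pow_succ', Perm.mul_apply] at h
        exact pow_ne_of_lt σ q (by omega : 0 < i + 1) (by rw [hX.2]; omega) (σ.injective h)
  have h2 : ((swap q (σ q) * σ) ^ (ℓ - 1)) (σ q) = σ q := by
    obtain ⟨k, rfl⟩ : ∃ k, ℓ = k + 2 := ⟨ℓ - 2, by omega⟩
    have : k + 2 - 1 = k + 1 := by omega
    rw [this, pow_succ', Perm.mul_apply, h1 k (by omega), Perm.mul_apply, ← Perm.mul_apply σ,
      ← pow_succ']
    have : (σ ^ (k + 1 + 1)) q = q := by rw [← hX.2]; exact pow_per σ q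
    rw [this, swap_apply_left]
  have hper : per (swap q (σ q) * σ) (σ q) = ℓ - 1 := by
    have hd : per (swap q (σ q) * σ) (σ q) ∣ ℓ - 1 := (pow_fix_iff _ _ _).1 h2
    have hle := Nat.le_of_dvd (by omega) hd
    by_contra hne
    have hlt : per (swap q (σ q) * σ) (σ q) < ℓ - 1 := by omega
    have hp := pow_per (swap q (σ q) * σ) (σ q)
    have hpos := per_pos (swap q (σ q) * σ) (σ q)
    rw [h1 _ (by omega), pow_succ', Perm.mul_apply] at hp
    exact pow_ne_of_lt σ q hpos (by rw [hX.2]; omega) (σ.injective hp)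
  refine ⟨fun p => ?_, hper⟩
  constructor
  · rintro ⟨hp, hpq⟩
    obtain ⟨i, hi, rfl⟩ := hX.exists_pow hp
    have hi0 : i ≠ 0 := by
      rintro rfl
      exact hpq (by simp)
    obtain ⟨j, rfl⟩ : ∃ j, i = j + 1 := ⟨i - 1, by omega⟩
    rw [← h1 j hi]
    exact sameCycle_pow _ _ _
  · intro hp
    obtain ⟨k, hk, rfl⟩ := sameCycle_iff_lt.1 hp
    rw [hper] at hk
    rw [h1 k (by omega)]
    refine ⟨hX.pow_mem (k + 1), ?_⟩
    intro h
    exact pow_ne_of_lt σ q (by omega : 0 < k + 1) (by rw [hX.2]; omega) h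

end Cfsg.Agent.Lib.helper63.IG
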