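import Cfsg.Agent.Lib.helper63.IGMoves2

set_option autoImplicit false
set_option linter.unusedSectionVars false
set_option linter.unusedVariables false

namespace Cfsg.Agent.Lib.helper63.IG

open Equiv Equiv.Perm

variable {α : Type*} [Fintype α] [DecidableEq α]

theorem invo_of_conj {x z : Perm α} (hx : x * x = 1) (h : IsConj x z) : z * z = 1 := by
  obtain ⟨g, rfl⟩ := isConj_iff.1 h
  have : g * x * g⁻¹ * (g * x * g⁻¹) = g * (x * x) * g⁻¹ := by group
  rw [this, hx, mul_one, mul_inv_cancel]

/-- The invariant of the improvement process. -/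
def Inv (x y z : Perm α) : Prop :=
  IsConj x z ∧ Odd (orderOf (x * z)) ∧ (∀ p, Even (per (z * y) p) → z p = x p) ∧
    ((∀ s, x s ≠ s) → (∃ p, Even (per (z * y) p)) → (∃ p, Odd (per (z * y) p)) →
      ∃ v, Odd (per (z * y) v) ∧ z v = x v)

/-- The number of bad points. -/
noncomputable def badCount (y z : Perm α) : ℕ :=
  (Finset.univ.filter (fun p => Even (per (z * y) p))).card

theorem badCount_lt {y z z' : Perm α}
    (h3 : ∀ p, Odd (per (z' * y) p) ∨ (per (z' * y) p = per (z * y) p ∧ z' p = z p))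
    (h4 : ∃ p, Even (per (z * y) p) ∧ Odd (per (z' * y) p)) : badCount y z' < badCount y z := by
  apply Finset.card_lt_card
  rw [Finset.ssubset_iff_of_subset]
  · obtain ⟨p, hp1, hp2⟩ := h4
    refine ⟨p, by simp [hp1], ?_⟩
    simp only [Finset.mem_filter, Finset.mem_univ, true_and]
    exact Nat.not_even_iff_odd.2 hp2
  · intro p
    simp only [Finset.mem_filter, Finset.mem_univ, true_and]
    intro hp
    rcases h3 p with h | h
    · exact absurd hp (Nat.not_even_iff_odd.2 h)
    · rw [← h.1]; exact hp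

theorem inv_I3 {x y z z' : Perm α} (hI3 : ∀ p, Even (per (z * y) p) → z p = x p)
    (h3 : ∀ p, Odd (per (z' * y) p) ∨ (per (z' * y) p = per (z * y) p ∧ z' p = z p)) :
    ∀ p, Even (per (z' * y) p) → z' p = x p := by
  intro p hp
  rcases h3 p with h | h
  · exact absurd hp (Nat.not_even_iff_odd.2 h)
  · rw [h.2]
    apply hI3
    rw [← h.1]; exact hp

theorem step {x y z : Perm α} (hx : x * x = 1) (hy : y * y = 1) (hxy : IsConj x y)
    (hcard : 5 ≤ Fintype.card α) (hInv : Inv x y z) (hbad : ∃ p, Even (per (z * y) p)) :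
    ∃ z', Inv x y z' ∧ badCount y z' < badCount y z := by
  obtain ⟨hxz, hodd, hI3, hI5⟩ := hInv
  have hz : z * z = 1 := invo_of_conj hx hxz
  have hzy : IsConj z y := hxz.symm.trans hxy
  have hc := card_fix_eq_of_conj hzy
  by_cases h1 : ∃ r, Even (per (z * y) r) ∧ (z r = r ∨ y r = r)
  · -- Move B
    have hq : ∃ q, y q = q ∧ Even (per (z * y) q) := by
      by_contra hcon
      push Not at hcon
      have h' := bad_fix_aux' hz hy hc (fun q hq => Nat.not_even_iff_odd.1 (hcon q hq))
      obtain ⟨r, hr1, hr2 | hr2⟩ := h1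
      · exact (Nat.not_even_iff_odd.2 (h' r hr2)) hr1
      · exact hcon r hr2 hr1
    have ht : ∃ t, z t = t ∧ Even (per (z * y) t) := by
      by_contra hcon
      push Not at hcon
      have h' := bad_fix_aux hz hy hc (fun q hq => Nat.not_even_iff_odd.1 (hcon q hq))
      obtain ⟨q, hq1, hq2⟩ := hq
      exact (Nat.not_even_iff_odd.2 (h' q hq1)) hq2
    obtain ⟨q, hq1, hq2⟩ := hq
    obtain ⟨t, ht1, ht2⟩ := ht
    obtain ⟨z', c1, c2, c3, c4⟩ := moveB hx hy hz hodd hI3 hq1 hq2 ht1 ht2
    refine ⟨z', ⟨hxz.trans c1, c2, inv_I3 hI3 c3, ?_⟩, badCount_lt c3 c4⟩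
    intro hnx
    obtain ⟨s, hs⟩ := exists_fix_of_conj hxz.symm ⟨t, ht1⟩
    exact absurd hs (hnx s)
  · have hnf : ∀ r, Even (per (z * y) r) → z r ≠ r ∧ y r ≠ r := by
      intro r hr
      constructor
      · intro h; exact h1 ⟨r, hr, Or.inl h⟩
      · intro h; exact h1 ⟨r, hr, Or.inr h⟩
    obtain ⟨p, hp⟩ := hbad
    by_cases h2 : ∃ t, z t = t
    · -- Move A
      obtain ⟨t, ht⟩ := h2
      obtain ⟨z', c1, c2, c3, c4⟩ := moveA hx hy hz hodd hI3 hnf hp ht
      refine ⟨z', ⟨hxz.trans c1, c2, inv_I3 hI3 c3, ?_⟩, badCount_lt c3 c4⟩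
      intro hnx
      obtain ⟨s, hs⟩ := exists_fix_of_conj hxz.symm ⟨t, ht⟩
      exact absurd hs (hnx s)
    · have hnz : ∀ r, z r ≠ r := fun r hr => h2 ⟨r, hr⟩
      have hny : ∀ r, y r ≠ r := by
        intro r hr
        exact h2 (exists_fix_of_conj hzy.symm ⟨r, hr⟩)
      have hnx : ∀ s, x s ≠ s := by
        intro r hr
        exact h2 (exists_fix_of_conj hxz ⟨r, hr⟩)
      by_cases h3 : ∃ v, Even (per (z * y) v) ∧ ¬ SameCycle (z * y) p v ∧
          ¬ SameCycle (z * y) (z p) v
      · -- two bad cycle pairs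
        obtain ⟨v, hv, hv1, hv2⟩ := h3
        obtain ⟨z', c1, c2, c3, c4, c5⟩ := moveH1 hx hy hz hodd hI3 hnz hny hp hv hv1 hv2
        exact ⟨z', ⟨hxz.trans c1, c2, inv_I3 hI3 c3, fun _ _ _ => c5⟩, badCount_lt c3 c4⟩
      · have h3' : ∀ v, Even (per (z * y) v) → SameCycle (z * y) p v ∨
            SameCycle (z * y) (z p) v := by
          intro v hv
          by_contra hcon
          push Not at hcon
          exact h3 ⟨v, hv, hcon.1, hcon.2⟩
        have hfin : ∀ z' : Perm α, IsConj z z' → Odd (orderOf (x * z')) →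
            (∀ p, Odd (per (z' * y) p) ∨ (per (z' * y) p = per (z * y) p ∧ z' p = z p)) →
            (∀ p', SameCycle (z * y) p p' ∨ SameCycle (z * y) (z p) p' →
              Odd (per (z' * y) p')) → ∃ z', Inv x y z' ∧ badCount y z' < badCount y z := by
          intro z' c1 c2 c3 c4
          have hnone : ∀ p', ¬ Even (per (z' * y) p') := by
            intro p' hp'
            rcases c3 p' with h | h
            · exact (Nat.not_even_iff_odd.2 h) hp'
            · have : Even (per (z * y) p') := by rw [← h.1]; exact hp'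
              exact (Nat.not_even_iff_odd.2 (c4 p' (h3' p' this))) hp'
          refine ⟨z', ⟨hxz.trans c1, c2, inv_I3 hI3 c3, ?_⟩,
            badCount_lt c3 ⟨p, hp, c4 p (Or.inl (SameCycle.refl _ _))⟩⟩
          intro _ hb
          obtain ⟨p', hp'⟩ := hb
          exact absurd hp' (hnone p')
        by_cases h4 : ∃ v, Odd (per (z * y) v)
        · obtain ⟨v, hv, hvx⟩ := hI5 hnx ⟨p, hp⟩ h4
          obtain ⟨z', c1, c2, c3, c4⟩ := moveH2 hx hy hz hodd hI3 hnz hny hp hv hvx
          exact hfin z' c1 c2 c3 c4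
        · have hall : ∀ v, Even (per (z * y) v) := by
            intro v
            by_contra hcon
            exact h4 ⟨v, Nat.not_even_iff_odd.1 hcon⟩
          have hp2 : per (z * y) p ≠ 2 := by
            intro hper
            have hper' : per (z * y) (z p) = 2 := by rw [per_refl hz hy, hper]
            have hsub : (Finset.univ : Finset α) ⊆
                {p, (z * y) p, z p, (z * y) (z p)} := by
              intro a _
              rcases h3' a (hall a) with h | h
              · obtain ⟨i, hi, rfl⟩ := sameCycle_iff_lt.1 h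
                rw [hper] at hi
                interval_cases i <;> simp
              · obtain ⟨i, hi, rfl⟩ := sameCycle_iff_lt.1 h
                rw [hper'] at hi
                interval_cases i <;> simp
            have h5 := Finset.card_le_card hsub
            have h6 : ({p, (z * y) p, z p, (z * y) (z p)} : Finset α).card ≤ 4 :=
              Finset.card_le_four
            rw [Finset.card_univ] at h5
            omega
          obtain ⟨z', c1, c2, c3, c4⟩ := moveH3 hx hy hz hodd hI3 hnz hny hp hp2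
          exact hfin z' c1 c2 c3 c4

theorem exists_mid_aux {x y : Perm α} (hx : x * x = 1) (hy : y * y = 1) (hxy : IsConj x y)
    (hcard : 5 ≤ Fintype.card α) :
    ∀ n : ℕ, ∀ z : Perm α, Inv x y z → badCount y z = n →
      ∃ z', IsConj x z' ∧ Odd (orderOf (x * z')) ∧ Odd (orderOf (z' * y)) := by
  intro n
  induction n using Nat.strong_induction_on with
  | _ n ih =>
    intro z hInv hn
    by_cases hbad : ∃ p, Even (per (z * y) p)
    · obtain ⟨z', h1, h2⟩ := step hx hy hxy hcard hInv hbad
      exact ih (badCount y z') (hn ▸ h2) z' h1 rfl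
    · refine ⟨z, hInv.1, hInv.2.1, ?_⟩
      rw [odd_orderOf_iff]
      intro a
      by_contra h
      exact hbad ⟨a, Nat.not_odd_iff_even.1 h⟩

/-- Any two conjugate involutions have a common "odd neighbour" (possibly equal to one of them). -/
theorem exists_mid {x y : Perm α} (hx : x * x = 1) (hy : y * y = 1) (hxy : IsConj x y)
    (hcard : 5 ≤ Fintype.card α) :
    ∃ z, IsConj x z ∧ Odd (orderOf (x * z)) ∧ Odd (orderOf (z * y)) := by
  apply exists_mid_aux hx hy hxy hcard (badCount y x) x _ rfl
  refine ⟨IsConj.refl x, ?_, fun _ _ => rfl, ?_⟩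
  · rw [hx, orderOf_one]; exact odd_one
  · intro _ _ h
    obtain ⟨v, hv⟩ := h
    exact ⟨v, hv, rfl⟩

end Cfsg.Agent.Lib.helper63.IG
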