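import Cfsg.Agent.Lib.helper63.IGBasic

set_option autoImplicit false
set_option linter.unusedSectionVars false

namespace Cfsg.Agent.Lib.helper63.IG

open Equiv Equiv.Perm

variable {α : Type*} [Fintype α] [DecidableEq α]

theorem inv_apply_self' (f : Perm α) (x : α) : f⁻¹ (f x) = x := by simp

theorem apply_inv_self' (f : Perm α) (x : α) : f (f⁻¹ x) = x := by simp

theorem invo_apply {z : Perm α} (hz : z * z = 1) (p : α) : z (z p) = p := by
  rw [← Perm.mul_apply, hz, Perm.one_apply]

theorem invo_inv {z : Perm α} (hz : z * z = 1) : z⁻¹ = z :=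
  inv_eq_of_mul_eq_one_right hz

theorem refl_pow {z y : Perm α} (hz : z * z = 1) (hy : y * y = 1) (k : ℕ) (p : α) :
    z (((z * y) ^ k) p) = ((z * y) ^ k)⁻¹ (z p) := by
  induction k generalizing p with
  | zero => simp
  | succ k ih =>
    have h1 : ((z * y) ^ (k + 1)) p = ((z * y) ^ k) ((z * y) p) := by
      rw [pow_succ, Perm.mul_apply]
    have h2 : ((z * y) ^ (k + 1))⁻¹ (z p) = ((z * y) ^ k)⁻¹ ((z * y)⁻¹ (z p)) := by
      rw [pow_succ', mul_inv_rev, Perm.mul_apply]
    have h3 : (z * y)⁻¹ (z p) = y p := by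
      rw [Perm.inv_eq_iff_eq, Perm.mul_apply, invo_apply hy]
    rw [h1, ih, h2, h3, Perm.mul_apply, invo_apply hz]

theorem per_refl {z y : Perm α} (hz : z * z = 1) (hy : y * y = 1) (p : α) :
    per (z * y) (z p) = per (z * y) p := by
  apply Nat.dvd_antisymm
  · rw [← pow_fix_iff]
    have h := refl_pow hz hy (per (z * y) p) p
    rw [pow_per, eq_comm, Perm.inv_eq_iff_eq] at h
    exact h.symm
  · rw [← pow_fix_iff]
    have h := refl_pow hz hy (per (z * y) (z p)) (z p)
    rw [pow_per, invo_apply hz, eq_comm, Perm.inv_eq_iff_eq] at h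
    exact h.symm

theorem sameCycle_refl {z y : Perm α} (hz : z * z = 1) (hy : y * y = 1) {p p' : α}
    (h : SameCycle (z * y) p p') : SameCycle (z * y) (z p) (z p') := by
  obtain ⟨i, rfl⟩ := h.exists_nat_pow_eq
  rw [refl_pow hz hy]
  have : SameCycle (z * y) (((z * y) ^ i)⁻¹ (z p)) (z p) := by
    refine ⟨i, ?_⟩
    rw [zpow_natCast, apply_inv_self']
  exact this.symm

theorem apply_y_eq {z y : Perm α} (hz : z * z = 1) (p : α) : y p = z ((z * y) p) := by
  rw [Perm.mul_apply, invo_apply hz]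

theorem per_refl_y {z y : Perm α} (hz : z * z = 1) (hy : y * y = 1) (p : α) :
    per (z * y) (y p) = per (z * y) p := by
  rw [apply_y_eq hz p, per_refl hz hy]
  exact (per_eq_of_sameCycle (sameCycle_apply_right.2 (SameCycle.refl _ _))).symm

theorem sameCycle_refl_y {z y : Perm α} (hz : z * z = 1) (hy : y * y = 1) {p p' : α}
    (h : SameCycle (z * y) p p') : SameCycle (z * y) (y p) (y p') := by
  rw [apply_y_eq hz p, apply_y_eq hz p']
  apply sameCycle_refl hz hy
  exact sameCycle_apply_left.2 (sameCycle_apply_right.2 h)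

/-- If a cycle of `z * y` is stable under `z`, it contains a fixed point of `z` or of `y`. -/
theorem claimC {z y : Perm α} (hz : z * z = 1) (hy : y * y = 1) {p : α}
    (h : SameCycle (z * y) p (z p)) :
    ∃ r, SameCycle (z * y) p r ∧ (z r = r ∨ y r = r) := by
  obtain ⟨i, hi⟩ := h.exists_nat_pow_eq
  rcases Nat.even_or_odd' i with ⟨j, rfl | rfl⟩
  · refine ⟨((z * y) ^ j) p, sameCycle_pow _ _ _, Or.inl ?_⟩
    rw [refl_pow hz hy, ← hi, two_mul, pow_add, Perm.mul_apply, inv_apply_self']
  · refine ⟨((z * y) ^ j) p, sameCycle_pow _ _ _, Or.inr ?_⟩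
    rw [apply_y_eq hz, ← Perm.mul_apply (z * y), ← pow_succ', refl_pow hz hy, ← hi]
    have : 2 * j + 1 = (j + 1) + j := by ring
    rw [this, pow_add (z * y) (j + 1) j, Perm.mul_apply, inv_apply_self']

/-- A cycle of `z * y` containing a fixed point of `z` and a fixed point of `y` is odd. -/
theorem claimD {z y : Perm α} (hz : z * z = 1) (hy : y * y = 1) {r s : α} (hr : z r = r)
    (hs : y s = s) (h : SameCycle (z * y) r s) : Odd (per (z * y) r) := by
  obtain ⟨i, rfl⟩ := h.exists_nat_pow_eq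
  rw [apply_y_eq hz, ← Perm.mul_apply (z * y), ← pow_succ', refl_pow hz hy, hr,
    Perm.inv_eq_iff_eq, ← Perm.mul_apply, ← pow_add] at hs
  have h1 : per (z * y) r ∣ i + 1 + i := (pow_fix_iff _ _ _).1 hs.symm
  exact Odd.of_dvd_nat ⟨i, by ring⟩ h1

theorem per_inv (σ : Perm α) (a : α) : per σ⁻¹ a = per σ a := by
  apply Nat.dvd_antisymm
  · rw [← pow_fix_iff, inv_pow, Perm.inv_eq_iff_eq, pow_per]
  · rw [← pow_fix_iff]
    have := pow_per σ⁻¹ a
    rw [inv_pow, Perm.inv_eq_iff_eq] at this
    exact this.symm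

theorem card_goodFix_le {u v : Perm α} (hu : u * u = 1) (hv : v * v = 1) :
    (Finset.univ.filter (fun s => v s = s ∧ Odd (per (u * v) s))).card ≤
      (Finset.univ.filter (fun r => u r = r ∧ Odd (per (u * v) r))).card := by
  apply Finset.card_le_card_of_injOn
    (fun s => ((u * v) ^ ((per (u * v) s + 1) / 2)) s)
  · intro s hs
    simp only [Finset.coe_filter, Finset.mem_univ, true_and, Set.mem_ofPred_eq] at hs ⊢
    obtain ⟨hs1, hs2⟩ := hs
    constructor
    · rw [refl_pow hu hv]
      have h1 : u s = (u * v) s := by rw [Perm.mul_apply, hs1]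
      rw [h1, Perm.inv_eq_iff_eq, ← Perm.mul_apply, ← pow_add]
      obtain ⟨j, hj⟩ := hs2
      have h2 : (per (u * v) s + 1) / 2 + (per (u * v) s + 1) / 2 = per (u * v) s + 1 := by
        omega
      rw [h2, pow_succ', Perm.mul_apply (u * v) ((u * v) ^ _), pow_per]
    · rw [← per_eq_of_sameCycle (sameCycle_pow (u * v) s _)]
      exact hs2
  · intro s hs s' hs' h
    simp only at h
    have h1 : SameCycle (u * v) s s' := by
      have a1 := sameCycle_pow (u * v) s ((per (u * v) s + 1) / 2)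
      have a2 := sameCycle_pow (u * v) s' ((per (u * v) s' + 1) / 2)
      rw [h] at a1
      exact a1.trans a2.symm
    rw [per_eq_of_sameCycle h1] at h
    exact ((u * v) ^ ((per (u * v) s' + 1) / 2)).injective h

theorem card_fix_le_of_conj {z y g : Perm α} (h : g * z * g⁻¹ = y) :
    (Finset.univ.filter (fun p => z p = p)).card ≤ (Finset.univ.filter (fun p => y p = p)).card := by
  apply Finset.card_le_card_of_injOn g
  · intro p hp
    simp only [Finset.coe_filter, Finset.mem_univ, true_and, Set.mem_ofPred_eq] at hp ⊢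
    rw [← h, Perm.mul_apply, Perm.mul_apply, inv_apply_self', hp]
  · exact g.injective.injOn

theorem card_fix_eq_of_conj {z y : Perm α} (h : IsConj z y) :
    (Finset.univ.filter (fun p => z p = p)).card = (Finset.univ.filter (fun p => y p = p)).card := by
  obtain ⟨g, hg⟩ := isConj_iff.1 h
  apply le_antisymm (card_fix_le_of_conj hg)
  apply card_fix_le_of_conj (g := g⁻¹)
  rw [← hg]; group

theorem exists_fix_of_conj {z y : Perm α} (h : IsConj z y) (hz : ∃ t, z t = t) : ∃ s, y s = s := by
  obtain ⟨g, hg⟩ := isConj_iff.1 h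
  obtain ⟨t, ht⟩ := hz
  exact ⟨g t, by rw [← hg, Perm.mul_apply, Perm.mul_apply, inv_apply_self', ht]⟩

theorem card_goodFix_eq {z y : Perm α} (hz : z * z = 1) (hy : y * y = 1) :
    (Finset.univ.filter (fun s => y s = s ∧ Odd (per (z * y) s))).card =
      (Finset.univ.filter (fun r => z r = r ∧ Odd (per (z * y) r))).card := by
  apply le_antisymm (card_goodFix_le hz hy)
  have h := card_goodFix_le hy hz
  have h1 : ∀ s, per (y * z) s = per (z * y) s := by
    intro s
    have : y * z = (z * y)⁻¹ := by rw [mul_inv_rev, invo_inv hz, invo_inv hy]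
    rw [this, per_inv]
  simp only [h1] at h
  exact h

theorem bad_fix_aux {z y : Perm α} (hz : z * z = 1) (hy : y * y = 1)
    (hc : (Finset.univ.filter (fun p => z p = p)).card = (Finset.univ.filter (fun p => y p = p)).card)
    (h : ∀ t, z t = t → Odd (per (z * y) t)) : ∀ q, y q = q → Odd (per (z * y) q) := by
  have h1 : Finset.univ.filter (fun r => z r = r ∧ Odd (per (z * y) r)) =
      Finset.univ.filter (fun p => z p = p) := by
    ext r
    simp only [Finset.mem_filter, Finset.mem_univ, true_and]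
    exact ⟨fun hr => hr.1, fun hr => ⟨hr, h r hr⟩⟩
  have h2 : Finset.univ.filter (fun s => y s = s ∧ Odd (per (z * y) s)) ⊆
      Finset.univ.filter (fun p => y p = p) := by
    intro r
    simp only [Finset.mem_filter, Finset.mem_univ, true_and]
    exact fun hr => hr.1
  have h3 := Finset.eq_of_subset_of_card_le h2 (by rw [card_goodFix_eq hz hy, h1, hc])
  intro q hq
  have : q ∈ Finset.univ.filter (fun s => y s = s ∧ Odd (per (z * y) s)) := by
    rw [h3]; simp [hq]
  simp only [Finset.mem_filter, Finset.mem_univ, true_and] at this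
  exact this.2

theorem bad_fix_aux' {z y : Perm α} (hz : z * z = 1) (hy : y * y = 1)
    (hc : (Finset.univ.filter (fun p => z p = p)).card = (Finset.univ.filter (fun p => y p = p)).card)
    (h : ∀ q, y q = q → Odd (per (z * y) q)) : ∀ t, z t = t → Odd (per (z * y) t) := by
  have h1 : Finset.univ.filter (fun r => y r = r ∧ Odd (per (z * y) r)) =
      Finset.univ.filter (fun p => y p = p) := by
    ext r
    simp only [Finset.mem_filter, Finset.mem_univ, true_and]
    exact ⟨fun hr => hr.1, fun hr => ⟨hr, h r hr⟩⟩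
  have h2 : Finset.univ.filter (fun s => z s = s ∧ Odd (per (z * y) s)) ⊆
      Finset.univ.filter (fun p => z p = p) := by
    intro r
    simp only [Finset.mem_filter, Finset.mem_univ, true_and]
    exact fun hr => hr.1
  have h3 := Finset.eq_of_subset_of_card_le h2 (by rw [← card_goodFix_eq hz hy, h1, hc])
  intro q hq
  have : q ∈ Finset.univ.filter (fun s => z s = s ∧ Odd (per (z * y) s)) := by
    rw [h3]; simp [hq]
  simp only [Finset.mem_filter, Finset.mem_univ, true_and] at this
  exact this.2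

theorem conj_swap_isConj (z : Perm α) (a b : α) : IsConj z (swap a b * z * swap a b) := by
  rw [isConj_iff]
  exact ⟨swap a b, by rw [swap_inv]⟩

theorem conj_swap_mul_right (z y : Perm α) (a b : α) :
    swap a b * z * swap a b * y = swap a b * swap (z a) (z b) * (z * y) := by
  rw [mul_assoc (swap a b) z, mul_swap_eq_swap_mul]
  simp only [mul_assoc]

theorem conj_swap_mul_left (x z : Perm α) (a b : α) :
    x * (swap a b * z * swap a b) = swap (x a) (x b) * (x * z) * swap a b := by
  rw [show x * (swap a b * z * swap a b) = (x * swap a b) * z * swap a b by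
    simp only [mul_assoc], mul_swap_eq_swap_mul x a b]
  simp only [mul_assoc]

theorem conj_swap_apply {z : Perm α} (hz : z * z = 1) {a b p : α} (h1 : p ≠ a) (h2 : p ≠ b)
    (h3 : p ≠ z a) (h4 : p ≠ z b) : (swap a b * z * swap a b) p = z p := by
  rw [Perm.mul_apply, Perm.mul_apply, swap_apply_of_ne_of_ne h1 h2]
  apply swap_apply_of_ne_of_ne
  · intro h; apply h3; rw [← h, invo_apply hz]
  · intro h; apply h4; rw [← h, invo_apply hz]

theorem commute_swap_of_fixed {σ : Perm α} {a b : α} (ha : σ a = a) (hb : σ b = b) :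
    σ * swap a b = swap a b * σ := by
  rw [mul_swap_eq_swap_mul, ha, hb]

theorem odd_triple {σ : Perm α} (h : Odd (orderOf σ)) {a b c : α} (hab : a ≠ b) (hac : a ≠ c)
    (hbc : b ≠ c) (ha : σ a = a) (hb : σ b = b) (hc : σ c = c) :
    Odd (orderOf (swap a b * swap a c * σ)) := by
  have h3 : (swap a b * swap a c) ^ 3 = 1 := by
    have := (isThreeCycle_swap_mul_swap_same hab hac hbc).orderOf
    rw [← this]; exact pow_orderOf_eq_one _
  have hcomm : Commute (swap a b * swap a c) σ := by
    have h1 : Commute (swap a b) σ := (commute_swap_of_fixed ha hb).symm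
    have h2 : Commute (swap a c) σ := (commute_swap_of_fixed ha hc).symm
    exact h1.mul_left h2
  have h4 : (swap a b * swap a c * σ) ^ (3 * orderOf σ) = 1 := by
    rw [hcomm.mul_pow, pow_mul, h3, one_pow, mul_comm 3, pow_mul, pow_orderOf_eq_one, one_pow,
      mul_one]
  have h5 := orderOf_dvd_of_pow_eq_one h4
  exact Odd.of_dvd_nat (Odd.mul (by decide) h) h5

theorem triple_fixed {σ : Perm α} {a b c p : α} (hp : σ p = p) (h1 : p ≠ a) (h2 : p ≠ b)
    (h3 : p ≠ c) : (swap a b * swap a c * σ) p = p := by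
  rw [Perm.mul_apply, Perm.mul_apply, hp, swap_apply_of_ne_of_ne h1 h3,
    swap_apply_of_ne_of_ne h1 h2]

theorem IsCls.not_mem_cls {σ : Perm α} {X : Set α} {r : α} {ℓ : ℕ} (h : IsCls σ X r ℓ) {p a : α}
    (hp : p ∉ X) (ha : a ∈ X) : a ∉ {p' | SameCycle σ p p'} := by
  intro h1
  have h2 : SameCycle σ p a := h1
  exact hp ((h.1 p).2 (((h.1 a).1 ha).trans h2.symm))

/-- Move B: a bad fixed point of `y` and a bad fixed point of `z`. -/
theorem moveB {x y z : Perm α} (hx : x * x = 1) (hy : y * y = 1) (hz : z * z = 1)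
    (hodd : Odd (orderOf (x * z)))
    (hI3 : ∀ p, Even (per (z * y) p) → z p = x p)
    {q t : α} (hq : y q = q) (hqb : Even (per (z * y) q)) (ht : z t = t)
    (htb : Even (per (z * y) t)) :
    ∃ z' : Perm α, IsConj z z' ∧ Odd (orderOf (x * z')) ∧
      (∀ p, Odd (per (z' * y) p) ∨ (per (z' * y) p = per (z * y) p ∧ z' p = z p)) ∧
      (∃ p, Even (per (z * y) p) ∧ Odd (per (z' * y) p)) := by
  obtain ⟨W, hW⟩ : ∃ W : Perm α, W = z * y := ⟨_, rfl⟩
  rw [← hW] at hqb htb hI3 ⊢
  have hWq : W q = z q := by rw [hW, Perm.mul_apply, hq]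
  have ha1q : z q ≠ q := by
    intro h
    have : per W q = 1 := (per_eq_one_iff W q).2 (by rw [hWq, h])
    rw [this] at hqb
    exact absurd hqb (by decide)
  obtain ⟨A, hAdef⟩ : ∃ A : Set α, A = {p | SameCycle W q p} := ⟨_, rfl⟩
  obtain ⟨T, hTdef⟩ : ∃ T : Set α, T = {p | SameCycle W t p} := ⟨_, rfl⟩
  have hA : IsCls W A q (per W q) := hAdef ▸ isCls_self W q
  have hT : IsCls W T t (per W t) := hTdef ▸ isCls_self W t
  have htA : t ∉ A := by
    intro h
    have h1 : SameCycle W t q := ((hA.1 t).1 h).symm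
    rw [hW] at h1
    have := claimD hz hy ht hq h1
    rw [← hW] at this
    exact (Nat.not_even_iff_odd.2 this) htb
  have ha1A : z q ∈ A := by
    have := hA.apply_mem hA.rep_mem
    rwa [hWq] at this
  have hqA : q ∈ A := hA.rep_mem
  have hqt : q ≠ t := fun h => htA (h ▸ hqA)
  have ha1t : z q ≠ t := fun h => htA (h ▸ ha1A)
  have hW' : swap q t * z * swap q t * y = swap q t * (swap (z q) t * W) := by
    rw [conj_swap_mul_right, ht, mul_assoc, hW]
  have hσ1q : (swap (z q) t * W) q = t := by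
    rw [Perm.mul_apply, hWq, swap_apply_left]
  have hM : IsCls (swap (z q) t * W) (A ∪ T) (z q) (per W q + per W t) :=
    merge_cls (hA.change_rep ha1A) hT htA
  have hM' : IsCls (swap (z q) t * W) (A ∪ T) q (per W q + per W t) :=
    hM.change_rep (Or.inl hqA)
  have hS := skip_cls hM' (by rw [hσ1q]; exact Ne.symm hqt)
  rw [hσ1q] at hS
  have hfix : (swap q t * (swap (z q) t * W)) q = q := by
    have := skip_fix (swap (z q) t * W) q
    rwa [hσ1q] at this
  refine ⟨swap q t * z * swap q t, conj_swap_isConj z q t, ?_, ?_, ?_⟩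
  · -- x * z'
    have hxq : x q = z q := (hI3 q hqb).symm
    have hxt : x t = t := by rw [← hI3 t htb, ht]
    have hxa : x (z q) = q := by rw [← hxq, invo_apply hx]
    have h1 : (x * z) q = q := by rw [Perm.mul_apply, hxa]
    have h2 : (x * z) t = t := by rw [Perm.mul_apply, ht, hxt]
    have h3 : (x * z) (z q) = z q := by rw [Perm.mul_apply, invo_apply hz, hxq]
    have : x * (swap q t * z * swap q t) = swap t (z q) * swap t q * (x * z) := by
      rw [conj_swap_mul_left, hxq, hxt, mul_assoc, commute_swap_of_fixed h1 h2, ← mul_assoc,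
        swap_comm (z q) t, swap_comm q t]
    rw [this]
    exact odd_triple hodd (Ne.symm ha1t) (Ne.symm hqt) ha1q h2 h3 h1
  · intro p
    rw [hW']
    by_cases hp : p ∈ A ∪ T
    · left
      by_cases hpq : p = q
      · rw [hpq, (per_eq_one_iff _ _).2 hfix]; exact odd_one
      · rw [hS.per_eq ⟨hp, hpq⟩]
        have e1 := Nat.even_iff.1 hqb
        have e2 := Nat.even_iff.1 htb
        have p1 := per_pos W q
        rw [Nat.odd_iff]; omega
    · right
      have hpA : p ∉ A := fun h => hp (Or.inl h)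
      have hpT : p ∉ T := fun h => hp (Or.inr h)
      have c0 := isCls_self W p
      have c1 := unaff_cls c0 (hA.not_mem_cls hpA ha1A) (hT.not_mem_cls hpT hT.rep_mem)
      have c2 := unaff_cls c1 (hA.not_mem_cls hpA hqA) (hT.not_mem_cls hpT hT.rep_mem)
      refine ⟨c2.2, ?_⟩
      apply conj_swap_apply hz
      · exact fun h => hpA (h ▸ hqA)
      · exact fun h => hpT (h ▸ hT.rep_mem)
      · exact fun h => hpA (h ▸ ha1A)
      · rw [ht]; exact fun h => hpT (h ▸ hT.rep_mem)
  · refine ⟨q, hqb, ?_⟩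
    rw [hW', (per_eq_one_iff _ _).2 hfix]; exact odd_one

/-- Move A: a bad point (no bad fixed points around) and a fixed point of `z`. -/
theorem moveA {x y z : Perm α} (hx : x * x = 1) (hy : y * y = 1) (hz : z * z = 1)
    (hodd : Odd (orderOf (x * z)))
    (hI3 : ∀ p, Even (per (z * y) p) → z p = x p)
    (hnf : ∀ r, Even (per (z * y) r) → z r ≠ r ∧ y r ≠ r)
    {p t : α} (hp : Even (per (z * y) p)) (ht : z t = t) :
    ∃ z' : Perm α, IsConj z z' ∧ Odd (orderOf (x * z')) ∧
      (∀ p, Odd (per (z' * y) p) ∨ (per (z' * y) p = per (z * y) p ∧ z' p = z p)) ∧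
      (∃ p, Even (per (z * y) p) ∧ Odd (per (z' * y) p)) := by
  obtain ⟨W, hW⟩ : ∃ W : Perm α, W = z * y := ⟨_, rfl⟩
  have hperq : per W (z p) = per W p := by rw [hW]; exact per_refl hz hy p
  rw [← hW] at hp hI3 hnf ⊢
  have htodd : Odd (per W t) := by
    by_contra h
    exact (hnf t (Nat.not_odd_iff_even.1 h)).1 ht
  have hqb : Even (per W (z p)) := by rw [hperq]; exact hp
  obtain ⟨A₁, hA₁def⟩ : ∃ A : Set α, A = {p' | SameCycle W p p'} := ⟨_, rfl⟩
  obtain ⟨A₂, hA₂def⟩ : ∃ A : Set α, A = {p' | SameCycle W (z p) p'} := ⟨_, rfl⟩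
  obtain ⟨T, hTdef⟩ : ∃ T : Set α, T = {p' | SameCycle W t p'} := ⟨_, rfl⟩
  have hA₁ : IsCls W A₁ p (per W p) := hA₁def ▸ isCls_self W p
  have hA₂ : IsCls W A₂ (z p) (per W p) := by
    have := isCls_self W (z p)
    rw [hperq] at this
    exact hA₂def ▸ this
  have hT : IsCls W T t (per W t) := hTdef ▸ isCls_self W t
  have hqA₁ : z p ∉ A₁ := by
    intro h
    have h1 : SameCycle W p (z p) := (hA₁.1 _).1 h
    rw [hW] at h1
    obtain ⟨r, hr1, hr2⟩ := claimC hz hy h1
    rw [← hW] at hr1
    have hr3 : Even (per W r) := by rw [← per_eq_of_sameCycle hr1]; exact hp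
    rcases hr2 with hr2 | hr2
    · exact (hnf r hr3).1 hr2
    · exact (hnf r hr3).2 hr2
  have htA₁ : t ∉ A₁ := by
    intro h
    have := hA₁.per_eq h
    rw [this] at htodd
    exact (Nat.not_even_iff_odd.2 htodd) hp
  have htA₂ : t ∉ A₂ := by
    intro h
    have := hA₂.per_eq h
    rw [this] at htodd
    exact (Nat.not_even_iff_odd.2 htodd) hp
  have hpA₁ : p ∈ A₁ := hA₁.rep_mem
  have hqA₂ : z p ∈ A₂ := hA₂.rep_mem
  have hpA₂ : p ∉ A₂ := by
    intro h
    exact hqA₁ ((hA₁.1 _).2 ((hA₂.1 _).1 h).symm)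
  have hpT : p ∉ T := by
    intro h
    exact htA₁ ((hA₁.1 _).2 ((hT.1 _).1 h).symm)
  have hpt : p ≠ t := fun h => htA₁ (h ▸ hpA₁)
  have hqt : z p ≠ t := fun h => htA₂ (h ▸ hqA₂)
  have hqp : z p ≠ p := fun h => hqA₁ (by rw [h]; exact hpA₁)
  have hW' : swap p t * z * swap p t * y = swap p t * (swap (z p) t * W) := by
    rw [conj_swap_mul_right, ht, mul_assoc, hW]
  have hM : IsCls (swap (z p) t * W) (A₂ ∪ T) (z p) (per W p + per W t) :=
    merge_cls hA₂ hT htA₂
  have hA₁' : IsCls (swap (z p) t * W) A₁ p (per W p) := unaff_cls hA₁ hqA₁ htA₁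
  have hM2 : IsCls (swap p t * (swap (z p) t * W)) (A₁ ∪ (A₂ ∪ T)) p
      (per W p + (per W p + per W t)) :=
    merge_cls hA₁' (hM.change_rep (Or.inr hT.rep_mem)) htA₁
  refine ⟨swap p t * z * swap p t, conj_swap_isConj z p t, ?_, ?_, ?_⟩
  · -- x * z'
    have hxp : x p = z p := (hI3 p hp).symm
    have hxq : x (z p) = p := by rw [← hxp, invo_apply hx]
    have h1 : (x * z) p = p := by rw [Perm.mul_apply, hxq]
    have h2 : (x * z) (z p) = z p := by rw [Perm.mul_apply, invo_apply hz, hxp]
    have h3 : (x * z) t = x t := by rw [Perm.mul_apply, ht]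
    have key : x * (swap p t * z * swap p t) = swap (z p) (x t) * (swap p (x t) * (x * z)) := by
      rw [conj_swap_mul_left, hxp, mul_assoc, mul_swap_eq_swap_mul, h1, h3]
    rw [key, odd_orderOf_iff]
    have hall := (odd_orderOf_iff (x * z)).1 hodd
    obtain ⟨E, hEdef⟩ : ∃ E : Set α, E = {p' | SameCycle (x * z) (x t) p'} := ⟨_, rfl⟩
    have hE : IsCls (x * z) E (x t) (per (x * z) (x t)) := hEdef ▸ isCls_self (x * z) (x t)
    have hxtp : x t ≠ p := by
      intro h
      rw [← h3] at h
      exact hpt ((x * z).injective (h.trans h1.symm)).symm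
    have hxtq : x t ≠ z p := by
      intro h
      rw [← h3] at h
      exact hqt ((x * z).injective (h.trans h2.symm)).symm
    have hpE : p ∉ E := by
      intro h
      have h4 : SameCycle (x * z) p (x t) := ((hE.1 _).1 h).symm
      exact hxtp ((sameCycle_fixed h1).1 h4)
    have hqE : z p ∉ E := by
      intro h
      have h4 : SameCycle (x * z) (z p) (x t) := ((hE.1 _).1 h).symm
      exact hxtq ((sameCycle_fixed h2).1 h4)
    have m1 : IsCls (swap p (x t) * (x * z)) ({p} ∪ E) p (1 + per (x * z) (x t)) :=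
      merge_cls (isCls_fixed h1) hE (fun h => hxtp h)
    have f2 : IsCls (swap p (x t) * (x * z)) {z p} (z p) 1 :=
      unaff_cls (isCls_fixed h2) (fun h => hqp h.symm) (fun h => hxtq h)
    have m2 : IsCls (swap (z p) (x t) * (swap p (x t) * (x * z))) ({z p} ∪ ({p} ∪ E)) (z p)
        (1 + (1 + per (x * z) (x t))) :=
      merge_cls f2 (m1.change_rep (Or.inr hE.rep_mem)) (fun h => hxtq h)
    intro a
    by_cases ha : a ∈ ({z p} ∪ ({p} ∪ E) : Set α)
    · rw [m2.per_eq ha]
      have := Nat.odd_iff.1 (hall (x t))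
      rw [Nat.odd_iff]; omega
    · have ha1 : a ≠ z p := fun h => ha (Or.inl h)
      have ha2 : a ≠ p := fun h => ha (Or.inr (Or.inl h))
      have ha3 : a ∉ E := fun h => ha (Or.inr (Or.inr h))
      have c0 := isCls_self (x * z) a
      have hpc : p ∉ {p' | SameCycle (x * z) a p'} := by
        intro h
        have h5 : SameCycle (x * z) a p := h
        exact ha2 ((sameCycle_fixed h1).1 h5.symm)
      have hqc : z p ∉ {p' | SameCycle (x * z) a p'} := by
        intro h
        have h5 : SameCycle (x * z) a (z p) := h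
        exact ha1 ((sameCycle_fixed h2).1 h5.symm)
      have c1 := unaff_cls c0 hpc (hE.not_mem_cls ha3 hE.rep_mem)
      have c2 := unaff_cls c1 hqc (hE.not_mem_cls ha3 hE.rep_mem)
      rw [c2.2]
      exact hall a
  · intro p'
    rw [hW']
    by_cases hp' : p' ∈ A₁ ∪ (A₂ ∪ T)
    · left
      rw [hM2.per_eq hp']
      have e1 := Nat.even_iff.1 hp
      have e2 := Nat.odd_iff.1 htodd
      rw [Nat.odd_iff]; omega
    · right
      have h1 : p' ∉ A₁ := fun h => hp' (Or.inl h)
      have h2 : p' ∉ A₂ := fun h => hp' (Or.inr (Or.inl h))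
      have h3 : p' ∉ T := fun h => hp' (Or.inr (Or.inr h))
      have c0 := isCls_self W p'
      have c1 := unaff_cls c0 (hA₂.not_mem_cls h2 hqA₂) (hT.not_mem_cls h3 hT.rep_mem)
      have c2 := unaff_cls c1 (hA₁.not_mem_cls h1 hpA₁) (hT.not_mem_cls h3 hT.rep_mem)
      refine ⟨c2.2, ?_⟩
      apply conj_swap_apply hz
      · exact fun h => h1 (h ▸ hpA₁)
      · exact fun h => h3 (h ▸ hT.rep_mem)
      · exact fun h => h2 (h ▸ hqA₂)
      · rw [ht]; exact fun h => h3 (h ▸ hT.rep_mem)
  · refine ⟨p, hp, ?_⟩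
    rw [hW', hM2.per_eq (Or.inl hpA₁)]
    have e1 := Nat.even_iff.1 hp
    have e2 := Nat.odd_iff.1 htodd
    rw [Nat.odd_iff]; omega

end Cfsg.Agent.Lib.helper63.IG
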