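import Cfsg.Agent.Lib.helper63.IGMoves1

set_option autoImplicit false
set_option linter.unusedSectionVars false
set_option linter.unusedVariables false

namespace Cfsg.Agent.Lib.helper63.IG

open Equiv Equiv.Perm

variable {α : Type*} [Fintype α] [DecidableEq α]

theorem viaEmb_swap {k : ℕ} (f : Fin k ↪ α) (i j : Fin k) :
    Equiv.Perm.viaEmbeddingHom f (swap i j) = swap (f i) (f j) := by
  ext p
  rw [Equiv.Perm.viaEmbeddingHom_apply]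
  by_cases hp : p ∈ Set.range f
  · obtain ⟨q, rfl⟩ := hp
    rw [Equiv.Perm.viaEmbedding_apply, f.injective.swap_apply]
  · rw [Equiv.Perm.viaEmbedding_apply_of_notMem _ _ _ hp]
    rw [swap_apply_of_ne_of_ne] <;> rintro rfl <;> exact hp ⟨_, rfl⟩

theorem nodup6 {a0 a1 a2 a3 a4 a5 : α} (h01 : a0 ≠ a1) (h02 : a0 ≠ a2) (h03 : a0 ≠ a3)
    (h04 : a0 ≠ a4) (h05 : a0 ≠ a5) (h12 : a1 ≠ a2) (h13 : a1 ≠ a3) (h14 : a1 ≠ a4)
    (h15 : a1 ≠ a5) (h23 : a2 ≠ a3) (h24 : a2 ≠ a4) (h25 : a2 ≠ a5) (h34 : a3 ≠ a4)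
    (h35 : a3 ≠ a5) (h45 : a4 ≠ a5) : [a0, a1, a2, a3, a4, a5].Nodup := by
  simp [*]

theorem exists_emb6 {a0 a1 a2 a3 a4 a5 : α} (h : [a0, a1, a2, a3, a4, a5].Nodup) :
    ∃ f : Fin 6 ↪ α, f 0 = a0 ∧ f 1 = a1 ∧ f 2 = a2 ∧ f 3 = a3 ∧ f 4 = a4 ∧ f 5 = a5 := by
  refine ⟨⟨fun i : Fin 6 => [a0, a1, a2, a3, a4, a5].get i, ?_⟩, rfl, rfl, rfl, rfl, rfl, rfl⟩
  exact List.nodup_iff_injective_get.1 h

theorem ident1 {c₁ c₂ c₃ c₄ v u : α} (h : [c₁, c₂, c₃, c₄, v, u].Nodup) :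
    swap c₄ u * swap c₂ v * swap c₂ c₃ * swap c₁ c₄ =
      swap c₃ u * swap c₄ u * swap c₂ c₁ * swap c₁ v * swap c₂ c₄ * swap c₃ c₁ := by
  obtain ⟨f, h0, h1, h2, h3, h4, h5⟩ := exists_emb6 h
  have e : (swap 3 5 * swap 1 4 * swap 1 2 * swap 0 3 : Perm (Fin 6)) =
      swap 2 5 * swap 3 5 * swap 1 0 * swap 0 4 * swap 1 3 * swap 2 0 := by decide
  have := congrArg (Equiv.Perm.viaEmbeddingHom f) e
  simp only [map_mul, viaEmb_swap, h0, h1, h2, h3, h4, h5] at this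
  exact this

theorem ident2 {c₁ c₂ c₃ c₄ c₅ c₆ : α} (h : [c₁, c₂, c₃, c₄, c₅, c₆].Nodup) :
    swap c₁ c₆ * swap c₄ c₅ * swap c₁ c₃ * swap c₂ c₄ =
      swap c₅ c₆ * swap c₄ c₁ * swap c₅ c₁ * swap c₄ c₆ * swap c₃ c₁ * swap c₂ c₄ := by
  obtain ⟨f, h0, h1, h2, h3, h4, h5⟩ := exists_emb6 h
  have e : (swap 0 5 * swap 3 4 * swap 0 2 * swap 1 3 : Perm (Fin 6)) =
      swap 4 5 * swap 3 0 * swap 4 0 * swap 3 5 * swap 2 0 * swap 1 3 := by decide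
  have := congrArg (Equiv.Perm.viaEmbeddingHom f) e
  simp only [map_mul, viaEmb_swap, h0, h1, h2, h3, h4, h5] at this
  exact this

theorem IsCls.disj {σ : Perm α} {X Y : Set α} {r r' : α} {ℓ ℓ' : ℕ} (hX : IsCls σ X r ℓ)
    (hY : IsCls σ Y r' ℓ') (h : r' ∉ X) {a : α} (ha : a ∈ X) : a ∉ Y := by
  intro h1
  exact h ((hX.1 r').2 (((hX.1 a).1 ha).trans ((hY.1 a).1 h1).symm))

theorem conj_swap_invo {z : Perm α} (hz : z * z = 1) (a b : α) :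
    (swap a b * z * swap a b) * (swap a b * z * swap a b) = 1 := by
  have : swap a b * z * swap a b * (swap a b * z * swap a b) =
      swap a b * (z * (swap a b * swap a b) * z) * swap a b := by simp only [mul_assoc]
  rw [this, swap_mul_self, mul_one, hz, mul_one, swap_mul_self]

theorem hex_right (y z : Perm α) (a b c d : α) :
    swap c d * (swap a b * z * swap a b) * swap c d * y =
      swap c d * (swap ((swap a b * z * swap a b) c) ((swap a b * z * swap a b) d) *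
        (swap a b * (swap (z a) (z b) * (z * y)))) := by
  rw [conj_swap_mul_right, conj_swap_mul_right]
  simp only [mul_assoc]

theorem hex_left {x z : Perm α} {a b c d : α} (ha : (x * z) a = a) (hb : (x * z) b = b)
    (hc : (x * z) c = c) (hd : (x * z) d = d) :
    x * (swap c d * (swap a b * z * swap a b) * swap c d) =
      swap (x c) (x d) * (swap (x a) (x b) * (swap a b * (swap c d * (x * z)))) := by
  rw [conj_swap_mul_left, conj_swap_mul_left]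
  have e1 := commute_swap_of_fixed ha hb
  have e2 := commute_swap_of_fixed hc hd
  calc swap (x c) (x d) * (swap (x a) (x b) * (x * z) * swap a b) * swap c d
      = swap (x c) (x d) * (swap (x a) (x b) * ((x * z) * swap a b)) * swap c d := by
        simp only [mul_assoc]
    _ = swap (x c) (x d) * (swap (x a) (x b) * (swap a b * (x * z))) * swap c d := by rw [e1]
    _ = swap (x c) (x d) * (swap (x a) (x b) * (swap a b * ((x * z) * swap c d))) := by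
        simp only [mul_assoc]
    _ = _ := by rw [e2]

theorem hex_apply {z : Perm α} (hz : z * z = 1) {a b c d p : α}
    (h1 : p ≠ a) (h2 : p ≠ b) (h3 : p ≠ z a) (h4 : p ≠ z b) (h5 : p ≠ c) (h6 : p ≠ d)
    (h7 : p ≠ (swap a b * z * swap a b) c) (h8 : p ≠ (swap a b * z * swap a b) d) :
    (swap c d * (swap a b * z * swap a b) * swap c d) p = z p := by
  rw [conj_swap_apply (conj_swap_invo hz a b) h5 h6 h7 h8, conj_swap_apply hz h1 h2 h3 h4]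

theorem hex_isConj (z : Perm α) (a b c d : α) :
    IsConj z (swap c d * (swap a b * z * swap a b) * swap c d) :=
  (conj_swap_isConj z a b).trans (conj_swap_isConj _ c d)

theorem odd_two_triples {σ : Perm α} (h : Odd (orderOf σ)) {a b c a' b' c' : α}
    (hab : a ≠ b) (hac : a ≠ c) (hbc : b ≠ c) (ha : σ a = a) (hb : σ b = b) (hc : σ c = c)
    (hab' : a' ≠ b') (hac' : a' ≠ c') (hbc' : b' ≠ c') (ha' : σ a' = a') (hb' : σ b' = b')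
    (hc' : σ c' = c')
    (h1 : a' ≠ a) (h2 : a' ≠ b) (h3 : a' ≠ c) (h4 : b' ≠ a) (h5 : b' ≠ b) (h6 : b' ≠ c)
    (h7 : c' ≠ a) (h8 : c' ≠ b) (h9 : c' ≠ c) :
    Odd (orderOf (swap a' b' * swap a' c' * (swap a b * swap a c * σ))) :=
  odd_triple (odd_triple h hab hac hbc ha hb hc) hab' hac' hbc'
    (triple_fixed ha' h1 h2 h3) (triple_fixed hb' h4 h5 h6) (triple_fixed hc' h7 h8 h9)

theorem fix_of_eq {x z : Perm α} (hx : x * x = 1) {a : α} (h : z a = x a) : (x * z) a = a := by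
  rw [Perm.mul_apply, h, invo_apply hx]

/-- Basic structure of the two cycles through `p` and `z p` when there are no fixed points. -/
theorem hex_pre {y z : Perm α} (hy : y * y = 1) (hz : z * z = 1)
    (hnz : ∀ r, z r ≠ r) (hny : ∀ r, y r ≠ r) (p : α) :
    ∃ A₁ A₂ : Set α, IsCls (z * y) A₁ p (per (z * y) p) ∧
      IsCls (z * y) A₂ (z p) (per (z * y) p) ∧ z p ∉ A₁ ∧ p ∉ A₂ ∧
      (∀ a ∈ A₁, z a ∈ A₂) ∧ (∀ a ∈ A₂, z a ∈ A₁) ∧ (∀ a ∈ A₁, y a ∈ A₂) ∧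
      (∀ a ∈ A₂, y a ∈ A₁) := by
  have hA₁ := isCls_self (z * y) p
  have hA₂ := isCls_self (z * y) (z p)
  rw [per_refl hz hy] at hA₂
  have h1 : z p ∉ {a | SameCycle (z * y) p a} := by
    intro h
    have h' : SameCycle (z * y) p (z p) := h
    obtain ⟨r, -, hr | hr⟩ := claimC hz hy h'
    · exact hnz r hr
    · exact hny r hr
  have h2 : p ∉ {a | SameCycle (z * y) (z p) a} := by
    intro h
    have h' : SameCycle (z * y) (z p) p := h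
    exact h1 h'.symm
  have h3 : ∀ a ∈ {a | SameCycle (z * y) p a}, z a ∈ {a | SameCycle (z * y) (z p) a} := by
    intro a ha
    exact sameCycle_refl hz hy ha
  have h4 : ∀ a ∈ {a | SameCycle (z * y) (z p) a}, z a ∈ {a | SameCycle (z * y) p a} := by
    intro a ha
    have h' : SameCycle (z * y) (z p) a := ha
    have := sameCycle_refl hz hy h'
    rw [invo_apply hz] at this
    exact this
  refine ⟨_, _, hA₁, hA₂, h1, h2, h3, h4, ?_, ?_⟩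
  · intro a ha
    rw [apply_y_eq hz a]
    exact h3 _ (hA₁.apply_mem ha)
  · intro a ha
    rw [apply_y_eq hz a]
    exact h4 _ (hA₂.apply_mem ha)

/-- Hexagon move for two bad cycle pairs. -/
theorem moveH1 {x y z : Perm α} (hx : x * x = 1) (hy : y * y = 1) (hz : z * z = 1)
    (hodd : Odd (orderOf (x * z)))
    (hI3 : ∀ p, Even (per (z * y) p) → z p = x p)
    (hnz : ∀ r, z r ≠ r) (hny : ∀ r, y r ≠ r)
    {p v : α} (hp : Even (per (z * y) p)) (hv : Even (per (z * y) v))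
    (hv1 : ¬ SameCycle (z * y) p v) (hv2 : ¬ SameCycle (z * y) (z p) v) :
    ∃ z' : Perm α, IsConj z z' ∧ Odd (orderOf (x * z')) ∧
      (∀ p, Odd (per (z' * y) p) ∨ (per (z' * y) p = per (z * y) p ∧ z' p = z p)) ∧
      (∃ p, Even (per (z * y) p) ∧ Odd (per (z' * y) p)) ∧
      (∃ v', Odd (per (z' * y) v') ∧ z' v' = x v') := by
  obtain ⟨A₁, A₂, hA₁, hA₂, hc₂A₁, hpA₂, zA₁, zA₂, yA₁, yA₂⟩ := hex_pre hy hz hnz hny p
  obtain ⟨D₁, D₂, hD₁, hD₂, huD₁, hvD₂, zD₁, zD₂, yD₁, yD₂⟩ := hex_pre hy hz hnz hny v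
  obtain ⟨W, hW⟩ : ∃ W : Perm α, W = z * y := ⟨_, rfl⟩
  obtain ⟨c₂, hc₂⟩ : ∃ c, c = z p := ⟨_, rfl⟩
  obtain ⟨c₃, hc₃⟩ : ∃ c, c = y c₂ := ⟨_, rfl⟩
  obtain ⟨c₄, hc₄⟩ : ∃ c, c = z c₃ := ⟨_, rfl⟩
  obtain ⟨u, hu⟩ : ∃ c, c = z v := ⟨_, rfl⟩
  obtain ⟨m, hm⟩ : ∃ m, m = per W p := ⟨_, rfl⟩
  obtain ⟨M, hM⟩ : ∃ M, M = per W v := ⟨_, rfl⟩
  rw [← hW] at hA₁ hA₂ hD₁ hD₂ hp hv hI3 hv1 hv2 ⊢
  rw [← hc₂] at hA₂ hc₂A₁ hv2
  rw [← hu] at hD₂ huD₁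
  rw [← hm] at hA₁ hA₂ hp
  rw [← hM] at hD₁ hD₂ hv
  -- memberships
  have m_p : p ∈ A₁ := hA₁.rep_mem
  have m_c₂ : c₂ ∈ A₂ := hA₂.rep_mem
  have m_c₃ : c₃ ∈ A₁ := hc₃ ▸ yA₂ _ m_c₂
  have m_c₄ : c₄ ∈ A₂ := hc₄ ▸ zA₁ _ m_c₃
  have m_v : v ∈ D₁ := hD₁.rep_mem
  have m_u : u ∈ D₂ := hD₂.rep_mem
  have hvA₁ : v ∉ A₁ := fun h => hv1 ((hA₁.1 v).1 h)
  have hvA₂ : v ∉ A₂ := fun h => hv2 ((hA₂.1 v).1 h)
  have huA₁ : u ∉ A₁ := by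
    intro h
    have := zA₁ _ h
    rw [hu, invo_apply hz] at this
    exact hvA₂ this
  have huA₂ : u ∉ A₂ := by
    intro h
    have := zA₂ _ h
    rw [hu, invo_apply hz] at this
    exact hvA₁ this
  -- disjointness
  have dA₁A₂ : ∀ a ∈ A₁, a ∉ A₂ := fun a ha => IsCls.disj hA₁ hA₂ hc₂A₁ ha
  have dA₂A₁ : ∀ a ∈ A₂, a ∉ A₁ := fun a ha h => dA₁A₂ a h ha
  have dA₁D₁ : ∀ a ∈ A₁, a ∉ D₁ := fun a ha => IsCls.disj hA₁ hD₁ hvA₁ ha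
  have dD₁A₁ : ∀ a ∈ D₁, a ∉ A₁ := fun a ha h => dA₁D₁ a h ha
  have dA₂D₁ : ∀ a ∈ A₂, a ∉ D₁ := fun a ha => IsCls.disj hA₂ hD₁ hvA₂ ha
  have dD₁A₂ : ∀ a ∈ D₁, a ∉ A₂ := fun a ha h => dA₂D₁ a h ha
  have dA₁D₂ : ∀ a ∈ A₁, a ∉ D₂ := fun a ha => IsCls.disj hA₁ hD₂ huA₁ ha
  have dD₂A₁ : ∀ a ∈ D₂, a ∉ A₁ := fun a ha h => dA₁D₂ a h ha
  have dA₂D₂ : ∀ a ∈ A₂, a ∉ D₂ := fun a ha => IsCls.disj hA₂ hD₂ huA₂ ha
  have dD₂A₂ : ∀ a ∈ D₂, a ∉ A₂ := fun a ha h => dA₂D₂ a h ha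
  have dD₁D₂ : ∀ a ∈ D₁, a ∉ D₂ := fun a ha => IsCls.disj hD₁ hD₂ huD₁ ha
  have dD₂D₁ : ∀ a ∈ D₂, a ∉ D₁ := fun a ha h => dD₁D₂ a h ha
  -- action of W
  have hWc₃ : W c₃ = p := by
    rw [hW, Perm.mul_apply, hc₃, invo_apply hy, hc₂, invo_apply hz]
  have hWc₂ : W c₂ = c₄ := by
    rw [hW, Perm.mul_apply, hc₄, hc₃]
  have hm2 : 2 ≤ m := by
    have := per_pos W p
    have := Nat.even_iff.1 hp
    omega
  have hM2 : 2 ≤ M := by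
    have := per_pos W v
    have := Nat.even_iff.1 hv
    omega
  have hpc₃ : p ≠ c₃ := by
    intro h
    have h1 : per W p = 1 := (per_eq_one_iff W p).2 (by rw [h] at hWc₃ ⊢; exact hWc₃)
    omega
  have hc₂c₄ : c₂ ≠ c₄ := by
    intro h
    have h1 : per W c₂ = 1 := (per_eq_one_iff W c₂).2 (by rw [hWc₂]; exact h.symm)
    have h2 := hA₂.2
    omega
  have hoddMm : Odd (M + (m - 1)) := by
    have e1 := Nat.even_iff.1 hp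
    have e2 := Nat.even_iff.1 hv
    rw [Nat.odd_iff]; omega
  -- bad points
  have bc₂ : Even (per W c₂) := by rw [hA₂.2]; exact hp
  have bc₃ : Even (per W c₃) := by rw [hA₁.per_eq m_c₃]; exact hp
  have bc₄ : Even (per W c₄) := by rw [hA₂.per_eq m_c₄]; exact hp
  have bu : Even (per W u) := by rw [hD₂.2]; exact hv
  have bp : Even (per W p) := by rw [← hm]; exact hp
  have bv : Even (per W v) := by rw [← hM]; exact hv
  have hc₃c₂ : c₃ ≠ c₂ := fun h => dA₁A₂ _ m_c₃ (h ▸ m_c₂)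
  have hpc₂ : p ≠ c₂ := fun h => hpA₂ (h ▸ m_c₂)
  have huc₂ : u ≠ c₂ := fun h => huA₂ (h ▸ m_c₂)
  have huc₃ : u ≠ c₃ := fun h => huA₁ (h ▸ m_c₃)
  have hc₄c₃ : c₄ ≠ c₃ := fun h => dA₂A₁ _ m_c₄ (h ▸ m_c₃)
  have hvc₂ : v ≠ c₂ := fun h => hvA₂ (h ▸ m_c₂)
  have hvc₃ : v ≠ c₃ := fun h => hvA₁ (h ▸ m_c₃)
  -- the new involution
  have hz₁v : (swap p c₃ * z * swap p c₃) v = u := by
    rw [hu]
    apply conj_swap_apply hz
    · exact fun h => hvA₁ (h ▸ m_p)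
    · exact fun h => hvA₁ (h ▸ m_c₃)
    · rw [← hc₂]; exact fun h => hvA₂ (h ▸ m_c₂)
    · rw [← hc₄]; exact fun h => hvA₂ (h ▸ m_c₄)
  have hz₁p : (swap p c₃ * z * swap p c₃) p = c₄ := by
    rw [Perm.mul_apply, Perm.mul_apply, swap_apply_left, ← hc₄]
    apply swap_apply_of_ne_of_ne
    · exact fun h => dA₂A₁ _ m_c₄ (h ▸ m_p)
    · exact fun h => dA₂A₁ _ m_c₄ (h ▸ m_c₃)
  have hW' : swap v p * (swap p c₃ * z * swap p c₃) * swap v p * y =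
      swap v p * (swap u c₄ * (swap c₃ p * (swap c₂ c₄ * W))) := by
    rw [hex_right, hz₁v, hz₁p, ← hc₂, ← hc₄, ← hW, swap_comm p c₃]
  -- the chain
  have s1 := skip_cls hA₂ (by rw [hWc₂]; exact hc₂c₄.symm)
  rw [hWc₂] at s1
  have f1 : (swap c₂ c₄ * W) c₂ = c₂ := by
    have := skip_fix W c₂
    rwa [hWc₂] at this
  have a1 := unaff_cls (hA₁.change_rep m_c₃) hc₂A₁ (dA₂A₁ _ m_c₄)
  have d1 := unaff_cls hD₁ (dA₂D₁ _ m_c₂) (dA₂D₁ _ m_c₄)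
  have e1 := unaff_cls hD₂ (dA₂D₂ _ m_c₂) (dA₂D₂ _ m_c₄)
  have hσ₁c₃ : (swap c₂ c₄ * W) c₃ = p := by
    rw [Perm.mul_apply, hWc₃]
    apply swap_apply_of_ne_of_ne
    · exact fun h => hc₂A₁ (h ▸ m_p)
    · exact fun h => dA₂A₁ _ m_c₄ (h ▸ m_p)
  have s2 := skip_cls a1 (by rw [hσ₁c₃]; exact hpc₃)
  rw [hσ₁c₃] at s2
  have f2 : (swap c₃ p * (swap c₂ c₄ * W)) c₃ = c₃ := by
    have := skip_fix (swap c₂ c₄ * W) c₃
    rwa [hσ₁c₃] at this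
  have b2 := unaff_cls s1 (fun h => dA₁A₂ _ m_c₃ h.1) (fun h => hpA₂ h.1)
  have d2 := unaff_cls d1 (dA₁D₁ _ m_c₃) (dA₁D₁ _ m_p)
  have e2 := unaff_cls e1 (dA₁D₂ _ m_c₃) (dA₁D₂ _ m_p)
  have g2 := unaff_cls (isCls_fixed f1) (fun h => hc₃c₂ h) (fun h => hpc₂ h)
  have h2 := isCls_fixed f2
  have m3 := merge_cls e2 b2 (dA₂D₂ _ m_c₄)
  have a3 := unaff_cls s2 (fun h => huA₁ h.1) (fun h => dA₂A₁ _ m_c₄ h.1)
  have d3 := unaff_cls d2 huD₁ (dA₂D₁ _ m_c₄)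
  have g3 := unaff_cls g2 (fun h => huc₂ h) (fun h => hc₂c₄.symm h)
  have h3 := unaff_cls h2 (fun h => huc₃ h) (fun h => hc₄c₃ h)
  have m4 := merge_cls d3 a3 (dA₁D₁ _ m_p)
  have b4 := unaff_cls m3 (fun h => h.elim (dD₁D₂ _ m_v) (fun h' => hvA₂ h'.1))
    (fun h => h.elim (dA₁D₂ _ m_p) (fun h' => hpA₂ h'.1))
  have g4 := unaff_cls g3 (fun h => hvc₂ h) (fun h => hpc₂ h)
  have h4 := unaff_cls h3 (fun h => hvc₃ h) (fun h => hpc₃ h)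
  refine ⟨swap v p * (swap p c₃ * z * swap p c₃) * swap v p, hex_isConj z _ _ _ _, ?_, ?_, ?_, ?_⟩
  · -- x * z'
    have xp : x p = c₂ := by rw [← hI3 p bp, hc₂]
    have xc₃ : x c₃ = c₄ := by rw [← hI3 c₃ bc₃, hc₄]
    have xv : x v = u := by rw [← hI3 v bv, hu]
    have key : x * (swap v p * (swap p c₃ * z * swap p c₃) * swap v p) =
        swap c₂ u * swap c₂ c₄ * (swap p c₃ * swap p v * (x * z)) := by
      rw [hex_left (fix_of_eq hx (hI3 p bp)) (fix_of_eq hx (hI3 c₃ bc₃))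
        (fix_of_eq hx (hI3 v bv)) (fix_of_eq hx (hI3 p bp)), xp, xc₃, xv, swap_comm u c₂,
        swap_comm v p]
      simp only [mul_assoc]
    rw [key]
    have hpv : p ≠ v := fun h => hvA₁ (h ▸ m_p)
    have hc₃v : c₃ ≠ v := fun h => hvA₁ (h ▸ m_c₃)
    have hc₂u : c₂ ≠ u := fun h => huA₂ (h ▸ m_c₂)
    have huc₄ : u ≠ c₄ := fun h => huA₂ (h ▸ m_c₄)
    apply odd_two_triples hodd hpc₃ hpv hc₃v
      (fix_of_eq hx (hI3 p bp)) (fix_of_eq hx (hI3 c₃ bc₃)) (fix_of_eq hx (hI3 v bv))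
      hc₂u hc₂c₄ huc₄
      (fix_of_eq hx (hI3 c₂ bc₂)) (fix_of_eq hx (hI3 u bu)) (fix_of_eq hx (hI3 c₄ bc₄))
    · exact fun h => hc₂A₁ (h ▸ m_p)
    · exact fun h => hc₂A₁ (h ▸ m_c₃)
    · exact fun h => dA₂D₁ _ m_c₂ (h ▸ m_v)
    · exact fun h => huA₁ (h ▸ m_p)
    · exact fun h => huA₁ (h ▸ m_c₃)
    · exact fun h => huD₁ (h ▸ m_v)
    · exact fun h => dA₂A₁ _ m_c₄ (h ▸ m_p)
    · exact fun h => dA₂A₁ _ m_c₄ (h ▸ m_c₃)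
    · exact fun h => dA₂D₁ _ m_c₄ (h ▸ m_v)
  · intro p'
    rw [hW']
    by_cases h1 : p' ∈ A₁
    · left
      by_cases h1' : p' = c₃
      · rw [h1', h4.2]; exact odd_one
      · rw [m4.per_eq (Or.inr ⟨h1, h1'⟩)]; exact hoddMm
    by_cases h2' : p' ∈ A₂
    · left
      by_cases h2'' : p' = c₂
      · rw [h2'', g4.2]; exact odd_one
      · rw [b4.per_eq (Or.inr ⟨h2', h2''⟩)]; exact hoddMm
    by_cases h3' : p' ∈ D₁
    · left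
      rw [m4.per_eq (Or.inl h3')]; exact hoddMm
    by_cases h4' : p' ∈ D₂
    · left
      rw [b4.per_eq (Or.inl h4')]; exact hoddMm
    right
    have c0 := isCls_self W p'
    have c1 := unaff_cls c0 (hA₂.not_mem_cls h2' m_c₂) (hA₂.not_mem_cls h2' m_c₄)
    have c2 := unaff_cls c1 (hA₁.not_mem_cls h1 m_c₃) (hA₁.not_mem_cls h1 m_p)
    have c3 := unaff_cls c2 (hD₂.not_mem_cls h4' m_u) (hA₂.not_mem_cls h2' m_c₄)
    have c4 := unaff_cls c3 (hD₁.not_mem_cls h3' m_v) (hA₁.not_mem_cls h1 m_p)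
    refine ⟨c4.2, ?_⟩
    apply hex_apply hz
    · exact fun h => h1 (h ▸ m_p)
    · exact fun h => h1 (h ▸ m_c₃)
    · rw [← hc₂]; exact fun h => h2' (h ▸ m_c₂)
    · rw [← hc₄]; exact fun h => h2' (h ▸ m_c₄)
    · exact fun h => h3' (h ▸ m_v)
    · exact fun h => h1 (h ▸ m_p)
    · rw [hz₁v]; exact fun h => h4' (h ▸ m_u)
    · rw [hz₁p]; exact fun h => h2' (h ▸ m_c₄)
  · refine ⟨p, bp, ?_⟩
    rw [hW', m4.per_eq (Or.inr ⟨m_p, hpc₃⟩)]; exact hoddMm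
  · -- a good point where z' and x agree
    have m_yu : y u ∈ D₁ := yD₂ _ m_u
    have hyuv : y u ≠ v := by
      intro h
      have h1 : W v = v := by
        have h0 : y v = u := by rw [← h, invo_apply hy]
        rw [hW, Perm.mul_apply, h0, hu, invo_apply hz]
      have h2 : per W v = 1 := (per_eq_one_iff W v).2 h1
      omega
    refine ⟨y u, ?_, ?_⟩
    · rw [hW', m4.per_eq (Or.inl m_yu)]; exact hoddMm
    · have byu : Even (per W (y u)) := by rw [hD₁.per_eq m_yu]; exact hv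
      rw [← hI3 (y u) byu]
      apply hex_apply hz
      · exact fun h => dD₁A₁ _ m_yu (h ▸ m_p)
      · exact fun h => dD₁A₁ _ m_yu (h ▸ m_c₃)
      · rw [← hc₂]; exact fun h => dD₁A₂ _ m_yu (h ▸ m_c₂)
      · rw [← hc₄]; exact fun h => dD₁A₂ _ m_yu (h ▸ m_c₄)
      · exact hyuv
      · exact fun h => dD₁A₁ _ m_yu (h ▸ m_p)
      · rw [hz₁v]; exact fun h => dD₁D₂ _ m_yu (by rw [h]; exact m_u)
      · rw [hz₁p]; exact fun h => dD₁A₂ _ m_yu (h ▸ m_c₄)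

theorem swap_comm_disj {a b c d : α} (h1 : c ≠ a) (h2 : c ≠ b) (h3 : d ≠ a) (h4 : d ≠ b) :
    swap a b * swap c d = swap c d * swap a b := by
  rw [mul_swap_eq_swap_mul, swap_apply_of_ne_of_ne h1 h2, swap_apply_of_ne_of_ne h3 h4]

/-- Hexagon move for one bad cycle pair and a good common edge. -/
theorem moveH2 {x y z : Perm α} (hx : x * x = 1) (hy : y * y = 1) (hz : z * z = 1)
    (hodd : Odd (orderOf (x * z)))
    (hI3 : ∀ p, Even (per (z * y) p) → z p = x p)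
    (hnz : ∀ r, z r ≠ r) (hny : ∀ r, y r ≠ r)
    {p v : α} (hp : Even (per (z * y) p)) (hv : Odd (per (z * y) v)) (hvx : z v = x v) :
    ∃ z' : Perm α, IsConj z z' ∧ Odd (orderOf (x * z')) ∧
      (∀ p, Odd (per (z' * y) p) ∨ (per (z' * y) p = per (z * y) p ∧ z' p = z p)) ∧
      (∀ p', SameCycle (z * y) p p' ∨ SameCycle (z * y) (z p) p' → Odd (per (z' * y) p')) := by
  obtain ⟨A₁, A₂, hA₁, hA₂, hc₂A₁, hpA₂, zA₁, zA₂, yA₁, yA₂⟩ := hex_pre hy hz hnz hny p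
  obtain ⟨D₁, D₂, hD₁, hD₂, huD₁, hvD₂, zD₁, zD₂, yD₁, yD₂⟩ := hex_pre hy hz hnz hny v
  obtain ⟨W, hW⟩ : ∃ W : Perm α, W = z * y := ⟨_, rfl⟩
  obtain ⟨c₂, hc₂⟩ : ∃ c, c = z p := ⟨_, rfl⟩
  obtain ⟨c₃, hc₃⟩ : ∃ c, c = y c₂ := ⟨_, rfl⟩
  obtain ⟨c₄, hc₄⟩ : ∃ c, c = z c₃ := ⟨_, rfl⟩
  obtain ⟨u, hu⟩ : ∃ c, c = z v := ⟨_, rfl⟩
  obtain ⟨m, hm⟩ : ∃ m, m = per W p := ⟨_, rfl⟩
  obtain ⟨M, hM⟩ : ∃ M, M = per W v := ⟨_, rfl⟩
  rw [← hW] at hA₁ hA₂ hD₁ hD₂ hp hv hI3 ⊢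
  rw [← hc₂] at hA₂ hc₂A₁ ⊢
  rw [← hu] at hD₂ huD₁
  rw [← hm] at hA₁ hA₂ hp
  rw [← hM] at hD₁ hD₂ hv
  -- memberships
  have m_p : p ∈ A₁ := hA₁.rep_mem
  have m_c₂ : c₂ ∈ A₂ := hA₂.rep_mem
  have m_c₃ : c₃ ∈ A₁ := hc₃ ▸ yA₂ _ m_c₂
  have m_c₄ : c₄ ∈ A₂ := hc₄ ▸ zA₁ _ m_c₃
  have m_v : v ∈ D₁ := hD₁.rep_mem
  have m_u : u ∈ D₂ := hD₂.rep_mem
  have hvA₁ : v ∉ A₁ := by
    intro h
    have := hA₁.per_eq h
    rw [← hM] at this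
    rw [this] at hv
    exact (Nat.not_even_iff_odd.2 hv) hp
  have hvA₂ : v ∉ A₂ := by
    intro h
    have := hA₂.per_eq h
    rw [← hM] at this
    rw [this] at hv
    exact (Nat.not_even_iff_odd.2 hv) hp
  have huA₁ : u ∉ A₁ := by
    intro h
    have := zA₁ _ h
    rw [hu, invo_apply hz] at this
    exact hvA₂ this
  have huA₂ : u ∉ A₂ := by
    intro h
    have := zA₂ _ h
    rw [hu, invo_apply hz] at this
    exact hvA₁ this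
  -- disjointness
  have dA₁A₂ : ∀ a ∈ A₁, a ∉ A₂ := fun a ha => IsCls.disj hA₁ hA₂ hc₂A₁ ha
  have dA₂A₁ : ∀ a ∈ A₂, a ∉ A₁ := fun a ha h => dA₁A₂ a h ha
  have dA₁D₁ : ∀ a ∈ A₁, a ∉ D₁ := fun a ha => IsCls.disj hA₁ hD₁ hvA₁ ha
  have dD₁A₁ : ∀ a ∈ D₁, a ∉ A₁ := fun a ha h => dA₁D₁ a h ha
  have dA₂D₁ : ∀ a ∈ A₂, a ∉ D₁ := fun a ha => IsCls.disj hA₂ hD₁ hvA₂ ha
  have dD₁A₂ : ∀ a ∈ D₁, a ∉ A₂ := fun a ha h => dA₂D₁ a h ha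
  have dA₁D₂ : ∀ a ∈ A₁, a ∉ D₂ := fun a ha => IsCls.disj hA₁ hD₂ huA₁ ha
  have dD₂A₁ : ∀ a ∈ D₂, a ∉ A₁ := fun a ha h => dA₁D₂ a h ha
  have dA₂D₂ : ∀ a ∈ A₂, a ∉ D₂ := fun a ha => IsCls.disj hA₂ hD₂ huA₂ ha
  have dD₂A₂ : ∀ a ∈ D₂, a ∉ A₂ := fun a ha h => dA₂D₂ a h ha
  have dD₁D₂ : ∀ a ∈ D₁, a ∉ D₂ := fun a ha => IsCls.disj hD₁ hD₂ huD₁ ha
  have dD₂D₁ : ∀ a ∈ D₂, a ∉ D₁ := fun a ha h => dD₁D₂ a h ha
  -- action of W
  have hWc₃ : W c₃ = p := by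
    rw [hW, Perm.mul_apply, hc₃, invo_apply hy, hc₂, invo_apply hz]
  have hWc₂ : W c₂ = c₄ := by
    rw [hW, Perm.mul_apply, hc₄, hc₃]
  have hm2 : 2 ≤ m := by
    have := per_pos W p
    have := Nat.even_iff.1 hp
    omega
  have hpc₃ : p ≠ c₃ := by
    intro h
    have h1 : per W p = 1 := (per_eq_one_iff W p).2 (by rw [h] at hWc₃ ⊢; exact hWc₃)
    omega
  have hc₂c₄ : c₂ ≠ c₄ := by
    intro h
    have h1 : per W c₂ = 1 := (per_eq_one_iff W c₂).2 (by rw [hWc₂]; exact h.symm)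
    have h2 := hA₂.2
    omega
  have hoddMm : Odd (1 + (m - 1 + M)) := by
    have e1 := Nat.even_iff.1 hp
    have e2 := Nat.odd_iff.1 hv
    rw [Nat.odd_iff]; omega
  -- inequalities
  have n_p_c₂ : p ≠ c₂ := fun h => hpA₂ (h ▸ m_c₂)
  have n_p_c₄ : p ≠ c₄ := fun h => hpA₂ (h ▸ m_c₄)
  have n_p_v : p ≠ v := fun h => hvA₁ (h ▸ m_p)
  have n_p_u : p ≠ u := fun h => huA₁ (h ▸ m_p)
  have n_c₂_c₃ : c₂ ≠ c₃ := fun h => hc₂A₁ (h ▸ m_c₃)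
  have n_c₂_v : c₂ ≠ v := fun h => hvA₂ (h ▸ m_c₂)
  have n_c₂_u : c₂ ≠ u := fun h => huA₂ (h ▸ m_c₂)
  have n_c₃_c₄ : c₃ ≠ c₄ := fun h => dA₂A₁ _ m_c₄ (h ▸ m_c₃)
  have n_c₃_v : c₃ ≠ v := fun h => hvA₁ (h ▸ m_c₃)
  have n_c₃_u : c₃ ≠ u := fun h => huA₁ (h ▸ m_c₃)
  have n_c₄_v : c₄ ≠ v := fun h => hvA₂ (h ▸ m_c₄)
  have n_c₄_u : c₄ ≠ u := fun h => huA₂ (h ▸ m_c₄)
  have n_v_u : v ≠ u := fun h => huD₁ (h ▸ m_v)
  have hnodup : [p, c₂, c₃, c₄, v, u].Nodup :=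
    nodup6 n_p_c₂ hpc₃ n_p_c₄ n_p_v n_p_u n_c₂_c₃ hc₂c₄ n_c₂_v n_c₂_u n_c₃_c₄ n_c₃_v n_c₃_u
      n_c₄_v n_c₄_u n_v_u
  -- bad points
  have bc₂ : Even (per W c₂) := by rw [hA₂.2]; exact hp
  have bc₃ : Even (per W c₃) := by rw [hA₁.per_eq m_c₃]; exact hp
  have bc₄ : Even (per W c₄) := by rw [hA₂.per_eq m_c₄]; exact hp
  have bp : Even (per W p) := by rw [← hm]; exact hp
  have hzc₂ : z c₂ = p := by rw [hc₂, invo_apply hz]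
  have hzc₄ : z c₄ = c₃ := by rw [hc₄, invo_apply hz]
  have hzu : z u = v := by rw [hu, invo_apply hz]
  -- the new involution
  have hz₁c₄ : (swap c₂ c₃ * z * swap c₂ c₃) c₄ = c₂ := by
    rw [Perm.mul_apply, Perm.mul_apply, swap_apply_of_ne_of_ne hc₂c₄.symm n_c₃_c₄.symm, hzc₄,
      swap_apply_right]
  have hz₁u : (swap c₂ c₃ * z * swap c₂ c₃) u = v := by
    rw [← hzu]
    apply conj_swap_apply hz n_c₂_u.symm n_c₃_u.symm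
    · rw [hzc₂]; exact n_p_u.symm
    · rw [← hc₄]; exact n_c₄_u.symm
  have hW' : swap c₄ u * (swap c₂ c₃ * z * swap c₂ c₃) * swap c₄ u * y =
      swap c₃ u * (swap c₄ u * (swap c₂ p * (swap p v * (swap c₂ c₄ * (swap c₃ p * W))))) := by
    rw [hex_right, hz₁c₄, hz₁u, hzc₂, ← hc₄, ← hW]
    have := ident1 hnodup
    calc swap c₄ u * (swap c₂ v * (swap c₂ c₃ * (swap p c₄ * W)))
        = (swap c₄ u * swap c₂ v * swap c₂ c₃ * swap p c₄) * W := by simp only [mul_assoc]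
      _ = (swap c₃ u * swap c₄ u * swap c₂ p * swap p v * swap c₂ c₄ * swap c₃ p) * W := by
          rw [this]
      _ = _ := by simp only [mul_assoc]
  -- the chain
  have s1 := skip_cls (hA₁.change_rep m_c₃) (by rw [hWc₃]; exact hpc₃)
  rw [hWc₃] at s1
  have f1 : (swap c₃ p * W) c₃ = c₃ := by
    have := skip_fix W c₃
    rwa [hWc₃] at this
  have a1 := unaff_cls hA₂ (dA₁A₂ _ m_c₃) hpA₂
  have d1 := unaff_cls hD₁ (dA₁D₁ _ m_c₃) (dA₁D₁ _ m_p)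
  have e1 := unaff_cls hD₂ (dA₁D₂ _ m_c₃) (dA₁D₂ _ m_p)
  have hσ₁c₂ : (swap c₃ p * W) c₂ = c₄ := by
    rw [Perm.mul_apply, hWc₂]
    exact swap_apply_of_ne_of_ne n_c₃_c₄.symm n_p_c₄.symm
  have s2 := skip_cls a1 (by rw [hσ₁c₂]; exact hc₂c₄.symm)
  rw [hσ₁c₂] at s2
  have f2 : (swap c₂ c₄ * (swap c₃ p * W)) c₂ = c₂ := by
    have := skip_fix (swap c₃ p * W) c₂
    rwa [hσ₁c₂] at this
  have b2 := unaff_cls s1 (fun h => hc₂A₁ h.1) (fun h => dA₂A₁ _ m_c₄ h.1)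
  have d2 := unaff_cls d1 (dA₂D₁ _ m_c₂) (dA₂D₁ _ m_c₄)
  have e2 := unaff_cls e1 (dA₂D₂ _ m_c₂) (dA₂D₂ _ m_c₄)
  have g2 := unaff_cls (isCls_fixed f1) (fun h => n_c₂_c₃ h) (fun h => n_c₃_c₄.symm h)
  have h2 := isCls_fixed f2
  have m3 := merge_cls b2 d2 (fun h => hvA₁ h.1)
  have a3 := unaff_cls s2 (fun h => hpA₂ h.1) (fun h => hvA₂ h.1)
  have e3 := unaff_cls e2 (dA₁D₂ _ m_p) hvD₂
  have g3 := unaff_cls g2 (fun h => hpc₃ h) (fun h => n_c₃_v.symm h)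
  have h3 := unaff_cls h2 (fun h => n_p_c₂ h) (fun h => n_c₂_v.symm h)
  have m4 := merge_cls h3 m3 (fun h => n_p_c₂ h)
  have a4 := unaff_cls a3 (fun h => h.2 rfl) (fun h => hpA₂ h.1)
  have e4 := unaff_cls e3 (dA₂D₂ _ m_c₂) (dA₁D₂ _ m_p)
  have g4 := unaff_cls g3 (fun h => n_c₂_c₃ h) (fun h => hpc₃ h)
  have m5 := merge_cls a4 e4 (fun h => huA₂ h.1)
  have b5 := unaff_cls m4
    (fun h => h.elim (fun h' => hc₂c₄.symm h')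
      (fun h' => h'.elim (fun h'' => dA₂A₁ _ m_c₄ h''.1) (dA₂D₁ _ m_c₄)))
    (fun h => h.elim (fun h' => n_c₂_u.symm h')
      (fun h' => h'.elim (fun h'' => huA₁ h''.1) huD₁))
  have g5 := unaff_cls g4 (fun h => n_c₃_c₄.symm h) (fun h => n_c₃_u.symm h)
  have m6 := merge_cls g5 (m5.change_rep (Or.inr m_u)) (fun h => n_c₃_u.symm h)
  have b6 := unaff_cls b5
    (fun h => h.elim (fun h' => n_c₂_c₃.symm h')
      (fun h' => h'.elim (fun h'' => h''.2 rfl) (dA₁D₁ _ m_c₃)))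
    (fun h => h.elim (fun h' => n_c₂_u.symm h')
      (fun h' => h'.elim (fun h'' => huA₁ h''.1) huD₁))
  have key : ∀ p', p' ∈ A₁ ∨ p' ∈ A₂ ∨ p' ∈ D₁ ∨ p' ∈ D₂ →
      Odd (per (swap c₃ u * (swap c₄ u * (swap c₂ p * (swap p v * (swap c₂ c₄ *
        (swap c₃ p * W)))))) p') := by
    intro p' hp'
    rcases hp' with h | h | h | h
    · by_cases h' : p' = c₃
      · rw [h', m6.2]; exact hoddMm
      · rw [b6.per_eq (Or.inr (Or.inl ⟨h, h'⟩))]; exact hoddMm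
    · by_cases h' : p' = c₂
      · rw [h', b6.2]; exact hoddMm
      · rw [m6.per_eq (Or.inr (Or.inl ⟨h, h'⟩))]; exact hoddMm
    · rw [b6.per_eq (Or.inr (Or.inr h))]; exact hoddMm
    · rw [m6.per_eq (Or.inr (Or.inr h))]; exact hoddMm
  refine ⟨swap c₄ u * (swap c₂ c₃ * z * swap c₂ c₃) * swap c₄ u, hex_isConj z _ _ _ _, ?_, ?_, ?_⟩
  · -- x * z'
    have xc₂ : x c₂ = p := by rw [← hI3 c₂ bc₂, hzc₂]
    have xc₃ : x c₃ = c₄ := by rw [← hI3 c₃ bc₃, hc₄]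
    have xc₄ : x c₄ = c₃ := by rw [← hI3 c₄ bc₄, hzc₄]
    have xu : x u = v := by rw [hu, hvx, invo_apply hx]
    have fu : (x * z) u = u := by rw [Perm.mul_apply, hzu, ← hvx, hu]
    have fv : (x * z) v = v := fix_of_eq hx hvx
    have fp := fix_of_eq hx (hI3 p bp)
    have fc₂ := fix_of_eq hx (hI3 c₂ bc₂)
    have fc₃ := fix_of_eq hx (hI3 c₃ bc₃)
    have fc₄ := fix_of_eq hx (hI3 c₄ bc₄)
    have key2 : x * (swap c₄ u * (swap c₂ c₃ * z * swap c₂ c₃) * swap c₄ u) =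
        swap c₃ v * swap c₃ c₂ * (swap c₄ p * swap c₄ u * (x * z)) := by
      rw [hex_left fc₂ fc₃ fc₄ fu, xc₂, xc₃, xc₄, xu]
      calc swap c₃ v * (swap p c₄ * (swap c₂ c₃ * (swap c₄ u * (x * z))))
          = swap c₃ v * ((swap p c₄ * swap c₂ c₃) * (swap c₄ u * (x * z))) := by
            simp only [mul_assoc]
        _ = swap c₃ v * ((swap c₂ c₃ * swap p c₄) * (swap c₄ u * (x * z))) := by
            rw [swap_comm_disj n_p_c₂.symm hc₂c₄ hpc₃.symm n_c₃_c₄]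
        _ = _ := by
            rw [swap_comm c₂ c₃, swap_comm p c₄]
            simp only [mul_assoc]
    rw [key2]
    exact odd_two_triples hodd n_p_c₄.symm n_c₄_u n_p_u fc₄ fp fu n_c₃_v n_c₂_c₃.symm n_c₂_v.symm
      fc₃ fv fc₂ n_c₃_c₄ hpc₃.symm n_c₃_u n_c₄_v.symm n_p_v.symm n_v_u hc₂c₄ n_p_c₂.symm n_c₂_u
  · intro p'
    rw [hW']
    by_cases h1 : p' ∈ A₁
    · exact Or.inl (key p' (Or.inl h1))
    by_cases h2' : p' ∈ A₂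
    · exact Or.inl (key p' (Or.inr (Or.inl h2')))
    by_cases h3' : p' ∈ D₁
    · exact Or.inl (key p' (Or.inr (Or.inr (Or.inl h3'))))
    by_cases h4' : p' ∈ D₂
    · exact Or.inl (key p' (Or.inr (Or.inr (Or.inr h4'))))
    right
    have c0 := isCls_self W p'
    have c1 := unaff_cls c0 (hA₁.not_mem_cls h1 m_c₃) (hA₁.not_mem_cls h1 m_p)
    have c2 := unaff_cls c1 (hA₂.not_mem_cls h2' m_c₂) (hA₂.not_mem_cls h2' m_c₄)
    have c3 := unaff_cls c2 (hA₁.not_mem_cls h1 m_p) (hD₁.not_mem_cls h3' m_v)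
    have c4 := unaff_cls c3 (hA₂.not_mem_cls h2' m_c₂) (hA₁.not_mem_cls h1 m_p)
    have c5 := unaff_cls c4 (hA₂.not_mem_cls h2' m_c₄) (hD₂.not_mem_cls h4' m_u)
    have c6 := unaff_cls c5 (hA₁.not_mem_cls h1 m_c₃) (hD₂.not_mem_cls h4' m_u)
    refine ⟨c6.2, ?_⟩
    apply hex_apply hz
    · exact fun h => h2' (h ▸ m_c₂)
    · exact fun h => h1 (h ▸ m_c₃)
    · rw [hzc₂]; exact fun h => h1 (h ▸ m_p)
    · rw [← hc₄]; exact fun h => h2' (h ▸ m_c₄)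
    · exact fun h => h2' (h ▸ m_c₄)
    · exact fun h => h4' (h ▸ m_u)
    · rw [hz₁c₄]; exact fun h => h2' (h ▸ m_c₂)
    · rw [hz₁u]; exact fun h => h3' (h ▸ m_v)
  · intro p' hp'
    rw [hW']
    rcases hp' with h | h
    · exact key p' (Or.inl ((hA₁.1 p').2 h))
    · exact key p' (Or.inr (Or.inl ((hA₂.1 p').2 h)))

/-- Hexagon move inside one long bad cycle pair. -/
theorem moveH3 {x y z : Perm α} (hx : x * x = 1) (hy : y * y = 1) (hz : z * z = 1)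
    (hodd : Odd (orderOf (x * z)))
    (hI3 : ∀ p, Even (per (z * y) p) → z p = x p)
    (hnz : ∀ r, z r ≠ r) (hny : ∀ r, y r ≠ r)
    {p : α} (hp : Even (per (z * y) p)) (hp2 : per (z * y) p ≠ 2) :
    ∃ z' : Perm α, IsConj z z' ∧ Odd (orderOf (x * z')) ∧
      (∀ p, Odd (per (z' * y) p) ∨ (per (z' * y) p = per (z * y) p ∧ z' p = z p)) ∧
      (∀ p', SameCycle (z * y) p p' ∨ SameCycle (z * y) (z p) p' → Odd (per (z' * y) p')) := by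
  obtain ⟨A₁, A₂, hA₁, hA₂, hc₂A₁, hpA₂, zA₁, zA₂, yA₁, yA₂⟩ := hex_pre hy hz hnz hny p
  obtain ⟨W, hW⟩ : ∃ W : Perm α, W = z * y := ⟨_, rfl⟩
  obtain ⟨c₂, hc₂⟩ : ∃ c, c = z p := ⟨_, rfl⟩
  obtain ⟨c₃, hc₃⟩ : ∃ c, c = y c₂ := ⟨_, rfl⟩
  obtain ⟨c₄, hc₄⟩ : ∃ c, c = z c₃ := ⟨_, rfl⟩
  obtain ⟨c₅, hc₅⟩ : ∃ c, c = y c₄ := ⟨_, rfl⟩
  obtain ⟨c₆, hc₆⟩ : ∃ c, c = z c₅ := ⟨_, rfl⟩
  obtain ⟨m, hm⟩ : ∃ m, m = per W p := ⟨_, rfl⟩
  rw [← hW] at hA₁ hA₂ hp hp2 hI3 ⊢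
  rw [← hc₂] at hA₂ hc₂A₁ ⊢
  rw [← hm] at hA₁ hA₂ hp hp2
  -- memberships
  have m_p : p ∈ A₁ := hA₁.rep_mem
  have m_c₂ : c₂ ∈ A₂ := hA₂.rep_mem
  have m_c₃ : c₃ ∈ A₁ := hc₃ ▸ yA₂ _ m_c₂
  have m_c₄ : c₄ ∈ A₂ := hc₄ ▸ zA₁ _ m_c₃
  have m_c₅ : c₅ ∈ A₁ := hc₅ ▸ yA₂ _ m_c₄
  have m_c₆ : c₆ ∈ A₂ := hc₆ ▸ zA₁ _ m_c₅
  have dA₁A₂ : ∀ a ∈ A₁, a ∉ A₂ := fun a ha => IsCls.disj hA₁ hA₂ hc₂A₁ ha
  have dA₂A₁ : ∀ a ∈ A₂, a ∉ A₁ := fun a ha h => dA₁A₂ a h ha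
  -- action of W
  have hzc₂ : z c₂ = p := by rw [hc₂, invo_apply hz]
  have hzc₄ : z c₄ = c₃ := by rw [hc₄, invo_apply hz]
  have hzc₆ : z c₆ = c₅ := by rw [hc₆, invo_apply hz]
  have hWc₃ : W c₃ = p := by
    rw [hW, Perm.mul_apply, hc₃, invo_apply hy, hzc₂]
  have hWc₂ : W c₂ = c₄ := by
    rw [hW, Perm.mul_apply, hc₄, hc₃]
  have hWc₅ : W c₅ = c₃ := by
    rw [hW, Perm.mul_apply, hc₅, invo_apply hy, hzc₄]
  have hWc₄ : W c₄ = c₆ := by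
    rw [hW, Perm.mul_apply, hc₆, hc₅]
  have hm4 : 4 ≤ m := by
    have := per_pos W p
    have := Nat.even_iff.1 hp
    omega
  have hpc₃ : p ≠ c₃ := by
    intro h
    have h1 : per W p = 1 := (per_eq_one_iff W p).2 (by rw [h] at hWc₃ ⊢; exact hWc₃)
    omega
  have hc₂c₄ : c₂ ≠ c₄ := by
    intro h
    have h1 : per W c₂ = 1 := (per_eq_one_iff W c₂).2 (by rw [hWc₂]; exact h.symm)
    have h2 := hA₂.2
    omega
  have n_c₃_c₅ : c₃ ≠ c₅ := by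
    intro h
    have h1 : per W c₅ = 1 := (per_eq_one_iff W c₅).2 (by rw [hWc₅]; exact h)
    have h2 := hA₁.per_eq m_c₅
    omega
  have n_c₄_c₆ : c₄ ≠ c₆ := by
    intro h
    have h1 : per W c₄ = 1 := (per_eq_one_iff W c₄).2 (by rw [hWc₄]; exact h.symm)
    have h2 := hA₂.per_eq m_c₄
    omega
  have n_p_c₅ : p ≠ c₅ := by
    intro h
    have h1 : (W ^ 2) c₅ = c₅ := by
      rw [pow_two, Perm.mul_apply, hWc₅, hWc₃]; exact h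
    have h2 := Nat.le_of_dvd (by norm_num) ((pow_fix_iff W c₅ 2).1 h1)
    have h3 := hA₁.per_eq m_c₅
    omega
  have n_c₂_c₆ : c₂ ≠ c₆ := by
    intro h
    have h1 : (W ^ 2) c₂ = c₂ := by
      rw [pow_two, Perm.mul_apply, hWc₂, hWc₄]; exact h.symm
    have h2 := Nat.le_of_dvd (by norm_num) ((pow_fix_iff W c₂ 2).1 h1)
    have h3 := hA₂.2
    omega
  have hoddm : Odd (1 + (m - 1 - 1)) := by
    have e1 := Nat.even_iff.1 hp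
    rw [Nat.odd_iff]; omega
  -- inequalities
  have n_p_c₂ : p ≠ c₂ := fun h => hpA₂ (h ▸ m_c₂)
  have n_p_c₄ : p ≠ c₄ := fun h => hpA₂ (h ▸ m_c₄)
  have n_p_c₆ : p ≠ c₆ := fun h => hpA₂ (h ▸ m_c₆)
  have n_c₂_c₃ : c₂ ≠ c₃ := fun h => hc₂A₁ (h ▸ m_c₃)
  have n_c₂_c₅ : c₂ ≠ c₅ := fun h => hc₂A₁ (h ▸ m_c₅)
  have n_c₃_c₄ : c₃ ≠ c₄ := fun h => dA₂A₁ _ m_c₄ (h ▸ m_c₃)
  have n_c₃_c₆ : c₃ ≠ c₆ := fun h => dA₂A₁ _ m_c₆ (h ▸ m_c₃)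
  have n_c₄_c₅ : c₄ ≠ c₅ := fun h => dA₂A₁ _ m_c₄ (h ▸ m_c₅)
  have n_c₅_c₆ : c₅ ≠ c₆ := fun h => dA₂A₁ _ m_c₆ (h ▸ m_c₅)
  have hnodup : [p, c₂, c₃, c₄, c₅, c₆].Nodup :=
    nodup6 n_p_c₂ hpc₃ n_p_c₄ n_p_c₅ n_p_c₆ n_c₂_c₃ hc₂c₄ n_c₂_c₅ n_c₂_c₆ n_c₃_c₄ n_c₃_c₅
      n_c₃_c₆ n_c₄_c₅ n_c₄_c₆ n_c₅_c₆
  -- bad points
  have bc₂ : Even (per W c₂) := by rw [hA₂.2]; exact hp
  have bc₃ : Even (per W c₃) := by rw [hA₁.per_eq m_c₃]; exact hp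
  have bc₄ : Even (per W c₄) := by rw [hA₂.per_eq m_c₄]; exact hp
  have bc₅ : Even (per W c₅) := by rw [hA₁.per_eq m_c₅]; exact hp
  have bc₆ : Even (per W c₆) := by rw [hA₂.per_eq m_c₆]; exact hp
  have bp : Even (per W p) := by rw [← hm]; exact hp
  -- the new involution
  have hz₁p : (swap p c₃ * z * swap p c₃) p = c₄ := by
    rw [Perm.mul_apply, Perm.mul_apply, swap_apply_left, ← hc₄]
    exact swap_apply_of_ne_of_ne n_p_c₄.symm n_c₃_c₄.symm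
  have hz₁c₆ : (swap p c₃ * z * swap p c₃) c₆ = c₅ := by
    rw [← hzc₆]
    apply conj_swap_apply hz n_p_c₆.symm n_c₃_c₆.symm
    · rw [← hc₂]; exact n_c₂_c₆.symm
    · rw [← hc₄]; exact n_c₄_c₆.symm
  have hW' : swap p c₆ * (swap p c₃ * z * swap p c₃) * swap p c₆ * y =
      swap c₅ c₆ * (swap c₄ p * (swap c₅ p * (swap c₄ c₆ * (swap c₃ p *
        (swap c₂ c₄ * W))))) := by
    rw [hex_right, hz₁p, hz₁c₆, ← hc₂, ← hc₄, ← hW]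
    have := ident2 hnodup
    calc swap p c₆ * (swap c₄ c₅ * (swap p c₃ * (swap c₂ c₄ * W)))
        = (swap p c₆ * swap c₄ c₅ * swap p c₃ * swap c₂ c₄) * W := by simp only [mul_assoc]
      _ = (swap c₅ c₆ * swap c₄ p * swap c₅ p * swap c₄ c₆ * swap c₃ p * swap c₂ c₄) * W := by
          rw [this]
      _ = _ := by simp only [mul_assoc]
  -- the chain
  have s1 := skip_cls hA₂ (by rw [hWc₂]; exact hc₂c₄.symm)
  rw [hWc₂] at s1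
  have f1 : (swap c₂ c₄ * W) c₂ = c₂ := by
    have := skip_fix W c₂
    rwa [hWc₂] at this
  have a1 := unaff_cls (hA₁.change_rep m_c₃) hc₂A₁ (dA₂A₁ _ m_c₄)
  have hσ₁c₃ : (swap c₂ c₄ * W) c₃ = p := by
    rw [Perm.mul_apply, hWc₃]
    exact swap_apply_of_ne_of_ne n_p_c₂ n_p_c₄
  have hσ₁c₄ : (swap c₂ c₄ * W) c₄ = c₆ := by
    rw [Perm.mul_apply, hWc₄]
    exact swap_apply_of_ne_of_ne n_c₂_c₆.symm n_c₄_c₆.symm
  have hσ₁c₅ : (swap c₂ c₄ * W) c₅ = c₃ := by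
    rw [Perm.mul_apply, hWc₅]
    exact swap_apply_of_ne_of_ne n_c₂_c₃.symm n_c₃_c₄
  have s2 := skip_cls a1 (by rw [hσ₁c₃]; exact hpc₃)
  rw [hσ₁c₃] at s2
  have f2 : (swap c₃ p * (swap c₂ c₄ * W)) c₃ = c₃ := by
    have := skip_fix (swap c₂ c₄ * W) c₃
    rwa [hσ₁c₃] at this
  have b2 := unaff_cls s1 (fun h => dA₁A₂ _ m_c₃ h.1) (fun h => hpA₂ h.1)
  have g2 := unaff_cls (isCls_fixed f1) (fun h => n_c₂_c₃.symm h) (fun h => n_p_c₂ h)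
  have h2 := isCls_fixed f2
  have hσ₂c₄ : (swap c₃ p * (swap c₂ c₄ * W)) c₄ = c₆ := by
    rw [Perm.mul_apply, hσ₁c₄]
    exact swap_apply_of_ne_of_ne n_c₃_c₆.symm n_p_c₆.symm
  have hσ₂c₅ : (swap c₃ p * (swap c₂ c₄ * W)) c₅ = p := by
    rw [Perm.mul_apply, hσ₁c₅, swap_apply_left]
  have s3 := skip_cls b2 (by rw [hσ₂c₄]; exact n_c₄_c₆.symm)
  rw [hσ₂c₄] at s3
  have f3 : (swap c₄ c₆ * (swap c₃ p * (swap c₂ c₄ * W))) c₄ = c₄ := by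
    have := skip_fix (swap c₃ p * (swap c₂ c₄ * W)) c₄
    rwa [hσ₂c₄] at this
  have a3 := unaff_cls s2 (fun h => dA₂A₁ _ m_c₄ h.1) (fun h => dA₂A₁ _ m_c₆ h.1)
  have g3 := unaff_cls g2 (fun h => hc₂c₄.symm h) (fun h => n_c₂_c₆.symm h)
  have h3 := unaff_cls h2 (fun h => n_c₃_c₄.symm h) (fun h => n_c₃_c₆.symm h)
  have k3 := isCls_fixed f3
  have hσ₃c₅ : (swap c₄ c₆ * (swap c₃ p * (swap c₂ c₄ * W))) c₅ = p := by
    rw [Perm.mul_apply, hσ₂c₅]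
    exact swap_apply_of_ne_of_ne n_p_c₄ n_p_c₆
  have s4 := skip_cls (a3.change_rep ⟨m_c₅, fun h => n_c₃_c₅.symm h⟩)
    (by rw [hσ₃c₅]; exact n_p_c₅)
  rw [hσ₃c₅] at s4
  have f4 : (swap c₅ p * (swap c₄ c₆ * (swap c₃ p * (swap c₂ c₄ * W)))) c₅ = c₅ := by
    have := skip_fix (swap c₄ c₆ * (swap c₃ p * (swap c₂ c₄ * W))) c₅
    rwa [hσ₃c₅] at this
  have b4 := unaff_cls s3 (fun h => dA₁A₂ _ m_c₅ h.1.1) (fun h => hpA₂ h.1.1)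
  have g4 := unaff_cls g3 (fun h => n_c₂_c₅.symm h) (fun h => n_p_c₂ h)
  have h4 := unaff_cls h3 (fun h => n_c₃_c₅.symm h) (fun h => hpc₃ h)
  have k4 := unaff_cls k3 (fun h => n_c₄_c₅.symm h) (fun h => n_p_c₄ h)
  have l4 := isCls_fixed f4
  have m5 := merge_cls k4 s4 (fun h => n_p_c₄ h)
  have b5 := unaff_cls b4 (fun h => h.2 rfl) (fun h => hpA₂ h.1.1)
  have g5 := unaff_cls g4 (fun h => hc₂c₄.symm h) (fun h => n_p_c₂ h)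
  have h5 := unaff_cls h4 (fun h => n_c₃_c₄.symm h) (fun h => hpc₃ h)
  have l5 := unaff_cls l4 (fun h => n_c₄_c₅ h) (fun h => n_p_c₅ h)
  have m6 := merge_cls l5 b5 (fun h => n_c₅_c₆.symm h)
  have a6 := unaff_cls m5
    (fun h => h.elim (fun h' => n_c₄_c₅.symm h') (fun h' => h'.2 rfl))
    (fun h => h.elim (fun h' => n_c₄_c₆.symm h') (fun h' => dA₂A₁ _ m_c₆ h'.1.1))
  have g6 := unaff_cls g5 (fun h => n_c₂_c₅.symm h) (fun h => n_c₂_c₆.symm h)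
  have h6 := unaff_cls h5 (fun h => n_c₃_c₅.symm h) (fun h => n_c₃_c₆.symm h)
  have key : ∀ p', p' ∈ A₁ ∨ p' ∈ A₂ →
      Odd (per (swap c₅ c₆ * (swap c₄ p * (swap c₅ p * (swap c₄ c₆ * (swap c₃ p *
        (swap c₂ c₄ * W)))))) p') := by
    intro p' hp'
    rcases hp' with h | h
    · by_cases h' : p' = c₃
      · rw [h', h6.2]; exact odd_one
      by_cases h'' : p' = c₅
      · rw [h'', m6.2]; exact hoddm
      · rw [a6.per_eq (Or.inr ⟨⟨h, h'⟩, h''⟩)]; exact hoddm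
    · by_cases h' : p' = c₂
      · rw [h', g6.2]; exact odd_one
      by_cases h'' : p' = c₄
      · rw [h'', a6.2]; exact hoddm
      · rw [m6.per_eq (Or.inr ⟨⟨h, h'⟩, h''⟩)]; exact hoddm
  refine ⟨swap p c₆ * (swap p c₃ * z * swap p c₃) * swap p c₆, hex_isConj z _ _ _ _, ?_, ?_, ?_⟩
  · -- x * z'
    have xp : x p = c₂ := by rw [← hI3 p bp, hc₂]
    have xc₃ : x c₃ = c₄ := by rw [← hI3 c₃ bc₃, hc₄]
    have xc₆ : x c₆ = c₅ := by rw [← hI3 c₆ bc₆, hzc₆]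
    have fp := fix_of_eq hx (hI3 p bp)
    have fc₂ := fix_of_eq hx (hI3 c₂ bc₂)
    have fc₃ := fix_of_eq hx (hI3 c₃ bc₃)
    have fc₄ := fix_of_eq hx (hI3 c₄ bc₄)
    have fc₅ := fix_of_eq hx (hI3 c₅ bc₅)
    have fc₆ := fix_of_eq hx (hI3 c₆ bc₆)
    have key2 : x * (swap p c₆ * (swap p c₃ * z * swap p c₃) * swap p c₆) =
        swap c₂ c₅ * swap c₂ c₄ * (swap p c₃ * swap p c₆ * (x * z)) := by
      rw [hex_left fp fc₃ fp fc₆, xp, xc₃, xc₆]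
      simp only [mul_assoc]
    rw [key2]
    exact odd_two_triples hodd hpc₃ n_p_c₆ n_c₃_c₆ fp fc₃ fc₆ n_c₂_c₅ hc₂c₄ n_c₄_c₅.symm
      fc₂ fc₅ fc₄ n_p_c₂.symm n_c₂_c₃ n_c₂_c₆ n_p_c₅.symm n_c₃_c₅.symm n_c₅_c₆ n_p_c₄.symm
      n_c₃_c₄.symm n_c₄_c₆
  · intro p'
    rw [hW']
    by_cases h1 : p' ∈ A₁
    · exact Or.inl (key p' (Or.inl h1))
    by_cases h2' : p' ∈ A₂
    · exact Or.inl (key p' (Or.inr h2'))
    right
    have c0 := isCls_self W p'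
    have c1 := unaff_cls c0 (hA₂.not_mem_cls h2' m_c₂) (hA₂.not_mem_cls h2' m_c₄)
    have c2 := unaff_cls c1 (hA₁.not_mem_cls h1 m_c₃) (hA₁.not_mem_cls h1 m_p)
    have c3 := unaff_cls c2 (hA₂.not_mem_cls h2' m_c₄) (hA₂.not_mem_cls h2' m_c₆)
    have c4 := unaff_cls c3 (hA₁.not_mem_cls h1 m_c₅) (hA₁.not_mem_cls h1 m_p)
    have c5 := unaff_cls c4 (hA₂.not_mem_cls h2' m_c₄) (hA₁.not_mem_cls h1 m_p)
    have c6 := unaff_cls c5 (hA₁.not_mem_cls h1 m_c₅) (hA₂.not_mem_cls h2' m_c₆)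
    refine ⟨c6.2, ?_⟩
    apply hex_apply hz
    · exact fun h => h1 (h ▸ m_p)
    · exact fun h => h1 (h ▸ m_c₃)
    · rw [← hc₂]; exact fun h => h2' (h ▸ m_c₂)
    · rw [← hc₄]; exact fun h => h2' (h ▸ m_c₄)
    · exact fun h => h1 (h ▸ m_p)
    · exact fun h => h2' (h ▸ m_c₆)
    · rw [hz₁p]; exact fun h => h2' (h ▸ m_c₄)
    · rw [hz₁c₆]; exact fun h => h1 (h ▸ m_c₅)
  · intro p' hp'
    rw [hW']
    rcases hp' with h | h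
    · exact key p' (Or.inl ((hA₁.1 p').2 h))
    · exact key p' (Or.inr ((hA₂.1 p').2 h))

end Cfsg.Agent.Lib.helper63.IG
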