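import Mathlib

set_option autoImplicit false

/-!
Abstract jump counting along a descending chain of subgroups of a finite `p`-group
(for the power structure of `p`-groups of maximal class, S5238 block G step (7)).
-/

namespace Cfsg.Agent.Lib.helper63

theorem h63_card_mul_relIndex {G : Type*} [Group G] {A' A : Subgroup G} (h : A' ≤ A) :
    Nat.card A' * A'.relIndex A = Nat.card A := by
  have := Subgroup.relIndex_mul_relIndex (H := (⊥ : Subgroup G)) (K := A') (L := A) bot_le h
  rwa [Subgroup.relIndex_bot_left, Subgroup.relIndex_bot_left] at this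

/-- Intersecting with `H` does not increase the index of a step of the chain. -/
theorem h63_step_le {G : Type*} [Group G] [Finite G] {p : ℕ} (H M' M : Subgroup G) (hM : M' ≤ M)
    (hidx : Nat.card M ≤ p * Nat.card M') :
    Nat.card ↥(H ⊓ M) ≤ p * Nat.card ↥(H ⊓ M') := by
  have h1 : H ⊓ M' ≤ H ⊓ M := inf_le_inf_left H hM
  have h2 := h63_card_mul_relIndex h1
  have h3 : (H ⊓ M').relIndex (H ⊓ M) = M'.relIndex (H ⊓ M) := by
    have : H ⊓ M' = M' ⊓ (H ⊓ M) := by
      rw [inf_comm M' (H ⊓ M), inf_assoc, inf_eq_right.mpr hM]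
    rw [this, Subgroup.inf_relIndex_right]
  have h4 : M'.relIndex (H ⊓ M) ≤ M'.relIndex M := by
    apply Subgroup.relIndex_le_of_le_right inf_le_right
    intro h0
    have := h63_card_mul_relIndex hM
    rw [h0, mul_zero] at this
    exact (Nat.card_pos (α := M)).ne this
  have h5 : M'.relIndex M ≤ p := by
    have h6 := h63_card_mul_relIndex hM
    have hpos : 0 < Nat.card M' := Nat.card_pos
    have : Nat.card M' * M'.relIndex M ≤ Nat.card M' * p := by
      rw [h6, mul_comm]; exact hidx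
    exact Nat.le_of_mul_le_mul_left this hpos
  calc Nat.card ↥(H ⊓ M) = Nat.card ↥(H ⊓ M') * (H ⊓ M').relIndex (H ⊓ M) := h2.symm
    _ ≤ Nat.card ↥(H ⊓ M') * p := Nat.mul_le_mul_left _ (by rw [h3]; exact h4.trans h5)
    _ = p * Nat.card ↥(H ⊓ M') := mul_comm _ _

/-- A jump of `K` at a step of the chain multiplies the order by at least `p`. -/
theorem h63_jump_ge {G : Type*} [Group G] [Finite G] {p : ℕ} [hp : Fact p.Prime]
    (hG : IsPGroup p G) (K M' M : Subgroup G) (hM : M' ≤ M) (y : G) (hyK : y ∈ K) (hyM : y ∈ M)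
    (hyM' : y ∉ M') :
    p * Nat.card ↥(K ⊓ M') ≤ Nat.card ↥(K ⊓ M) := by
  have h1 : K ⊓ M' ≤ K ⊓ M := inf_le_inf_left K hM
  have h2 := h63_card_mul_relIndex h1
  have h3 : (K ⊓ M').relIndex (K ⊓ M) ≠ 1 := by
    intro h
    rw [Subgroup.relIndex_eq_one] at h
    exact hyM' (Subgroup.mem_inf.mp (h (Subgroup.mem_inf.mpr ⟨hyK, hyM⟩))).2
  have h4 : (K ⊓ M').relIndex (K ⊓ M) ∣ Nat.card ↥(K ⊓ M) := Subgroup.relIndex_dvd_card _ _
  obtain ⟨n, hn⟩ := (IsPGroup.iff_card.mp (hG.to_subgroup (K ⊓ M)))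
  rw [hn] at h4
  obtain ⟨m, hm, hm'⟩ := (Nat.dvd_prime_pow hp.out).mp h4
  have h5 : p ≤ (K ⊓ M').relIndex (K ⊓ M) := by
    rw [hm']
    rcases m with _ | m
    · exact absurd (by rw [hm', pow_zero]) h3
    · calc p = p ^ 1 := (pow_one p).symm
        _ ≤ p ^ (m + 1) := Nat.pow_le_pow_right hp.out.pos (by omega)
  calc p * Nat.card ↥(K ⊓ M') = Nat.card ↥(K ⊓ M') * p := mul_comm _ _
    _ ≤ Nat.card ↥(K ⊓ M') * (K ⊓ M').relIndex (K ⊓ M) := Nat.mul_le_mul_left _ h5
    _ = Nat.card ↥(K ⊓ M) := h2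

/-- **Jump counting.** `L` a descending chain in a finite `p`-group with `L N = ⊥` and steps of
index at most `p` from `a` on; `K ≤ H ≤ L a`; if every jump of `H` at a level `k ∈ [a, b)` forces a
jump of `K` at level `k + s`, then `|H| ≤ p ^ (N - b) * |K|`. -/
theorem h63_jump_bound {G : Type*} [Group G] [Finite G] {p : ℕ} [hp : Fact p.Prime]
    (hG : IsPGroup p G) (L : ℕ → Subgroup G) (hL : Antitone L) (a b N s : ℕ) (hab : a ≤ b)
    (hbN : b ≤ N) (hN : L N = ⊥)
    (hidx : ∀ k, a ≤ k → k < N → Nat.card (L k) ≤ p * Nat.card (L (k + 1)))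
    (H K : Subgroup G) (hH : H ≤ L a) (hK : K ≤ H)
    (hjump : ∀ k, a ≤ k → k < b → ∀ h ∈ H, h ∈ L k → h ∉ L (k + 1) →
      ∃ y ∈ K, y ∈ L (k + s) ∧ y ∉ L (k + s + 1)) :
    Nat.card H ≤ p ^ (N - b) * Nat.card K := by
  have htop : ∀ e, b + e ≤ N → Nat.card ↥(H ⊓ L (N - e)) ≤ p ^ e := by
    intro e
    induction e with
    | zero =>
      intro _
      rw [Nat.sub_zero, hN, inf_bot_eq, pow_zero]
      exact le_of_eq Subgroup.card_bot
    | succ e ih =>
      intro he
      have h1 := h63_step_le (p := p) H (L (N - e)) (L (N - (e + 1))) (hL (by omega))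
        (by
          have := hidx (N - (e + 1)) (by omega) (by omega)
          rwa [show N - (e + 1) + 1 = N - e by omega] at this)
      calc Nat.card ↥(H ⊓ L (N - (e + 1))) ≤ p * Nat.card ↥(H ⊓ L (N - e)) := h1
        _ ≤ p * p ^ e := Nat.mul_le_mul_left _ (ih (by omega))
        _ = p ^ (e + 1) := by rw [pow_succ, mul_comm]
  have hmain : ∀ d, d ≤ b - a →
      Nat.card ↥(H ⊓ L (b - d)) ≤ p ^ (N - b) * Nat.card ↥(K ⊓ L (b - d + s)) := by
    intro d
    induction d with
    | zero =>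
      intro _
      have h1 := htop (N - b) (by omega)
      rw [show N - (N - b) = b by omega] at h1
      rw [Nat.sub_zero]
      calc Nat.card ↥(H ⊓ L b) ≤ p ^ (N - b) := h1
        _ = p ^ (N - b) * 1 := (mul_one _).symm
        _ ≤ p ^ (N - b) * Nat.card ↥(K ⊓ L (b + s)) := Nat.mul_le_mul_left _ Nat.card_pos
    | succ d ih =>
      intro hd
      have ih' := ih (by omega)
      have hk1 : b - (d + 1) + 1 = b - d := by omega
      by_cases hj : ∃ h ∈ H, h ∈ L (b - (d + 1)) ∧ h ∉ L (b - (d + 1) + 1)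
      · obtain ⟨h, hhH, hh1, hh2⟩ := hj
        obtain ⟨y, hyK, hy1, hy2⟩ := hjump (b - (d + 1)) (by omega) (by omega) h hhH hh1 hh2
        have hB := h63_jump_ge hG K (L (b - (d + 1) + s + 1)) (L (b - (d + 1) + s))
          (hL (by omega)) y hyK hy1 hy2
        have hA := h63_step_le (p := p) H (L (b - (d + 1) + 1)) (L (b - (d + 1))) (hL (by omega))
          (hidx (b - (d + 1)) (by omega) (by omega))
        rw [hk1] at hA
        have e1 : b - (d + 1) + s + 1 = b - d + s := by omega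
        rw [e1] at hB
        calc Nat.card ↥(H ⊓ L (b - (d + 1))) ≤ p * Nat.card ↥(H ⊓ L (b - d)) := hA
          _ ≤ p * (p ^ (N - b) * Nat.card ↥(K ⊓ L (b - d + s))) := Nat.mul_le_mul_left _ ih'
          _ = p ^ (N - b) * (p * Nat.card ↥(K ⊓ L (b - d + s))) := by ring
          _ ≤ p ^ (N - b) * Nat.card ↥(K ⊓ L (b - (d + 1) + s)) := Nat.mul_le_mul_left _ hB
      · have heq : H ⊓ L (b - (d + 1)) = H ⊓ L (b - d) := by
          apply le_antisymm
          · intro h hh
            refine Subgroup.mem_inf.mpr ⟨(Subgroup.mem_inf.mp hh).1, ?_⟩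
            by_contra hcon
            exact hj ⟨h, (Subgroup.mem_inf.mp hh).1, (Subgroup.mem_inf.mp hh).2,
              by rw [hk1]; exact hcon⟩
          · exact inf_le_inf_left H (hL (by omega))
        rw [heq]
        calc Nat.card ↥(H ⊓ L (b - d)) ≤ p ^ (N - b) * Nat.card ↥(K ⊓ L (b - d + s)) := ih'
          _ ≤ p ^ (N - b) * Nat.card ↥(K ⊓ L (b - (d + 1) + s)) :=
            Nat.mul_le_mul_left _ (Subgroup.card_le_of_le (inf_le_inf_left K (hL (by omega))))
  have h := hmain (b - a) le_rfl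
  rw [show b - (b - a) = a by omega, inf_eq_left.mpr hH] at h
  calc Nat.card H ≤ p ^ (N - b) * Nat.card ↥(K ⊓ L (a + s)) := h
    _ ≤ p ^ (N - b) * Nat.card K := Nat.mul_le_mul_left _ (Subgroup.card_le_of_le inf_le_left)

end Cfsg.Agent.Lib.helper63
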