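import Mathlib
import Cfsg.Agent.Lib.helper63.JumpCount
import Cfsg.Agent.Lib.helper1.BurnsideBasis
import Cfsg.Agent.Lib.helper3.PGroupFrattini

set_option autoImplicit false

/-!
From a Frattini-index bound to a generating set, and the end of the jump-counting argument
(S5238 block G step (7)): power jumps along a chain bound the number of generators of a subgroup.
-/

namespace Cfsg.Agent.Lib.helper63

/-- A subgroup `H` of a finite `p`-group with `|H| ≤ p ^ d * |Φ(H)|` is generated by at most `d`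
elements (Burnside basis theorem). -/
theorem h63_exists_gen_of_card_le {G : Type*} [Group G] [Finite G] {p : ℕ} [Fact p.Prime]
    (hG : IsPGroup p G) (d : ℕ) (H : Subgroup G)
    (hd : Nat.card H ≤ p ^ d * Nat.card (frattini ↥H)) :
    ∃ T : Finset G, T.card ≤ d ∧ Subgroup.closure (T : Set G) = H := by
  classical
  have hH : IsPGroup p ↥H := hG.to_subgroup H
  obtain ⟨n, hn⟩ : ∃ n, (frattini ↥H).index = p ^ n := by
    obtain ⟨e, he⟩ := IsPGroup.iff_card.mp hH
    have hdvd : (frattini ↥H).index ∣ p ^ e := by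
      rw [← he]; exact Subgroup.index_dvd_card _
    obtain ⟨m, _, hm⟩ := (Nat.dvd_prime_pow (Fact.out : p.Prime)).mp hdvd
    exact ⟨m, hm⟩
  have hnd : n ≤ d := by
    have h1 : Nat.card (frattini ↥H) * (frattini ↥H).index = Nat.card ↥H :=
      Subgroup.card_mul_index _
    rw [hn] at h1
    have hpos : 0 < Nat.card (frattini ↥H) := Nat.card_pos
    have h2 : Nat.card (frattini ↥H) * p ^ n ≤ Nat.card (frattini ↥H) * p ^ d := by
      rw [h1, mul_comm]; exact hd
    have h3 : p ^ n ≤ p ^ d := Nat.le_of_mul_le_mul_left h2 hpos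
    exact (Nat.pow_le_pow_iff_right (Fact.out : p.Prime).one_lt).mp h3
  haveI : Fintype ↥H := Fintype.ofFinite _
  obtain ⟨T, -, hTc, hT⟩ :=
    (Cfsg.Agent.Lib.helper1.burnside_basis p n hH hn).1 Finset.univ (by simp)
  refine ⟨T.image Subtype.val, ?_, ?_⟩
  · exact Finset.card_image_le.trans (by omega)
  · have : ((T.image Subtype.val : Finset G) : Set G) = H.subtype '' (T : Set ↥H) := by
      ext x; simp
    rw [this, ← MonoidHom.map_closure, hT, ← MonoidHom.range_eq_map, Subgroup.range_subtype]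

/-- **Generators from power jumps.** `L` a descending chain in a finite `p`-group, `L N = ⊥`,
steps of index at most `p` from `a` on, and `h ↦ h ^ p` shifting the exact level of every
`h ∈ L k ∖ L (k+1)`, `a ≤ k < b`, by `s`.  A subgroup `H` with `|H| ≤ p ^ c * |H ⊓ L a|` is
generated by at most `c + (N - b)` elements. -/
theorem h63_gen_of_pow_jump {G : Type*} [Group G] [Finite G] {p : ℕ} [hp : Fact p.Prime]
    (hG : IsPGroup p G) (L : ℕ → Subgroup G) (hL : Antitone L) (a b N s : ℕ) (hab : a ≤ b)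
    (hbN : b ≤ N) (hN : L N = ⊥)
    (hidx : ∀ k, a ≤ k → k < N → Nat.card (L k) ≤ p * Nat.card (L (k + 1)))
    (hpow : ∀ k, a ≤ k → k < b → ∀ h ∈ L k, h ∉ L (k + 1) →
      h ^ p ∈ L (k + s) ∧ h ^ p ∉ L (k + s + 1))
    (H : Subgroup G) (c : ℕ) (hHc : Nat.card H ≤ p ^ c * Nat.card ↥(H ⊓ L a)) :
    ∃ T : Finset G, T.card ≤ c + (N - b) ∧ Subgroup.closure (T : Set G) = H := by
  set Φ : Subgroup G := (frattini ↥H).map H.subtype with hΦ
  have hΦcard : Nat.card Φ = Nat.card (frattini ↥H) :=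
    Subgroup.card_map_of_injective H.subtype_injective
  have hjb := h63_jump_bound hG L hL a b N s hab hbN hN hidx (H ⊓ L a) (Φ ⊓ (H ⊓ L a))
    inf_le_right inf_le_right
    (by
      intro k hak hkb h hh hhk hhk'
      have hhH : h ∈ H := (Subgroup.mem_inf.mp hh).1
      obtain ⟨h1, h2⟩ := hpow k hak hkb h hhk hhk'
      refine ⟨h ^ p, Subgroup.mem_inf.mpr ⟨?_, Subgroup.pow_mem _ hh p⟩, h1, h2⟩
      have h3 := Cfsg.Agent.Lib.helper3.pow_prime_mem_frattini (hG.to_subgroup H) (⟨h, hhH⟩ : ↥H)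
      exact ⟨_, h3, by simp⟩)
  have hK : Nat.card ↥(Φ ⊓ (H ⊓ L a)) ≤ Nat.card (frattini ↥H) := by
    rw [← hΦcard]
    exact Subgroup.card_le_of_le inf_le_left
  apply h63_exists_gen_of_card_le hG (c + (N - b)) H
  calc Nat.card H ≤ p ^ c * Nat.card ↥(H ⊓ L a) := hHc
    _ ≤ p ^ c * (p ^ (N - b) * Nat.card ↥(Φ ⊓ (H ⊓ L a))) := Nat.mul_le_mul_left _ hjb
    _ ≤ p ^ c * (p ^ (N - b) * Nat.card (frattini ↥H)) :=
        Nat.mul_le_mul_left _ (Nat.mul_le_mul_left _ hK)
    _ = p ^ (c + (N - b)) * Nat.card (frattini ↥H) := by rw [pow_add, mul_assoc]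

end Cfsg.Agent.Lib.helper63
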