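import Mathlib

/-! Piece `H` of the split proof of S0420 (owner helper73). -/

set_option autoImplicit false

namespace Cfsg.Agent.Lib.helper63.M11U

/-- PIECE H: no nonidentity element fixes 4 points, 11 points, order 7920: sharply 4-transitive. -/
theorem sharp_four_of_fix_le_three {G : Type*} [Group G] [Finite G] (hG : Nat.card G = 7920)
    {X : Type*} [Fintype X] [DecidableEq X] [MulAction G X] (hX : Fintype.card X = 11)
    (hfix : ∀ g : G, g ≠ 1 → (Finset.univ.filter fun x : X => g • x = x).card ≤ 3)
    (x y : Fin 4 ↪ X) : ∃! g : G, ∀ i, g • x i = y i := by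
  classical
  -- an element fixing a 4-tuple is trivial
  have hkey : ∀ (x : Fin 4 ↪ X) (g : G), (∀ i, g • x i = x i) → g = 1 := by
    intro x g hg
    by_contra hg1
    have h3 := hfix g hg1
    obtain ⟨s, hsdef⟩ : ∃ s : Finset X, s = Finset.univ.image (fun i : Fin 4 => x i) := ⟨_, rfl⟩
    have hs : s ⊆ Finset.univ.filter fun x : X => g • x = x := by
      intro t ht
      rw [hsdef, Finset.mem_image] at ht
      obtain ⟨i, -, rfl⟩ := ht
      rw [Finset.mem_filter]
      exact ⟨Finset.mem_univ _, hg i⟩
    have hcs : s.card = 4 := by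
      rw [hsdef, Finset.card_image_of_injective _ x.injective]
      simp
    have h4 := Finset.card_le_card hs
    omega
  have hstab : ∀ x : Fin 4 ↪ X, MulAction.stabilizer G x = ⊥ := by
    intro x
    rw [eq_bot_iff]
    intro g hg
    rw [MulAction.mem_stabilizer_iff] at hg
    rw [Subgroup.mem_bot]
    apply hkey x g
    intro i
    have h := congrArg (fun f : Fin 4 ↪ X => f i) hg
    have h' : (g • x) i = x i := h
    rw [Function.Embedding.smul_apply] at h'
    exact h'
  have hE : Nat.card (Fin 4 ↪ X) = 7920 := by
    rw [Nat.card_eq_fintype_card, Fintype.card_embedding_eq, hX, Fintype.card_fin]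
    decide
  have horb : MulAction.orbit G x = Set.univ := by
    have h1 := MulAction.index_stabilizer G x
    rw [hstab x, Subgroup.index_bot, hG] at h1
    rw [Set.eq_univ_iff_ncard, hE]
    exact h1.symm
  have hy : y ∈ MulAction.orbit G x := by rw [horb]; trivial
  obtain ⟨g, hg⟩ := hy
  have hg' : ∀ i, g • x i = y i := by
    intro i
    have h := congrArg (fun f : Fin 4 ↪ X => f i) hg
    have h' : (g • x) i = y i := h
    rw [Function.Embedding.smul_apply] at h'
    exact h'
  refine ⟨g, hg', ?_⟩
  intro g' hg''
  have h1 : g⁻¹ * g' = 1 := by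
    apply hkey x
    intro i
    rw [mul_smul, hg'' i, ← hg' i, inv_smul_smul]
  exact (eq_of_inv_mul_eq_one h1).symm

end Cfsg.Agent.Lib.helper63.M11U
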