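import Mathlib
import Cfsg.Prelude.Def_Transfer
import Cfsg.Agent.Lib.helper3.PGroupFrattini
import Cfsg.Agent.Lib.helper4.P3XS
import Cfsg.Agent.Lib.helper13.PearlFD1

/-!
S5239 (architect helper79), leaf EXP27, racer copy (prefixed name): a nonabelian group of order 27
with an injective endomorphism inverting an elementary abelian subgroup of order 9 has exponent 3.
Route: extraspecial (landed XS), the cube map is a homomorphism with kernel `E`, so `ψ y * y ∈ E`;
then `ψ` both fixes and inverts every commutator `⁅a, y⁆`, `a ∈ E`.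
-/

set_option autoImplicit false

namespace Cfsg.Agent.Lib.helper79.P3

open scoped commutatorElement

theorem h63_p3_exp27 {G : Type*} [Group G] [Finite G] (hG : Nat.card G = 27) (hna : ∃ a b : G, a * b ≠ b * a)
    (E : Subgroup G) (hE : Nat.card E = 9) (hEe : ∀ e ∈ E, e ^ 3 = 1) (ψ : G →* G)
    (hψ : Function.Injective ψ) (hψE : ∀ e ∈ E, ψ e = e⁻¹) : ∀ g : G, g ^ 3 = 1 := by
  classical
  haveI : Fact (Nat.Prime 3) := ⟨Nat.prime_three⟩
  obtain ⟨⟨hP, hfr, hcom⟩, hZ⟩ := p3_extraspecial27 hG hna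
  have hcube : ∀ g : G, g ^ 3 ∈ Subgroup.center G := by
    intro g
    rw [← hfr]
    exact Cfsg.Agent.Lib.helper3.pow_prime_mem_frattini hP g
  have hcomm : ∀ a b : G, ⁅a, b⁆ ∈ Subgroup.center G := by
    intro a b
    rw [← hcom, commutator_def]
    exact Subgroup.commutator_mem_commutator (Subgroup.mem_top a) (Subgroup.mem_top b)
  have hZ3 : ∀ c ∈ Subgroup.center G, c ^ 3 = 1 := by
    intro c hc
    have h := pow_card_eq_one' (G := Subgroup.center G) (x := ⟨c, hc⟩)
    rw [hZ] at h
    simpa using congrArg Subtype.val h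
  have hEab : ∀ a ∈ E, ∀ b ∈ E, a * b = b * a := by
    intro a ha b hb
    have h := IsPGroup.commutative_of_card_eq_prime_sq (p := 3) (G := E) (by rw [hE]; norm_num)
      ⟨a, ha⟩ ⟨b, hb⟩
    simpa using congrArg Subtype.val h
  have hEidx : E.index = 3 := by
    have h := E.card_mul_index
    rw [hE, hG] at h
    omega
  haveI hEn : E.Normal := by
    apply Subgroup.normal_of_index_eq_minFac_card
    rw [hEidx, hG]
    norm_num
  have hmul : ∀ u v : G, (u * v) ^ 3 = u ^ 3 * v ^ 3 := by
    intro u v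
    have hd : ⁅v⁻¹, u⁻¹⁆ ∈ Subgroup.center G := hcomm _ _
    have h := Cfsg.Agent.Lib.helper88.PearlF.h13_mul_pow_of_central u v ⁅v⁻¹, u⁻¹⁆
      (fun g => (Subgroup.mem_center_iff.mp hd g).symm)
      (by rw [commutatorElement_def]; group) 3
    rw [h, show Nat.choose 3 2 = 3 by decide, hZ3 _ hd, mul_one]
  have hdiv : ∀ K : Subgroup G, Nat.card K = 1 ∨ Nat.card K = 3 ∨ Nat.card K = 9 ∨ Nat.card K = 27 := by
    intro K
    have hdvd : Nat.card K ∣ 3 ^ 3 := by
      have := Subgroup.card_subgroup_dvd_card K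
      rw [hG] at this
      norm_num
      exact this
    obtain ⟨k, hk, hk'⟩ := (Nat.dvd_prime_pow Nat.prime_three).mp hdvd
    rw [hk']
    interval_cases k <;> simp
  intro y
  by_contra hy
  have hyE3 : y ^ 3 ∈ E := by
    have := Subgroup.pow_index_mem E y
    rwa [hEidx] at this
  let cube : G →* G :=
    { toFun := fun g => g ^ 3
      map_one' := one_pow 3
      map_mul' := fun u v => hmul u v }
  have hcube_apply : ∀ g : G, cube g = g ^ 3 := fun g => rfl
  have hEK : E ≤ cube.ker := by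
    intro e he
    rw [MonoidHom.mem_ker, hcube_apply]
    exact hEe e he
  have hKE : cube.ker = E := by
    symm
    apply Subgroup.eq_of_le_of_card_ge hEK
    have hne : Nat.card cube.ker ≠ 27 := by
      intro h27
      apply hy
      have htop : cube.ker = ⊤ := Subgroup.eq_top_of_card_eq _ (by rw [h27, hG])
      have : y ∈ cube.ker := by rw [htop]; exact Subgroup.mem_top y
      rw [MonoidHom.mem_ker, hcube_apply] at this
      exact this
    rw [hE]
    rcases hdiv cube.ker with h | h | h | h <;> omega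
  have ht : ψ y * y ∈ E := by
    rw [← hKE, MonoidHom.mem_ker, hcube_apply, hmul, ← map_pow, hψE _ hyE3, inv_mul_cancel]
  have hcent : ∀ a ∈ E, a * y = y * a := by
    intro a ha
    have hcZ : ⁅a, y⁆ ∈ Subgroup.center G := hcomm a y
    have hcE : ⁅a, y⁆ ∈ E := by
      have : ⁅a, y⁆ = a * (y * a⁻¹ * y⁻¹) := by rw [commutatorElement_def]; group
      rw [this]
      exact E.mul_mem ha (hEn.conj_mem a⁻¹ (E.inv_mem ha) y)
    have h1 : ψ ⁅a, y⁆ = ⁅a, y⁆⁻¹ := hψE _ hcE
    have h2 : ψ ⁅a, y⁆ = ⁅a, y⁆ := by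
      have hψy : ψ y = (ψ y * y) * y⁻¹ := by group
      have hyay : y⁻¹ * a * y ∈ E := by
        have := hEn.conj_mem a ha y⁻¹
        simpa using this
      have hsw : (ψ y * y) * (y⁻¹ * a * y) = (y⁻¹ * a * y) * (ψ y * y) := hEab _ ht _ hyay
      have e2 : ψ ⁅a, y⁆ = a⁻¹ * ((ψ y * y) * (y⁻¹ * a * y)) * (ψ y * y)⁻¹ := by
        rw [map_commutatorElement, hψE a ha, commutatorElement_def]
        group
      rw [e2, hsw]
      have e3 : a⁻¹ * (y⁻¹ * a * y * (ψ y * y)) * (ψ y * y)⁻¹ = y⁻¹ * (a⁻¹ * ⁅a, y⁆ * a) * y := by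
        rw [commutatorElement_def]; group
      rw [e3]
      have hca : a⁻¹ * ⁅a, y⁆ * a = ⁅a, y⁆ := by
        have := Subgroup.mem_center_iff.mp hcZ a
        rw [mul_assoc, ← this, inv_mul_cancel_left]
      have hcy : y⁻¹ * ⁅a, y⁆ * y = ⁅a, y⁆ := by
        have := Subgroup.mem_center_iff.mp hcZ y
        rw [mul_assoc, ← this, inv_mul_cancel_left]
      rw [hca, hcy]
    have hc1 : ⁅a, y⁆ = 1 := by
      have h3 : ⁅a, y⁆ ^ 3 = 1 := hZ3 _ hcZ
      have h4 : ⁅a, y⁆ = ⁅a, y⁆⁻¹ := h2.symm.trans h1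
      have h5 : ⁅a, y⁆ * ⁅a, y⁆⁻¹ = 1 := mul_inv_cancel _
      rw [← h4] at h5
      rw [pow_succ, pow_two, h5, one_mul] at h3
      exact h3
    exact commutatorElement_eq_one_iff_mul_comm.mp hc1
  have hyE : y ∉ E := fun h => hy (hEe y h)
  have hEC : E ≤ Subgroup.centralizer ({y} : Set G) := by
    intro a ha
    rw [Subgroup.mem_centralizer_iff]
    intro g hg
    rw [Set.mem_singleton_iff] at hg
    subst hg
    exact (hcent a ha).symm
  have hyC : y ∈ Subgroup.centralizer ({y} : Set G) := by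
    rw [Subgroup.mem_centralizer_iff]
    intro g hg
    rw [Set.mem_singleton_iff] at hg
    subst hg
    rfl
  have hCtop : Subgroup.centralizer ({y} : Set G) = ⊤ := by
    have hge : 9 ≤ Nat.card (Subgroup.centralizer ({y} : Set G)) := by
      rw [← hE]; exact Subgroup.card_le_of_le hEC
    have hne9 : Nat.card (Subgroup.centralizer ({y} : Set G)) ≠ 9 := by
      intro h9
      have : E = Subgroup.centralizer ({y} : Set G) :=
        Subgroup.eq_of_le_of_card_ge hEC (by rw [h9, hE])
      exact hyE (this ▸ hyC)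
    apply Subgroup.eq_top_of_card_eq
    rw [hG]
    rcases hdiv (Subgroup.centralizer ({y} : Set G)) with h | h | h | h <;> omega
  have hyZ : y ∈ Subgroup.center G := by
    rw [Subgroup.mem_center_iff]
    intro g
    have : g ∈ Subgroup.centralizer ({y} : Set G) := by rw [hCtop]; exact Subgroup.mem_top g
    rw [Subgroup.mem_centralizer_iff] at this
    exact (this y (Set.mem_singleton y)).symm
  exact hy (hZ3 y hyZ)

end Cfsg.Agent.Lib.helper79.P3
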