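/-
S4306 piece NILCRIT: a group of Fitting height at most two in which, for every prime `s`, some
Sylow `s`-subgroup centralizes all normal `t`-subgroups (`t ≠ s`), is nilpotent.
-/
import Mathlib
import Cfsg.Agent.Lib.helper75.PQDefs

set_option autoImplicit false

namespace Cfsg.Agent.Lib.helper75.PQ

/-- A subgroup containing a Sylow subgroup of `E` for every prime contains `E`. -/
theorem nilcrit_le_of_sylow {Γ : Type*} [Group Γ] [Finite Γ] (E D : Subgroup Γ)
    (h : ∀ t : ℕ, t.Prime → ∃ Q : Sylow t E, (Q : Subgroup E).map E.subtype ≤ D) : E ≤ D := by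
  by_contra hED
  have hne : (D.subgroupOf E) ≠ ⊤ := by
    intro h1
    exact hED (Subgroup.subgroupOf_eq_top.mp h1)
  have hidx : (D.subgroupOf E).index ≠ 1 := by
    rw [Ne, Subgroup.index_eq_one]; exact hne
  obtain ⟨t, ht, htd⟩ := Nat.exists_prime_and_dvd hidx
  have : Fact t.Prime := ⟨ht⟩
  obtain ⟨Q, hQ⟩ := h t ht
  have hle : (Q : Subgroup E) ≤ D.subgroupOf E := by
    intro x hx
    rw [Subgroup.mem_subgroupOf]
    exact hQ (Subgroup.mem_map_of_mem _ hx)
  have := Subgroup.index_dvd_of_le hle
  exact Q.not_dvd_index (htd.trans this)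

/-- The quotient of `N` by a term of its lower central series is nilpotent. -/
theorem nilcrit_quot {Γ : Type*} [Group Γ] (N : Subgroup Γ) [N.Normal] (k : ℕ) :
    Group.IsNilpotent (N ⧸ ((N.lowerCentralSeries k).subgroupOf N)) := by
  rw [Subgroup.nilpotent_iff_lowerCentralSeries]
  refine ⟨k, ?_⟩
  have hsurj : Function.Surjective
      (QuotientGroup.mk' ((N.lowerCentralSeries k).subgroupOf N)) :=
    QuotientGroup.mk'_surjective _
  have h1 := Subgroup.map_lowerCentralSeries (⊤ : Subgroup N)
    (QuotientGroup.mk' ((N.lowerCentralSeries k).subgroupOf N)) k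
  rw [Subgroup.map_top_of_surjective _ hsurj] at h1
  rw [← h1, Subgroup.map_eq_bot_iff, QuotientGroup.ker_mk']
  intro x hx
  rw [Subgroup.mem_subgroupOf, ← Subgroup.top_subtype_lowerCentralSeries N k]
  exact Subgroup.mem_map_of_mem _ hx

/-- NILCRIT: a group of Fitting height at most two in which, for every prime `s`, some Sylow
`s`-subgroup centralizes all normal `t`-subgroups (`t ≠ s`), is nilpotent. -/
theorem nilpotent_of_sylow_cz {Γ : Type*} [Group Γ] [Finite Γ] (N : Subgroup Γ) (hN : N.Normal)
    (k m : ℕ) (hkm : (N.lowerCentralSeries k).lowerCentralSeries m = ⊥)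
    (hsyl : ∀ s : ℕ, s.Prime → ∃ P : Sylow s N, ∀ t : ℕ, t.Prime → t ≠ s →
      ∀ T : Subgroup Γ, T ≤ N → T.Normal → IsPGroup t T →
        Cz ((P : Subgroup N).map N.subtype) T) :
    ∃ j : ℕ, N.lowerCentralSeries j = ⊥ := by
  classical
  rw [← Subgroup.isNilpotent_iff_lowerCentralSeries]
  obtain ⟨F, hF⟩ : ∃ F : Subgroup Γ, F = N.lowerCentralSeries k := ⟨_, rfl⟩
  have hFn : F.Normal := by rw [hF]; infer_instance
  have hFN : F ≤ N := by rw [hF]; exact Subgroup.lowerCentralSeries_le_self N k
  have hFnil : Group.IsNilpotent F := by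
    rw [Subgroup.isNilpotent_iff_lowerCentralSeries]; exact ⟨m, by rw [hF]; exact hkm⟩
  have hF'n : (F.subgroupOf N).Normal := inferInstance
  have hquot : Group.IsNilpotent (N ⧸ (F.subgroupOf N)) := by
    subst hF; exact nilcrit_quot N k
  have key : ∀ (s : ℕ) (_hs : Fact s.Prime) (P : Sylow s N), (P : Subgroup N).Normal := by
    intro s hsF P0
    have hs : s.Prime := hsF.out
    obtain ⟨P, hP⟩ := hsyl s hs
    -- it suffices to treat `P`
    suffices hPn : (P : Subgroup N).Normal by
      have := Sylow.unique_of_normal P hPn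
      rw [Subsingleton.elim P0 P]; exact hPn
    -- Claim A: `F` normalizes `P`
    have hA : F ≤ Subgroup.normalizer (((P : Subgroup N).map N.subtype : Subgroup Γ) : Set Γ) := by
      apply nilcrit_le_of_sylow
      intro t ht
      have htF : Fact t.Prime := ⟨ht⟩
      obtain ⟨Q⟩ : Nonempty (Sylow t F) := inferInstance
      refine ⟨Q, ?_⟩
      have hQn : (Q : Subgroup F).Normal := inferInstance
      have hQc : (Q : Subgroup F).Characteristic := Sylow.characteristic_of_normal Q hQn
      have hQsn : ((Q : Subgroup F).map F.subtype).Normal := inferInstance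
      have hQsN : (Q : Subgroup F).map F.subtype ≤ N :=
        (Subgroup.map_subtype_le _).trans hFN
      have hQsp : IsPGroup t ((Q : Subgroup F).map F.subtype) := Q.isPGroup'.map F.subtype
      by_cases hts : t = s
      · subst hts
        -- the normal `t`-subgroup lies in `P`
        have hn' : (((Q : Subgroup F).map F.subtype).subgroupOf N).Normal := inferInstance
        have hp' : IsPGroup t (((Q : Subgroup F).map F.subtype).subgroupOf N) := by
          have : IsPGroup t (((Q : Subgroup F).map F.subtype).comap N.subtype) :=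
            hQsp.comap_of_injective N.subtype N.subtype_injective
          exact this
        have hsup : IsPGroup t ((P : Subgroup N) ⊔
            (((Q : Subgroup F).map F.subtype).subgroupOf N) : Subgroup N) :=
          IsPGroup.to_sup_of_normal_right P.isPGroup' hp'
        have heq := P.is_maximal' hsup le_sup_left
        have hle : (((Q : Subgroup F).map F.subtype).subgroupOf N) ≤ (P : Subgroup N) := by
          rw [← heq]; exact le_sup_right
        intro y hy
        have hyN : y ∈ N := hQsN hy
        have hyP : (⟨y, hyN⟩ : N) ∈ (P : Subgroup N) :=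
          hle (Subgroup.mem_subgroupOf.mpr hy)
        have hyPs : y ∈ (P : Subgroup N).map N.subtype :=
          Subgroup.mem_map.mpr ⟨⟨y, hyN⟩, hyP, rfl⟩
        exact Subgroup.le_normalizer hyPs
      · have hcz := hP t ht hts _ hQsN hQsn hQsp
        intro y hy
        apply Subgroup.centralizer_le_normalizer
        rw [Subgroup.mem_centralizer_iff]
        intro x hx
        exact hcz x hx y hy
    -- Claim B: `P ⊔ F'` is normal in `N`
    have hsurj : Function.Surjective (QuotientGroup.mk' (F.subgroupOf N)) :=
      QuotientGroup.mk'_surjective _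
    have hMn : ((P : Subgroup N) ⊔ F.subgroupOf N).Normal := by
      have h1 : ((P.mapSurjective hsurj : Sylow s (N ⧸ (F.subgroupOf N))) :
          Subgroup (N ⧸ (F.subgroupOf N))).Normal := inferInstance
      have h2 := h1.comap (QuotientGroup.mk' (F.subgroupOf N))
      rw [Sylow.coe_mapSurjective, Subgroup.comap_map_eq, QuotientGroup.ker_mk'] at h2
      exact h2
    have hfr : Subgroup.normalizer ((P : Subgroup N) : Set N) ⊔ ((P : Subgroup N) ⊔ F.subgroupOf N)
        = ⊤ :=
      Sylow.normalizer_sup_eq_top' (N := (P : Subgroup N) ⊔ F.subgroupOf N) P le_sup_left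
    have hMle : (P : Subgroup N) ⊔ F.subgroupOf N ≤ Subgroup.normalizer ((P : Subgroup N) : Set N) := by
      apply sup_le Subgroup.le_normalizer
      intro y hy
      have hyF : (y : Γ) ∈ F := Subgroup.mem_subgroupOf.mp hy
      have hyn := hA hyF
      rw [Subgroup.mem_normalizer_iff] at hyn ⊢
      intro h
      have h1 := hyn (h : Γ)
      have e1 : ((h : Γ) ∈ (P : Subgroup N).map N.subtype) ↔ h ∈ (P : Subgroup N) :=
        Subgroup.mem_map_iff_mem N.subtype_injective (x := h)
      have e2 : (((y * h * y⁻¹ : N) : Γ) ∈ (P : Subgroup N).map N.subtype) ↔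
          y * h * y⁻¹ ∈ (P : Subgroup N) :=
        Subgroup.mem_map_iff_mem N.subtype_injective (x := y * h * y⁻¹)
      rw [← e1, ← e2]
      exact h1
    rw [sup_eq_left.mpr hMle] at hfr
    exact Subgroup.normalizer_eq_top_iff.mp hfr
  exact (Group.isNilpotent_of_finite_tfae.out 0 3 rfl rfl).mpr key

end Cfsg.Agent.Lib.helper75.PQ
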