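/-
S4306 piece STEP-A (core form, the tower theorem as a hypothesis): the faithful linear case.
-/
import Mathlib
import Cfsg.Agent.Lib.helper75.PQDefs
import Cfsg.Agent.Lib.helper18.PQ_A
import Cfsg.Agent.Lib.helper1.Coprime
import Cfsg.Agent.Lib.helper63.PQ_NILCRIT

set_option autoImplicit false

namespace Cfsg.Agent.Lib.helper75.PQ

/-- A `u`-subgroup of a group of order prime to `u` is trivial. -/
theorem stepa_trivial {Γ : Type*} [Group Γ] [Finite Γ] (N U : Subgroup Γ) (u : ℕ)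
    (hcop : (Nat.card N).Coprime u) (hUN : U ≤ N) (hUp : IsPGroup u U) : ∀ x ∈ U, x = 1 := by
  intro x hx
  obtain ⟨n, hn⟩ := hUp ⟨x, hx⟩
  have h1 : x ^ (u ^ n) = 1 := by
    have := congrArg Subtype.val hn
    simpa using this
  have h2 : x ^ (Nat.card N) = 1 := by
    have h3 : (⟨x, hUN hx⟩ : N) ^ (Nat.card N) = 1 := pow_card_eq_one'
    have h4 : (((⟨x, hUN hx⟩ : N) ^ (Nat.card N) : N) : Γ) = x ^ Nat.card N := rfl
    rw [← h4, h3]; rfl
  have hc : Nat.Coprime (u ^ n) (Nat.card N) := Nat.Coprime.pow_left n hcop.symm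
  have h4 : x ^ Nat.gcd (u ^ n) (Nat.card N) = 1 := pow_gcd_eq_one.mpr ⟨h1, h2⟩
  rw [Nat.Coprime.gcd_eq_one hc, pow_one] at h4
  exact h4

/-- STEP-A, core form: the faithful linear case, with the tower theorem as a hypothesis. -/
theorem PQSetup.step_faithful_core_h63 {Γ : Type*} [Group Γ] [Finite Γ] {N K H : Subgroup Γ}
    {p q : ℕ} (hS : PQSetup N K H p q) {F : Type*} [Field F] [IsAlgClosed F] {W : Type*}
    [AddCommGroup W] [Module F W] [FiniteDimensional F W] (ρ : Γ →* Module.End F W) (l : ℕ)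
    (hl : l.Prime) [CharP F l] (hlpq : ¬ l ∣ p * q)
    (htower : ∀ (S R : Subgroup Γ) (s r : ℕ), Tower ρ K H S R p q s r → Cz S R)
    (hfaith : ∀ n ∈ N, ρ n = 1 → n = 1)
    (hfpfW : ∀ w : W, (∀ k ∈ K, ρ k w = w) → (∀ h ∈ H, ρ h w = w) → w = 0)
    (hOl : ∀ T : Subgroup Γ, T ≤ N → T.Normal → IsPGroup l T → T = ⊥)
    (k m : ℕ) (hkm : (N.lowerCentralSeries k).lowerCentralSeries m = ⊥) :
    ∃ j : ℕ, N.lowerCentralSeries j = ⊥ := by
  have hNn := hS.nN
  have hfr := hS.frob
  apply nilpotent_of_sylow_cz N hS.nN k m hkm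
  intro s hs
  have hsF : Fact s.Prime := ⟨hs⟩
  have hcardA : Nat.card (K ⊔ H : Subgroup Γ) = p * q := hS.frob.card_sup
  obtain ⟨P, hP⟩ := Cfsg.Agent.Lib.helper1.exists_invariant_sylow (p := s) (K ⊔ H) N
    (by rw [Subgroup.normalizer_eq_top_iff.mpr hS.nN]; exact le_top)
    (by rw [hcardA]; exact hS.cop.symm) (Or.inr hS.solv)
  refine ⟨P, ?_⟩
  intro t ht hts T hTN hTn hTp
  have hPN : (P : Subgroup N).map N.subtype ≤ N := Subgroup.map_subtype_le _
  have hPp : IsPGroup s ((P : Subgroup N).map N.subtype) := P.isPGroup'.map N.subtype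
  by_cases hspq : s ∣ p * q
  · -- `P` is trivial
    have h1 := stepa_trivial N _ s (hS.cop.coprime_dvd_right hspq) hPN hPp
    intro x hx y hy
    rw [h1 x hx, one_mul, mul_one]
  by_cases htpq : t ∣ p * q
  · have h1 := stepa_trivial N T t (hS.cop.coprime_dvd_right htpq) hTN hTp
    intro x hx y hy
    rw [h1 y hy, one_mul, mul_one]
  by_cases htl : t = l
  · subst htl
    have h1 := hOl T hTN hTn hTp
    intro x hx y hy
    rw [h1, Subgroup.mem_bot] at hy
    rw [hy, one_mul, mul_one]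
  have hTtop : Subgroup.normalizer (T : Set Γ) = ⊤ := Subgroup.normalizer_eq_top_iff.mpr hTn
  have hlp : ¬ l ∣ p := fun h => hlpq (h.trans (Dvd.intro _ rfl))
  have hlq : ¬ l ∣ q := fun h => hlpq (h.trans (Dvd.intro_left _ rfl))
  have hlt : ¬ l ∣ t := fun h => htl ((Nat.prime_dvd_prime_iff_eq hl ht).mp h).symm
  apply htower _ _ s t
  exact
    { hp := hfr.hp
      hq := hfr.hq
      hs := hs
      hr := ht
      hpq := hfr.hpq
      hsr := fun h => hts h.symm
      hsp := fun h => hspq (h ▸ Dvd.intro _ rfl)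
      hsq := fun h => hspq (h ▸ Dvd.intro_left _ rfl)
      hrp := fun h => htpq (h ▸ Dvd.intro _ rfl)
      hrq := fun h => htpq (h ▸ Dvd.intro_left _ rfl)
      cardK := hfr.cardK
      cardH := hfr.cardH
      HK := hfr.HK
      nab := hfr.nab
      Sgrp := hPp
      Rgrp := hTp
      KS := le_sup_left.trans hP
      HS := le_sup_right.trans hP
      KR := by rw [hTtop]; exact le_top
      HR := by rw [hTtop]; exact le_top
      SR := by rw [hTtop]; exact le_top
      fpfS := fun x hx => hS.fpf x (hPN hx)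
      fpfR := fun x hx => hS.fpf x (hTN hx)
      fpfW := hfpfW
      faith := fun x hx => hfaith x (hTN hx)
      pF := fun h => hlp ((CharP.cast_eq_zero_iff F l p).mp h)
      qF := fun h => hlq ((CharP.cast_eq_zero_iff F l q).mp h)
      rF := fun h => hlt ((CharP.cast_eq_zero_iff F l t).mp h) }

end Cfsg.Agent.Lib.helper75.PQ
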