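/-
S4306 piece STEP-B (core form: the tower theorem and LIN as hypotheses): `N / C_N(V)` is
nilpotent for a minimal normal subgroup `V`.
-/
import Mathlib
import Cfsg.Agent.Lib.helper75.PQDefs
import Cfsg.Agent.Lib.helper18.PQ_A
import Cfsg.Agent.Lib.helper18.PQ_MINV
import Cfsg.Agent.Lib.helper70.PQ_OL
import Cfsg.Agent.Lib.helper72.PQ_QUOT
import Cfsg.Agent.Lib.helper63.PQ_STEPA

set_option autoImplicit false

namespace Cfsg.Agent.Lib.helper75.PQ

universe u

/-- STEP-B, core form: the tower theorem (for groups in the same universe) and the conclusion of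
LIN (for the given `V`) are hypotheses. -/
theorem PQSetup.step_core_h63 {Γ : Type u} [Group Γ] [Finite Γ] {N K H : Subgroup Γ} {p q : ℕ}
    (hS : PQSetup N K H p q) (V : Subgroup Γ) (hVn : V.Normal) (hVN : V ≤ N) (hVne : V ≠ ⊥)
    (hVmin : ∀ U : Subgroup Γ, U.Normal → U ≤ V → U = ⊥ ∨ U = V)
    (hlin : ∀ l : ℕ, l.Prime → (∀ v ∈ V, v ^ l = 1) → (∀ v ∈ V, ∀ v' ∈ V, v * v' = v' * v) →
      ∃ (F : Type) (_ : Field F) (_ : IsAlgClosed F) (_ : CharP F l) (W : Type)
        (_ : AddCommGroup W) (_ : Module F W) (_ : FiniteDimensional F W)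
        (ρ : Γ →* Module.End F W),
        (∀ g : Γ, ρ g = 1 ↔ ∀ v ∈ V, g * v = v * g) ∧
        (∀ A : Subgroup Γ, (Nat.card A).Coprime l →
          (∀ v ∈ V, (∀ a ∈ A, a * v = v * a) → v = 1) →
          ∀ w : W, (∀ a ∈ A, ρ a w = w) → w = 0))
    (htower : ∀ (Γ' : Type u) [Group Γ'] [Finite Γ'] (F : Type) [Field F] [IsAlgClosed F]
      (W : Type) [AddCommGroup W] [Module F W] [FiniteDimensional F W]
      (ρ : Γ' →* Module.End F W) (K' H' S R : Subgroup Γ') (s r : ℕ),
      Tower ρ K' H' S R p q s r → Cz S R)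
    (ih : ∀ (Γ' : Type u) [Group Γ'] [Finite Γ'] (N' K' H' : Subgroup Γ'),
      Nat.card N' < Nat.card N → PQSetup N' K' H' p q →
      ∃ k m : ℕ, (N'.lowerCentralSeries k).lowerCentralSeries m = ⊥) :
    ∃ j : ℕ, N.lowerCentralSeries j ≤ Subgroup.centralizer (V : Set Γ) := by
  classical
  have hNn : N.Normal := hS.nN
  obtain ⟨l, hl, hexp, hab⟩ := minimal_normal_elementary N V hS.solv hVn hVN hVne hVmin
  obtain ⟨F, _, _, _, W, _, _, _, ρ, hρ1, hρ2⟩ := hlin l hl hexp hab
  -- a nontrivial element of `V`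
  obtain ⟨v0, hv0, hv01⟩ : ∃ v ∈ V, v ≠ 1 := by
    by_contra hcon
    push Not at hcon
    exact hVne ((Subgroup.eq_bot_iff_forall V).mpr hcon)
  have hlpq : ¬ l ∣ p * q := by
    have hord : orderOf v0 = l := by
      have h1 : orderOf v0 ∣ l := orderOf_dvd_of_pow_eq_one (hexp v0 hv0)
      rcases (Nat.dvd_prime hl).mp h1 with h | h
      · exact absurd (orderOf_eq_one_iff.mp h) hv01
      · exact h
    have hdvd : l ∣ Nat.card N := by
      rw [← hord]
      have h2 : orderOf (⟨v0, hVN hv0⟩ : N) ∣ Nat.card N := orderOf_dvd_natCard _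
      have h3 : orderOf (⟨v0, hVN hv0⟩ : N) = orderOf v0 := by
        rw [← Subgroup.orderOf_coe]
      rwa [h3] at h2
    intro h
    exact hl.ne_one (Nat.eq_one_of_dvd_coprimes hS.cop hdvd h)
  -- the centralizer of `V` in `N`
  obtain ⟨C, hC⟩ : ∃ C : Subgroup Γ, C = N ⊓ Subgroup.centralizer (V : Set Γ) := ⟨_, rfl⟩
  have hCn : C.Normal := by rw [hC]; infer_instance
  have hCN : C ≤ N := by rw [hC]; exact inf_le_left
  have hCcent : ∀ x ∈ C, ∀ v ∈ V, x * v = v * x := by
    intro x hx v hv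
    rw [hC] at hx
    exact (Subgroup.mem_centralizer_iff.mp hx.2 v hv).symm
  have hmemC : ∀ x ∈ N, (∀ v ∈ V, x * v = v * x) → x ∈ C := by
    intro x hx hxv
    rw [hC]
    exact ⟨hx, Subgroup.mem_centralizer_iff.mpr (fun v hv => (hxv v hv).symm)⟩
  have hVC : V ≤ C := fun v hv => hmemC v (hVN hv) (fun v' hv' => hab v hv v' hv')
  have hS' := hS.quot C hCN
  have hlt : Nat.card (N.map (QuotientGroup.mk' C)) < Nat.card N := by
    have := Fintype.ofFinite N
    have := Fintype.ofFinite (N.map (QuotientGroup.mk' C))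
    rw [Nat.card_eq_fintype_card, Nat.card_eq_fintype_card]
    apply Fintype.card_lt_of_surjective_not_injective
      (fun n : N => (⟨QuotientGroup.mk' C n, Subgroup.mem_map_of_mem _ n.2⟩ :
        N.map (QuotientGroup.mk' C)))
    · rintro ⟨y, hy⟩
      obtain ⟨n, hn, rfl⟩ := Subgroup.mem_map.mp hy
      exact ⟨⟨n, hn⟩, rfl⟩
    · intro hinj
      have h1 : (⟨v0, hVN hv0⟩ : N) = 1 := by
        apply hinj
        apply Subtype.ext
        show QuotientGroup.mk' C v0 = QuotientGroup.mk' C 1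
        rw [map_one]
        exact (QuotientGroup.eq_one_iff v0).mpr (hVC hv0)
      exact hv01 (congrArg Subtype.val h1)
  obtain ⟨k, m, hkm⟩ := ih (Γ ⧸ C) _ _ _ hlt hS'
  -- the representation of the quotient
  have hker : C ≤ ρ.ker := by
    intro x hx
    rw [MonoidHom.mem_ker, hρ1]
    exact hCcent x hx
  obtain ⟨ρ', hρ'⟩ : ∃ ρ' : (Γ ⧸ C) →* Module.End F W, ρ' = QuotientGroup.lift C ρ hker :=
    ⟨_, rfl⟩
  have hρ'mk : ∀ g : Γ, ρ' (QuotientGroup.mk' C g) = ρ g := by
    intro g
    rw [hρ']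
    exact QuotientGroup.lift_mk' C hker g
  have hfaith' : ∀ n' ∈ N.map (QuotientGroup.mk' C), ρ' n' = 1 → n' = 1 := by
    intro n' hn' h1
    obtain ⟨n, hn, rfl⟩ := Subgroup.mem_map.mp hn'
    rw [hρ'mk, hρ1] at h1
    exact (QuotientGroup.eq_one_iff n).mpr (hmemC n hn h1)
  have hcardA : Nat.card (K ⊔ H : Subgroup Γ) = p * q := hS.frob.card_sup
  have hfpfW' : ∀ w : W, (∀ k' ∈ K.map (QuotientGroup.mk' C), ρ' k' w = w) →
      (∀ h' ∈ H.map (QuotientGroup.mk' C), ρ' h' w = w) → w = 0 := by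
    intro w hK hH
    apply hρ2 (K ⊔ H)
    · rw [hcardA]
      exact ((Nat.Prime.coprime_iff_not_dvd hl).mpr hlpq).symm
    · intro v hv hfix
      exact hS.fpf v (hVN hv) (fun k hk => hfix k ((le_sup_left : K ≤ K ⊔ H) hk))
        (fun h hh => hfix h ((le_sup_right : H ≤ K ⊔ H) hh))
    · -- the stabilizer of `w` is a subgroup containing `K` and `H`
      let St : Subgroup Γ :=
        { carrier := {a | ρ a w = w}
          mul_mem' := by
            intro a b ha hb
            show ρ (a * b) w = w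
            rw [map_mul, Module.End.mul_apply]
            have ha' : ρ a w = w := ha
            have hb' : ρ b w = w := hb
            rw [hb', ha']
          one_mem' := by
            show ρ 1 w = w
            rw [map_one]; rfl
          inv_mem' := by
            intro a ha
            show ρ a⁻¹ w = w
            have ha' : ρ a w = w := ha
            have h1 : ρ a⁻¹ (ρ a w) = w := by
              rw [← Module.End.mul_apply, ← map_mul, inv_mul_cancel, map_one]; rfl
            rw [ha'] at h1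
            exact h1 }
      have hle : K ⊔ H ≤ St := by
        apply sup_le
        · intro k hk
          show ρ k w = w
          rw [← hρ'mk]
          exact hK _ (Subgroup.mem_map_of_mem _ hk)
        · intro h hh
          show ρ h w = w
          rw [← hρ'mk]
          exact hH _ (Subgroup.mem_map_of_mem _ hh)
      intro a ha
      exact hle ha
  have hOl' : ∀ T' : Subgroup (Γ ⧸ C), T' ≤ N.map (QuotientGroup.mk' C) → T'.Normal →
      IsPGroup l T' → T' = ⊥ := by
    intro T' hT'N hT'n hT'p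
    have hLn : (T'.comap (QuotientGroup.mk' C)).Normal := hT'n.comap _
    have hL : ∀ x ∈ T'.comap (QuotientGroup.mk' C), ∃ n : ℕ, ∀ v ∈ V,
        x ^ (l ^ n) * v = v * x ^ (l ^ n) := by
      intro x hx
      rw [Subgroup.mem_comap] at hx
      obtain ⟨n, hn⟩ := hT'p ⟨QuotientGroup.mk' C x, hx⟩
      refine ⟨n, ?_⟩
      have h1 : (QuotientGroup.mk' C x) ^ (l ^ n) = 1 := by
        have := congrArg Subtype.val hn
        exact this
      rw [← map_pow] at h1
      have h2 : x ^ (l ^ n) ∈ C := (QuotientGroup.eq_one_iff _).mp h1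
      exact hCcent _ h2
    have hcz := no_normal_l V hVn hVne hVmin l hl hexp _ hLn hL
    rw [Subgroup.eq_bot_iff_forall]
    intro t' ht'
    obtain ⟨x, rfl⟩ := QuotientGroup.mk'_surjective C t'
    have hxL : x ∈ T'.comap (QuotientGroup.mk' C) := Subgroup.mem_comap.mpr ht'
    obtain ⟨n, hn, hnx⟩ := Subgroup.mem_map.mp (hT'N ht')
    have hxN : x ∈ N := by
      have h1 : n⁻¹ * x ∈ C := by
        apply (QuotientGroup.eq_one_iff _).mp
        have hnx' : (n : Γ ⧸ C) = (x : Γ ⧸ C) := hnx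
        rw [QuotientGroup.mk_mul, QuotientGroup.mk_inv, hnx', inv_mul_cancel]
      have h2 : x = n * (n⁻¹ * x) := by group
      rw [h2]
      exact N.mul_mem hn (hCN h1)
    exact (QuotientGroup.eq_one_iff x).mpr (hmemC x hxN (hcz x hxL))
  obtain ⟨j, hj⟩ := hS'.step_faithful_core_h63 ρ' l hl hlpq (htower (Γ ⧸ C) F W ρ' _ _) hfaith'
    hfpfW' hOl' k m hkm
  refine ⟨j, ?_⟩
  rw [← Subgroup.map_lowerCentralSeries, Subgroup.map_eq_bot_iff, QuotientGroup.ker_mk'] at hj
  exact hj.trans (by rw [hC]; exact inf_le_right)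

end Cfsg.Agent.Lib.helper75.PQ
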