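import Mathlib
import Cfsg.Agent.Lib.helper68.HallPet

/-!
S5238 BLOCK G (architect helper33), leaf F4S: the step of the downward induction for F4.
-/

set_option autoImplicit false

namespace Cfsg.Agent.Lib.helper33.PearlG

open Cfsg.Agent.Lib.helper68

variable {G : Type*} [Group G] [Finite G]

/-- F4S. -/
theorem f4_step (p : ℕ) [Fact p.Prime] (n : ℕ) (x : G)
    (huni : ∀ i, 2 ≤ i → i + 2 ≤ n → ∀ m ∈ gam G i, m ∉ gam G (i + 1) →
      com m x ∉ gam G (i + 2))
    (hhp : ∀ i, 2 ≤ i → ∀ a ∈ gam G i, ∀ b ∈ gam G i,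
      ∃ z ∈ gam G (i + p + 1), (a * b) ^ p = a ^ p * b ^ p * z)
    (i : ℕ) (hi : 2 ≤ i) (hin : i + 1 + p ≤ n)
    (hIH : ∀ c ∈ gam G (i + 1), c ∉ gam G (i + 2) → c ^ p ∉ gam G (i + 1 + p))
    (m : G) (hm : m ∈ gam G i) (hm' : m ∉ gam G (i + 1)) : m ^ p ∉ gam G (i + p) := by
  intro hmp
  have hx1 : x ∈ gam G 1 := by unfold gam; simp
  have hc : com m x ∈ gam G (i + 1) := com_mem hm hx1
  have hc' : com m x ∉ gam G (i + 2) :=
    huni i hi (by have := (Fact.out : p.Prime).pos; omega) m hm hm'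
  have hcp := hIH (com m x) hc hc'
  obtain ⟨z, hz, hmc⟩ := hhp i hi m hm (com m x) (gam_antitone (Nat.le_succ i) hc)
  have h1 : com (m ^ p) x ∈ gam G (i + p + 1) := com_mem hmp hx1
  have h2 : com (m ^ p) x = (com m x) ^ p * z := by
    have e1 : m * com m x = x⁻¹ * m * x := by unfold com; group
    have e2 : (x⁻¹ * m * x) ^ p = x⁻¹ * m ^ p * x := by
      have := conj_pow (a := x⁻¹) (b := m) (i := p)
      rwa [inv_inv] at this
    have e3 : com (m ^ p) x = (m ^ p)⁻¹ * (x⁻¹ * m ^ p * x) := by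
      unfold com; simp only [mul_assoc]
    rw [e3, ← e2, ← e1, hmc, mul_assoc, inv_mul_cancel_left]
  rw [h2] at h1
  have h3 : (com m x) ^ p ∈ gam G (i + p + 1) := (Subgroup.mul_mem_cancel_right _ hz).mp h1
  have e : i + 1 + p = i + p + 1 := by omega
  rw [e] at hcp
  exact hcp h3

end Cfsg.Agent.Lib.helper33.PearlG
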