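import Mathlib
import Cfsg.Agent.Lib.helper9.PgDefs

/-! Piece `E` of the split proof of S2490 (owner helper9): `pg_abelian_case`. -/

set_option autoImplicit false

namespace Cfsg.Agent.Lib.helper63

open Cfsg.Agent.Lib.helper9

universe u

-- PIECE E
theorem pg_abelian_case {G : Type u} [Group G] [Finite G] (hord : Nat.card G = 7920)
    (V : Subgroup G) (hVn : V.Normal) (hV1 : V ≠ ⊥) (p : ℕ) (hp : p.Prime) (hV : IsPGroup p V)
    (hD : ∀ r : ℕ, r.Prime → p ≠ r → ∀ R : Sylow r G, (¬ ∃ g : G, orderOf g = p * r) →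
      Nat.card R ∣ Nat.card V - 1)
    (h16 : Nat.card V = 16 → (∃ g : G, orderOf g = 55) ∨ (∃ g : G, orderOf g = 15))
    (h11 : Nat.card V = 11 → ∃ g : G, orderOf g = 55 ∨ orderOf g = 10 ∨ orderOf g = 15) :
    PGConn G := by
  have : Fact p.Prime := ⟨hp⟩
  obtain ⟨j, hj⟩ := hV.exists_card_eq
  have hj0 : j ≠ 0 := by
    rintro rfl
    rw [pow_zero] at hj
    exact hV1 (Subgroup.card_eq_one.mp hj)
  have hdvd : p ^ j ∣ 7920 := by
    rw [← hj, ← hord]; exact Subgroup.card_subgroup_dvd_card V
  have hpd : p ∣ 7920 := (dvd_pow_self p hj0).trans hdvd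
  have hedge : ∀ (r a : ℕ), r.Prime → p ≠ r → r ^ a ∣ 7920 → ¬ r ^ a ∣ Nat.card V - 1 →
      ∃ g : G, orderOf g = p * r := by
    intro r a hr hpr hra hnd
    by_contra hno
    have : Fact r.Prime := ⟨hr⟩
    obtain ⟨R⟩ := (inferInstance : Nonempty (Sylow r G))
    have h1 := hD r hr hpr R hno
    have h2 : r ^ a ∣ Nat.card R := R.pow_dvd_card_of_pow_dvd_card (by rw [hord]; exact hra)
    exact hnd (h2.trans h1)
  have E : ∀ a b : ℕ, (a = 2 ∨ a = 3 ∨ a = 5 ∨ a = 11) → (b = 2 ∨ b = 3 ∨ b = 5 ∨ b = 11) →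
      (∃ g : G, orderOf g = a * b) → Relation.EqvGen (pgE G) a b :=
    fun a b ha hb ⟨g, hg⟩ => Relation.EqvGen.rel _ _ ⟨ha, hb, g, hg⟩
  have S : ∀ a b : ℕ, Relation.EqvGen (pgE G) a b → Relation.EqvGen (pgE G) b a :=
    fun a b h => Relation.EqvGen.symm _ _ h
  have T : ∀ a b c : ℕ, Relation.EqvGen (pgE G) a b → Relation.EqvGen (pgE G) b c →
      Relation.EqvGen (pgE G) a c := fun a b c h1 h2 => Relation.EqvGen.trans _ _ _ h1 h2
  rcases prime_dvd_7920 hp hpd with rfl | rfl | rfl | rfl
  · -- p = 2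
    have hj4 : j ≤ 4 := by
      by_contra hcon
      push Not at hcon
      have h32 : 2 ^ 5 ∣ 7920 := (pow_dvd_pow 2 hcon).trans hdvd
      revert h32; decide
    have hVc : Nat.card V = 2 ∨ Nat.card V = 4 ∨ Nat.card V = 8 ∨ Nat.card V = 16 := by
      rw [hj]
      have hjc : j = 1 ∨ j = 2 ∨ j = 3 ∨ j = 4 := by omega
      rcases hjc with h | h | h | h <;> rw [h] <;> norm_num
    have e23 := hedge 3 2 (by norm_num) (by norm_num) (by decide)
      (by rcases hVc with h | h | h | h <;> rw [h] <;> decide)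
    have e211 := hedge 11 1 (by norm_num) (by norm_num) (by decide)
      (by rcases hVc with h | h | h | h <;> rw [h] <;> decide)
    have c211 := E 2 11 (by simp) (by simp) e211
    have c23 := E 2 3 (by simp) (by simp) e23
    refine ⟨c211, T _ _ _ (S _ _ c23) c211, ?_⟩
    by_cases hj4' : j = 4
    · have hV16 : Nat.card V = 16 := by rw [hj, hj4']; norm_num
      rcases h16 hV16 with ⟨g, hg⟩ | ⟨g, hg⟩
      · exact E 5 11 (by simp) (by simp) ⟨g, by rw [hg]⟩
      · have c35 := E 3 5 (by simp) (by simp) ⟨g, by rw [hg]⟩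
        exact T _ _ _ (S _ _ c35) (T _ _ _ (S _ _ c23) c211)
    · have hVc' : Nat.card V = 2 ∨ Nat.card V = 4 ∨ Nat.card V = 8 := by
        rw [hj]
        have hjc : j = 1 ∨ j = 2 ∨ j = 3 := by omega
        rcases hjc with h | h | h <;> rw [h] <;> norm_num
      have e25 := hedge 5 1 (by norm_num) (by norm_num) (by decide)
        (by rcases hVc' with h | h | h <;> rw [h] <;> decide)
      have c25 := E 2 5 (by simp) (by simp) e25
      exact T _ _ _ (S _ _ c25) c211
  · -- p = 3
    have hj2 : j ≤ 2 := by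
      by_contra hcon
      push Not at hcon
      have h27 : 3 ^ 3 ∣ 7920 := (pow_dvd_pow 3 hcon).trans hdvd
      revert h27; decide
    have hVc : Nat.card V = 3 ∨ Nat.card V = 9 := by
      rw [hj]
      have hjc : j = 1 ∨ j = 2 := by omega
      rcases hjc with h | h <;> rw [h] <;> norm_num
    have e32 := hedge 2 4 (by norm_num) (by norm_num) (by decide)
      (by rcases hVc with h | h <;> rw [h] <;> decide)
    have e35 := hedge 5 1 (by norm_num) (by norm_num) (by decide)
      (by rcases hVc with h | h <;> rw [h] <;> decide)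
    have e311 := hedge 11 1 (by norm_num) (by norm_num) (by decide)
      (by rcases hVc with h | h <;> rw [h] <;> decide)
    have c32 := E 3 2 (by simp) (by simp) e32
    have c35 := E 3 5 (by simp) (by simp) e35
    have c311 := E 3 11 (by simp) (by simp) e311
    exact ⟨T _ _ _ (S _ _ c32) c311, c311, T _ _ _ (S _ _ c35) c311⟩
  · -- p = 5
    have hj1 : j ≤ 1 := by
      by_contra hcon
      push Not at hcon
      have h25 : 5 ^ 2 ∣ 7920 := (pow_dvd_pow 5 hcon).trans hdvd
      revert h25; decide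
    have hVc : Nat.card V = 5 := by
      rw [hj]
      have hjc : j = 1 := by omega
      rw [hjc]; norm_num
    have e52 := hedge 2 4 (by norm_num) (by norm_num) (by decide)
      (by rw [hVc]; decide)
    have e53 := hedge 3 2 (by norm_num) (by norm_num) (by decide)
      (by rw [hVc]; decide)
    have e511 := hedge 11 1 (by norm_num) (by norm_num) (by decide)
      (by rw [hVc]; decide)
    have c52 := E 5 2 (by simp) (by simp) e52
    have c53 := E 5 3 (by simp) (by simp) e53
    have c511 := E 5 11 (by simp) (by simp) e511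
    exact ⟨T _ _ _ (S _ _ c52) c511, T _ _ _ (S _ _ c53) c511, c511⟩
  · -- p = 11
    have hj1 : j ≤ 1 := by
      by_contra hcon
      push Not at hcon
      have h121 : 11 ^ 2 ∣ 7920 := (pow_dvd_pow 11 hcon).trans hdvd
      revert h121; decide
    have hV11 : Nat.card V = 11 := by
      rw [hj]
      have hjc : j = 1 := by omega
      rw [hjc]; norm_num
    have e112 := hedge 2 4 (by norm_num) (by norm_num) (by decide)
      (by rw [hV11]; decide)
    have e113 := hedge 3 2 (by norm_num) (by norm_num) (by decide)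
      (by rw [hV11]; decide)
    have c112 := E 11 2 (by simp) (by simp) e112
    have c113 := E 11 3 (by simp) (by simp) e113
    refine ⟨S _ _ c112, S _ _ c113, ?_⟩
    obtain ⟨g, hg | hg | hg⟩ := h11 hV11
    · exact E 5 11 (by simp) (by simp) ⟨g, by rw [hg]⟩
    · have c25 := E 2 5 (by simp) (by simp) ⟨g, by rw [hg]⟩
      exact T _ _ _ (S _ _ c25) (S _ _ c112)
    · have c35 := E 3 5 (by simp) (by simp) ⟨g, by rw [hg]⟩
      exact T _ _ _ (S _ _ c35) (S _ _ c113)

end Cfsg.Agent.Lib.helper63
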