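import Mathlib

/-! Frattini-argument counting, shared by pieces `K` and `M` of S2490. -/

set_option autoImplicit false

namespace Cfsg.Agent.Lib.helper63

universe u

/-- Frattini argument with cardinalities: for `V ⊴ G` and a Sylow `s`-subgroup `S` of `V`,
`|N_G(S)| = m * |G : V|` and `|V| = m * n_s(V)` where `m = |N_V(S)|`. -/
theorem pg_frattini {G : Type u} [Group G] [Finite G] (V : Subgroup G) [V.Normal] (s : ℕ)
    [Fact s.Prime] (S : Sylow s V) :
    ∃ m : ℕ, Nat.card (Subgroup.normalizer
        (((S : Subgroup V).map V.subtype : Subgroup G) : Set G)) = m * V.index ∧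
      Nat.card V = m * Nat.card (Sylow s V) := by
  obtain ⟨N, hN⟩ : ∃ N : Subgroup G, N = Subgroup.normalizer
      (((S : Subgroup V).map V.subtype : Subgroup G) : Set G) := ⟨_, rfl⟩
  rw [← hN]
  have hF : N ⊔ V = ⊤ := by rw [hN]; exact Sylow.normalizer_sup_eq_top S
  refine ⟨Nat.card ↥(N ⊓ V), ?_, ?_⟩
  · -- |N| = |N ⊓ V| * |G : V|
    obtain ⟨f, hf⟩ : ∃ f : ↥N →* G ⧸ V, f = (QuotientGroup.mk' V).comp N.subtype := ⟨_, rfl⟩
    have hsurj : Function.Surjective f := by
      intro x
      obtain ⟨g, rfl⟩ := QuotientGroup.mk'_surjective V x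
      have hg : g ∈ ((N ⊔ V : Subgroup G) : Set G) := by rw [hF]; trivial
      rw [Subgroup.mul_normal] at hg
      obtain ⟨n, hn, v, hv, rfl⟩ := Set.mem_mul.mp hg
      refine ⟨⟨n, hn⟩, ?_⟩
      rw [hf]
      show (QuotientGroup.mk' V) n = (QuotientGroup.mk' V) (n * v)
      rw [map_mul]
      have hv1 : (QuotientGroup.mk' V) v = 1 := (QuotientGroup.eq_one_iff v).mpr hv
      rw [hv1, mul_one]
    have hker : f.ker = V.subgroupOf N := by
      rw [hf, ← MonoidHom.comap_ker, QuotientGroup.ker_mk']
      rfl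
    have h1 : Nat.card ↥N = Nat.card f.ker * f.ker.index := (Subgroup.card_mul_index f.ker).symm
    have h2 : f.ker.index = V.index := by
      rw [Subgroup.index_ker, MonoidHom.range_eq_top.mpr hsurj, Subgroup.card_top]
      rfl
    have h3 : Nat.card f.ker = Nat.card ↥(N ⊓ V) := by
      rw [hker, ← Subgroup.inf_subgroupOf_right V N, inf_comm]
      exact Nat.card_congr (Subgroup.subgroupOfEquivOfLe inf_le_left).toEquiv
    rw [h1, h2, h3]
  · -- |V| = |N ⊓ V| * n_s(V)
    have hle : (S : Subgroup V).map V.subtype ≤ V := by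
      rintro _ ⟨x, -, rfl⟩
      exact x.2
    have h1 : N.subgroupOf V = Subgroup.normalizer ((S : Subgroup V) : Set V) := by
      rw [hN, Subgroup.subgroupOf_normalizer_eq hle]
      congr 2
      ext x
      simp [Subgroup.mem_subgroupOf]
    have h2 : Nat.card (Sylow s V) = (N.subgroupOf V).index := by
      rw [h1]; exact Sylow.card_eq_index_normalizer S
    have h3 : Nat.card ↥(N.subgroupOf V) = Nat.card ↥(N ⊓ V) := by
      rw [← Subgroup.inf_subgroupOf_right N V]
      exact Nat.card_congr (Subgroup.subgroupOfEquivOfLe inf_le_right).toEquiv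
    rw [h2, ← h3]
    exact (Subgroup.card_mul_index _).symm

end Cfsg.Agent.Lib.helper63
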