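/-
S2490 piece G: a group of order 7920 with a normal subgroup of order 11 has an element of
order 55, 10 or 15.
-/
import Mathlib
import Cfsg.Agent.Lib.helper9.PgDefs

set_option autoImplicit false

namespace Cfsg.Agent.Lib.helper63

open Cfsg.Agent.Lib.helper9

universe u

/-- The centralizer of a normal subgroup of order 11 has index dividing 10. -/
theorem pg_cent_index_dvd {G : Type u} [Group G] [Finite G]
    (V : Subgroup G) [hVn : V.Normal] (hV : Nat.card V = 11) :
    (Subgroup.centralizer (V : Set G)).index ∣ 10 := by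
  have h11 : Fact (Nat.Prime 11) := ⟨by norm_num⟩
  have hker : (MulAut.conjNormal (H := V)).ker = Subgroup.centralizer (V : Set G) := by
    ext g
    rw [MonoidHom.mem_ker, Subgroup.mem_centralizer_iff]
    constructor
    · intro h w hw
      have h1 : ((MulAut.conjNormal g (⟨w, hw⟩ : V) : V) : G) = w := by rw [h]; rfl
      rw [MulAut.conjNormal_apply] at h1
      have h2 : g * w = w * g := by
        calc g * w = g * w * g⁻¹ * g := by group
          _ = w * g := by rw [h1]
      exact h2.symm
    · intro h
      ext w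
      rw [MulAut.conjNormal_apply]
      have h1 := h w w.2
      show g * w * g⁻¹ = w
      rw [← h1]; group
  rw [← hker, Subgroup.index_ker]
  have h1 := Subgroup.card_subgroup_dvd_card (MulAut.conjNormal (H := V)).range
  have hcyc : IsCyclic V := isCyclic_of_prime_card hV
  rw [IsCyclic.card_mulAut, hV] at h1
  have h2 : Nat.totient 11 = 10 := by rw [Nat.totient_prime (by norm_num)]
  rwa [h2] at h1

/-- An element of order 11 lies in the normal subgroup of order 11. -/
theorem pg_mem_of_order_11 {G : Type u} [Group G] [Finite G] (hord : Nat.card G = 7920)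
    (V : Subgroup G) [hVn : V.Normal] (hV : Nat.card V = 11) (c : G) (hc : orderOf c = 11) :
    c ∈ V := by
  have h11 : Fact (Nat.Prime 11) := ⟨by norm_num⟩
  have hVp : IsPGroup 11 V := IsPGroup.of_card (n := 1) (by rw [hV]; norm_num)
  have hZp : IsPGroup 11 (Subgroup.zpowers c) :=
    IsPGroup.of_card (n := 1) (by rw [Nat.card_zpowers, hc]; norm_num)
  have hsup : IsPGroup 11 (V ⊔ Subgroup.zpowers c : Subgroup G) :=
    IsPGroup.to_sup_of_normal_left hVp hZp
  obtain ⟨k, hk⟩ := hsup.exists_card_eq
  have hdvd : Nat.card (V ⊔ Subgroup.zpowers c : Subgroup G) ∣ 7920 := by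
    rw [← hord]; exact Subgroup.card_subgroup_dvd_card _
  have hk1 : k ≤ 1 := by
    by_contra hk2
    push Not at hk2
    have h121 : 11 ^ 2 ∣ 11 ^ k := pow_dvd_pow 11 hk2
    rw [← hk] at h121
    have := h121.trans hdvd
    norm_num at this
  have hle : Nat.card (V ⊔ Subgroup.zpowers c : Subgroup G) ≤ Nat.card V := by
    rw [hk, hV]
    calc 11 ^ k ≤ 11 ^ 1 := Nat.pow_le_pow_right (by norm_num) hk1
      _ = 11 := by norm_num
  have heq : V = V ⊔ Subgroup.zpowers c := Subgroup.eq_of_le_of_card_ge le_sup_left hle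
  rw [heq]
  exact (le_sup_right : Subgroup.zpowers c ≤ V ⊔ Subgroup.zpowers c) (Subgroup.mem_zpowers c)

theorem pg_normal_11 {G : Type u} [Group G] [Finite G] (hord : Nat.card G = 7920)
    (V : Subgroup G) (hVn : V.Normal) (hV : Nat.card V = 11) :
    ∃ g : G, orderOf g = 55 ∨ orderOf g = 10 ∨ orderOf g = 15 := by
  classical
  have h11 : Fact (Nat.Prime 11) := ⟨by norm_num⟩
  have h5 : Fact (Nat.Prime 5) := ⟨by norm_num⟩
  -- (a)
  obtain ⟨v0, hv0⟩ := exists_prime_orderOf_dvd_card' (G := V) 11 (by rw [hV])
  have hv : orderOf (v0 : G) = 11 := by rw [Subgroup.orderOf_coe]; exact hv0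
  -- (b)
  obtain ⟨C, hC⟩ : ∃ C : Subgroup G, C = Subgroup.centralizer (V : Set G) := ⟨_, rfl⟩
  have hCn : C.Normal := by rw [hC]; infer_instance
  have hidx : C.index ∣ 10 := by rw [hC]; exact pg_cent_index_dvd V hV
  have hCcard : Nat.card C * C.index = 7920 := by rw [Subgroup.card_mul_index, hord]
  by_cases h5C : 5 ∣ Nat.card C
  · obtain ⟨x0, hx0⟩ := exists_prime_orderOf_dvd_card' (G := C) 5 h5C
    have hx : orderOf (x0 : G) = 5 := by rw [Subgroup.orderOf_coe]; exact hx0
    have hcomm : Commute (x0 : G) (v0 : G) := by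
      have hx0C : (x0 : G) ∈ Subgroup.centralizer (V : Set G) := by rw [← hC]; exact x0.2
      have := Subgroup.mem_centralizer_iff.mp hx0C v0 v0.2
      exact this.symm
    refine ⟨(x0 : G) * v0, Or.inl ?_⟩
    rw [hcomm.orderOf_mul_eq_mul_orderOf_of_coprime (by rw [hx, hv]; norm_num), hx, hv]
  · have hCc : Nat.card C = 1584 ∨ Nat.card C = 792 := by
      have hpos : 0 < C.index := Nat.pos_of_ne_zero Subgroup.index_ne_zero_of_finite
      have hle : C.index ≤ 10 := Nat.le_of_dvd (by norm_num) hidx
      obtain ⟨i, hi⟩ : ∃ i, i = C.index := ⟨_, rfl⟩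
      rw [← hi] at hpos hle hidx hCcard
      interval_cases i <;> omega
    obtain ⟨x, hx⟩ := exists_prime_orderOf_dvd_card' (G := G) 5 (by rw [hord]; norm_num)
    obtain ⟨P, hP⟩ : ∃ P : Subgroup G, P = Subgroup.zpowers x := ⟨_, rfl⟩
    have hPcard : Nat.card P = 5 := by rw [hP, Nat.card_zpowers, hx]
    have hPp : IsPGroup 5 P := IsPGroup.of_card (n := 1) (by rw [hPcard]; norm_num)
    let f : P →* MulAut C := (MulAut.conjNormal (H := C)).comp P.subtype
    let _ : MulAction P C := MulAction.compHom C f
    have hmod := hPp.card_modEq_card_fixedPoints C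
    let D : Subgroup C := (Subgroup.centralizer (P : Set G)).subgroupOf C
    have hsm : ∀ (p : P) (c : C), ((p • c : C) : G) = (p : G) * c * (p : G)⁻¹ := by
      intro p c
      exact MulAut.conjNormal_apply (H := C) (p : G) c
    have hfix : (MulAction.fixedPoints P C) = (D : Set C) := by
      ext c
      rw [MulAction.mem_fixedPoints, SetLike.mem_coe, Subgroup.mem_subgroupOf,
        Subgroup.mem_centralizer_iff]
      constructor
      · intro h p hp
        have h1 := congrArg (Subtype.val) (h ⟨p, hp⟩)
        rw [hsm] at h1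
        show p * (c : G) = c * p
        calc p * (c : G) = p * c * p⁻¹ * p := by group
          _ = c * p := by rw [h1]
      · intro h p
        apply Subtype.ext
        rw [hsm]
        have h1 := h p p.2
        rw [h1]; group
    have hD : Nat.card (MulAction.fixedPoints P C) = Nat.card D := by rw [hfix]; rfl
    rw [hD] at hmod
    by_cases hDV : D.map C.subtype ≤ V
    · exfalso
      have hdvd : Nat.card D ∣ 11 := by
        have h1 := Subgroup.card_dvd_of_le hDV
        rw [hV, Subgroup.card_map_of_injective C.subtype_injective] at h1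
        exact h1
      have hD1 : Nat.card D = 1 ∨ Nat.card D = 11 := (Nat.dvd_prime (by norm_num)).mp hdvd
      have hmod' : Nat.card C % 5 = Nat.card D % 5 := hmod
      rcases hCc with h | h <;> rcases hD1 with h' | h' <;> rw [h, h'] at hmod' <;> omega
    · obtain ⟨c', hc'D, hc'V⟩ := SetLike.not_le_iff_exists.mp hDV
      obtain ⟨d, hdD, rfl⟩ := Subgroup.mem_map.mp hc'D
      have hdx : Commute x (d : G) := by
        have h1 : (d : G) ∈ Subgroup.centralizer (P : Set G) := Subgroup.mem_subgroupOf.mp hdD
        have h2 := Subgroup.mem_centralizer_iff.mp h1 x (by rw [hP]; exact Subgroup.mem_zpowers x)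
        exact h2
      have hnd : orderOf (d : G) ∣ 1584 := by
        have h1 : orderOf (d : G) ∣ Nat.card C := by
          rw [Subgroup.orderOf_coe]; exact orderOf_dvd_natCard d
        rcases hCc with h | h
        · rwa [h] at h1
        · rw [h] at h1; exact h1.trans (by norm_num)
      have hn0 : orderOf (d : G) ≠ 0 := (orderOf_pos (d : G)).ne'
      by_cases h2 : 2 ∣ orderOf (d : G)
      · have hy : orderOf ((d : G) ^ (orderOf (d : G) / 2)) = 2 := orderOf_pow_orderOf_div hn0 h2
        have hc : Commute x ((d : G) ^ (orderOf (d : G) / 2)) := hdx.pow_right _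
        refine ⟨x * (d : G) ^ (orderOf (d : G) / 2), Or.inr (Or.inl ?_)⟩
        rw [hc.orderOf_mul_eq_mul_orderOf_of_coprime (by rw [hx, hy]; norm_num), hx, hy]
      · by_cases h3 : 3 ∣ orderOf (d : G)
        · have hy : orderOf ((d : G) ^ (orderOf (d : G) / 3)) = 3 := orderOf_pow_orderOf_div hn0 h3
          have hc : Commute x ((d : G) ^ (orderOf (d : G) / 3)) := hdx.pow_right _
          refine ⟨x * (d : G) ^ (orderOf (d : G) / 3), Or.inr (Or.inr ?_)⟩
          rw [hc.orderOf_mul_eq_mul_orderOf_of_coprime (by rw [hx, hy]; norm_num), hx, hy]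
        · exfalso
          have hcop2 : Nat.Coprime (orderOf (d : G)) 2 :=
            (Nat.coprime_comm.mp ((Nat.Prime.coprime_iff_not_dvd Nat.prime_two).mpr h2))
          have hcop3 : Nat.Coprime (orderOf (d : G)) 3 :=
            (Nat.coprime_comm.mp ((Nat.Prime.coprime_iff_not_dvd Nat.prime_three).mpr h3))
          have hcop : Nat.Coprime (orderOf (d : G)) (2 ^ 4 * 3 ^ 2) :=
            Nat.Coprime.mul_right (Nat.Coprime.pow_right 4 hcop2) (Nat.Coprime.pow_right 2 hcop3)
          have h11d : orderOf (d : G) ∣ 11 := by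
            apply hcop.dvd_of_dvd_mul_left
            have : (2 ^ 4 * 3 ^ 2 * 11 : ℕ) = 1584 := by norm_num
            rw [this]; exact hnd
          rcases (Nat.dvd_prime (by norm_num)).mp h11d with h1 | h1
          · rw [orderOf_eq_one_iff] at h1
            apply hc'V
            show ((C.subtype d : G)) ∈ V
            rw [Subgroup.coe_subtype, h1]; exact V.one_mem
          · exact hc'V (pg_mem_of_order_11 hord V hV (d : G) h1)

end Cfsg.Agent.Lib.helper63
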