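import Mathlib
import Cfsg.Agent.Lib.helper9.PgDefs
import Cfsg.Agent.Lib.helper63.PgFrat

/-! Piece `K` of the split proof of S2490 (owner helper9): `pg_simple_small`. -/

set_option autoImplicit false

namespace Cfsg.Agent.Lib.helper63

open Cfsg.Agent.Lib.helper9

universe u

/-- one prime `s ∈ {2, 3, 5}` of piece K -/
theorem pg_simple_small_aux {G : Type u} [Group G] [Finite G] (hord : Nat.card G = 7920)
    (V : Subgroup G) [V.Normal] (hV : Nat.card V = 60 ∨ Nat.card V = 360)
    (hJ : ∀ (P S : Subgroup G), Nat.card P = 11 → ∀ s : ℕ, s.Prime → s ≠ 11 → IsPGroup s S →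
      S ≠ ⊥ → Nat.card S ≤ 16 → P ≤ Subgroup.normalizer (S : Set G) → ∃ g : G, orderOf g = 11 * s)
    (s b : ℕ) [Fact s.Prime] (hs11 : s ≠ 11) (hsV : s ∣ 60) (hb : ¬ s ^ (b + 1) ∣ 360)
    (hb16 : s ^ b ≤ 16) : ∃ g : G, orderOf g = 11 * s := by
  have hs : s.Prime := Fact.out
  obtain ⟨S⟩ := (inferInstance : Nonempty (Sylow s V))
  have hcard : Nat.card ((S : Subgroup V).map V.subtype) = Nat.card S :=
    Subgroup.card_map_of_injective V.subtype_injective
  have hV360 : Nat.card V ∣ 360 := by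
    rcases hV with h | h <;> rw [h] <;> decide
  have hsV' : s ∣ Nat.card V := by
    rcases hV with h | h
    · rw [h]; exact hsV
    · rw [h]; exact hsV.trans (by decide)
  obtain ⟨k, hk⟩ := S.isPGroup'.exists_card_eq
  have hdiv : s ^ k ∣ 360 := by
    rw [← hk]; exact (Subgroup.card_subgroup_dvd_card _).trans hV360
  have hkb : k ≤ b := by
    by_contra hcon
    push Not at hcon
    exact hb ((pow_dvd_pow s hcon).trans hdiv)
  have hle : Nat.card ((S : Subgroup V).map V.subtype) ≤ 16 := by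
    rw [hcard, hk]
    exact (Nat.pow_le_pow_right hs.pos hkb).trans hb16
  have hne : (S : Subgroup V).map V.subtype ≠ ⊥ := by
    intro h
    have h1 : Nat.card ((S : Subgroup V).map V.subtype) = 1 := by rw [h]; exact Subgroup.card_bot
    have h2 : s ^ 1 ∣ Nat.card S := S.pow_dvd_card_of_pow_dvd_card (by simpa using hsV')
    rw [hcard] at h1
    rw [h1, pow_one] at h2
    exact hs.one_lt.ne' (Nat.dvd_one.mp h2)
  have hp : IsPGroup s ((S : Subgroup V).map V.subtype) := S.isPGroup'.map V.subtype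
  obtain ⟨m, hm, -⟩ := pg_frattini V s S
  have hidx : 11 ∣ V.index := by
    have h := Subgroup.card_mul_index V
    rw [hord] at h
    rcases hV with h' | h'
    · rw [h'] at h
      have : V.index = 132 := by omega
      rw [this]; decide
    · rw [h'] at h
      have : V.index = 22 := by omega
      rw [this]; decide
  have h11 : 11 ∣ Nat.card (Subgroup.normalizer
      ((((S : Subgroup V).map V.subtype : Subgroup G)) : Set G)) := by
    rw [hm]; exact Dvd.dvd.mul_left hidx m
  have : Fact (Nat.Prime 11) := ⟨by norm_num⟩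
  obtain ⟨x, hx⟩ := exists_prime_orderOf_dvd_card' 11 h11
  have hx' : orderOf (x : G) = 11 := by rw [Subgroup.orderOf_coe]; exact hx
  refine hJ (Subgroup.zpowers (x : G)) _ ?_ s hs hs11 hp hne hle ?_
  · rw [Nat.card_zpowers, hx']
  · rw [Subgroup.zpowers_le]; exact x.2

-- PIECE K
theorem pg_simple_small {G : Type u} [Group G] [Finite G] (hord : Nat.card G = 7920)
    (V : Subgroup G) (hVn : V.Normal) (hV : Nat.card V = 60 ∨ Nat.card V = 360)
    (hJ : ∀ (P S : Subgroup G), Nat.card P = 11 → ∀ s : ℕ, s.Prime → s ≠ 11 → IsPGroup s S →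
      S ≠ ⊥ → Nat.card S ≤ 16 → P ≤ Subgroup.normalizer (S : Set G) → ∃ g : G, orderOf g = 11 * s) :
    PGConn G := by
  have : Fact (Nat.Prime 2) := ⟨by norm_num⟩
  have : Fact (Nat.Prime 3) := ⟨by norm_num⟩
  have : Fact (Nat.Prime 5) := ⟨by norm_num⟩
  have e2 := pg_simple_small_aux hord V hV hJ 2 3 (by norm_num) (by decide) (by decide) (by decide)
  have e3 := pg_simple_small_aux hord V hV hJ 3 2 (by norm_num) (by decide) (by decide) (by decide)
  have e5 := pg_simple_small_aux hord V hV hJ 5 1 (by norm_num) (by decide) (by decide) (by decide)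
  have E : ∀ a b : ℕ, (a = 2 ∨ a = 3 ∨ a = 5 ∨ a = 11) → (b = 2 ∨ b = 3 ∨ b = 5 ∨ b = 11) →
      (∃ g : G, orderOf g = a * b) → Relation.EqvGen (pgE G) a b :=
    fun a b ha hb ⟨g, hg⟩ => Relation.EqvGen.rel _ _ ⟨ha, hb, g, hg⟩
  exact ⟨Relation.EqvGen.symm _ _ (E 11 2 (by simp) (by simp) e2),
    Relation.EqvGen.symm _ _ (E 11 3 (by simp) (by simp) e3),
    Relation.EqvGen.symm _ _ (E 11 5 (by simp) (by simp) e5)⟩

end Cfsg.Agent.Lib.helper63
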