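import Mathlib
import Cfsg.Agent.Lib.helper9.PgDefs
import Cfsg.Agent.Lib.helper63.PgFrat

/-! Piece `M` of the split proof of S2490 (owner helper9): `pg_simple_660`. -/

set_option autoImplicit false

namespace Cfsg.Agent.Lib.helper63

open Cfsg.Agent.Lib.helper9

universe u

/-- A Sylow `s`-subgroup has order `s` when `s ∣ |H|` and `s² ∤ |H|`. -/
theorem pg_sylow_card_prime {H : Type u} [Group H] [Finite H] (s : ℕ) [Fact s.Prime]
    (S : Sylow s H) (h1 : s ∣ Nat.card H) (h2 : ¬ s ^ 2 ∣ Nat.card H) : Nat.card S = s := by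
  obtain ⟨k, hk⟩ := S.isPGroup'.exists_card_eq
  have hd : s ^ 1 ∣ Nat.card S := S.pow_dvd_card_of_pow_dvd_card (by simpa using h1)
  have hd2 : Nat.card S ∣ Nat.card H := Subgroup.card_subgroup_dvd_card _
  rw [hk] at hd hd2 ⊢
  have hs : s.Prime := Fact.out
  have hk1 : k ≤ 1 := by
    by_contra hcon
    push Not at hcon
    exact h2 ((pow_dvd_pow s hcon).trans hd2)
  have hk0 : k ≠ 0 := by
    rintro rfl
    rw [pow_zero, pow_one] at hd
    exact hs.one_lt.ne' (Nat.dvd_one.mp hd)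
  have hk' : k = 1 := by omega
  rw [hk', pow_one]

set_option maxRecDepth 100000 in
theorem pg_660_arith : ∀ n < 661, n ∣ 660 → n % 5 = 1 → 2 ∣ 660 / n := by decide

-- PIECE M
theorem pg_simple_660 {G : Type u} [Group G] [Finite G] (hord : Nat.card G = 7920)
    (V : Subgroup G) (hVn : V.Normal) (hV : Nat.card V = 660) (hVs : IsSimpleGroup V)
    (hL : ∀ (P : Subgroup G) (p r k : ℕ), p.Prime → r.Prime → p ≠ r → Nat.card P = p →
      r ^ k ∣ Nat.card (Subgroup.normalizer (P : Set G)) → ¬ r ^ k ∣ p - 1 → ∃ g : G, orderOf g = p * r) :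
    PGConn G := by
  have hidx : V.index = 12 := by
    have h := Subgroup.card_mul_index V
    rw [hord, hV] at h
    omega
  have : Fact (Nat.Prime 11) := ⟨by norm_num⟩
  have : Fact (Nat.Prime 5) := ⟨by norm_num⟩
  obtain ⟨P⟩ := (inferInstance : Nonempty (Sylow 11 V))
  obtain ⟨Q⟩ := (inferInstance : Nonempty (Sylow 5 V))
  have hPc : Nat.card ((P : Subgroup V).map V.subtype) = 11 := by
    rw [Subgroup.card_map_of_injective V.subtype_injective]
    exact pg_sylow_card_prime 11 P (by rw [hV]; decide) (by rw [hV]; decide)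
  have hQc : Nat.card ((Q : Subgroup V).map V.subtype) = 5 := by
    rw [Subgroup.card_map_of_injective V.subtype_injective]
    exact pg_sylow_card_prime 5 Q (by rw [hV]; decide) (by rw [hV]; decide)
  obtain ⟨m1, hm1, -⟩ := pg_frattini V 11 P
  obtain ⟨m2, hm2, hm2'⟩ := pg_frattini V 5 Q
  rw [hidx] at hm1 hm2
  rw [hV] at hm2'
  have hmod : Nat.card (Sylow 5 V) % 5 = 1 := card_sylow_modEq_one 5 V
  have hm2even : 2 ∣ m2 := by
    obtain ⟨n, hn⟩ : ∃ n : ℕ, n = Nat.card (Sylow 5 V) := ⟨_, rfl⟩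
    rw [← hn] at hm2' hmod
    have hnd : n ∣ 660 := Dvd.intro_left m2 hm2'.symm
    have hnle : n < 661 := Nat.lt_succ_of_le (Nat.le_of_dvd (by norm_num) hnd)
    have key := pg_660_arith
    have hnpos : 0 < n := Nat.pos_of_dvd_of_pos hnd (by norm_num)
    have hm2eq : m2 = 660 / n := (Nat.div_eq_of_eq_mul_left hnpos hm2').symm
    rw [hm2eq]
    exact key n hnle hnd hmod
  have e112 := hL _ 11 2 2 (by norm_num) (by norm_num) (by norm_num) hPc
    (by rw [hm1]; exact Dvd.intro_left (m1 * 3) (by ring)) (by decide)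
  have e113 := hL _ 11 3 1 (by norm_num) (by norm_num) (by norm_num) hPc
    (by rw [hm1]; exact Dvd.intro_left (m1 * 4) (by ring)) (by decide)
  have e52 := hL _ 5 2 3 (by norm_num) (by norm_num) (by norm_num) hQc
    (by
      rw [hm2]
      obtain ⟨t, rfl⟩ := hm2even
      exact Dvd.intro (t * 3) (by ring)) (by decide)
  have E : ∀ a b : ℕ, (a = 2 ∨ a = 3 ∨ a = 5 ∨ a = 11) → (b = 2 ∨ b = 3 ∨ b = 5 ∨ b = 11) →
      (∃ g : G, orderOf g = a * b) → Relation.EqvGen (pgE G) a b :=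
    fun a b ha hb ⟨g, hg⟩ => Relation.EqvGen.rel _ _ ⟨ha, hb, g, hg⟩
  have c112 := E 11 2 (by simp) (by simp) e112
  have c113 := E 11 3 (by simp) (by simp) e113
  have c52 := E 5 2 (by simp) (by simp) e52
  exact ⟨Relation.EqvGen.symm _ _ c112, Relation.EqvGen.symm _ _ c113,
    Relation.EqvGen.trans _ _ _ c52 (Relation.EqvGen.symm _ _ c112)⟩

end Cfsg.Agent.Lib.helper63
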