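import Mathlib

set_option autoImplicit false

namespace Cfsg.Agent.Lib.helper63.Polycirc

open MulAction
open scoped Pointwise

/-- In a finite `p`-group, a nontrivial normal subgroup contains a central element of order `p`. -/
theorem exists_central_orderOf_eq {H : Type*} [Group H] [Finite H] {p : ℕ} [Fact p.Prime]
    (hH : IsPGroup p H) (N : Subgroup H) [N.Normal] (hN : N ≠ ⊥) :
    ∃ x ∈ N, orderOf x = p ∧ ∀ y : H, y * x = x * y := by
  have hp : p.Prime := Fact.out
  have hNp : IsPGroup p N := hH.to_subgroup N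
  have hnt : Nontrivial N := (Subgroup.nontrivial_iff_ne_bot N).mpr hN
  have hdvd : p ∣ Nat.card N := by
    obtain ⟨n, hn0, hn⟩ := hNp.nontrivial_iff_card.mp hnt
    exact hn.symm ▸ dvd_pow_self _ (ne_of_gt hn0)
  have h1 : (1 : N) ∈ fixedPoints (ConjAct H) N := by
    intro g
    exact smul_one g
  obtain ⟨b, hb, hb1⟩ :=
    (hH.of_equiv ConjAct.toConjAct).exists_fixed_point_of_prime_dvd_card_of_fixed_point N hdvd h1
  have hbc : ∀ y : H, y * (b : H) = (b : H) * y := by
    intro y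
    have h2 := congrArg Subtype.val (hb (ConjAct.toConjAct y))
    rw [ConjAct.Subgroup.val_conj_smul, ConjAct.smul_def] at h2
    simp only [ConjAct.ofConjAct_toConjAct] at h2
    calc y * (b : H) = y * (b : H) * y⁻¹ * y := by group
      _ = (b : H) * y := by rw [h2]
  have hbne : (b : H) ≠ 1 := by
    intro h
    apply hb1
    ext
    simp [h]
  -- take a suitable power
  obtain ⟨k, hk⟩ := hH (b : H)
  have hord : orderOf (b : H) ∣ p ^ k := orderOf_dvd_of_pow_eq_one hk
  obtain ⟨j, hj, hoj⟩ := (Nat.dvd_prime_pow hp).mp hord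
  have hj0 : j ≠ 0 := by
    rintro rfl
    rw [pow_zero, orderOf_eq_one_iff] at hoj
    exact hbne hoj
  have hpd : p ∣ orderOf (b : H) := by
    rw [hoj]; exact dvd_pow_self _ hj0
  have hofin : orderOf (b : H) ≠ 0 := by
    rw [hoj]; exact pow_ne_zero _ hp.pos.ne'
  refine ⟨(b : H) ^ (orderOf (b : H) / p), N.pow_mem b.2 _, orderOf_pow_orderOf_div hofin hpd, ?_⟩
  intro y
  exact ((Commute.pow_right (show Commute y (b : H) from hbc y) _)).eq

/-- If `x ^ p = 1` and `p ∤ d` then `x` is a power of `x ^ d`. -/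
theorem exists_zpow_zpow_eq {H : Type*} [Group H] {p : ℕ} (hp : p.Prime) (x : H) (hx : x ^ p = 1)
    (d : ℤ) (hd : ¬ (p : ℤ) ∣ d) : ∃ e : ℤ, (x ^ d) ^ e = x := by
  have hcop : IsCoprime d (p : ℤ) := by
    have := (Nat.prime_iff_prime_int.mp hp)
    exact (Prime.coprime_iff_not_dvd this).mpr hd |>.symm
  obtain ⟨a, b, hab⟩ := hcop
  refine ⟨a, ?_⟩
  have h1 : x ^ (a * d + b * (p : ℤ)) = x := by rw [hab, zpow_one]
  rw [zpow_add, zpow_mul x b, mul_comm a d, zpow_mul] at h1
  have h2 : x ^ (p : ℤ) = 1 := by rw [zpow_natCast]; exact hx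
  have h3 : (x ^ b) ^ (p : ℤ) = 1 := by
    rw [← zpow_mul, mul_comm, zpow_mul, h2, one_zpow]
  rw [h3, mul_one] at h1
  exact h1


theorem conj_aux {H : Type*} [Group H] {A B C : H} (hAB : Commute A B) (hAC : Commute A C)
    (hBC : Commute B C) : A⁻¹ * B⁻¹ * C * A = C * B⁻¹ := by
  have cA : Commute A (B⁻¹ * C) := (hAB.inv_right).mul_right hAC
  calc A⁻¹ * B⁻¹ * C * A = A⁻¹ * ((B⁻¹ * C) * A) := by group
    _ = A⁻¹ * (A * (B⁻¹ * C)) := by rw [cA.eq]
    _ = B⁻¹ * C := by group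
    _ = C * B⁻¹ := (hBC.inv_left).eq

section Action

variable {G Ω : Type*} [Group G] [MulAction G Ω]

/-- Commuting elements that agree at a point have all powers agreeing at that point. -/
theorem zpow_smul_eq_of_commute {X Y : G} (hc : Commute X Y) {v : Ω} (h : X • v = Y • v)
    (e : ℤ) : X ^ e • v = Y ^ e • v := by
  have ht : Y⁻¹ * X ∈ stabilizer G v := by
    rw [mem_stabilizer_iff, mul_smul, h, inv_smul_smul]
  have hc' : Commute Y (Y⁻¹ * X) := (Commute.inv_right (Commute.refl Y)).mul_right hc.symm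
  have hX : X = Y * (Y⁻¹ * X) := by group
  have hte : (Y⁻¹ * X) ^ e ∈ stabilizer G v := zpow_mem ht e
  calc X ^ e • v = (Y * (Y⁻¹ * X)) ^ e • v := by rw [← hX]
    _ = (Y ^ e * (Y⁻¹ * X) ^ e) • v := by rw [hc'.mul_zpow]
    _ = Y ^ e • v := by rw [mul_smul, mem_stabilizer_iff.mp hte]

/-- A power of an element fixing a point fixes the point. -/
theorem zpow_smul_of_smul_eq {x : G} {v : Ω} (h : x • v = v) (e : ℤ) : x ^ e • v = v := by
  have : x ^ e ∈ stabilizer G v := zpow_mem (mem_stabilizer_iff.mpr h) e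
  exact mem_stabilizer_iff.mp this

/-- Pigeonhole: two commuting elements of order dividing `p`, the second moving `v`, acting on an
invariant set with fewer than `p ^ 2` points: then `x • v` lies in the `y`-orbit of `v`. -/
theorem exists_zpow_smul_eq [Finite Ω] {p : ℕ} (hp : p.Prime) {x y : G} (hc : Commute x y)
    (hx : x ^ p = 1) (hy : y ^ p = 1) (D : Set Ω) (hD : D.ncard < p ^ 2)
    (hxD : ∀ w ∈ D, x • w ∈ D) (hyD : ∀ w ∈ D, y • w ∈ D) {v : Ω} (hv : v ∈ D)
    (hyv : y • v ≠ v) : ∃ k : ℤ, x • v = y ^ k • v := by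
  classical
  have hxD' : ∀ (n : ℕ) (w : Ω), w ∈ D → x ^ n • w ∈ D := by
    intro n
    induction n with
    | zero => intro w hw; simpa using hw
    | succ n ih => intro w hw; rw [pow_succ, mul_smul]; exact ih _ (hxD w hw)
  have hyD' : ∀ (n : ℕ) (w : Ω), w ∈ D → y ^ n • w ∈ D := by
    intro n
    induction n with
    | zero => intro w hw; simpa using hw
    | succ n ih => intro w hw; rw [pow_succ, mul_smul]; exact ih _ (hyD w hw)
  let f : Fin p × Fin p → D := fun ik =>
    ⟨y ^ (ik.1 : ℕ) • x ^ (ik.2 : ℕ) • v, hyD' _ _ (hxD' _ _ hv)⟩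
  have : Fintype D := Fintype.ofFinite D
  have hcard : Fintype.card D < Fintype.card (Fin p × Fin p) := by
    rw [Fintype.card_prod, Fintype.card_fin, ← Nat.card_eq_fintype_card, Nat.card_coe_set_eq]
    calc D.ncard < p ^ 2 := hD
      _ = p * p := by ring
  obtain ⟨⟨i, k⟩, ⟨i', k'⟩, hne, heq⟩ := Fintype.exists_ne_map_eq_of_card_lt f hcard
  have heq' : y ^ (i : ℕ) • x ^ (k : ℕ) • v = y ^ (i' : ℕ) • x ^ (k' : ℕ) • v := by
    have := congrArg Subtype.val heq
    simpa [f] using this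
  -- rewrite as x^(k-k') v = y^(i'-i) v
  have hcz : ∀ (m n : ℤ), Commute (x ^ m) (y ^ n) := fun m n => (hc.zpow_left m).zpow_right n
  have key : x ^ ((k : ℤ) - k') • v = y ^ ((i' : ℤ) - i) • v := by
    have h1 : y ^ (i : ℤ) • x ^ (k : ℤ) • v = y ^ (i' : ℤ) • x ^ (k' : ℤ) • v := by
      simpa only [zpow_natCast] using heq'
    rw [zpow_sub, zpow_sub, mul_smul, mul_smul]
    -- goal: x^k • (x^k')⁻¹ • v = y^i' • (y^i)⁻¹ • v
    have h2 : x ^ (k : ℤ) • v = (y ^ (i : ℤ))⁻¹ • y ^ (i' : ℤ) • x ^ (k' : ℤ) • v := by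
      rw [← h1, inv_smul_smul]
    have e1 : x ^ (k : ℤ) • (x ^ (k' : ℤ))⁻¹ • v = (x ^ (k' : ℤ))⁻¹ • x ^ (k : ℤ) • v := by
      rw [← mul_smul, ← mul_smul]
      congr 1
      rw [← zpow_neg, ← zpow_add, ← zpow_add, add_comm]
    rw [e1, h2]
    -- (x^k')⁻¹ • (y^i)⁻¹ • y^i' • x^k' • v = y^i' • (y^i)⁻¹ • v
    have e2 : (x ^ (k' : ℤ))⁻¹ * (y ^ (i : ℤ))⁻¹ * y ^ (i' : ℤ) * x ^ (k' : ℤ)
        = y ^ (i' : ℤ) * (y ^ (i : ℤ))⁻¹ :=
      conj_aux (hcz _ _) (hcz _ _) ((Commute.refl y).zpow_zpow _ _)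
    rw [← mul_smul, ← mul_smul, ← mul_smul, e2, mul_smul]
  by_cases hkk : k = k'
  · -- then i ≠ i' and y^(i'-i) fixes v, contradiction
    exfalso
    have hii : i ≠ i' := by
      intro h; apply hne; rw [h, hkk]
    rw [hkk, sub_self, zpow_zero, one_smul] at key
    have hnd : ¬ (p : ℤ) ∣ ((i' : ℤ) - i) := by
      intro hdvd
      apply hii
      have h1 := i.2
      have h2 := i'.2
      have h3 : ((i' : ℤ) - i) = 0 := by
        apply Int.eq_zero_of_abs_lt_dvd hdvd
        rw [abs_lt]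
        constructor <;> omega
      apply Fin.ext
      omega
    obtain ⟨e, he⟩ := exists_zpow_zpow_eq hp y hy _ hnd
    apply hyv
    rw [← he]
    exact zpow_smul_of_smul_eq key.symm e
  · have hnd : ¬ (p : ℤ) ∣ ((k : ℤ) - k') := by
      intro hdvd
      apply hkk
      have h1 := k.2
      have h2 := k'.2
      have h3 : ((k : ℤ) - k') = 0 := by
        apply Int.eq_zero_of_abs_lt_dvd hdvd
        rw [abs_lt]
        constructor <;> omega
      apply Fin.ext
      omega
    obtain ⟨e, he⟩ := exists_zpow_zpow_eq hp x hx _ hnd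
    refine ⟨((i' : ℤ) - i) * e, ?_⟩
    have := zpow_smul_eq_of_commute (hcz ((k : ℤ) - k') ((i' : ℤ) - i)) key e
    rw [he] at this
    rw [this, zpow_mul]


/-- Application of 2-closure: the restriction of `z` to an invariant set `Γ` is induced by an
element of `G`, provided each pair (point of `Γ`, point off `Γ`) is handled. -/
theorem exists_restrict
    (hcl : ∀ σ : Equiv.Perm Ω, (∀ a b : Ω, ∃ g : G, σ a = g • a ∧ σ b = g • b) →
      ∃ g : G, ∀ a : Ω, σ a = g • a)
    (z : G) (Γ : Set Ω) (hΓ : ∀ u, z • u ∈ Γ ↔ u ∈ Γ)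
    (h : ∀ u ∈ Γ, ∀ v ∉ Γ, ∃ g : G, g • u = z • u ∧ g • v = v) :
    ∃ s : G, (∀ u ∈ Γ, s • u = z • u) ∧ (∀ u ∉ Γ, s • u = u) := by
  classical
  have hΓ' : ∀ u, z⁻¹ • u ∈ Γ ↔ u ∈ Γ := by
    intro u
    rw [← hΓ (z⁻¹ • u), smul_inv_smul]
  let σ : Equiv.Perm Ω :=
    { toFun := fun u => if u ∈ Γ then z • u else u
      invFun := fun u => if u ∈ Γ then z⁻¹ • u else u
      left_inv := by
        intro u
        by_cases hu : u ∈ Γ
        · simp [hu, (hΓ u).mpr hu]
        · simp [hu]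
      right_inv := by
        intro u
        by_cases hu : u ∈ Γ
        · simp [hu, (hΓ' u).mpr hu]
        · simp [hu] }
  have hσ1 : ∀ u ∈ Γ, σ u = z • u := fun u hu => by simp [σ, hu]
  have hσ2 : ∀ u ∉ Γ, σ u = u := fun u hu => by simp [σ, hu]
  obtain ⟨s, hs⟩ := hcl σ (by
    intro a b
    by_cases ha : a ∈ Γ
    · by_cases hb : b ∈ Γ
      · exact ⟨z, hσ1 a ha, hσ1 b hb⟩
      · obtain ⟨g, hg1, hg2⟩ := h a ha b hb
        exact ⟨g, by rw [hσ1 a ha, hg1], by rw [hσ2 b hb, hg2]⟩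
    · by_cases hb : b ∈ Γ
      · obtain ⟨g, hg1, hg2⟩ := h b hb a ha
        exact ⟨g, by rw [hσ2 a ha, hg2], by rw [hσ1 b hb, hg1]⟩
      · exact ⟨1, by rw [hσ2 a ha, one_smul], by rw [hσ2 b hb, one_smul]⟩)
  exact ⟨s, fun u hu => by rw [← hs, hσ1 u hu], fun u hu => by rw [← hs, hσ2 u hu]⟩

/-- An element commuting with a central element `z` of a Sylow `p`-subgroup `P` and acting on
each point either trivially or like `z` lies in `P`. -/
theorem mem_sylow_of_orbitwise [Finite G] [FaithfulSMul G Ω] {p : ℕ} [Fact p.Prime]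
    (P : Sylow p G) {z : G} (hzc : ∀ y ∈ P, y * z = z * y) (hzp : z ^ p = 1)
    {x : G} (hxz : x * z = z * x) (hx : ∀ u : Ω, x • u = u ∨ x • u = z • u) : x ∈ P := by
  let E : Subgroup G :=
    { carrier := {x | x * z = z * x ∧ ∀ u : Ω, ∃ i : ℤ, x • u = z ^ i • u}
      mul_mem' := by
        rintro x x' ⟨h1, h2⟩ ⟨h1', h2'⟩
        refine ⟨by rw [mul_assoc, h1', ← mul_assoc, h1, mul_assoc], fun u => ?_⟩
        obtain ⟨i', hi'⟩ := h2' u
        obtain ⟨i, hi⟩ := h2 u
        refine ⟨i' + i, ?_⟩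
        have hc : Commute x (z ^ i') := (show Commute x z from h1).zpow_right i'
        rw [mul_smul, hi', ← mul_smul, hc.eq, mul_smul, hi, ← mul_smul, ← zpow_add]
      one_mem' := ⟨by simp, fun u => ⟨0, by simp⟩⟩
      inv_mem' := by
        rintro x ⟨h1, h2⟩
        refine ⟨?_, fun u => ?_⟩
        · exact ((show Commute x z from h1).inv_left).eq
        · obtain ⟨i, hi⟩ := h2 (x⁻¹ • u)
          rw [smul_inv_smul] at hi
          refine ⟨-i, ?_⟩
          rw [zpow_neg, eq_inv_smul_iff]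
          exact hi.symm }
  have hE : IsPGroup p E := by
    rintro ⟨x, hx1, hx2⟩
    refine ⟨1, ?_⟩
    apply Subtype.ext
    simp only [pow_one, Subgroup.coe_pow, Subgroup.coe_one]
    apply FaithfulSMul.eq_of_smul_eq_smul (α := Ω)
    intro u
    rw [one_smul]
    obtain ⟨i, hi⟩ := hx2 u
    have cx : Commute x z := hx1
    have hn : ∀ n : ℕ, x ^ n • u = z ^ (i * n) • u := by
      intro n
      induction n with
      | zero => simp
      | succ n ih =>
        rw [pow_succ, mul_smul, hi, ← mul_smul, ((cx.pow_left n).zpow_right i).eq, mul_smul, ih,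
          ← mul_smul, ← zpow_add]
        congr 2
        push_cast
        ring
    rw [hn p, mul_comm, zpow_mul, zpow_natCast, hzp, one_zpow, one_smul]
  have hconj : ∀ y : G, y * z = z * y → ∀ x ∈ E, y * x * y⁻¹ ∈ E := by
    rintro y hy x ⟨hx1, hx2⟩
    have cy : Commute y z := hy
    have cx : Commute x z := hx1
    refine ⟨((cy.mul_left cx).mul_left cy.inv_left).eq, fun u => ?_⟩
    obtain ⟨i, hi⟩ := hx2 (y⁻¹ • u)
    refine ⟨i, ?_⟩
    rw [mul_smul, mul_smul, hi, ← mul_smul, (cy.zpow_right i).eq, mul_smul, smul_inv_smul]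
  have hPE : (P : Subgroup G) ≤ Subgroup.normalizer (E : Set G) := by
    intro y hy
    rw [Subgroup.mem_normalizer_iff]
    intro x
    constructor
    · exact hconj y (hzc y hy) x
    · intro h
      have := hconj y⁻¹ (hzc y⁻¹ (inv_mem hy)) _ h
      simpa [mul_assoc] using this
  have hpg : IsPGroup p ↥((P : Subgroup G) ⊔ E) := P.isPGroup'.to_sup_of_normal_right' hE hPE
  have hEP : E ≤ P := by
    have := P.is_maximal' hpg le_sup_left
    rw [← this]; exact le_sup_right
  apply hEP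
  refine ⟨hxz, fun u => ?_⟩
  rcases hx u with h | h
  · exact ⟨0, by simpa using h⟩
  · exact ⟨1, by simpa using h⟩

/-- Index bookkeeping for a Sylow subgroup acting on a transitive `G`-set. -/
theorem orbit_ncard_mul_index [Finite G] [Finite Ω] [IsPretransitive G Ω] {p : ℕ} [Fact p.Prime]
    (Q : Sylow p G) (c : Ω) :
    (orbit (↥(Q : Subgroup G)) c).ncard * (Q : Subgroup G).index
      = (Q : Subgroup G).relIndex (stabilizer G c) * Nat.card Ω := by
  have h1 : (stabilizer G c ⊓ (Q : Subgroup G)).relIndex Q * (Q : Subgroup G).index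
      = (stabilizer G c ⊓ (Q : Subgroup G)).index := Subgroup.relIndex_mul_index inf_le_right
  have h2 : (stabilizer G c ⊓ (Q : Subgroup G)).relIndex (stabilizer G c) * (stabilizer G c).index
      = (stabilizer G c ⊓ (Q : Subgroup G)).index := Subgroup.relIndex_mul_index inf_le_left
  rw [Subgroup.inf_relIndex_right] at h1
  rw [Subgroup.inf_relIndex_left, index_stabilizer_of_transitive] at h2
  have h3 : (orbit (↥(Q : Subgroup G)) c).ncard = (stabilizer G c).relIndex Q := by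
    rw [← index_stabilizer]
    have : stabilizer (↥(Q : Subgroup G)) c = (stabilizer G c).subgroupOf Q := by
      ext x
      simp [Subgroup.mem_subgroupOf, Subgroup.smul_def]
    rw [this]
    rfl
  rw [h3, h1, h2]


/-- For odd `p` and a transitive action of degree `2 p ^ 2`, all orbits of a Sylow `p`-subgroup
have size `p ^ 2`, and the point stabilisers in it are Sylow in the point stabilisers. -/
theorem orbit_facts [Finite G] [Finite Ω] [IsPretransitive G Ω] {p : ℕ} [Fact p.Prime]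
    (hp2 : p ≠ 2) (hcard : Nat.card Ω = 2 * p ^ 2) (Q : Sylow p G) (c : Ω) :
    (orbit (↥(Q : Subgroup G)) c).ncard = p ^ 2 ∧
      ¬ p ∣ (Q : Subgroup G).relIndex (stabilizer G c) := by
  have hp : p.Prime := Fact.out
  have hp3 : 3 ≤ p := by
    have := hp.two_le
    omega
  have key := orbit_ncard_mul_index Q c
  rw [hcard] at key
  obtain ⟨n, hn⟩ := Q.isPGroup'.card_orbit c
  rw [Nat.card_coe_set_eq] at hn
  have hnd : ¬ p ∣ (Q : Subgroup G).index := Q.not_dvd_index
  have hcop : Nat.Coprime (p ^ 2) (Q : Subgroup G).index :=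
    Nat.Coprime.pow_left 2 ((Nat.Prime.coprime_iff_not_dvd hp).mpr hnd)
  have hdvd : p ^ 2 ∣ p ^ n := by
    have : p ^ 2 ∣ p ^ n * (Q : Subgroup G).index := by
      rw [← hn, key]
      exact Dvd.dvd.mul_left (Dvd.intro_left _ rfl) _
    exact hcop.dvd_of_dvd_mul_right this
  have h2n : 2 ≤ n := (Nat.pow_dvd_pow_iff_le_right hp.one_lt).mp hdvd
  have hle : p ^ n ≤ 2 * p ^ 2 := by
    rw [← hn, ← hcard, ← Set.ncard_univ]
    exact Set.ncard_le_ncard (Set.subset_univ _)
  have hn2 : n ≤ 2 := by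
    by_contra h
    push Not at h
    have h3 : p ^ 3 ≤ p ^ n := Nat.pow_le_pow_right hp.pos h
    have h4 : p ^ 3 = p * p ^ 2 := by ring
    have h5 : 0 < p ^ 2 := pow_pos hp.pos 2
    nlinarith
  have hn' : n = 2 := le_antisymm hn2 h2n
  subst hn'
  refine ⟨hn, fun hd => hnd ?_⟩
  rw [hn] at key
  have : (Q : Subgroup G).index = 2 * (Q : Subgroup G).relIndex (stabilizer G c) := by
    have hpos : 0 < p ^ 2 := pow_pos hp.pos 2
    apply Nat.eq_of_mul_eq_mul_left hpos
    rw [key]; ring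
  rw [this]
  exact Dvd.dvd.mul_left hd 2

/-- A conjugating element moving `a` to `b` and carrying the stabiliser of `a` in the Sylow
subgroup `P` into `P`. -/
theorem exists_conj_stab [Finite G] [Finite Ω] [IsPretransitive G Ω] {p : ℕ} [Fact p.Prime]
    (hp2 : p ≠ 2) (hcard : Nat.card Ω = 2 * p ^ 2) (P : Sylow p G) (a b : Ω) :
    ∃ g : G, g • a = b ∧ ∀ y ∈ P, y • a = a → g * y * g⁻¹ ∈ P := by
  obtain ⟨g₀, hg₀⟩ := exists_smul_eq G a b
  have hA : ∀ Q : Sylow p G, ¬ p ∣ ((Q : Subgroup G).subgroupOf (stabilizer G a)).index :=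
    fun Q => (orbit_facts hp2 hcard Q a).2
  have hpg : ∀ Q : Sylow p G, IsPGroup p ↥((Q : Subgroup G).subgroupOf (stabilizer G a)) :=
    fun Q => Q.isPGroup'.comap_subtype
  obtain ⟨R₁, hR₁⟩ : ∃ R : Sylow p (stabilizer G a), ∀ x, x ∈ R ↔ (x : G) ∈ P :=
    ⟨(hpg P).toSylow (hA P), fun x => Iff.rfl⟩
  obtain ⟨R₂, hR₂⟩ : ∃ R : Sylow p (stabilizer G a), ∀ x, x ∈ R ↔ (x : G) ∈ g₀⁻¹ • P :=
    ⟨(hpg (g₀⁻¹ • P)).toSylow (hA (g₀⁻¹ • P)), fun x => Iff.rfl⟩
  obtain ⟨h, hh⟩ := exists_smul_eq (stabilizer G a) R₁ R₂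
  refine ⟨g₀ * h, ?_, ?_⟩
  · rw [mul_smul, mem_stabilizer_iff.mp h.2, hg₀]
  · intro y hy hya
    have hyS : y ∈ stabilizer G a := mem_stabilizer_iff.mpr hya
    have h1 : (⟨y, hyS⟩ : stabilizer G a) ∈ R₁ := (hR₁ _).mpr hy
    have h2 : h * ⟨y, hyS⟩ * h⁻¹ ∈ R₂ := by
      rw [← hh]
      have : MulAut.conj h • (⟨y, hyS⟩ : stabilizer G a)
          ∈ MulAut.conj h • (R₁ : Subgroup (stabilizer G a)) :=
        Subgroup.smul_mem_pointwise_smul _ _ _ h1
      exact this
    have h3 : ((h : G) * y * (h : G)⁻¹) ∈ MulAut.conj g₀⁻¹ • (P : Subgroup G) :=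
      (hR₂ _).mp h2
    rw [Subgroup.mem_pointwise_smul_iff_inv_smul_mem] at h3
    have h4 : g₀ * ((h : G) * y) * ((h : G)⁻¹ * g₀⁻¹) ∈ (P : Subgroup G) := by
      simpa [MulAut.smul_def] using h3
    have h5 : g₀ * ↑h * y * (g₀ * ↑h)⁻¹ = g₀ * ((h : G) * y) * ((h : G)⁻¹ * g₀⁻¹) := by group
    rw [h5]; exact h4


end Action

/-- Marušič–Scapellato: a transitive 2-closed group of degree `2 p ^ 2` contains a
fixed-point-free element of prime order. -/
theorem polycirculant_two_p_sq {G Ω : Type*} [Group G] [Finite G] [MulAction G Ω]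
    [FaithfulSMul G Ω] [Finite Ω]
    (htrans : MulAction.IsPretransitive G Ω) (p : ℕ) (hp : p.Prime)
    (hcard : Nat.card Ω = 2 * p ^ 2)
    (hcl : ∀ σ : Equiv.Perm Ω, (∀ a b : Ω, ∃ g : G, σ a = g • a ∧ σ b = g • b) →
      ∃ g : G, ∀ a : Ω, σ a = g • a) :
    ∃ g : G, (orderOf g).Prime ∧ ∀ ω : Ω, g • ω ≠ ω := by
  have : Fact p.Prime := ⟨hp⟩
  by_contra hcon
  push Not at hcon
  have hΩne : Nonempty Ω := by
    by_contra h
    rw [not_nonempty_iff] at h
    rw [Nat.card_of_isEmpty] at hcard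
    have := pow_pos hp.pos 2
    omega
  obtain ⟨a₀⟩ := hΩne
  have hpG : p ∣ Nat.card G := by
    have h1 : (stabilizer G a₀).index ∣ Nat.card G := Subgroup.index_dvd_card _
    rw [index_stabilizer_of_transitive, hcard] at h1
    exact (Dvd.dvd.mul_left (dvd_pow_self p two_ne_zero) 2).trans h1
  obtain ⟨P⟩ : Nonempty (Sylow p G) := inferInstance
  have hPne : (P : Subgroup G) ≠ ⊥ := P.ne_bot_of_dvd_card hpG
  have : Nontrivial (↥(P : Subgroup G)) := (Subgroup.nontrivial_iff_ne_bot _).mpr hPne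
  obtain ⟨zP, -, hzord, hzcP⟩ :=
    exists_central_orderOf_eq P.isPGroup' (⊤ : Subgroup ↥(P : Subgroup G)) top_ne_bot
  set z : G := (zP : G) with hz
  have hzP : z ∈ P := zP.2
  have hzo : orderOf z = p := by rw [hz, Subgroup.orderOf_coe]; exact hzord
  have hzp : z ^ p = 1 := by rw [← hzo]; exact pow_orderOf_eq_one z
  have hz1 : z ≠ 1 := by
    intro h
    rw [h, orderOf_one] at hzo
    exact hp.one_lt.ne hzo
  have hzc : ∀ y ∈ P, y * z = z * y := by
    intro y hy
    have := congrArg Subtype.val (hzcP ⟨y, hy⟩)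
    simpa using this
  obtain ⟨a, ha⟩ := hcon z (by rw [hzo]; exact hp)
  obtain ⟨b₀, hb₀⟩ : ∃ b₀ : Ω, z • b₀ ≠ b₀ := by
    by_contra h
    push Not at h
    apply hz1
    apply FaithfulSMul.eq_of_smul_eq_smul (α := Ω)
    intro u; rw [h u, one_smul]
  have hFinv : ∀ y ∈ P, ∀ w : Ω, z • (y • w) = y • w ↔ z • w = w := by
    intro y hy w
    rw [← mul_smul, ← hzc y hy, mul_smul]
    exact ⟨fun h => smul_left_cancel y h, fun h => by rw [h]⟩
  by_cases hp2 : p = 2
  · -- `P` is transitive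
    subst hp2
    have key := orbit_ncard_mul_index P a
    rw [hcard] at key
    have hnd : ¬ 2 ∣ (P : Subgroup G).index := P.not_dvd_index
    have hcop : Nat.Coprime (2 ^ 3) (P : Subgroup G).index :=
      Nat.Coprime.pow_left 3 ((Nat.Prime.coprime_iff_not_dvd hp).mpr hnd)
    have hdvd : 2 ^ 3 ∣ (orbit (↥(P : Subgroup G)) a).ncard := by
      have : 2 ^ 3 ∣ (orbit (↥(P : Subgroup G)) a).ncard * (P : Subgroup G).index := by
        rw [key]
        exact Dvd.dvd.mul_left (by norm_num) _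
      exact hcop.dvd_of_dvd_mul_right this
    have hle : (orbit (↥(P : Subgroup G)) a).ncard ≤ 2 * 2 ^ 2 := by
      rw [← hcard, ← Set.ncard_univ]
      exact Set.ncard_le_ncard (Set.subset_univ _)
    have hpos : 0 < (orbit (↥(P : Subgroup G)) a).ncard :=
      (Set.ncard_pos (Set.toFinite _)).mpr ⟨a, mem_orbit_self a⟩
    have hcardo : (orbit (↥(P : Subgroup G)) a).ncard = 8 := by
      obtain ⟨k, hk⟩ := hdvd
      omega
    have huniv : orbit (↥(P : Subgroup G)) a = Set.univ :=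
      Set.eq_of_subset_of_ncard_le (Set.subset_univ _) (by
        rw [Set.ncard_univ, hcard, hcardo]; norm_num)
    have hb : b₀ ∈ orbit (↥(P : Subgroup G)) a := by rw [huniv]; trivial
    obtain ⟨y, rfl⟩ := hb
    exact hb₀ ((hFinv y y.2 a).mpr ha)
  · have hOF := fun c => orbit_facts hp2 hcard P c
    set F : Set Ω := {w | z • w = w} with hF
    have hsubF : orbit (↥(P : Subgroup G)) a ⊆ F := by
      rintro _ ⟨y, rfl⟩
      exact (hFinv y y.2 a).mpr ha
    have hsubFc : orbit (↥(P : Subgroup G)) b₀ ⊆ Fᶜ := by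
      rintro _ ⟨y, rfl⟩ h
      exact hb₀ ((hFinv y y.2 b₀).mp h)
    have hsum : F.ncard + Fᶜ.ncard = 2 * p ^ 2 := by
      rw [Set.ncard_add_ncard_compl, hcard]
    have h1 : p ^ 2 ≤ F.ncard := by
      rw [← (hOF a).1]; exact Set.ncard_le_ncard hsubF
    have h2 : p ^ 2 ≤ Fᶜ.ncard := by
      rw [← (hOF b₀).1]; exact Set.ncard_le_ncard hsubFc
    have hFcard : F.ncard = p ^ 2 := by omega
    have hFccard : Fᶜ.ncard = p ^ 2 := by omega
    have hFeq : orbit (↥(P : Subgroup G)) a = F :=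
      Set.eq_of_subset_of_ncard_le hsubF (by rw [hFcard, (hOF a).1])
    obtain ⟨g, hga, hgP⟩ := exists_conj_stab hp2 hcard P a b₀
    obtain ⟨z', hz'⟩ : ∃ z' : G, z' = g * z * g⁻¹ := ⟨_, rfl⟩
    have hz'P : z' ∈ P := by rw [hz']; exact hgP z hzP ha
    have hcomm : Commute z' z := hzc z' hz'P
    have hz'p : z' ^ p = 1 := by
      rw [hz', conj_pow, hzp]; group
    set F' : Set Ω := {w | z' • w = w} with hF'
    have hF'img : F' = (fun w => g • w) '' F := by
      ext w
      simp only [hF', hF, Set.mem_ofPred_eq, Set.mem_image]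
      constructor
      · intro h
        refine ⟨g⁻¹ • w, ?_, smul_inv_smul g w⟩
        have h' : g⁻¹ • (z' • w) = g⁻¹ • w := by rw [h]
        rw [hz'] at h'
        simpa [mul_smul] using h'
      · rintro ⟨u, hu, rfl⟩
        rw [hz', mul_smul, mul_smul, inv_smul_smul, hu]
    have hF'card : F'.ncard = p ^ 2 := by
      rw [hF'img, Set.ncard_image_of_injective _ (MulAction.injective g), hFcard]
    have hb₀F' : z' • b₀ = b₀ := by
      rw [hz', ← hga, mul_smul, mul_smul, inv_smul_smul, ha]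
    obtain ⟨u₁, hu₁F, hu₁F'⟩ : ∃ u₁, z • u₁ = u₁ ∧ z' • u₁ ≠ u₁ := by
      by_contra h
      push Not at h
      have hsub : F ⊆ F' := fun w hw => h w hw
      have hFF : F = F' := Set.eq_of_subset_of_ncard_le hsub (by rw [hF'card, hFcard])
      have hb : b₀ ∈ F := by rw [hFF]; exact hb₀F'
      exact hb₀ hb
    set D : Set Ω := {w | z • w ≠ w ∧ z' • w ≠ w} with hD
    have hDcard : D.ncard < p ^ 2 := by
      rw [← hFccard]
      refine Set.ncard_lt_ncard ⟨fun w hw => hw.1, fun hsub => ?_⟩ (Set.toFinite _)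
      exact (hsub (show b₀ ∈ Fᶜ from hb₀)).2 hb₀F'
    have hDz : ∀ w ∈ D, z • w ∈ D := by
      rintro w ⟨h1, h2⟩
      refine ⟨fun h => h1 (smul_left_cancel z h), fun h => h2 ?_⟩
      rw [← mul_smul, hcomm.eq, mul_smul] at h
      exact smul_left_cancel z h
    have hDz' : ∀ w ∈ D, z' • w ∈ D := by
      rintro w ⟨h1, h2⟩
      refine ⟨fun h => h1 ?_, fun h => h2 (smul_left_cancel z' h)⟩
      rw [← mul_smul, ← hcomm.eq, mul_smul] at h
      exact smul_left_cancel z' h
    have hpig : ∀ v ∈ D, ∃ k : ℤ, z' • v = z ^ k • v := fun v hv =>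
      exists_zpow_smul_eq hp hcomm hz'p hzp D hDcard hDz' hDz hv hv.1
    set Γ : Set Ω := {w | z • w = w ∧ z' • w ≠ w} with hΓ
    have hΓinv : ∀ u, z' • u ∈ Γ ↔ u ∈ Γ := by
      intro u
      simp only [hΓ, Set.mem_ofPred_eq]
      constructor
      · rintro ⟨h1, h2⟩
        refine ⟨?_, fun h => h2 (congrArg (fun x => z' • x) h)⟩
        rw [← mul_smul, ← hcomm.eq, mul_smul] at h1
        exact smul_left_cancel z' h1
      · rintro ⟨h1, h2⟩
        refine ⟨?_, fun h => h2 (smul_left_cancel z' h)⟩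
        rw [← mul_smul, ← hcomm.eq, mul_smul, h1]
    obtain ⟨s, hs1, hs2⟩ := exists_restrict hcl z' Γ hΓinv (by
      intro u hu v hv
      by_cases hv' : z' • v = v
      · exact ⟨z', rfl, hv'⟩
      · have hvD : v ∈ D := ⟨fun h => hv ⟨h, hv'⟩, hv'⟩
        obtain ⟨k, hk⟩ := hpig v hvD
        refine ⟨z ^ (-k) * z', ?_, ?_⟩
        · rw [mul_smul]
          have hfix : z • (z' • u) = z' • u := by
            rw [← mul_smul, ← hcomm.eq, mul_smul, hu.1]
          exact zpow_smul_of_smul_eq hfix _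
        · rw [mul_smul, hk, ← mul_smul, ← zpow_add]; simp)
    have hsz' : s * z' = z' * s := by
      apply FaithfulSMul.eq_of_smul_eq_smul (α := Ω)
      intro w
      rw [mul_smul s z' w, mul_smul z' s w]
      by_cases hw : w ∈ Γ
      · have hw' : z' • w ∈ Γ := (hΓinv w).mpr hw
        rw [hs1 _ hw', hs1 _ hw]
      · have hw' : z' • w ∉ Γ := fun h => hw ((hΓinv w).mp h)
        rw [hs2 _ hw', hs2 _ hw]
    obtain ⟨t, ht⟩ : ∃ t : G, t = g⁻¹ * s * g := ⟨_, rfl⟩
    have htz : t * z = z * t := by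
      have e1 : g * z = z' * g := by rw [hz']; group
      have e2 : g⁻¹ * z' = z * g⁻¹ := by rw [hz']; group
      calc t * z = g⁻¹ * s * (g * z) := by rw [ht]; group
        _ = g⁻¹ * (s * z') * g := by rw [e1]; group
        _ = g⁻¹ * z' * s * g := by rw [hsz']; group
        _ = z * t := by rw [e2, ht]; group
    have htu : ∀ u : Ω, t • u = u ∨ t • u = z • u := by
      intro u
      by_cases hgu : g • u ∈ Γ
      · right
        rw [ht, mul_smul, mul_smul, hs1 _ hgu, hz', mul_smul, mul_smul, inv_smul_smul,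
          inv_smul_smul]
      · left
        rw [ht, mul_smul, mul_smul, hs2 _ hgu, inv_smul_smul]
    have htP : t ∈ P := mem_sylow_of_orbitwise P hzc hzp htz htu
    have hta : t • a = a := by
      rw [ht, mul_smul, mul_smul, hga, hs2 b₀ (fun h => hb₀ h.1), ← hga, inv_smul_smul]
    have hsP : s ∈ P := by
      have h := hgP t htP hta
      have e : g * t * g⁻¹ = s := by rw [ht]; group
      rwa [e] at h
    have hs_ne : s ≠ 1 := by
      intro h
      have h' := hs1 u₁ ⟨hu₁F, hu₁F'⟩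
      rw [h, one_smul] at h'
      exact hu₁F' h'.symm
    have hsFc : ∀ w : Ω, z • w ≠ w → s • w = w := fun w hw => hs2 w (fun h => hw h.1)
    let K : Subgroup ↥(P : Subgroup G) :=
      { carrier := {x | ∀ w : Ω, z • w ≠ w → (x : G) • w = w}
        mul_mem' := by
          intro x y hx hy w hw
          rw [Subgroup.coe_mul, mul_smul, hy w hw, hx w hw]
        one_mem' := by intro w _; simp
        inv_mem' := by
          intro x hx w hw
          rw [Subgroup.coe_inv, inv_smul_eq_iff]; exact (hx w hw).symm }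
    have : K.Normal := by
      constructor
      intro x hx y w hw
      have hyw : z • ((y : G)⁻¹ • w) ≠ (y : G)⁻¹ • w := by
        intro h
        exact hw ((hFinv _ (inv_mem y.2) w).mp h)
      simp only [Subgroup.coe_mul, Subgroup.coe_inv, mul_smul]
      rw [hx _ hyw, smul_inv_smul]
    have hKne : K ≠ ⊥ := by
      intro h
      have hmem : (⟨s, hsP⟩ : ↥(P : Subgroup G)) ∈ K := fun w hw => hsFc w hw
      rw [h, Subgroup.mem_bot] at hmem
      exact hs_ne (congrArg Subtype.val hmem)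
    obtain ⟨z₁P, hz₁K, hz₁ord, hz₁c⟩ := exists_central_orderOf_eq P.isPGroup' K hKne
    set z₁ : G := (z₁P : G) with hz₁
    have hz₁P : z₁ ∈ P := z₁P.2
    have hz₁o : orderOf z₁ = p := by rw [hz₁, Subgroup.orderOf_coe]; exact hz₁ord
    have hz₁p : z₁ ^ p = 1 := by rw [← hz₁o]; exact pow_orderOf_eq_one z₁
    have hz₁ne : z₁ ≠ 1 := by
      intro h
      rw [h, orderOf_one] at hz₁o
      exact hp.one_lt.ne hz₁o
    have hz₁cP : ∀ y ∈ P, y * z₁ = z₁ * y := by
      intro y hy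
      have := congrArg Subtype.val (hz₁c ⟨y, hy⟩)
      simpa using this
    have hz₁Fc : ∀ w : Ω, z • w ≠ w → z₁ • w = w := fun w hw => hz₁K w hw
    have hz₁F : ∀ w : Ω, z • w = w → z₁ • w ≠ w := by
      intro w hw hfix
      apply hz₁ne
      apply FaithfulSMul.eq_of_smul_eq_smul (α := Ω)
      intro u
      rw [one_smul]
      by_cases hu : z • u = u
      · have hu' : u ∈ orbit (↥(P : Subgroup G)) a := by rw [hFeq]; exact hu
        have hw' : w ∈ orbit (↥(P : Subgroup G)) a := by rw [hFeq]; exact hw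
        have hu'' : u ∈ orbit (↥(P : Subgroup G)) w := by
          rw [orbit_eq_iff.mpr hw']; exact hu'
        obtain ⟨y, rfl⟩ := hu''
        show z₁ • ((y : G) • w) = (y : G) • w
        rw [← mul_smul, ← hz₁cP y y.2, mul_smul, hfix]
      · exact hz₁Fc u hu
    have hfpf : ∀ ω : Ω, (z * z₁) • ω ≠ ω := by
      intro ω
      rw [mul_smul]
      by_cases hω : z • ω = ω
      · have h1 : z • (z₁ • ω) = z₁ • ω := (hFinv z₁ hz₁P ω).mpr hω
        rw [h1]; exact hz₁F ω hω
      · rw [hz₁Fc ω hω]; exact hω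
    have hne1 : z * z₁ ≠ 1 := by
      intro h
      exact hfpf a (by rw [h, one_smul])
    have hpow : (z * z₁) ^ p = 1 := by
      have hc : Commute z z₁ := (hzc z₁ hz₁P).symm
      rw [hc.mul_pow, hzp, hz₁p, one_mul]
    obtain ⟨ω, hω⟩ := hcon (z * z₁) (by rw [orderOf_eq_prime hpow hne1]; exact hp)
    exact hfpf ω hω

end Cfsg.Agent.Lib.helper63.Polycirc
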