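/-
S2286 split project (helper44): small matrix identities in `SL₂(F)` shared by helper63's pieces
(MATc, MAT2).
-/
import Mathlib
import Cfsg.Agent.Lib.helper44.PresDefs

set_option autoImplicit false

namespace Cfsg.Agent.Lib.helper44.Pres

theorem helper63_mU_mul {F : Type*} [Field F] (a b : F) : mU F a * mU F b = mU F (a + b) := by
  apply Subtype.ext
  show (!![1, a; 0, 1] : Matrix (Fin 2) (Fin 2) F) * !![1, b; 0, 1] = !![1, a + b; 0, 1]
  ext i j
  fin_cases i <;> fin_cases j <;> simp [Matrix.mul_apply, Fin.sum_univ_two, add_comm]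

theorem helper63_mU_zero {F : Type*} [Field F] : mU F 0 = 1 := by
  apply Subtype.ext
  show (!![1, 0; 0, 1] : Matrix (Fin 2) (Fin 2) F) = 1
  ext i j
  fin_cases i <;> fin_cases j <;> simp

theorem helper63_mH_mul {F : Type*} [Field F] (z w : Fˣ) : mH z * mH w = mH (z * w) := by
  apply Subtype.ext
  show (!![(z : F), 0; 0, ((z⁻¹ : Fˣ) : F)] : Matrix (Fin 2) (Fin 2) F) *
      !![(w : F), 0; 0, ((w⁻¹ : Fˣ) : F)] =
    !![((z * w : Fˣ) : F), 0; 0, (((z * w)⁻¹ : Fˣ) : F)]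
  ext i j
  fin_cases i <;> fin_cases j <;> simp [Matrix.mul_apply, Fin.sum_univ_two, mul_comm]

theorem helper63_mH_one {F : Type*} [Field F] :
    mH (1 : Fˣ) = (1 : Matrix.SpecialLinearGroup (Fin 2) F) := by
  apply Subtype.ext
  show (!![((1 : Fˣ) : F), 0; 0, (((1 : Fˣ)⁻¹ : Fˣ) : F)] : Matrix (Fin 2) (Fin 2) F) = 1
  ext i j
  fin_cases i <;> fin_cases j <;> simp

theorem helper63_mH_pow {F : Type*} [Field F] (z : Fˣ) (k : ℕ) : mH z ^ k = mH (z ^ k) := by
  induction k with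
  | zero => rw [pow_zero, pow_zero, helper63_mH_one]
  | succ k ih => rw [pow_succ, ih, helper63_mH_mul, pow_succ]

/-- `t h = h⁻¹ t` -/
theorem helper63_mT_mul_mH {F : Type*} [Field F] (z : Fˣ) : mT F * mH z = mH z⁻¹ * mT F := by
  apply Subtype.ext
  show (!![0, 1; -1, 0] : Matrix (Fin 2) (Fin 2) F) * !![(z : F), 0; 0, ((z⁻¹ : Fˣ) : F)] =
    !![((z⁻¹ : Fˣ) : F), 0; 0, (((z⁻¹)⁻¹ : Fˣ) : F)] * !![0, 1; -1, 0]
  ext i j
  fin_cases i <;> fin_cases j <;> simp [Matrix.mul_apply, Fin.sum_univ_two]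

theorem helper63_mT_conj_mH {F : Type*} [Field F] (z : Fˣ) :
    mT F * mH z * (mT F)⁻¹ = mH z⁻¹ := by
  rw [helper63_mT_mul_mH, mul_inv_cancel_right]

/-- `h x(a) = x(z² a) h` -/
theorem helper63_mH_mul_mU {F : Type*} [Field F] (z : Fˣ) (a : F) :
    mH z * mU F a = mU F ((z : F) ^ 2 * a) * mH z := by
  apply Subtype.ext
  show (!![(z : F), 0; 0, ((z⁻¹ : Fˣ) : F)] : Matrix (Fin 2) (Fin 2) F) * !![1, a; 0, 1] =
    !![1, (z : F) ^ 2 * a; 0, 1] * !![(z : F), 0; 0, ((z⁻¹ : Fˣ) : F)]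
  ext i j
  fin_cases i <;> fin_cases j <;> simp [Matrix.mul_apply, Fin.sum_univ_two]
  field_simp

theorem helper63_mH_conj_mU {F : Type*} [Field F] (z : Fˣ) (a : F) :
    mH z * mU F a * (mH z)⁻¹ = mU F ((z : F) ^ 2 * a) := by
  rw [helper63_mH_mul_mU, mul_inv_cancel_right]

/-- the upper transvection -/
theorem helper63_mU_eq_transvection {F : Type*} [Field F] (a : F) :
    mU F a = Matrix.SpecialLinearGroup.transvection (show (0 : Fin 2) ≠ 1 by decide) a := by
  apply Subtype.ext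
  rw [Matrix.SpecialLinearGroup.transvection_coe]
  show (!![1, a; 0, 1] : Matrix (Fin 2) (Fin 2) F) = _
  ext i j
  fin_cases i <;> fin_cases j <;> simp [Matrix.single_apply]

/-- the lower transvection -/
theorem helper63_mT_conj_mU {F : Type*} [Field F] (a : F) :
    mT F * mU F (-a) * (mT F)⁻¹ =
      Matrix.SpecialLinearGroup.transvection (show (1 : Fin 2) ≠ 0 by decide) a := by
  rw [mul_inv_eq_iff_eq_mul]
  apply Subtype.ext
  show (!![0, 1; -1, 0] : Matrix (Fin 2) (Fin 2) F) * !![1, -a; 0, 1] =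
    (Matrix.SpecialLinearGroup.transvection (show (1 : Fin 2) ≠ 0 by decide) a).1 *
      !![0, 1; -1, 0]
  rw [Matrix.SpecialLinearGroup.transvection_coe]
  ext i j
  fin_cases i <;> fin_cases j <;>
    simp [Matrix.mul_apply, Fin.sum_univ_two, Matrix.single_apply]

end Cfsg.Agent.Lib.helper44.Pres
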