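/-
S2286 split project (helper44), piece MATc: `SL₂(F)` is generated by `mU 1`, `mT`, `mH ζ` as
soon as a power of `ζ²` generates `F` over the prime field.
-/
import Mathlib
import Cfsg.Agent.Lib.helper44.PresDefs
import Cfsg.Agent.Lib.helper45.SLGen
import Cfsg.Agent.Lib.helper63.PresAux

set_option autoImplicit false

namespace Cfsg.Agent.Lib.helper44.Pres

open Polynomial

-- MAT
theorem helper63_mat_closure {F : Type*} [Field F] [Fintype F] {p : ℕ} [Fact p.Prime]
    [Algebra (ZMod p) F] (ζ : Fˣ) (i : ℕ)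
    (hμ : Algebra.adjoin (ZMod p) {((ζ : F) ^ 2) ^ i} = ⊤) :
    Subgroup.closure (Set.range ![mU F 1, mT F, mH ζ]) = ⊤ := by
  classical
  have : NeZero p := ⟨(Fact.out : p.Prime).ne_zero⟩
  obtain ⟨K, hK⟩ : ∃ K : Subgroup (Matrix.SpecialLinearGroup (Fin 2) F),
      K = Subgroup.closure (Set.range ![mU F 1, mT F, mH ζ]) := ⟨_, rfl⟩
  rw [← hK]
  have hU : mU F 1 ∈ K := by rw [hK]; exact Subgroup.subset_closure ⟨0, rfl⟩
  have hT : mT F ∈ K := by rw [hK]; exact Subgroup.subset_closure ⟨1, rfl⟩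
  have hH : mH ζ ∈ K := by rw [hK]; exact Subgroup.subset_closure ⟨2, rfl⟩
  -- the additive subgroup of the `a` with `mU a ∈ K`
  let S : AddSubgroup F :=
    { carrier := {a | mU F a ∈ K}
      add_mem' := by
        intro a b ha hb
        show mU F (a + b) ∈ K
        rw [← helper63_mU_mul]
        exact K.mul_mem ha hb
      zero_mem' := by
        show mU F 0 ∈ K
        rw [helper63_mU_zero]
        exact K.one_mem
      neg_mem' := by
        intro a ha
        show mU F (-a) ∈ K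
        have : mU F (-a) = (mU F a)⁻¹ := by
          rw [eq_inv_iff_mul_eq_one, helper63_mU_mul, neg_add_cancel, helper63_mU_zero]
        rw [this]
        exact K.inv_mem ha }
  have hS : ∀ a : F, a ∈ S ↔ mU F a ∈ K := fun a => Iff.rfl
  -- powers of `μ`
  have hpow : ∀ k : ℕ, (((ζ : F) ^ 2) ^ i) ^ k ∈ S := by
    intro k
    rw [hS]
    have h1 := helper63_mH_conj_mU (ζ ^ (i * k)) 1
    have e : (((ζ ^ (i * k) : Fˣ) : F)) ^ 2 * 1 = (((ζ : F) ^ 2) ^ i) ^ k := by
      push_cast
      ring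
    rw [← e, ← h1, ← helper63_mH_pow]
    exact K.mul_mem (K.mul_mem (K.pow_mem hH _) hU) (K.inv_mem (K.pow_mem hH _))
  -- all of `F`
  have hall : ∀ a : F, mU F a ∈ K := by
    intro a
    rw [← hS]
    have ha : a ∈ Algebra.adjoin (ZMod p) {((ζ : F) ^ 2) ^ i} := by rw [hμ]; trivial
    rw [Algebra.adjoin_singleton_eq_range_aeval] at ha
    obtain ⟨f, rfl⟩ := ha
    show aeval (((ζ : F) ^ 2) ^ i) f ∈ S
    rw [aeval_eq_sum_range]
    apply AddSubgroup.sum_mem
    intro n _
    have h2 : (f.coeff n) • ((((ζ : F) ^ 2) ^ i) ^ n) =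
        ((f.coeff n).val : ℕ) • ((((ζ : F) ^ 2) ^ i) ^ n) := by
      conv_lhs => rw [← ZMod.natCast_zmod_val (f.coeff n)]
      rw [Nat.cast_smul_eq_nsmul]
    rw [h2]
    exact S.nsmul_mem (hpow n) _
  apply Cfsg.Agent.Lib.helper45.eq_top_of_transvection_mem
  intro a b hab c
  fin_cases a <;> fin_cases b
  · exact absurd rfl hab
  · have h3 := hall c
    rw [helper63_mU_eq_transvection] at h3
    exact h3
  · have h3 := K.mul_mem (K.mul_mem hT (hall (-c))) (K.inv_mem hT)
    rw [helper63_mT_conj_mU] at h3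
    exact h3
  · exact absurd rfl hab

end Cfsg.Agent.Lib.helper44.Pres
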