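/-
S3663 split project (helper94), piece T3: the quotient `M ⧸ M₀` of two invariant groups of
functions `Ω → ZMod p`, with the translation action.
-/
import Mathlib

set_option autoImplicit false

namespace Cfsg.Agent.Lib.helper63.S3663

/-- translation of a function of `M` by `g`, as an additive endomorphism of `M` -/
def helper63_transl {G : Type} [Group G] {Ω : Type} (p : ℕ)
    (σ : G →* Equiv.Perm Ω) (M : AddSubgroup (Ω → ZMod p))
    (hM : ∀ (g : G) (φ : Ω → ZMod p), φ ∈ M → (fun ω => φ (σ g ω)) ∈ M) (g : G) : ↥M →+ ↥M where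
  toFun φ := ⟨fun ω => φ.1 (σ g⁻¹ ω), hM g⁻¹ φ.1 φ.2⟩
  map_zero' := by
    apply Subtype.ext
    rfl
  map_add' φ ψ := by
    apply Subtype.ext
    rfl

theorem helper63_transl_apply {G : Type} [Group G] {Ω : Type} (p : ℕ)
    (σ : G →* Equiv.Perm Ω) (M : AddSubgroup (Ω → ZMod p))
    (hM : ∀ (g : G) (φ : Ω → ZMod p), φ ∈ M → (fun ω => φ (σ g ω)) ∈ M) (g : G) (φ : ↥M)
    (ω : Ω) : (helper63_transl p σ M hM g φ).1 ω = φ.1 (σ g⁻¹ ω) := rfl

/-- PIECE T3 (Mathlib only).  `A = M ⧸ M₀`, `g` acting by `φ ↦ φ ∘ σ g⁻¹`. -/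
theorem module_of_functions {G : Type} [Group G] {Ω : Type} [Finite Ω] (p : ℕ) [Fact p.Prime]
    (σ : G →* Equiv.Perm Ω) (M M₀ : AddSubgroup (Ω → ZMod p)) (h0 : M₀ ≤ M)
    (hM : ∀ (g : G) (φ : Ω → ZMod p), φ ∈ M → (fun ω => φ (σ g ω)) ∈ M)
    (hM₀ : ∀ (g : G) (φ : Ω → ZMod p), φ ∈ M₀ → (fun ω => φ (σ g ω)) ∈ M₀)
    (hne : ∃ φ ∈ M, φ ∉ M₀) (x : G)
    (hfpf : ∀ φ ∈ M, (fun ω => φ (σ x ω) - φ ω) ∈ M₀ → φ ∈ M₀) :
    ∃ (A : Type) (_ : AddCommGroup A) (_ : Finite A) (_ : Nontrivial A) (α : G → A → A),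
      (∀ a : A, α 1 a = a) ∧ (∀ (g h : G) (a : A), α (g * h) a = α g (α h a)) ∧
      (∀ (g : G) (a b : A), α g (a + b) = α g a + α g b) ∧
      (∀ a : A, p • a = 0) ∧ (∀ a : A, α x a = a → a = 0) := by
  classical
  have : NeZero p := ⟨(Fact.out : p.Prime).ne_zero⟩
  have : Finite (Ω → ZMod p) := inferInstance
  have : Finite ↥M := inferInstance
  -- the invariance of `M₀` inside `M`
  have hcomap : ∀ g : G, M₀.addSubgroupOf M ≤
      (M₀.addSubgroupOf M).comap (helper63_transl p σ M hM g) := by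
    intro g φ hφ
    rw [AddSubgroup.mem_comap, AddSubgroup.mem_addSubgroupOf]
    rw [AddSubgroup.mem_addSubgroupOf] at hφ
    exact hM₀ g⁻¹ φ.1 hφ
  obtain ⟨α, hα⟩ : ∃ α : G → (↥M ⧸ M₀.addSubgroupOf M) → (↥M ⧸ M₀.addSubgroupOf M),
      α = fun g a => QuotientAddGroup.map (M₀.addSubgroupOf M) (M₀.addSubgroupOf M)
        (helper63_transl p σ M hM g) (hcomap g) a := ⟨_, rfl⟩
  have hαmk : ∀ (g : G) (φ : ↥M), α g (QuotientAddGroup.mk φ) =
      QuotientAddGroup.mk (helper63_transl p σ M hM g φ) := by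
    intro g φ
    rw [hα]
    rfl
  have hnt : Nontrivial (↥M ⧸ M₀.addSubgroupOf M) := by
    obtain ⟨φ, hφM, hφ0⟩ := hne
    refine ⟨⟨QuotientAddGroup.mk (⟨φ, hφM⟩ : ↥M), 0, ?_⟩⟩
    intro h
    rw [QuotientAddGroup.eq_zero_iff, AddSubgroup.mem_addSubgroupOf] at h
    exact hφ0 h
  refine ⟨↥M ⧸ M₀.addSubgroupOf M, inferInstance, inferInstance, hnt, α, ?_, ?_, ?_, ?_, ?_⟩
  · intro a
    induction a using QuotientAddGroup.induction_on with
    | H φ =>
      rw [hαmk]
      congr 1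
      apply Subtype.ext
      funext ω
      rw [helper63_transl_apply, inv_one, map_one]
      rfl
  · intro g h a
    induction a using QuotientAddGroup.induction_on with
    | H φ =>
      rw [hαmk, hαmk, hαmk]
      congr 1
      apply Subtype.ext
      funext ω
      rw [helper63_transl_apply, helper63_transl_apply, helper63_transl_apply, mul_inv_rev,
        map_mul]
      rfl
  · intro g a b
    rw [hα]
    exact map_add _ a b
  · intro a
    induction a using QuotientAddGroup.induction_on with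
    | H φ =>
      have : p • φ = 0 := by
        apply Subtype.ext
        funext ω
        show p • φ.1 ω = 0
        rw [nsmul_eq_mul, ZMod.natCast_self, zero_mul]
      rw [← QuotientAddGroup.mk_nsmul, this]
      rfl
  · intro a ha
    induction a using QuotientAddGroup.induction_on with
    | H φ =>
      rw [hαmk, eq_comm, QuotientAddGroup.eq, AddSubgroup.mem_addSubgroupOf] at ha
      -- `ha : -φ + φ ∘ σ x⁻¹ ∈ M₀`
      have h1 := hM₀ x _ ha
      have h2 : (fun ω => φ.1 (σ x ω) - φ.1 ω) ∈ M₀ := by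
        have h3 := M₀.neg_mem h1
        have e : (fun ω => φ.1 (σ x ω) - φ.1 ω) =
            -(fun ω => (↑(-φ + helper63_transl p σ M hM x φ) : Ω → ZMod p) (σ x ω)) := by
          funext ω
          show φ.1 (σ x ω) - φ.1 ω =
            -(-(φ.1 (σ x ω)) + (helper63_transl p σ M hM x φ).1 (σ x ω))
          have e1 : (σ x)⁻¹ (σ x ω) = ω := Equiv.Perm.inv_eq_iff_eq.mpr rfl
          rw [helper63_transl_apply, map_inv, e1]
          ring
        rw [e]
        exact h3
      have h4 := hfpf φ.1 φ.2 h2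
      rw [QuotientAddGroup.eq_zero_iff, AddSubgroup.mem_addSubgroupOf]
      exact h4

end Cfsg.Agent.Lib.helper63.S3663
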