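/-
S3663 split project (helper94), piece T4: the action of `SU n K q` on vectors as a permutation
representation.
-/
import Mathlib
import Cfsg.Prelude.Def_Classical

set_option autoImplicit false

namespace Cfsg.Agent.Lib.helper63.S3663

open Cfsg

theorem helper63_su_mulVec_mul (n : ℕ) (K : Type) [Field K] (q : ℕ) (g h : ↥(SU n K q))
    (v : Fin n → K) :
    Matrix.mulVec ((g * h).1.1) v = Matrix.mulVec (g.1.1) (Matrix.mulVec (h.1.1) v) := by
  rw [Matrix.mulVec_mulVec]
  rfl

theorem helper63_su_mulVec_one (n : ℕ) (K : Type) [Field K] (q : ℕ) (v : Fin n → K) :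
    Matrix.mulVec ((1 : ↥(SU n K q)).1.1) v = v := by
  have : ((1 : ↥(SU n K q)).1.1) = (1 : Matrix (Fin n) (Fin n) K) := rfl
  rw [this, Matrix.one_mulVec]

/-- PIECE T4 (Mathlib + Cfsg.Prelude.Def_Classical). -/
theorem su_perm_rep (n : ℕ) (K : Type) [Field K] (q : ℕ) :
    ∃ σ : ↥(SU n K q) →* Equiv.Perm (Fin n → K),
      ∀ (g : ↥(SU n K q)) (v : Fin n → K), σ g v = Matrix.mulVec (g.1.1) v := by
  refine ⟨
    { toFun := fun g =>
        { toFun := fun v => Matrix.mulVec (g.1.1) v
          invFun := fun v => Matrix.mulVec ((g⁻¹).1.1) v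
          left_inv := fun v => by
            show Matrix.mulVec ((g⁻¹).1.1) (Matrix.mulVec (g.1.1) v) = v
            rw [← helper63_su_mulVec_mul, inv_mul_cancel, helper63_su_mulVec_one]
          right_inv := fun v => by
            show Matrix.mulVec (g.1.1) (Matrix.mulVec ((g⁻¹).1.1) v) = v
            rw [← helper63_su_mulVec_mul, mul_inv_cancel, helper63_su_mulVec_one] }
      map_one' := by
        ext v : 1
        show Matrix.mulVec ((1 : ↥(SU n K q)).1.1) v = v
        exact helper63_su_mulVec_one n K q v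
      map_mul' := fun g h => by
        ext v : 1
        show Matrix.mulVec ((g * h).1.1) v = Matrix.mulVec (g.1.1) (Matrix.mulVec (h.1.1) v)
        exact helper63_su_mulVec_mul n K q g h v }, ?_⟩
  intro g v
  rfl

end Cfsg.Agent.Lib.helper63.S3663
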