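/-
S3663 split project (helper94), pieces T5a / T5b: the groups of functions `u34M K`, `u34M0 K`
are invariant under `SU 3 K 4`.
-/
import Mathlib
import Cfsg.Prelude.Def_Classical
import Cfsg.Agent.Lib.helper94.U34Defs

set_option autoImplicit false

namespace Cfsg.Agent.Lib.helper63.S3663

open Cfsg Cfsg.Agent.Lib.helper94

theorem helper63_su_herm (K : Type) [Field K] (g : ↥(SU 3 K 4)) (u v : Fin 3 → K) :
    hermForm 3 K 4 (Matrix.mulVec (g.1.1) u) (Matrix.mulVec (g.1.1) v) = hermForm 3 K 4 u v :=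
  g.2 u v

theorem helper63_su_ne_zero (K : Type) [Field K] (g : ↥(SU 3 K 4)) (v : Fin 3 → K)
    (hv : v ≠ 0) : Matrix.mulVec (g.1.1) v ≠ 0 := by
  intro h
  apply hv
  exact Matrix.eq_zero_of_mulVec_eq_zero (by rw [g.1.2]; exact one_ne_zero) h

theorem helper63_su_iso (K : Type) [Field K] (g : ↥(SU 3 K 4)) (v : Fin 3 → K) :
    u34Iso K (Matrix.mulVec (g.1.1) v) ↔ u34Iso K v := by
  unfold u34Iso
  rw [helper63_su_herm]
  constructor
  · rintro ⟨h1, h2⟩
    refine ⟨h1, ?_⟩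
    rintro rfl
    apply h2
    rw [Matrix.mulVec_zero]
  · rintro ⟨h1, h2⟩
    exact ⟨h1, helper63_su_ne_zero K g v h2⟩

/-- PIECE T5a (Mathlib + Prelude + helper94.U34Defs). -/
theorem u34M_invariant (K : Type) [Field K] [Fintype K] [DecidableEq K] (g : ↥(SU 3 K 4))
    (φ : (Fin 3 → K) → ZMod 5) (hφ : φ ∈ u34M K) :
    (fun v => φ (Matrix.mulVec (g.1.1) v)) ∈ u34M K := by
  rw [mem_u34M] at hφ ⊢
  obtain ⟨h1, h2, h3⟩ := hφ
  refine ⟨fun c v hc => ?_, fun v hv => ?_, fun u w hu hw huw => ?_⟩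
  · show φ (Matrix.mulVec (g.1.1) (c • v)) = φ (Matrix.mulVec (g.1.1) v)
    rw [Matrix.mulVec_smul]
    exact h1 c _ hc
  · show φ (Matrix.mulVec (g.1.1) v) = 0
    apply h2
    rw [helper63_su_iso]
    exact hv
  · show φ (Matrix.mulVec (g.1.1) w) + ∑ c ∈ Finset.univ.filter (fun c : K => c ^ 4 = c),
      φ (Matrix.mulVec (g.1.1) (u + c • w)) = 0
    have e := h3 (Matrix.mulVec (g.1.1) u) (Matrix.mulVec (g.1.1) w)
      (by rw [helper63_su_herm]; exact hu) (by rw [helper63_su_herm]; exact hw)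
      (by rw [helper63_su_herm]; exact huw)
    rw [← e]
    congr 1
    apply Finset.sum_congr rfl
    intro c _
    rw [Matrix.mulVec_add, Matrix.mulVec_smul]

/-- PIECE T5b (Mathlib + Prelude + helper94.U34Defs). -/
theorem u34M0_invariant (K : Type) [Field K] [Fintype K] [DecidableEq K] (g : ↥(SU 3 K 4))
    (φ : (Fin 3 → K) → ZMod 5) (hφ : φ ∈ u34M0 K) :
    (fun v => φ (Matrix.mulVec (g.1.1) v)) ∈ u34M0 K := by
  rw [mem_u34M0] at hφ ⊢
  obtain ⟨h1, c, hc⟩ := hφ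
  refine ⟨u34M_invariant K g φ h1, c, fun v hv => ?_⟩
  show φ (Matrix.mulVec (g.1.1) v) = c
  apply hc
  rw [helper63_su_iso]
  exact hv

end Cfsg.Agent.Lib.helper63.S3663
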