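import Mathlib

/-! Piece `Uodd` of the split proof of S4067 (Laffey–MacHale). -/

set_option autoImplicit false

namespace Cfsg.Agent.Lib.helper63.S4067

open Subgroup MulAction

open scoped IsMulCommutative commutatorElement

variable {G : Type*} [Group G] [Finite G]

/-- Uodd -/
theorem exists_noncentral_pow_eq_of_odd {p : ℕ} (hp : p.Prime) (hp2 : p ≠ 2)
    (hc : commutator G ≤ center G) (hcard : Nat.card (commutator G) = p)
    (huniq : ∀ W : Subgroup G, W ≤ center G → Nat.card W = p → W = commutator G)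
    (hj : p ^ 2 ≤ (center G).index) :
    ∃ u : G, u ∉ center G ∧ ∀ y : G, y * u ≠ u * y → (y * u) ^ p = y ^ p := by
  classical
  have hcommG' : ∀ a b : G, ⁅a, b⁆ ∈ commutator G := fun a b => by
    rw [_root_.commutator_def]
    exact Subgroup.commutator_mem_commutator (Subgroup.mem_top a) (Subgroup.mem_top b)
  have hZcomm : ∀ a b : G, ⁅a, b⁆ ∈ center G := fun a b => hc (hcommG' a b)
  have hcen : ∀ a b g : G, g * ⁅a, b⁆ = ⁅a, b⁆ * g := fun a b g =>
    Subgroup.mem_center_iff.mp (hZcomm a b) g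
  have hpowp : ∀ a b : G, ⁅a, b⁆ ^ p = 1 := by
    intro a b
    have h := pow_card_eq_one' (G := commutator G) (x := ⟨⁅a, b⁆, hcommG' a b⟩)
    rw [hcard] at h
    have h' := congrArg Subtype.val h
    simpa using h'
  have hzc : ∀ (a b : G) (k : ℕ) (g : G), g * ⁅b, a⁆ ^ k = ⁅b, a⁆ ^ k * g := fun a b k g =>
    Subgroup.mem_center_iff.mp (pow_mem (hZcomm b a) k) g
  -- b^m * a = a * b^m * ⁅b,a⁆^m
  have hswap : ∀ (a b : G) (m : ℕ), b ^ m * a = a * b ^ m * ⁅b, a⁆ ^ m := by
    intro a b m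
    induction m with
    | zero => simp
    | succ m ih =>
      have e1 : b * a = ⁅b, a⁆ * (a * b) := by rw [commutatorElement_def]; group
      calc b ^ (m + 1) * a = b ^ m * (b * a) := by rw [pow_succ, mul_assoc]
        _ = b ^ m * (⁅b, a⁆ * (a * b)) := by rw [← e1]
        _ = ⁅b, a⁆ * (b ^ m * a) * b := by
          rw [← mul_assoc (b ^ m), hcen b a (b ^ m)]; simp only [mul_assoc]
        _ = ⁅b, a⁆ * (a * b ^ m * ⁅b, a⁆ ^ m) * b := by rw [ih]
        _ = a * b ^ m * ⁅b, a⁆ ^ m * ⁅b, a⁆ * b := by rw [← hcen b a]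
        _ = a * b ^ m * (⁅b, a⁆ ^ (m + 1) * b) := by rw [pow_succ]; simp only [mul_assoc]
        _ = a * b ^ m * (b * ⁅b, a⁆ ^ (m + 1)) := by rw [← hzc a b (m + 1) b]
        _ = a * b ^ (m + 1) * ⁅b, a⁆ ^ (m + 1) := by rw [pow_succ b]; simp only [mul_assoc]
  have hpow : ∀ (a b : G) (m : ℕ), (a * b) ^ m = a ^ m * b ^ m * ⁅b, a⁆ ^ (m.choose 2) := by
    intro a b m
    induction m with
    | zero => simp
    | succ m ih =>
      have hch : (m + 1).choose 2 = m + m.choose 2 := by
        rw [Nat.choose_succ_succ' m 1, Nat.choose_one_right]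
      calc (a * b) ^ (m + 1) = (a * b) ^ m * (a * b) := pow_succ _ _
        _ = a ^ m * b ^ m * ⁅b, a⁆ ^ (m.choose 2) * (a * b) := by rw [ih]
        _ = a ^ m * b ^ m * ((a * b) * ⁅b, a⁆ ^ (m.choose 2)) := by
          rw [hzc a b (m.choose 2) (a * b)]; simp only [mul_assoc]
        _ = a ^ m * (b ^ m * a) * b * ⁅b, a⁆ ^ (m.choose 2) := by simp only [mul_assoc]
        _ = a ^ m * (a * b ^ m * ⁅b, a⁆ ^ m) * b * ⁅b, a⁆ ^ (m.choose 2) := by
          rw [hswap a b m]
        _ = a ^ m * a * b ^ m * (⁅b, a⁆ ^ m * b) * ⁅b, a⁆ ^ (m.choose 2) := by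
          simp only [mul_assoc]
        _ = a ^ m * a * b ^ m * (b * ⁅b, a⁆ ^ m) * ⁅b, a⁆ ^ (m.choose 2) := by
          rw [← hzc a b m b]
        _ = a ^ (m + 1) * b ^ (m + 1) * ⁅b, a⁆ ^ ((m + 1).choose 2) := by
          rw [hch, pow_add ⁅b, a⁆, pow_succ a, pow_succ b]; simp only [mul_assoc]
  have hp3 : 2 < p := lt_of_le_of_ne hp.two_le (Ne.symm hp2)
  have hdvd : p ∣ p.choose 2 := hp.dvd_choose_self (by norm_num) hp3
  have hmul : ∀ a b : G, (a * b) ^ p = a ^ p * b ^ p := by
    intro a b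
    rw [hpow a b p]
    obtain ⟨k, hk⟩ := hdvd
    rw [hk, pow_mul, hpowp, one_pow, mul_one]
  have hpZ : ∀ x : G, x ^ p ∈ center G := by
    intro x
    rw [Subgroup.mem_center_iff]
    intro g
    have h := hswap g x p
    rw [hpowp, mul_one] at h
    exact h.symm
  let P : G →* G := { toFun := fun x => x ^ p, map_one' := one_pow p, map_mul' := hmul }
  by_contra hcon
  push Not at hcon
  have hker : P.ker ≤ commutator G := by
    intro a ha
    rw [MonoidHom.mem_ker] at ha
    have ha' : a ^ p = 1 := ha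
    have haZ : a ∈ center G := by
      by_contra haZ
      obtain ⟨y, -, hy⟩ := hcon a haZ
      exact hy (by rw [hmul, ha', mul_one])
    by_cases ha1 : a = 1
    · rw [ha1]; exact one_mem _
    · have : Fact p.Prime := ⟨hp⟩
      have hord : orderOf a = p := orderOf_eq_prime ha' ha1
      have h := huniq (zpowers a) (by rw [zpowers_le]; exact haZ)
        (by rw [Nat.card_zpowers, hord])
      rw [← h]; exact mem_zpowers a
  have hrange : P.range ≤ center G := by
    rintro _ ⟨x, rfl⟩
    exact hpZ x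
  have h1 : Nat.card P.ker * Nat.card P.range = Nat.card G := by
    rw [← Subgroup.index_ker, Subgroup.card_mul_index]
  have h2 : Nat.card (center G) * (center G).index = Nat.card G := Subgroup.card_mul_index _
  have h3 : Nat.card P.ker ≤ p := hcard ▸ Subgroup.card_le_of_le hker
  have h4 : Nat.card P.range ≤ Nat.card (center G) := Subgroup.card_le_of_le hrange
  have h5 : 0 < Nat.card (center G) := Nat.card_pos
  have h6 : (center G).index ≤ p := by
    have h : Nat.card (center G) * (center G).index ≤ Nat.card (center G) * p := by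
      rw [h2, ← h1, mul_comm]
      exact Nat.mul_le_mul h4 h3
    exact Nat.le_of_mul_le_mul_left h h5
  have h7 : p ^ 2 ≤ p := hj.trans h6
  have h8 : p * p ≤ p * 1 := by rw [← pow_two, mul_one]; exact h7
  have h9 := Nat.le_of_mul_le_mul_left h8 hp.pos
  exact absurd hp.two_le (by omega)

end Cfsg.Agent.Lib.helper63.S4067
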