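import Mathlib

/-! Piece `Utwo` of the split proof of S4067 (Laffey–MacHale). -/

set_option autoImplicit false

namespace Cfsg.Agent.Lib.helper63.S4067

open Subgroup MulAction

open scoped IsMulCommutative commutatorElement

variable {G : Type*} [Group G] [Finite G]

/-- Utwo -/
theorem exists_noncentral_sq_eq_of_two
    (hc : commutator G ≤ center G) (hcard : Nat.card (commutator G) = 2)
    (huniq : ∀ W : Subgroup G, W ≤ center G → Nat.card W = 2 → W = commutator G)
    (hj : 2 ^ 2 ≤ (center G).index) :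
    ∃ u : G, u ∉ center G ∧ ∀ y : G, y * u ≠ u * y → (y * u) ^ 2 = y ^ 2 := by
  classical
  have : Fact (Nat.Prime 2) := ⟨Nat.prime_two⟩
  obtain ⟨c', hc'ne, hc'uniq⟩ := (Nat.card_eq_two_iff' (1 : commutator G)).mp hcard
  obtain ⟨c, hcdef⟩ : ∃ c : G, c = (c' : G) := ⟨_, rfl⟩
  have hcG' : c ∈ commutator G := by rw [hcdef]; exact c'.2
  have hc1 : c ≠ 1 := by
    rw [hcdef]
    intro h
    exact hc'ne (Subtype.ext h)
  have hG' : ∀ g ∈ commutator G, g = 1 ∨ g = c := by
    intro g hg
    by_cases h1 : g = 1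
    · exact Or.inl h1
    · right
      have h2 := hc'uniq ⟨g, hg⟩ (fun h => h1 (congrArg Subtype.val h))
      rw [hcdef, ← h2]
  have hcZ : c ∈ center G := hc hcG'
  have hcc : c * c = 1 := by
    rcases hG' (c * c) (mul_mem hcG' hcG') with h | h
    · exact h
    · exfalso
      exact hc1 (mul_eq_left.mp h)
  have hcommG' : ∀ a b : G, ⁅a, b⁆ ∈ commutator G := fun a b => by
    rw [_root_.commutator_def]
    exact Subgroup.commutator_mem_commutator (Subgroup.mem_top a) (Subgroup.mem_top b)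
  have hcomm : ∀ a b : G, ⁅a, b⁆ = 1 ∨ ⁅a, b⁆ = c := fun a b => hG' _ (hcommG' a b)
  have hZcomm : ∀ a b : G, ⁅a, b⁆ ∈ center G := fun a b => hc (hcommG' a b)
  have hcen : ∀ a b g : G, g * ⁅a, b⁆ = ⁅a, b⁆ * g := fun a b g =>
    Subgroup.mem_center_iff.mp (hZcomm a b) g
  have hnc : ∀ a b : G, a * b ≠ b * a → ⁅a, b⁆ = c := by
    intro a b hab
    rcases hcomm a b with h | h
    · exfalso
      exact hab (commutatorElement_eq_one_iff_commute.mp h).eq
    · exact h
  have hsq : ∀ x y : G, (x * y) ^ 2 = x ^ 2 * y ^ 2 * ⁅y, x⁆ := by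
    intro x y
    have e1 : y * x = ⁅y, x⁆ * (x * y) := by rw [commutatorElement_def]; group
    calc (x * y) ^ 2 = x * (y * x) * y := by rw [pow_two]; simp only [mul_assoc]
      _ = x * (⁅y, x⁆ * (x * y)) * y := by rw [← e1]
      _ = (x * ⁅y, x⁆) * (x * y * y) := by simp only [mul_assoc]
      _ = (⁅y, x⁆ * x) * (x * y * y) := by rw [hcen y x x]
      _ = ⁅y, x⁆ * (x ^ 2 * y ^ 2) := by simp only [mul_assoc, pow_two]
      _ = x ^ 2 * y ^ 2 * ⁅y, x⁆ := (hcen y x _).symm
  have hZsq : ∀ x : G, x ^ 2 ∈ center G := by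
    intro x
    rw [Subgroup.mem_center_iff]
    intro g
    have e1 : x * g = ⁅x, g⁆ * (g * x) := by rw [commutatorElement_def]; group
    have hk2 : ⁅x, g⁆ * ⁅x, g⁆ = 1 := by
      rcases hcomm x g with h | h
      · rw [h, mul_one]
      · rw [h, hcc]
    calc g * x ^ 2 = 1 * (g * x * x) := by simp only [one_mul, mul_assoc, pow_two]
      _ = (⁅x, g⁆ * ⁅x, g⁆) * (g * x * x) := by rw [hk2]
      _ = ⁅x, g⁆ * ((⁅x, g⁆ * (g * x)) * x) := by simp only [mul_assoc]
      _ = ⁅x, g⁆ * (x * g * x) := by rw [← e1]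
      _ = (⁅x, g⁆ * x) * (g * x) := by simp only [mul_assoc]
      _ = (x * ⁅x, g⁆) * (g * x) := by rw [hcen x g x]
      _ = x * (⁅x, g⁆ * (g * x)) := by simp only [mul_assoc]
      _ = x * (x * g) := by rw [← e1]
      _ = x ^ 2 * g := by simp only [mul_assoc, pow_two]
  have hfin : ∀ u : G, u ∉ center G → u ^ 2 = c →
      ∃ u : G, u ∉ center G ∧ ∀ y : G, y * u ≠ u * y → (y * u) ^ 2 = y ^ 2 := by
    intro u hu hu2
    refine ⟨u, hu, fun y hyu => ?_⟩
    rw [hsq y u, hu2, hnc u y (fun h => hyu h.symm), mul_assoc, hcc, mul_one]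
  obtain ⟨C, hCdef⟩ : ∃ C : ↥(center G), C = ⟨c, hcZ⟩ := ⟨_, rfl⟩
  have hCC : C * C = 1 := by rw [hCdef]; exact Subtype.ext hcc
  have hCinv : C⁻¹ = C := inv_eq_of_mul_eq_one_left hCC
  have hmk : ∀ (x : G) (z : ↥(center G)), x ∉ center G →
      (⟨x ^ 2, hZsq x⟩ : ↥(center G)) * z ^ 2 = C →
      ∃ u : G, u ∉ center G ∧ ∀ y : G, y * u ≠ u * y → (y * u) ^ 2 = y ^ 2 := by
    intro x z hx hxz
    apply hfin (x * (z : G))
    · intro h
      exact hx (((center G).mul_mem_cancel_right z.2).mp h)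
    · have hcm : Commute x (z : G) := Subgroup.mem_center_iff.mp z.2 x
      rw [hcm.mul_pow]
      have h1 := congrArg Subtype.val hxz
      rw [hCdef] at h1
      simpa using h1
  -- the squaring map on the centre
  obtain ⟨s, hs⟩ : ∃ s : ↥(center G) →* ↥(center G), ∀ w, s w = w ^ 2 :=
    ⟨powMonoidHom 2, fun w => rfl⟩
  have hker : ∀ w : ↥(center G), w ^ 2 = 1 → w = 1 ∨ w = C := by
    intro w hw
    by_cases h1 : w = 1
    · exact Or.inl h1
    · right
      have hw' : (w : G) ^ 2 = 1 := by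
        have h2 := congrArg Subtype.val hw
        simpa using h2
      have hw1 : (w : G) ≠ 1 := fun h => h1 (Subtype.ext h)
      have hord : orderOf (w : G) = 2 := orderOf_eq_prime hw' hw1
      have hW := huniq (zpowers (w : G)) (by rw [zpowers_le]; exact w.2)
        (by rw [Nat.card_zpowers, hord])
      have hwG' : (w : G) ∈ commutator G := by rw [← hW]; exact mem_zpowers _
      rcases hG' _ hwG' with h | h
      · exact absurd h hw1
      · rw [hCdef]; exact Subtype.ext h
  have hC1 : C ≠ 1 := by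
    rw [hCdef]
    intro h
    exact hc1 (congrArg Subtype.val h)
  have hCsq : C ^ 2 = 1 := by rw [pow_two, hCC]
  have hkercard : Nat.card s.ker = 2 := by
    have h1 : s.ker = zpowers C := by
      ext w
      rw [MonoidHom.mem_ker, hs]
      constructor
      · intro hw
        rcases hker w hw with h | h
        · rw [h]; exact one_mem _
        · rw [h]; exact mem_zpowers _
      · intro hw
        obtain ⟨k, rfl⟩ := mem_zpowers_iff.mp hw
        rw [← zpow_natCast, ← zpow_mul, mul_comm, zpow_mul, zpow_natCast, hCsq, one_zpow]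
    rw [h1, Nat.card_zpowers]
    exact orderOf_eq_prime hCsq hC1
  have hidx : s.range.index = 2 := by
    have h1 := Subgroup.index_ker s
    have h2 := Subgroup.card_mul_index s.ker
    have h3 := Subgroup.card_mul_index s.range
    rw [hkercard, h1] at h2
    have hpos : 0 < Nat.card s.range := Nat.card_pos
    have h4 : Nat.card s.range * s.range.index = Nat.card s.range * 2 := by
      rw [h3, ← h2, mul_comm]
    exact Nat.eq_of_mul_eq_mul_left hpos h4
  have hHmul : ∀ a b : ↥(center G), a * b ∈ s.range ↔ (a ∈ s.range ↔ b ∈ s.range) :=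
    fun a b => Subgroup.mul_mem_iff_of_index_two hidx
  have hHmem : ∀ a : ↥(center G), a ∈ s.range → ∃ w : ↥(center G), w ^ 2 = a := by
    intro a ha
    obtain ⟨w, hw⟩ := ha
    exact ⟨w, by rw [← hs]; exact hw⟩
  have hZne : center G ≠ ⊤ := by
    intro h
    rw [h, Subgroup.index_top] at hj
    omega
  obtain ⟨x, hx⟩ : ∃ x : G, x ∉ center G := by
    by_contra hcon
    push Not at hcon
    exact hZne ((Subgroup.eq_top_iff' _).mpr hcon)
  have hsqeq : ∀ x y : G, (⟨(x * y) ^ 2, hZsq (x * y)⟩ : ↥(center G))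
      = ⟨x ^ 2, hZsq x⟩ * ⟨y ^ 2, hZsq y⟩ * ⟨⁅y, x⁆, hZcomm y x⟩ := by
    intro x y
    exact Subtype.ext (hsq x y)
  by_cases hCH : C ∈ s.range
  · -- `c` is a square in the centre
    obtain ⟨i, hi⟩ := hHmem C hCH
    obtain ⟨y, hy, hxy⟩ : ∃ y : G, y ∉ center G ∧ x * y ∉ center G := by
      by_contra hcon
      push Not at hcon
      have hsurj : Function.Surjective
          (fun b : Bool => if b then ((x⁻¹ : G) : G ⧸ center G) else 1) := by
        intro q'
        obtain ⟨y, rfl⟩ := QuotientGroup.mk_surjective q'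
        by_cases hy : y ∈ center G
        · refine ⟨false, ?_⟩
          simp only [Bool.false_eq_true, if_false]
          exact ((QuotientGroup.eq_one_iff y).mpr hy).symm
        · refine ⟨true, ?_⟩
          have h1 := (QuotientGroup.eq_one_iff (x * y)).mpr (hcon y hy)
          rw [QuotientGroup.mk_mul] at h1
          simp only [if_true]
          rw [QuotientGroup.mk_inv]
          exact inv_eq_of_mul_eq_one_right h1
      have hle := Nat.card_le_card_of_surjective _ hsurj
      have hb : Nat.card Bool = 2 := by rw [Nat.card_eq_fintype_card, Fintype.card_bool]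
      rw [hb] at hle
      have h2 : (center G).index ≤ 2 := hle
      omega
    have hex : ∃ x₀ : G, x₀ ∉ center G ∧ (⟨x₀ ^ 2, hZsq x₀⟩ : ↥(center G)) ∈ s.range := by
      by_cases hx2 : (⟨x ^ 2, hZsq x⟩ : ↥(center G)) ∈ s.range
      · exact ⟨x, hx, hx2⟩
      · by_cases hy2 : (⟨y ^ 2, hZsq y⟩ : ↥(center G)) ∈ s.range
        · exact ⟨y, hy, hy2⟩
        · refine ⟨x * y, hxy, ?_⟩
          rw [hsqeq x y]
          apply mul_mem
          · rw [hHmul]
            exact ⟨fun h => absurd h hx2, fun h => absurd h hy2⟩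
          · rcases hcomm y x with h | h
            · have : (⟨⁅y, x⁆, hZcomm y x⟩ : ↥(center G)) = 1 := Subtype.ext h
              rw [this]; exact one_mem _
            · have : (⟨⁅y, x⁆, hZcomm y x⟩ : ↥(center G)) = C := by
                rw [hCdef]; exact Subtype.ext h
              rw [this]; exact hCH
    obtain ⟨x₀, hx₀, hx₀2⟩ := hex
    obtain ⟨w, hw⟩ := hHmem _ hx₀2
    apply hmk x₀ (w⁻¹ * i) hx₀
    rw [← hw, mul_pow, ← mul_assoc, ← mul_pow, mul_inv_cancel, one_pow, one_mul, hi]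
  · -- `c` is not a square in the centre
    have hB : ∀ a : ↥(center G), a ∉ s.range → C * a ∈ s.range := by
      intro a ha
      rw [hHmul]
      exact ⟨fun h => absurd h hCH, fun h => absurd h ha⟩
    have hB' : ∀ (x₁ : G), x₁ ∉ center G → (⟨x₁ ^ 2, hZsq x₁⟩ : ↥(center G)) ∉ s.range →
        ∃ u : G, u ∉ center G ∧ ∀ y : G, y * u ≠ u * y → (y * u) ^ 2 = y ^ 2 := by
      intro x₁ hx₁ hx₁2
      obtain ⟨w, hw⟩ := hHmem _ (hB _ hx₁2)
      apply hmk x₁ w⁻¹ hx₁
      rw [inv_pow, hw, mul_inv_rev, ← mul_assoc, mul_inv_cancel, one_mul, hCinv]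
    obtain ⟨y, hyx⟩ : ∃ y : G, y * x ≠ x * y := by
      by_contra hcon
      push Not at hcon
      exact hx (Subgroup.mem_center_iff.mpr hcon)
    have hy : y ∉ center G := by
      intro h
      exact hyx (Subgroup.mem_center_iff.mp h x).symm
    have hxy : x * y ∉ center G := by
      intro h
      have h1 := Subgroup.mem_center_iff.mp h x
      apply hyx
      have h2 : x * (x * y) = x * (y * x) := by rw [h1]; simp only [mul_assoc]
      exact (mul_left_cancel h2).symm
    by_cases hx2 : (⟨x ^ 2, hZsq x⟩ : ↥(center G)) ∈ s.range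
    · by_cases hy2 : (⟨y ^ 2, hZsq y⟩ : ↥(center G)) ∈ s.range
      · obtain ⟨w, hw⟩ := hHmem _ hx2
        obtain ⟨w', hw'⟩ := hHmem _ hy2
        apply hmk (x * y) (w * w')⁻¹ hxy
        have hK : (⟨⁅y, x⁆, hZcomm y x⟩ : ↥(center G)) = C := by
          rw [hCdef]; exact Subtype.ext (hnc y x hyx)
        rw [hsqeq x y, hK, ← hw, ← hw', inv_pow, mul_pow, mul_comm (w ^ 2 * w' ^ 2) C, mul_assoc,
          mul_inv_cancel, mul_one]
      · exact hB' y hy hy2
    · exact hB' x hx hx2

end Cfsg.Agent.Lib.helper63.S4067
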