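import Mathlib

/-!
# Schur's method (transitivity modules) for a regular subgroup

`G` acts on `Ω`, `C ≤ G` is regular through a base point `ω₀` (`RegAt C ω₀`).  The action of `G`
is transported to `C` (`psi`), and the basic facts of the theory of S-rings are proved for the
sets invariant under the stabilizer of the base point (`SInv`): invariant subgroups give blocks,
generated subgroups and translation stabilizers of invariant sets are invariant, and invariant
elements of the group algebra form a subring (`AInv.mul`).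
-/

set_option autoImplicit false

namespace Cfsg.Agent.Lib.helper63

open MulAction
open scoped Pointwise

set_option linter.style.haveILetI false

section SchurRing

variable {G Ω : Type*} [Group G] [MulAction G Ω] {C : Subgroup G} {ω₀ : Ω}

/-- `C` is regular through the base point `ω₀` -/
def RegAt (C : Subgroup G) (ω₀ : Ω) : Prop := Function.Bijective (fun c : C => (c : G) • ω₀)

/-- the action of `G` on `Ω` transported to `C` -/
noncomputable def psi (hreg : RegAt C ω₀) (g : G) (c : C) : C :=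
  (Equiv.ofBijective _ hreg).symm (g • ((c : G) • ω₀))

theorem psi_spec (hreg : RegAt C ω₀) (g : G) (c : C) :
    ((psi hreg g c : C) : G) • ω₀ = g • ((c : G) • ω₀) :=
  (Equiv.ofBijective _ hreg).apply_symm_apply _

theorem psi_eq (hreg : RegAt C ω₀) {g : G} {c c' : C}
    (h : g • ((c : G) • ω₀) = (c' : G) • ω₀) : psi hreg g c = c' :=
  hreg.1 ((psi_spec hreg g c).trans h)

theorem psi_mul (hreg : RegAt C ω₀) (g g' : G) (c : C) :
    psi hreg (g * g') c = psi hreg g (psi hreg g' c) :=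
  psi_eq hreg (by rw [psi_spec, psi_spec, mul_smul])

theorem psi_one (hreg : RegAt C ω₀) (c : C) : psi hreg 1 c = c := psi_eq hreg (one_smul _ _)

theorem psi_inv_psi (hreg : RegAt C ω₀) (g : G) (c : C) : psi hreg g⁻¹ (psi hreg g c) = c := by
  rw [← psi_mul, inv_mul_cancel, psi_one]

theorem psi_psi_inv (hreg : RegAt C ω₀) (g : G) (c : C) : psi hreg g (psi hreg g⁻¹ c) = c := by
  rw [← psi_mul, mul_inv_cancel, psi_one]

theorem psi_fix_one (hreg : RegAt C ω₀) {g : G} (hg : g ∈ stabilizer G ω₀) :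
    psi hreg g 1 = 1 :=
  psi_eq hreg (by rw [Subgroup.coe_one, one_smul]; exact hg)

theorem psi_eq_one_iff (hreg : RegAt C ω₀) {g : G} (hg : g ∈ stabilizer G ω₀) (c : C) :
    psi hreg g c = 1 ↔ c = 1 :=
  ⟨fun h => by rw [← psi_inv_psi hreg g c, h, psi_fix_one hreg (inv_mem hg)],
    fun h => by rw [h, psi_fix_one hreg hg]⟩

/-- the basic lemma: `g` maps translates to translates, up to an element of the stabilizer -/
theorem psi_mul_right (hreg : RegAt C ω₀) (g : G) (x : C) :
    ∃ h ∈ stabilizer G ω₀, ∀ u : C, psi hreg g (x * u) = psi hreg g x * psi hreg h u := by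
  refine ⟨((psi hreg g x : C) : G)⁻¹ * g * x, ?_, ?_⟩
  · rw [mem_stabilizer_iff, mul_smul, mul_smul, ← psi_spec hreg, inv_smul_smul]
  · intro u
    apply psi_eq
    rw [Subgroup.coe_mul, mul_smul, Subgroup.coe_mul, mul_smul, psi_spec, mul_smul, mul_smul,
      smul_inv_smul]

/-- `psi g` as a permutation of `C` -/
noncomputable def psiEquiv (hreg : RegAt C ω₀) (g : G) : C ≃ C where
  toFun := psi hreg g
  invFun := psi hreg g⁻¹
  left_inv := psi_inv_psi hreg g
  right_inv := psi_psi_inv hreg g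

/-- invariance of a subset of `C` under the stabilizer of the base point -/
def SInv (hreg : RegAt C ω₀) (T : Set C) : Prop :=
  ∀ g ∈ stabilizer G ω₀, ∀ t ∈ T, psi hreg g t ∈ T

theorem SInv.mem_iff {hreg : RegAt C ω₀} {T : Set C} (hT : SInv hreg T) {g : G}
    (hg : g ∈ stabilizer G ω₀) (t : C) : psi hreg g t ∈ T ↔ t ∈ T :=
  ⟨fun h => by have := hT g⁻¹ (inv_mem hg) _ h; rwa [psi_inv_psi] at this, hT g hg t⟩

/-- the suborbit of `y` -/
def orb (hreg : RegAt C ω₀) (y : C) : Set C := {x | ∃ g ∈ stabilizer G ω₀, psi hreg g y = x}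

theorem mem_orb_self (hreg : RegAt C ω₀) (y : C) : y ∈ orb hreg y :=
  ⟨1, one_mem _, psi_one hreg y⟩

theorem sInv_orb (hreg : RegAt C ω₀) (y : C) : SInv hreg (orb hreg y) := by
  rintro g hg _ ⟨g', hg', rfl⟩
  exact ⟨g * g', mul_mem hg hg', psi_mul hreg g g' y⟩

theorem one_notMem_orb (hreg : RegAt C ω₀) {y : C} (hy : y ≠ 1) : (1 : C) ∉ orb hreg y := by
  rintro ⟨g, hg, h⟩
  exact hy ((psi_eq_one_iff hreg hg y).1 h)

theorem orb_subset (hreg : RegAt C ω₀) {Z : Set C} (hZ : SInv hreg Z) {y z : C} (hz : z ∈ Z)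
    (hzy : z ∈ orb hreg y) : orb hreg y ⊆ Z := by
  obtain ⟨g, hg, rfl⟩ := hzy
  rintro _ ⟨g', hg', rfl⟩
  have hy : y ∈ Z := (hZ.mem_iff hg y).1 hz
  exact hZ g' hg' y hy

theorem exists_psi_eq_of_mem_orb (hreg : RegAt C ω₀) {x y y' : C} (h : x ∈ orb hreg y)
    (h' : x ∈ orb hreg y') : ∃ g ∈ stabilizer G ω₀, psi hreg g y = y' := by
  obtain ⟨g₁, hg₁, h₁⟩ := h
  obtain ⟨g₂, hg₂, h₂⟩ := h'
  refine ⟨g₂⁻¹ * g₁, mul_mem (inv_mem hg₂) hg₁, ?_⟩
  rw [psi_mul, h₁, ← h₂, psi_inv_psi]

/-- the subgroup generated by an invariant set is invariant -/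
theorem sInv_closure (hreg : RegAt C ω₀) {Y : Set C} (hY : SInv hreg Y) :
    SInv hreg (Subgroup.closure Y : Set C) := by
  intro g hg t ht
  revert g
  refine Subgroup.closure_induction
    (p := fun t _ => ∀ g ∈ stabilizer G ω₀, psi hreg g t ∈ (Subgroup.closure Y : Set C))
    ?_ ?_ ?_ ?_ ht
  · intro x hx g hg; exact Subgroup.subset_closure (hY g hg x hx)
  · intro g hg; rw [psi_fix_one hreg hg]; exact one_mem _
  · intro x y _ _ hx hy g hg
    obtain ⟨h, hh, hmul⟩ := psi_mul_right hreg g x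
    rw [hmul]; exact mul_mem (hx g hg) (hy h hh)
  · intro x _ hx g hg
    obtain ⟨h, hh, hmul⟩ := psi_mul_right hreg g x⁻¹
    have h1 := hmul x
    rw [inv_mul_cancel, psi_fix_one hreg hg] at h1
    have h2 : psi hreg g x⁻¹ = (psi hreg h x)⁻¹ := eq_inv_of_mul_eq_one_left h1.symm
    rw [h2]; exact inv_mem (hx h hh)

/-- the translations preserving a subset of a finite group -/
def transStab [Finite C] (T : Set C) : Subgroup C where
  carrier := {x | ∀ t ∈ T, x * t ∈ T}
  mul_mem' := fun {a b} ha hb t ht => by rw [mul_assoc]; exact ha _ (hb t ht)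
  one_mem' := fun t ht => by rw [one_mul]; exact ht
  inv_mem' := fun {a} ha t ht => by
    have hpow : ∀ n : ℕ, ∀ t ∈ T, a ^ n * t ∈ T := by
      intro n
      induction n with
      | zero => intro t ht; simpa using ht
      | succ n ih => intro t ht; rw [pow_succ, mul_assoc]; exact ih _ (ha t ht)
    have h1 : a⁻¹ = a ^ (orderOf a - 1) := by
      apply inv_eq_of_mul_eq_one_right
      rw [← pow_succ', Nat.sub_add_cancel (orderOf_pos a), pow_orderOf_eq_one]
    rw [h1]; exact hpow _ t ht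

theorem mem_transStab [Finite C] {T : Set C} {x : C} :
    x ∈ transStab T ↔ ∀ t ∈ T, x * t ∈ T := Iff.rfl

theorem sInv_transStab [Finite C] (hreg : RegAt C ω₀) {T : Set C} (hT : SInv hreg T) :
    SInv hreg (transStab T : Set C) := by
  intro g hg x hx t ht
  obtain ⟨h, hh, hmul⟩ := psi_mul_right hreg g x
  have h1 := hmul (psi hreg h⁻¹ t)
  rw [psi_psi_inv] at h1
  rw [← h1]
  exact hT g hg _ (hx _ (hT h⁻¹ (inv_mem hh) t ht))

theorem smul_image_subset (hreg : RegAt C ω₀) {K : Subgroup C} (hK : SInv hreg (K : Set C))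
    (g : G) {a : Ω} (ha : a ∈ (fun c : C => (c : G) • ω₀) '' (K : Set C))
    (hga : g • a ∈ (fun c : C => (c : G) • ω₀) '' (K : Set C)) :
    g • ((fun c : C => (c : G) • ω₀) '' (K : Set C)) ⊆
      (fun c : C => (c : G) • ω₀) '' (K : Set C) := by
  obtain ⟨k₁, hk₁, rfl⟩ := ha
  obtain ⟨k₂, hk₂, hk₂'⟩ := hga
  rintro _ ⟨_, ⟨k, hk, rfl⟩, rfl⟩
  obtain ⟨h, hh, hmul⟩ := psi_mul_right hreg g k₁
  have h1 : psi hreg g k₁ = k₂ := psi_eq hreg hk₂'.symm
  refine ⟨psi hreg g k, ?_, psi_spec hreg g k⟩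
  have h2 := hmul (k₁⁻¹ * k)
  rw [mul_inv_cancel_left, h1] at h2
  rw [SetLike.mem_coe, h2]
  exact mul_mem hk₂ (hK h hh _ (mul_mem (inv_mem hk₁) hk))

/-- an invariant subgroup gives a block -/
theorem isBlock_image (hreg : RegAt C ω₀) {K : Subgroup C} (hK : SInv hreg (K : Set C)) :
    IsBlock G ((fun c : C => (c : G) • ω₀) '' (K : Set C)) := by
  rw [isBlock_iff_smul_eq_of_mem]
  intro g a ha hga
  apply Set.Subset.antisymm (smul_image_subset hreg hK g ha hga)
  have := smul_image_subset hreg hK g⁻¹ hga (by rwa [inv_smul_smul])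
  exact Set.subset_smul_set_iff.2 this

/-- in a primitive group the only invariant subgroups are the trivial ones -/
theorem eq_bot_or_eq_top_of_sInv (hreg : RegAt C ω₀) (hprim : IsPreprimitive G Ω)
    {K : Subgroup C} (hK : SInv hreg (K : Set C)) : K = ⊥ ∨ K = ⊤ := by
  rcases hprim.isTrivialBlock_of_isBlock (isBlock_image hreg hK) with h | h
  · left
    rw [eq_bot_iff]
    intro k hk
    have h1 : (k : G) • ω₀ = ((1 : C) : G) • ω₀ := h ⟨k, hk, rfl⟩ ⟨1, one_mem K, rfl⟩
    exact Subgroup.mem_bot.2 (hreg.1 h1)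
  · right
    rw [eq_top_iff]
    intro c _
    have h1 : (c : G) • ω₀ ∈ (fun c : C => (c : G) • ω₀) '' (K : Set C) := by
      rw [h]; exact Set.mem_univ _
    obtain ⟨k, hk, hkc⟩ := h1
    rw [← hreg.1 hkc]; exact hk

/-- a criterion for double transitivity -/
theorem two_pretransitive_of_psi (hreg : RegAt C ω₀) (htrans : IsPretransitive G Ω)
    (h : ∀ y y' : C, y ≠ 1 → y' ≠ 1 → ∃ g ∈ stabilizer G ω₀, psi hreg g y = y') :
    IsMultiplyPretransitive G Ω 2 := by
  rw [is_two_pretransitive_iff]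
  intro a b c d hab hcd
  obtain ⟨g₁, hg₁⟩ := exists_smul_eq G a ω₀
  obtain ⟨g₂, hg₂⟩ := exists_smul_eq G c ω₀
  obtain ⟨y, hy⟩ := hreg.2 (g₁ • b)
  obtain ⟨y', hy'⟩ := hreg.2 (g₂ • d)
  simp only at hy hy'
  have hy1 : y ≠ 1 := by
    rintro rfl
    apply hab
    have h1 : g₁ • b = g₁ • a := by rw [← hy, hg₁, Subgroup.coe_one, one_smul]
    exact (smul_left_cancel g₁ h1).symm
  have hy'1 : y' ≠ 1 := by
    rintro rfl
    apply hcd
    have h1 : g₂ • d = g₂ • c := by rw [← hy', hg₂, Subgroup.coe_one, one_smul]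
    exact (smul_left_cancel g₂ h1).symm
  obtain ⟨g, hg, hgy⟩ := h y y' hy1 hy'1
  refine ⟨g₂⁻¹ * g * g₁, ?_, ?_⟩
  · rw [mul_smul, mul_smul, hg₁, mem_stabilizer_iff.1 hg, ← hg₂, inv_smul_smul]
  · rw [mul_smul, mul_smul, ← hy, ← psi_spec hreg, hgy, hy', inv_smul_smul]

section Algebra

variable {R : Type*} [Semiring R]

/-- invariance of an element of the group algebra -/
def AInv (hreg : RegAt C ω₀) (f : MonoidAlgebra R C) : Prop :=
  ∀ g ∈ stabilizer G ω₀, ∀ c, f.coeff (psi hreg g c) = f.coeff c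

/-- Schur: the invariant elements are closed under multiplication -/
theorem AInv.mul [Fintype C] {hreg : RegAt C ω₀} {f₁ f₂ : MonoidAlgebra R C}
    (h₁ : AInv hreg f₁) (h₂ : AInv hreg f₂) : AInv hreg (f₁ * f₂) := by
  intro g hg y
  rw [MonoidAlgebra.coeff_mul_apply_left, MonoidAlgebra.coeff_mul_apply_left,
    Finsupp.sum_fintype _ _ (fun _ => zero_mul _), Finsupp.sum_fintype _ _ (fun _ => zero_mul _)]
  have h0 := Equiv.sum_comp (psiEquiv hreg g)
    (fun z => f₁.coeff z * f₂.coeff (z⁻¹ * psi hreg g y))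
  rw [← h0]
  apply Finset.sum_congr rfl
  intro w _
  change f₁.coeff (psi hreg g w) * f₂.coeff ((psi hreg g w)⁻¹ * psi hreg g y) = _
  obtain ⟨h, hh, hmul⟩ := psi_mul_right hreg g w
  have h1 := hmul (w⁻¹ * y)
  rw [mul_inv_cancel_left] at h1
  rw [h₁ g hg w, h1, inv_mul_cancel_left, h₂ h hh]

theorem AInv.one (hreg : RegAt C ω₀) : AInv hreg (1 : MonoidAlgebra R C) := by
  intro g hg c
  classical
  rw [MonoidAlgebra.one_def, MonoidAlgebra.coeff_single, Finsupp.single_apply, Finsupp.single_apply]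
  have h0 : (1 = psi hreg g c) ↔ (1 = c) := by
    rw [eq_comm, psi_eq_one_iff hreg hg, eq_comm]
  simp only [h0]

theorem AInv.pow [Fintype C] {hreg : RegAt C ω₀} {f : MonoidAlgebra R C} (h : AInv hreg f)
    (n : ℕ) : AInv hreg (f ^ n) := by
  induction n with
  | zero => rw [pow_zero]; exact AInv.one hreg
  | succ n ih => rw [pow_succ]; exact ih.mul h

theorem coeff_sum_single [DecidableEq C] (T : Finset C) (φ : C → C) (c : C) :
    (∑ t ∈ T, MonoidAlgebra.single (φ t) (1 : R)).coeff c =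
      ((T.filter (fun t => φ t = c)).card : R) := by
  rw [MonoidAlgebra.coeff_sum, Finsupp.finsetSum_apply]
  simp only [MonoidAlgebra.coeff_single, Finsupp.single_apply]
  rw [Finset.sum_boole]

theorem aInv_indicator [DecidableEq C] (hreg : RegAt C ω₀) (T : Finset C)
    (hT : SInv hreg (T : Set C)) : AInv hreg (∑ t ∈ T, MonoidAlgebra.single t (1 : R)) := by
  intro g hg c
  have key : ∀ c : C, (∑ t ∈ T, MonoidAlgebra.single t (1 : R)).coeff c =
      if c ∈ T then 1 else 0 := by
    intro c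
    rw [MonoidAlgebra.coeff_sum, Finsupp.finsetSum_apply]
    simp only [MonoidAlgebra.coeff_single, Finsupp.single_apply]
    rw [Finset.sum_ite_eq']
  rw [key, key]
  have h0 := hT.mem_iff hg c
  simp only [Finset.mem_coe] at h0
  simp only [h0]

end Algebra

theorem sum_pow_char_comm {A ι : Type*} [Semiring A] (p : ℕ) [Fact p.Prime] [CharP A p]
    [DecidableEq ι] (T : Finset ι) (f : ι → A) (hc : ∀ i j, Commute (f i) (f j)) :
    (∑ i ∈ T, f i) ^ p = ∑ i ∈ T, f i ^ p := by
  induction T using Finset.induction_on with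
  | empty => simp [zero_pow (Fact.out : p.Prime).ne_zero]
  | insert a s ha ih =>
    rw [Finset.sum_insert ha, Finset.sum_insert ha,
      add_pow_char_of_commute _ (Commute.sum_right _ _ _ (fun j _ => hc a j)), ih]

/-- Schur: for an invariant set `T` of a commutative regular subgroup and a prime `p`, the
number of solutions `t ∈ T` of `t ^ p = y` is, modulo `p`, invariant. -/
theorem count_zmod [Fintype C] [DecidableEq C] (hreg : RegAt C ω₀)
    (hcomm : ∀ a b : C, a * b = b * a) (p : ℕ) [Fact p.Prime] (T : Finset C)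
    (hT : SInv hreg (T : Set C)) {g : G} (hg : g ∈ stabilizer G ω₀) (y : C) :
    (((T.filter (fun t => t ^ p = psi hreg g y)).card : ℕ) : ZMod p) =
      ((T.filter (fun t => t ^ p = y)).card : ZMod p) := by
  haveI : CharP (MonoidAlgebra (ZMod p) C) p :=
    charP_of_injective_ringHom (f := (MonoidAlgebra.singleOneRingHom : ZMod p →+* _))
      MonoidAlgebra.single_right_injective p
  have hfrob : (∑ t ∈ T, MonoidAlgebra.single t (1 : ZMod p)) ^ p =
      ∑ t ∈ T, MonoidAlgebra.single (t ^ p) (1 : ZMod p) := by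
    rw [sum_pow_char_comm p T _ (fun i j =>
      MonoidAlgebra.single_commute_single (hcomm i j) (Commute.one_left _))]
    apply Finset.sum_congr rfl
    intro t _
    rw [MonoidAlgebra.single_pow, one_pow]
  have hinv := (aInv_indicator (R := ZMod p) hreg T hT).pow p
  rw [hfrob] at hinv
  have h0 := hinv g hg y
  rwa [coeff_sum_single, coeff_sum_single] at h0

end SchurRing

end Cfsg.Agent.Lib.helper63
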