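import Mathlib
import Cfsg.Agent.Lib.helper24.SffDefs
import Cfsg.Agent.Lib.helper7.SffC3A
import Cfsg.Agent.Lib.helper18.SffC3B
import Cfsg.Agent.Lib.helper32.SffCRIT
import Cfsg.Agent.Lib.helper99.SubfD
import Cfsg.Agent.Lib.helper63.Elusive4

/-!
# S5965, piece N3 (racing copy by helper63): the case `r ∤ q - 1`
-/

set_option autoImplicit false

namespace Cfsg.Agent.Lib.helper24

open Module Matrix

/-- entries of powers of a matrix over a subfield stay in the subfield -/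
theorem helper63_pow_mem_subfield {F : Type*} [Field F] (F₀ : Subfield F) {n : ℕ}
    (M₀ : Matrix (Fin n) (Fin n) F) (hM₀ : ∀ i j, M₀ i j ∈ F₀) (k : ℕ) :
    ∀ i j, (M₀ ^ k) i j ∈ F₀ := by
  induction k with
  | zero =>
    intro i j
    rw [pow_zero, Matrix.one_apply]
    split_ifs
    · exact F₀.one_mem
    · exact F₀.zero_mem
  | succ k ih =>
    intro i j
    rw [pow_succ, Matrix.mul_apply]
    exact F₀.sum_mem (fun l _ => F₀.mul_mem (ih i l) (hM₀ l j))

/-- N3 (racing copy) -/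
theorem helper63_sff_nec_nodvd {F : Type*} [Field F] [Fintype F] (F₀ : Subfield F) {n : ℕ} (r : ℕ)
    [Fact r.Prime] (hrF : (r : F) ≠ 0) (hnd : ¬ r ∣ Fintype.card F - 1) (j : ℕ) (hj : j ≤ n)
    (hj1 : r ∣ (Fintype.card F) ^ j - 1) (hj2 : ¬ r ∣ (Nat.card F₀) ^ j - 1) :
    SffDerang F₀ r n := by
  classical
  have hr : r.Prime := Fact.out
  set q := Fintype.card F with hq
  set i := orderOf ((q : ℕ) : ZMod r) with hi
  -- j ≠ 0
  have hj0 : j ≠ 0 := by
    rintro rfl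
    exact hj2 (by simp)
  -- q ^ j = 1 in ZMod r
  have hqpos : 1 ≤ q ^ j := Nat.one_le_pow _ _ Fintype.card_pos
  have hqj : ((q : ℕ) : ZMod r) ^ j = 1 := by
    have h0 : ((q ^ j - 1 : ℕ) : ZMod r) = 0 := (ZMod.natCast_eq_zero_iff _ _).mpr hj1
    have h1 : ((q ^ j : ℕ) : ZMod r) = ((q ^ j - 1 : ℕ) : ZMod r) + 1 := by
      rw [← Nat.cast_one (R := ZMod r), ← Nat.cast_add, Nat.sub_add_cancel hqpos]
    rw [← Nat.cast_pow, h1, h0, zero_add]
  have hij : i ∣ j := orderOf_dvd_of_pow_eq_one hqj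
  have hi0 : i ≠ 0 := by
    intro h0
    rw [h0] at hij
    exact hj0 (Nat.eq_zero_of_zero_dvd hij)
  have hile : i ≤ n := le_trans (Nat.le_of_dvd (Nat.pos_of_ne_zero hj0) hij) hj
  -- the element from C3B
  obtain ⟨y, hyr, hyk⟩ := sff_exists_fix (F := F) (n := n) r hrF hile
  have hone : ∀ d : F, d ^ r = 1 → d = 1 :=
    fun d hd => Cfsg.Agent.Lib.helper63.Elusive.eq_one_of_pow_eq_one r hnd d hd
  have hn0 : 0 < n := lt_of_lt_of_le (Nat.pos_of_ne_zero hi0) hile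
  refine ⟨y, ?_, ⟨1, by rw [hyr, one_smul]⟩, ?_, ?_⟩
  · -- det y = 1
    apply hone
    rw [← Matrix.det_pow, hyr, Matrix.det_one]
  · -- y is not scalar
    intro z hz
    have hz1 : z = 1 := by
      apply hone
      have h1 : y ^ r = (z ^ r) • (1 : Matrix (Fin n) (Fin n) F) := by
        rw [hz, smul_pow, one_pow]
      rw [hyr] at h1
      have h2 := congrFun (congrFun h1 ⟨0, hn0⟩) ⟨0, hn0⟩
      simp at h2
      exact h2.symm
    rw [hz1, one_smul] at hz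
    rw [hz] at hyk
    have h3 : LinearMap.ker (Matrix.toLin' (1 : Matrix (Fin n) (Fin n) F) - 1) = ⊤ := by
      rw [Matrix.toLin'_one]
      ext v
      simp
    rw [h3, finrank_top, Module.finrank_fin_fun] at hyk
    have hyk' : n = n - i := hyk
    omega
  · -- y is not weakly conjugate into the subfield group
    rintro ⟨P, M₀, σ, hP, hσ, hM₀, hx⟩
    have hPu : IsUnit P.det := isUnit_iff_ne_zero.mpr hP
    set M : Matrix (Fin n) (Fin n) F := σ • M₀ with hM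
    -- P * M ^ k = y ^ k * P
    have hpow : ∀ k : ℕ, P * M ^ k = y ^ k * P := by
      intro k
      induction k with
      | zero => simp
      | succ k ih =>
        rw [pow_succ, ← mul_assoc, ih, mul_assoc, ← hx, ← mul_assoc, ← pow_succ]
    have hMr : M ^ r = 1 := by
      have h1 := hpow r
      rw [hyr, one_mul] at h1
      calc M ^ r = (P⁻¹ * P) * M ^ r := by rw [Matrix.nonsing_inv_mul P hPu, one_mul]
        _ = P⁻¹ * (P * M ^ r) := by rw [mul_assoc]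
        _ = P⁻¹ * P := by rw [h1]
        _ = 1 := Matrix.nonsing_inv_mul P hPu
    -- M₀ ^ r = σ⁻¹ ^ r • 1
    have hM₀r : M₀ ^ r = (σ⁻¹ ^ r) • (1 : Matrix (Fin n) (Fin n) F) := by
      have h1 : M₀ = σ⁻¹ • M := by
        rw [hM, smul_smul, inv_mul_cancel₀ hσ, one_smul]
      rw [h1, smul_pow, hMr]
    -- σ⁻¹ ^ r ∈ F₀
    have hs : σ⁻¹ ^ r ∈ F₀ := by
      have h1 := helper63_pow_mem_subfield F₀ M₀ hM₀ r ⟨0, hn0⟩ ⟨0, hn0⟩
      rw [hM₀r] at h1
      simpa using h1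
    -- σ ∈ F₀
    have hq0 : 2 ≤ Nat.card F₀ := Cfsg.Agent.Lib.helper99.Subf.two_le_card_subfield F₀
    have hs' : (σ⁻¹ ^ r) ^ Nat.card F₀ = σ⁻¹ ^ r :=
      Cfsg.Agent.Lib.helper99.Subf.pow_card_subfield F₀ _ hs
    have hσi : σ⁻¹ ≠ 0 := inv_ne_zero hσ
    have h2 : (σ⁻¹ ^ (Nat.card F₀ - 1)) ^ r = 1 := by
      have h3 : (σ⁻¹ ^ r) ^ (Nat.card F₀ - 1) * σ⁻¹ ^ r = σ⁻¹ ^ r := by
        rw [← pow_succ, Nat.sub_add_cancel (by omega), hs']
      have h4 : (σ⁻¹ ^ r) ^ (Nat.card F₀ - 1) = 1 := by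
        have h5 : σ⁻¹ ^ r ≠ 0 := pow_ne_zero _ hσi
        exact mul_right_cancel₀ h5 (by rw [h3, one_mul])
      rw [← pow_mul, mul_comm, pow_mul]
      exact h4
    have h3 : σ⁻¹ ^ (Nat.card F₀ - 1) = 1 := hone _ h2
    have hσi_mem : σ⁻¹ ∈ F₀ := by
      apply Cfsg.Agent.Lib.helper99.Subf.mem_subfield_of_pow
      calc σ⁻¹ ^ Nat.card F₀ = σ⁻¹ ^ (Nat.card F₀ - 1) * σ⁻¹ := by
            rw [← pow_succ, Nat.sub_add_cancel (by omega)]
        _ = σ⁻¹ := by rw [h3, one_mul]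
    have hσ_mem : σ ∈ F₀ := by
      have := F₀.inv_mem hσi_mem
      rwa [inv_inv] at this
    -- M has entries in F₀
    have hMF : ∀ a b, M a b ∈ F₀ := by
      intro a b
      rw [hM, Matrix.smul_apply, smul_eq_mul]
      exact F₀.mul_mem hσ_mem (hM₀ a b)
    have hdvd := sff_fix_dvd F₀ r hrF M hMF hMr
    -- the fixed spaces of y and M have the same dimension
    have hker := h32_finrank_ker_conj y P M hP hx 1
    rw [one_smul] at hker
    rw [← hker, hyk, Nat.sub_sub_self hile] at hdvd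
    -- r ∣ q₀ ^ i - 1 ∣ q₀ ^ j - 1
    apply hj2
    exact dvd_trans hdvd (Nat.pow_sub_one_dvd_pow_sub_one (Nat.card F₀) hij)

end Cfsg.Agent.Lib.helper24
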