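import Mathlib
import Cfsg.Agent.Lib.helper17.SympStab
import Cfsg.Agent.Lib.helper63.Elusive1

/-! Counting totally isotropic subspaces of a non-degenerate alternating space over a finite
field. -/

set_option autoImplicit false

namespace Cfsg.Agent.Lib.helper63.SpTI

open Module Cfsg Cfsg.Agent.Lib.helper17

section Count

variable {F V : Type*} [Field F] [AddCommGroup V] [Module F V]

theorem span_ti (B : V →ₗ[F] V →ₗ[F] F) {ι : Type*} (x : ι → V)
    (hx : ∀ i j, B (x i) (x j) = 0) :
    ∀ u ∈ Submodule.span F (Set.range x), ∀ v ∈ Submodule.span F (Set.range x), B u v = 0 := by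
  intro u hu v hv
  induction hu using Submodule.span_induction with
  | mem u hu =>
    obtain ⟨i, rfl⟩ := hu
    induction hv using Submodule.span_induction with
    | mem v hv =>
      obtain ⟨j, rfl⟩ := hv
      exact hx i j
    | zero => simp
    | add a b _ _ ha hb => rw [map_add, ha, hb, add_zero]
    | smul c a _ ha => rw [map_smul, ha, smul_zero]
  | zero => simp
  | add a b _ _ ha hb => rw [map_add, LinearMap.add_apply, ha, hb, add_zero]
  | smul c a _ ha => rw [map_smul, LinearMap.smul_apply, ha, smul_zero]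

variable [Fintype F] [Finite V]

/-- Counting isotropic frames through their spans. -/
theorem card_ti_mul (B : V →ₗ[F] V →ₗ[F] F) (halt : ∀ v, B v v = 0) (hB : B.Nondegenerate)
    (m : ℕ) :
    Nat.card {W : Submodule F V // finrank F W = m ∧ ∀ u ∈ W, ∀ v ∈ W, B u v = 0} *
        ∏ i : Fin m, (Fintype.card F ^ m - Fintype.card F ^ (i : ℕ))
      = ∏ i ∈ Finset.range m, (Fintype.card F ^ (finrank F V - i) - Fintype.card F ^ i) := by
  classical
  rw [← card_isoFrame B halt hB m]
  let φ : IsoFrame B m →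
      {W : Submodule F V // finrank F W = m ∧ ∀ u ∈ W, ∀ v ∈ W, B u v = 0} :=
    fun s => ⟨Submodule.span F (Set.range s.1),
      by rw [finrank_span_eq_card s.2.1, Fintype.card_fin], span_ti B s.1 s.2.2⟩
  have : Fintype {W : Submodule F V // finrank F W = m ∧ ∀ u ∈ W, ∀ v ∈ W, B u v = 0} :=
    Fintype.ofFinite _
  have : Finite (IsoFrame B m) := by
    unfold IsoFrame
    infer_instance
  rw [Nat.card_congr (Equiv.sigmaFiberEquiv φ).symm, Nat.card_sigma]
  have key : ∀ W : {W : Submodule F V // finrank F W = m ∧ ∀ u ∈ W, ∀ v ∈ W, B u v = 0},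
      Nat.card {s : IsoFrame B m // φ s = W} =
        ∏ i : Fin m, (Fintype.card F ^ m - Fintype.card F ^ (i : ℕ)) := by
    intro W
    have h1 : Nat.card {s : IsoFrame B m // φ s = W} =
        Nat.card {s : Fin m → V //
          LinearIndependent F s ∧ Submodule.span F (Set.range s) = W.1} := by
      apply Nat.card_congr
      refine ⟨fun s => ⟨s.1.1, s.1.2.1, ?_⟩, fun s => ⟨⟨s.1, s.2.1, ?_⟩, ?_⟩, ?_, ?_⟩
      · exact congrArg Subtype.val s.2
      · intro i j
        have hmem : ∀ i, s.1 i ∈ W.1 := by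
          intro i
          have h := Submodule.subset_span (R := F) (Set.mem_range_self (f := s.1) i)
          rw [s.2.2] at h
          exact h
        exact W.2.2 _ (hmem i) _ (hmem j)
      · exact Subtype.ext s.2.2
      · intro s; rfl
      · intro s; rfl
    rw [h1, Cfsg.Agent.Lib.helper63.Elusive.card_fiber m W.1 W.2.1,
      card_linearIndependent (K := F) (V := W.1) (le_of_eq W.2.1.symm), W.2.1]
  simp only [key, Finset.sum_const, Finset.card_univ, smul_eq_mul]
  rw [Nat.card_eq_fintype_card]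

/-- The reduced form of the count. -/
theorem card_ti_mul' (B : V →ₗ[F] V →ₗ[F] F) (halt : ∀ v, B v v = 0) (hB : B.Nondegenerate)
    (m : ℕ) (hm : 2 * m ≤ finrank F V) :
    Nat.card {W : Submodule F V // finrank F W = m ∧ ∀ u ∈ W, ∀ v ∈ W, B u v = 0} *
        ∏ i ∈ Finset.range m, (Fintype.card F ^ (m - i) - 1)
      = ∏ i ∈ Finset.range m, (Fintype.card F ^ (finrank F V - 2 * i) - 1) := by
  have h1 := card_ti_mul B halt hB m
  rw [Fin.prod_univ_eq_prod_range (fun i => Fintype.card F ^ m - Fintype.card F ^ i) m] at h1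
  have hq : 0 < Fintype.card F := Fintype.card_pos
  have e1 : ∏ i ∈ Finset.range m, (Fintype.card F ^ m - Fintype.card F ^ i)
      = (∏ i ∈ Finset.range m, Fintype.card F ^ i) *
        ∏ i ∈ Finset.range m, (Fintype.card F ^ (m - i) - 1) := by
    rw [← Finset.prod_mul_distrib]
    apply Finset.prod_congr rfl
    intro i hi
    have hi' : i ≤ m := le_of_lt (Finset.mem_range.mp hi)
    rw [Nat.mul_sub, mul_one, ← pow_add, Nat.add_sub_cancel' hi']
  have e2 : ∏ i ∈ Finset.range m, (Fintype.card F ^ (finrank F V - i) - Fintype.card F ^ i)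
      = (∏ i ∈ Finset.range m, Fintype.card F ^ i) *
        ∏ i ∈ Finset.range m, (Fintype.card F ^ (finrank F V - 2 * i) - 1) := by
    rw [← Finset.prod_mul_distrib]
    apply Finset.prod_congr rfl
    intro i hi
    have hi' : i < m := Finset.mem_range.mp hi
    rw [Nat.mul_sub, mul_one, ← pow_add]
    congr 2
    omega
  rw [e1, e2] at h1
  have hpos : 0 < ∏ i ∈ Finset.range m, Fintype.card F ^ i :=
    Finset.prod_pos (fun i _ => pow_pos hq _)
  apply Nat.eq_of_mul_eq_mul_left hpos
  rw [← h1]; ring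

/-- A prime dividing the number of totally isotropic `m`-spaces divides some `q^(n-2j) - 1`. -/
theorem exists_dvd_of_dvd_card_ti (B : V →ₗ[F] V →ₗ[F] F) (halt : ∀ v, B v v = 0)
    (hB : B.Nondegenerate) (m : ℕ) (hm : 2 * m ≤ finrank F V) (r : ℕ) (hr : r.Prime)
    (h : r ∣ Nat.card {W : Submodule F V // finrank F W = m ∧ ∀ u ∈ W, ∀ v ∈ W, B u v = 0}) :
    ∃ j, j < m ∧ r ∣ Fintype.card F ^ (finrank F V - 2 * j) - 1 := by
  have h1 := card_ti_mul' B halt hB m hm
  have h3 : r ∣ ∏ i ∈ Finset.range m, (Fintype.card F ^ (finrank F V - 2 * i) - 1) := by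
    rw [← h1]; exact Dvd.dvd.mul_right h _
  obtain ⟨i, hi, hid⟩ := (Prime.dvd_finsetProd_iff hr.prime _).mp h3
  exact ⟨i, Finset.mem_range.mp hi, hid⟩

/-- The characteristic does not divide the number of totally isotropic `m`-spaces. -/
theorem not_dvd_card_ti {p : ℕ} [Fact p.Prime] [CharP F p] (B : V →ₗ[F] V →ₗ[F] F)
    (halt : ∀ v, B v v = 0) (hB : B.Nondegenerate) (m : ℕ) (hm : 2 * m ≤ finrank F V) :
    ¬ p ∣ Nat.card {W : Submodule F V // finrank F W = m ∧ ∀ u ∈ W, ∀ v ∈ W, B u v = 0} := by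
  intro h
  have hp : p.Prime := Fact.out
  obtain ⟨j, hj, hjd⟩ := exists_dvd_of_dvd_card_ti B halt hB m hm p hp h
  obtain ⟨f', hf', hF⟩ := FiniteField.card F p
  have he : 1 ≤ finrank F V - 2 * j := by omega
  have h2 : p ∣ Fintype.card F ^ (finrank F V - 2 * j) := by
    rw [hF]
    apply dvd_pow (dvd_pow_self p (by
      have : 0 < (f' : ℕ) := f'.pos
      omega)) (by omega)
  have h3 : 1 ≤ Fintype.card F ^ (finrank F V - 2 * j) := Nat.one_le_pow _ _ Fintype.card_pos
  have h4 : p ∣ 1 := by
    have := Nat.dvd_sub h2 hjd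
    rwa [Nat.sub_sub_self h3] at this
  exact hp.one_lt.ne' (Nat.dvd_one.mp h4)

end Count

end Cfsg.Agent.Lib.helper63.SpTI
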