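import Mathlib
import Cfsg.Agent.Lib.helper63.SuTI10

/-! Existence of a cyclotomic factor. -/

set_option autoImplicit false

namespace Cfsg.Agent.Lib.helper63.SuTI

open Module Cfsg Polynomial Cfsg.Agent.Lib.helper17 Cfsg.Agent.Lib.helper45
  Cfsg.Agent.Lib.helper48

section NE

variable {F : Type*} [Field F] [Fintype F] (p : ℕ) [Fact p.Prime] [CharP F p] {r : ℕ}
  [Fact r.Prime] (hrp : r ≠ p)

include hrp in
theorem exists_mem_cycFactors : ∃ P : F[X], P ∈ cycFactors r F := by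
  have hr : r.Prime := Fact.out
  have hqne : ((Fintype.card F : ℕ) : ZMod r) ≠ 0 := by
    intro h0
    have h1 := (ZMod.natCast_eq_zero_iff _ _).mp h0
    exact (Nat.Prime.coprime_iff_not_dvd hr).mp (card_field_coprime p hrp).symm h1
  have hir : orderOf ((Fintype.card F : ℕ) : ZMod r) ∣ r - 1 :=
    orderOf_dvd_of_pow_eq_one (ZMod.pow_card_sub_one_eq_one hqne)
  have hipos := Cfsg.Agent.Lib.helper63.SpTI.orderOf_card_pos (F := F) p hrp
  have hcardT := card_cycFactors (K := F) p hrp (r := r)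
  have ht1 : 1 ≤ (r - 1) / orderOf ((Fintype.card F : ℕ) : ZMod r) :=
    Nat.div_pos (Nat.le_of_dvd (by have := hr.two_le; omega) hir) hipos
  rw [← hcardT] at ht1
  obtain ⟨⟨P, hP⟩⟩ := (Nat.card_pos_iff.mp ht1).1
  exact ⟨P, hP⟩

end NE

end Cfsg.Agent.Lib.helper63.SuTI
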