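import Mathlib
import Cfsg.Agent.Lib.helper63.SuTI11

/-! Nondegenerate subspaces of the standard Hermitian space: basic toolkit. -/

set_option autoImplicit false

namespace Cfsg.Agent.Lib.helper63.SuND

open Module Cfsg Cfsg.Agent.Lib.helper17 Cfsg.Agent.Lib.helper45 Cfsg.Agent.Lib.helper48

section Lin

variable {F : Type*} [Field F] {V V₂ : Type*} [AddCommGroup V] [Module F V] [AddCommGroup V₂]
  [Module F V₂]

theorem finrank_map_add' [FiniteDimensional F V] (f : V →ₗ[F] V₂) (A : Submodule F V) :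
    finrank F ↥(A.map f) + finrank F ↥(A ⊓ LinearMap.ker f) = finrank F ↥A := by
  have h := LinearMap.finrank_range_add_finrank_ker (f.domRestrict A)
  rw [LinearMap.range_domRestrict, LinearMap.ker_domRestrict] at h
  have e : finrank F ↥((LinearMap.ker f).comap A.subtype)
      = finrank F ↥(A ⊓ LinearMap.ker f) := by
    have h1 : (LinearMap.ker f).comap A.subtype = (A ⊓ LinearMap.ker f).comap A.subtype := by
      rw [Submodule.comap_inf, Submodule.comap_subtype_self, top_inf_eq]
    rw [h1]
    exact LinearEquiv.finrank_eq (Submodule.comapSubtypeEquivOfLe inf_le_left)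
  rw [← e]
  exact h

end Lin

section Form

variable {F : Type*} [Field F] {q : ℕ} (n : ℕ)

theorem herm_add_left (u u' v : Fin n → F) :
    hermForm n F q (u + u') v = hermForm n F q u v + hermForm n F q u' v := by
  unfold hermForm
  rw [← Finset.sum_add_distrib]
  apply Finset.sum_congr rfl
  intro i _
  rw [Pi.add_apply, add_mul]

theorem herm_smul_left (c : F) (u v : Fin n → F) :
    hermForm n F q (c • u) v = c * hermForm n F q u v := by
  unfold hermForm
  rw [Finset.mul_sum]
  apply Finset.sum_congr rfl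
  intro i _
  rw [Pi.smul_apply, smul_eq_mul, mul_assoc]

theorem herm_zero_left (v : Fin n → F) : hermForm n F q 0 v = 0 := by
  unfold hermForm
  simp

/-- the form as a linear map in the first variable -/
def hermL (n : ℕ) (F : Type*) [Field F] (q : ℕ) (v : Fin n → F) : (Fin n → F) →ₗ[F] F where
  toFun u := hermForm n F q u v
  map_add' u u' := herm_add_left n u u' v
  map_smul' c u := herm_smul_left n c u v

theorem hermL_apply (u v : Fin n → F) : hermL n F q v u = hermForm n F q u v := rfl

theorem herm_sub_left (u u' v : Fin n → F) :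
    hermForm n F q (u - u') v = hermForm n F q u v - hermForm n F q u' v := by
  rw [← hermL_apply, map_sub]; rfl

theorem herm_neg_left (u v : Fin n → F) :
    hermForm n F q (-u) v = -hermForm n F q u v := by
  rw [← hermL_apply, map_neg]; rfl

theorem herm_sum_left {ι : Type*} (s : Finset ι) (f : ι → Fin n → F) (v : Fin n → F) :
    hermForm n F q (∑ j ∈ s, f j) v = ∑ j ∈ s, hermForm n F q (f j) v := by
  rw [← hermL_apply, map_sum]; rfl

variable (σ : F →+* F) (hσ : ∀ x, σ x = x ^ q)

include hσ in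
theorem herm_eq (u v : Fin n → F) : hermForm n F q u v = ∑ i, u i * σ (v i) := by
  unfold hermForm
  apply Finset.sum_congr rfl
  intro i _
  rw [hσ]

include hσ in
theorem herm_add_right (u v v' : Fin n → F) :
    hermForm n F q u (v + v') = hermForm n F q u v + hermForm n F q u v' := by
  rw [herm_eq n σ hσ, herm_eq n σ hσ, herm_eq n σ hσ, ← Finset.sum_add_distrib]
  apply Finset.sum_congr rfl
  intro i _
  rw [Pi.add_apply, map_add, mul_add]

include hσ in
theorem herm_smul_right (c : F) (u v : Fin n → F) :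
    hermForm n F q u (c • v) = σ c * hermForm n F q u v := by
  rw [herm_eq n σ hσ, herm_eq n σ hσ, Finset.mul_sum]
  apply Finset.sum_congr rfl
  intro i _
  rw [Pi.smul_apply, smul_eq_mul, map_mul]
  ring

include hσ in
theorem herm_zero_right (u : Fin n → F) : hermForm n F q u 0 = 0 := by
  rw [herm_eq n σ hσ]
  simp

include hσ in
theorem herm_neg_right (u v : Fin n → F) :
    hermForm n F q u (-v) = -hermForm n F q u v := by
  have h := herm_smul_right n σ hσ (-1) u v
  rw [neg_one_smul, map_neg, map_one, neg_one_mul] at h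
  exact h

include hσ in
theorem herm_sub_right (u v v' : Fin n → F) :
    hermForm n F q u (v - v') = hermForm n F q u v - hermForm n F q u v' := by
  rw [sub_eq_add_neg, herm_add_right n σ hσ, herm_neg_right n σ hσ, sub_eq_add_neg]

include hσ in
theorem herm_sum_right {ι : Type*} (s : Finset ι) (c : ι → F) (f : ι → Fin n → F)
    (u : Fin n → F) :
    hermForm n F q u (∑ j ∈ s, c j • f j) = ∑ j ∈ s, σ (c j) * hermForm n F q u (f j) := by
  classical
  induction s using Finset.induction_on with
  | empty => simp [herm_zero_right n σ hσ]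
  | insert a s ha ih =>
    rw [Finset.sum_insert ha, Finset.sum_insert ha, herm_add_right n σ hσ,
      herm_smul_right n σ hσ, ih]

include hσ in
theorem herm_symm (hσ2 : ∀ x, σ (σ x) = x) (u v : Fin n → F) :
    hermForm n F q v u = σ (hermForm n F q u v) := by
  rw [herm_eq n σ hσ, herm_eq n σ hσ, map_sum]
  apply Finset.sum_congr rfl
  intro i _
  rw [map_mul, hσ2, mul_comm]

end Form

section Perp

variable {F : Type*} [Field F] {q : ℕ} (n : ℕ)

/-- the orthogonal complement -/
def hperp (n : ℕ) (F : Type*) [Field F] (q : ℕ) (W : Submodule F (Fin n → F)) :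
    Submodule F (Fin n → F) where
  carrier := {v | ∀ w ∈ W, hermForm n F q v w = 0}
  add_mem' := by
    intro a b ha hb w hw
    rw [herm_add_left, ha w hw, hb w hw, add_zero]
  zero_mem' := by
    intro w _
    exact herm_zero_left n w
  smul_mem' := by
    intro c a ha w hw
    rw [herm_smul_left, ha w hw, mul_zero]

theorem mem_hperp (W : Submodule F (Fin n → F)) (v : Fin n → F) :
    v ∈ hperp n F q W ↔ ∀ w ∈ W, hermForm n F q v w = 0 := Iff.rfl

/-- nondegenerate subspaces -/
def Nd (n : ℕ) (F : Type*) [Field F] (q : ℕ) (W : Submodule F (Fin n → F)) : Prop :=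
  ∀ u ∈ W, u ≠ 0 → ∃ v ∈ W, hermForm n F q u v ≠ 0

theorem nd_inf_hperp (W : Submodule F (Fin n → F)) (hW : Nd n F q W) :
    W ⊓ hperp n F q W = ⊥ := by
  rw [eq_bot_iff]
  rintro u ⟨hu1, hu2⟩
  rw [Submodule.mem_bot]
  by_contra hne
  obtain ⟨v, hv, hv2⟩ := hW u hu1 hne
  exact hv2 (hu2 v hv)

variable (σ : F →+* F) (hσ : ∀ x, σ x = x ^ q)

include hσ in
theorem nd_top : Nd n F q ⊤ := by
  classical
  intro u _ hu
  obtain ⟨i, hi⟩ : ∃ i, u i ≠ 0 := by
    by_contra hcon
    push Not at hcon
    exact hu (funext hcon)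
  refine ⟨Pi.single i 1, Submodule.mem_top, ?_⟩
  rw [herm_eq n σ hσ, Finset.sum_eq_single i]
  · simp [hi]
  · intro j _ hj
    simp [hj]
  · intro h; exact absurd (Finset.mem_univ _) h

include hσ in
theorem finrank_inf_hperp_ge (C W : Submodule F (Fin n → F)) :
    finrank F ↥W ≤ finrank F ↥(W ⊓ hperp n F q C) + finrank F ↥C := by
  classical
  obtain ⟨b, -⟩ : ∃ b : Basis (Fin (finrank F C)) F C, b = Module.finBasis F C := ⟨_, rfl⟩
  obtain ⟨Ψ, hΨ⟩ : ∃ Ψ : (Fin n → F) →ₗ[F] (Fin (finrank F C) → F),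
      Ψ = LinearMap.pi (fun j => hermL n F q ((b j : C) : Fin n → F)) := ⟨_, rfl⟩
  have hker : LinearMap.ker Ψ = hperp n F q C := by
    ext v
    rw [LinearMap.mem_ker, mem_hperp, hΨ]
    constructor
    · intro h w hw
      have h1 : ∀ j, hermForm n F q v ((b j : C) : Fin n → F) = 0 := by
        intro j
        have := congrFun h j
        exact this
      have h2 : w = ∑ j, (b.repr ⟨w, hw⟩ j) • ((b j : C) : Fin n → F) := by
        have h3 := b.sum_repr ⟨w, hw⟩
        have h4 := congrArg (Submodule.subtype C) h3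
        rw [map_sum] at h4
        simp only [map_smul, Submodule.subtype_apply] at h4
        exact h4.symm
      rw [h2, herm_sum_right n σ hσ]
      apply Finset.sum_eq_zero
      intro j _
      rw [h1 j, mul_zero]
    · intro h
      funext j
      exact h _ (b j).2
  have h1 := finrank_map_add' Ψ W
  rw [hker] at h1
  have h2 : finrank F ↥(W.map Ψ) ≤ finrank F ↥C := by
    have := Submodule.finrank_le (W.map Ψ)
    rw [Module.finrank_fin_fun] at this
    exact this
  omega

include hσ in
theorem nd_compl (C W : Submodule F (Fin n → F)) (hCW : C ≤ W) (hC : Nd n F q C) :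
    C ⊔ (W ⊓ hperp n F q C) = W ∧ C ⊓ (W ⊓ hperp n F q C) = ⊥ ∧
      finrank F ↥(W ⊓ hperp n F q C) + finrank F ↥C = finrank F ↥W := by
  have hdisj : C ⊓ (W ⊓ hperp n F q C) = ⊥ := by
    rw [eq_bot_iff, ← nd_inf_hperp n C hC]
    exact le_inf inf_le_left (inf_le_right.trans inf_le_right)
  have h1 := Submodule.finrank_sup_add_finrank_inf_eq C (W ⊓ hperp n F q C)
  rw [hdisj, finrank_bot, add_zero] at h1
  have h2 := finrank_inf_hperp_ge n σ hσ C W
  have hle : C ⊔ (W ⊓ hperp n F q C) ≤ W := sup_le hCW inf_le_left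
  have heq : C ⊔ (W ⊓ hperp n F q C) = W :=
    Submodule.eq_of_le_of_finrank_le hle (by omega)
  refine ⟨heq, hdisj, ?_⟩
  rw [heq] at h1
  omega

include hσ in
theorem nd_inf_hperp_nd (C W : Submodule F (Fin n → F)) (hCW : C ≤ W) (hC : Nd n F q C)
    (hW : Nd n F q W) : Nd n F q (W ⊓ hperp n F q C) := by
  intro u hu hu0
  obtain ⟨v, hv, hv2⟩ := hW u hu.1 hu0
  obtain ⟨h1, -, -⟩ := nd_compl n σ hσ C W hCW hC
  rw [← h1] at hv
  obtain ⟨c, hc, d, hd, rfl⟩ := Submodule.mem_sup.mp hv
  refine ⟨d, hd, ?_⟩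
  rw [herm_add_right n σ hσ, hu.2 c hc, zero_add] at hv2
  exact hv2

theorem nd_sup (A B : Submodule F (Fin n → F)) (hA : Nd n F q A) (hB : Nd n F q B)
    (hAB : B ≤ hperp n F q A) :
    Nd n F q (A ⊔ B) ∧ finrank F ↥(A ⊔ B) = finrank F ↥A + finrank F ↥B := by
  constructor
  · intro u hu hu0
    obtain ⟨a, ha, b, hb, rfl⟩ := Submodule.mem_sup.mp hu
    by_cases ha0 : a = 0
    · subst ha0
      rw [zero_add] at hu0 ⊢
      obtain ⟨v, hv, hv2⟩ := hB b hb hu0
      exact ⟨v, Submodule.mem_sup_right hv, hv2⟩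
    · obtain ⟨v, hv, hv2⟩ := hA a ha ha0
      refine ⟨v, Submodule.mem_sup_left hv, ?_⟩
      rw [herm_add_left, hAB hb v hv, add_zero]
      exact hv2
  · have hdisj : A ⊓ B = ⊥ := by
      rw [eq_bot_iff, ← nd_inf_hperp n A hA]
      exact le_inf inf_le_left (inf_le_right.trans hAB)
    have h1 := Submodule.finrank_sup_add_finrank_inf_eq A B
    rw [hdisj, finrank_bot, add_zero] at h1
    exact h1

include hσ in
theorem nd_hperp (W : Submodule F (Fin n → F)) (hW : Nd n F q W) :
    Nd n F q (hperp n F q W) ∧ W ⊔ hperp n F q W = ⊤ ∧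
      finrank F ↥(hperp n F q W) + finrank F ↥W = n := by
  have h1 := nd_inf_hperp_nd n σ hσ W ⊤ le_top hW (nd_top n σ hσ)
  obtain ⟨h2, -, h3⟩ := nd_compl n σ hσ W ⊤ le_top hW
  rw [top_inf_eq] at h1 h2 h3
  rw [finrank_top, Module.finrank_fin_fun] at h3
  exact ⟨h1, h2, h3⟩

include hσ in
/-- the orthogonal complement of an invariant subspace is invariant -/
theorem hperp_invariant (x : Matrix (Fin n) (Fin n) F) (hx : cstar σ x * x = 1)
    (W : Submodule F (Fin n → F)) (hinv : W.map (Matrix.toLin' x) ≤ W) :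
    (hperp n F q W).map (Matrix.toLin' x) ≤ hperp n F q W := by
  have hinj : Function.Injective (Matrix.toLin' x) := by
    apply Function.LeftInverse.injective (g := Matrix.toLin' (cstar σ x))
    intro v
    rw [Matrix.toLin'_apply, Matrix.toLin'_apply, Matrix.mulVec_mulVec, hx, Matrix.one_mulVec]
  have heq : W.map (Matrix.toLin' x) = W := by
    apply Submodule.eq_of_le_of_finrank_eq hinv
    exact (LinearEquiv.finrank_eq (Submodule.equivMapOfInjective _ hinj W)).symm
  rintro _ ⟨v, hv, rfl⟩
  intro w hw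
  rw [← heq] at hw
  obtain ⟨w₀, hw₀, rfl⟩ := hw
  rw [Matrix.toLin'_apply, Matrix.toLin'_apply,
    Cfsg.Agent.Lib.helper63.SuTI.hermForm_of_cstar σ hσ n x hx]
  exact hv w₀ hw₀

end Perp

end Cfsg.Agent.Lib.helper63.SuND
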