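import Mathlib
import Cfsg.Agent.Lib.helper63.SuND1

/-! Unipotent isometries of the standard Hermitian space: orthogonal decomposition into
nondegenerate cyclic blocks. -/

set_option autoImplicit false

namespace Cfsg.Agent.Lib.helper63.SuND

open Module Cfsg Cfsg.Agent.Lib.helper17 Cfsg.Agent.Lib.helper45 Cfsg.Agent.Lib.helper48

section Unip

variable {F : Type*} [Field F] {q : ℕ} (n : ℕ) (σ : F →+* F) (hσ : ∀ x, σ x = x ^ q)

include hσ in
theorem herm_N (U : Module.End F (Fin n → F))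
    (hU : ∀ a b, hermForm n F q (U a) (U b) = hermForm n F q a b) (a b : Fin n → F) :
    hermForm n F q ((U - 1) a) b = -hermForm n F q (U a) ((U - 1) b) := by
  rw [LinearMap.sub_apply, LinearMap.sub_apply, Module.End.one_apply, Module.End.one_apply,
    herm_sub_left, herm_sub_right n σ hσ, hU]
  ring

include hσ in
theorem herm_N_pow (U : Module.End F (Fin n → F))
    (hU : ∀ a b, hermForm n F q (U a) (U b) = hermForm n F q a b) (j : ℕ) :
    ∀ a b : Fin n → F, hermForm n F q (((U - 1) ^ j) a) b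
      = (-1) ^ j * hermForm n F q ((U ^ j) a) (((U - 1) ^ j) b) := by
  induction j with
  | zero => intro a b; simp
  | succ j ih =>
    intro a b
    have hc : U ^ j * (U - 1) = (U - 1) * U ^ j :=
      (((Commute.refl U).sub_right (Commute.one_right U)).pow_left j).eq
    have e1 : ((U - 1) ^ (j + 1)) a = ((U - 1) ^ j) ((U - 1) a) := by
      rw [pow_succ, Module.End.mul_apply]
    have e2 : (U ^ j) ((U - 1) a) = (U - 1) ((U ^ j) a) := by
      rw [← Module.End.mul_apply, hc, Module.End.mul_apply]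
    have e3 : U ((U ^ j) a) = (U ^ (j + 1)) a := by
      rw [pow_succ', Module.End.mul_apply]
    have e4 : (U - 1) (((U - 1) ^ j) b) = ((U - 1) ^ (j + 1)) b := by
      rw [pow_succ', Module.End.mul_apply]
    rw [e1, ih, e2, herm_N n σ hσ U hU, e3, e4, pow_succ]
    ring

include hσ in
/-- a nondegenerate invariant subspace contains a nondegenerate invariant cyclic subspace -/
theorem exists_cyclic_block (hne : σ ≠ RingHom.id F) (hσ2 : ∀ x, σ (σ x) = x)
    (U : Module.End F (Fin n → F))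
    (hU : ∀ a b, hermForm n F q (U a) (U b) = hermForm n F q a b) (P : ℕ)
    (hP : (U - 1) ^ P = 0) (W : Submodule F (Fin n → F)) (hW : Nd n F q W)
    (hinv : ∀ w ∈ W, U w ∈ W) (hW0 : W ≠ ⊥) :
    ∃ C : Submodule F (Fin n → F), C ≤ W ∧ Nd n F q C ∧ (∀ w ∈ C, U w ∈ C) ∧
      1 ≤ finrank F ↥C ∧ finrank F ↥C ≤ P := by
  classical
  obtain ⟨N, hN⟩ : ∃ N : Module.End F (Fin n → F), N = U - 1 := ⟨_, rfl⟩
  rw [← hN] at hP
  have hNinv : ∀ w ∈ W, N w ∈ W := by
    intro w hw
    rw [hN, LinearMap.sub_apply, Module.End.one_apply]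
    exact W.sub_mem (hinv w hw) hw
  have hNpow : ∀ j : ℕ, ∀ w ∈ W, (N ^ j) w ∈ W := by
    intro j
    induction j with
    | zero => intro w hw; simpa using hw
    | succ j ih =>
      intro w hw
      rw [pow_succ', Module.End.mul_apply]
      exact hNinv _ (ih w hw)
  have hex : ∃ k : ℕ, ∀ w ∈ W, (N ^ k) w = 0 := ⟨P, fun w _ => by rw [hP]; rfl⟩
  obtain ⟨k, hkdef⟩ : ∃ k, k = Nat.find hex := ⟨_, rfl⟩
  have hk : ∀ w ∈ W, (N ^ k) w = 0 := by rw [hkdef]; exact Nat.find_spec hex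
  have hkP : k ≤ P := by
    rw [hkdef]; exact Nat.find_min' hex (fun w _ => by rw [hP]; rfl)
  have hk1 : 1 ≤ k := by
    rcases Nat.eq_zero_or_pos k with h0 | h0
    · exfalso
      apply hW0
      rw [eq_bot_iff]
      intro w hw
      have := hk w hw
      rw [h0, pow_zero, Module.End.one_apply] at this
      rw [Submodule.mem_bot]; exact this
    · exact h0
  have hmin : ¬ ∀ w ∈ W, (N ^ (k - 1)) w = 0 := by
    rw [hkdef]
    exact Nat.find_min hex (by omega)
  push Not at hmin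
  obtain ⟨w, hw, hw0⟩ := hmin
  obtain ⟨v₀, hv₀, hv₀2⟩ := hW _ (hNpow (k - 1) w hw) hw0
  -- a vector with `h(v, N^(k-1) v) ≠ 0`
  obtain ⟨v, hv, hγ⟩ : ∃ v ∈ W, hermForm n F q v ((N ^ (k - 1)) v) ≠ 0 := by
    by_contra hcon
    push Not at hcon
    have key : ∀ a ∈ W, ∀ b ∈ W, hermForm n F q a ((N ^ (k - 1)) b)
        + hermForm n F q b ((N ^ (k - 1)) a) = 0 := by
      intro a ha b hb
      have h1 := hcon (a + b) (W.add_mem ha hb)
      rw [map_add, herm_add_left, herm_add_right n σ hσ, herm_add_right n σ hσ, hcon a ha,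
        hcon b hb] at h1
      linear_combination h1
    obtain ⟨c, hc⟩ : ∃ c : F, σ c ≠ c := by
      by_contra hcon'
      push Not at hcon'
      exact hne (RingHom.ext hcon')
    have h1 := key v₀ hv₀ w hw
    have h2 := key v₀ hv₀ (c • w) (W.smul_mem c hw)
    rw [map_smul, herm_smul_right n σ hσ, herm_smul_left] at h2
    have h3 : (σ c - c) * hermForm n F q v₀ ((N ^ (k - 1)) w) = 0 := by
      linear_combination h2 - c * h1
    have h4 : hermForm n F q v₀ ((N ^ (k - 1)) w) = 0 :=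
      (mul_eq_zero.mp h3).resolve_left (sub_ne_zero.mpr hc)
    apply hv₀2
    rw [herm_symm n σ hσ hσ2 v₀ ((N ^ (k - 1)) w), h4, map_zero]
  obtain ⟨γ, hγdef⟩ : ∃ γ, γ = hermForm n F q v ((N ^ (k - 1)) v) := ⟨_, rfl⟩
  rw [← hγdef] at hγ
  have hv0 : v ≠ 0 := by
    rintro rfl
    apply hγ
    rw [hγdef]; exact herm_zero_left n _
  obtain ⟨C, hC⟩ : ∃ C : Submodule F (Fin n → F),
      C = Submodule.span F (Set.range (fun a : Fin k => (N ^ (a : ℕ)) v)) := ⟨_, rfl⟩
  have hmemC : ∀ a : ℕ, a < k → (N ^ a) v ∈ C := by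
    intro a ha
    rw [hC]
    exact Submodule.subset_span ⟨⟨a, ha⟩, rfl⟩
  have hCW : C ≤ W := by
    rw [hC, Submodule.span_le]
    rintro _ ⟨a, rfl⟩
    exact hNpow _ v hv
  have hNC : ∀ z ∈ C, N z ∈ C := by
    have h1 : Submodule.map N C ≤ C := by
      rw [hC, Submodule.map_span_le]
      rintro _ ⟨a, rfl⟩
      rw [← hC]
      have e : N ((N ^ (a : ℕ)) v) = (N ^ ((a : ℕ) + 1)) v := by
        rw [pow_succ', Module.End.mul_apply]
      rw [e]
      by_cases ha : (a : ℕ) + 1 < k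
      · exact hmemC _ ha
      · have : (a : ℕ) + 1 = k := by have := a.isLt; omega
        rw [this, hk v hv]
        exact C.zero_mem
    intro z hz
    exact h1 ⟨z, hz, rfl⟩
  have hUC : ∀ z ∈ C, U z ∈ C := by
    intro z hz
    have e : U z = N z + z := by
      rw [hN, LinearMap.sub_apply, Module.End.one_apply, sub_add_cancel]
    rw [e]
    exact C.add_mem (hNC z hz) hz
  have hpow_big : ∀ j : ℕ, k ≤ j → (N ^ j) v = 0 := by
    intro j hj
    have e : j = (j - k) + k := by omega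
    rw [e, pow_add, Module.End.mul_apply, hk v hv, map_zero]
  -- Gram matrix facts
  have hG1 : ∀ a b : ℕ, k ≤ a + b → hermForm n F q ((N ^ a) v) ((N ^ b) v) = 0 := by
    intro a b hab
    rw [hN, herm_N_pow n σ hσ U hU a, ← hN, ← Module.End.mul_apply (N ^ a), ← pow_add,
      hpow_big _ hab, herm_zero_right n σ hσ, mul_zero]
  have hG2 : ∀ a b : ℕ, a + b = k - 1 →
      hermForm n F q ((N ^ a) v) ((N ^ b) v) = (-1) ^ a * γ := by
    intro a b hab
    rw [hN, herm_N_pow n σ hσ U hU a, ← hN, ← Module.End.mul_apply (N ^ a), ← pow_add, hab]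
    congr 1
    have e1 : U ^ a = 1 + N * ∑ i ∈ Finset.range a, U ^ i := by
      rw [hN, mul_geom_sum]; abel
    rw [e1, LinearMap.add_apply, Module.End.one_apply, herm_add_left, Module.End.mul_apply, hN,
      herm_N n σ hσ U hU, ← hN]
    have e2 : N ((N ^ (k - 1)) v) = (N ^ k) v := by
      rw [← Module.End.mul_apply, ← pow_succ']
      congr 2
      omega
    rw [e2, hk v hv, herm_zero_right n σ hσ, neg_zero, add_zero, hγdef]
  refine ⟨C, hCW, ?_, hUC, ?_, ?_⟩
  · -- nondegeneracy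
    intro z hz hz0
    rw [hC] at hz
    obtain ⟨c, hc⟩ := (Submodule.mem_span_range_iff_exists_fun F).mp hz
    have hex2 : ∃ a : ℕ, ∃ h : a < k, c ⟨a, h⟩ ≠ 0 := by
      by_contra hcon
      push Not at hcon
      apply hz0
      rw [← hc]
      apply Finset.sum_eq_zero
      intro a _
      rw [hcon a.1 a.2, zero_smul]
    obtain ⟨a₀, ha₀def⟩ : ∃ a₀, a₀ = Nat.find hex2 := ⟨_, rfl⟩
    obtain ⟨ha₀k, ha₀c⟩ : ∃ h : a₀ < k, c ⟨a₀, h⟩ ≠ 0 := by
      rw [ha₀def]; exact Nat.find_spec hex2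
    have ha₀min : ∀ a : ℕ, a < a₀ → ∀ h : a < k, c ⟨a, h⟩ = 0 := by
      intro a ha h
      by_contra hne'
      have := Nat.find_min hex2 (by rw [← ha₀def]; exact ha)
      exact this ⟨h, hne'⟩
    refine ⟨(N ^ (k - 1 - a₀)) v, hmemC _ (by omega), ?_⟩
    rw [← hc, herm_sum_left, Finset.sum_eq_single (⟨a₀, ha₀k⟩ : Fin k)]
    · rw [herm_smul_left, hG2 a₀ (k - 1 - a₀) (by omega)]
      exact mul_ne_zero ha₀c (mul_ne_zero (pow_ne_zero _ (by simp)) hγ)
    · intro a _ hane
      rw [herm_smul_left]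
      have hane' : (a : ℕ) ≠ a₀ := fun h => hane (Fin.ext h)
      rcases lt_or_gt_of_ne hane' with h | h
      · have := ha₀min a h a.2
        rw [Fin.eta] at this
        rw [this, zero_mul]
      · rw [hG1 _ _ (by omega), mul_zero]
    · intro h; exact absurd (Finset.mem_univ _) h
  · rw [Nat.succ_le_iff, Module.finrank_pos_iff_exists_ne_zero]
    have hvC : v ∈ C := by
      have := hmemC 0 (by omega)
      simpa using this
    exact ⟨⟨v, hvC⟩, fun h => hv0 (congrArg Subtype.val h)⟩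
  · have h1 := finrank_range_le_card (R := F) (fun a : Fin k => (N ^ (a : ℕ)) v)
    rw [Fintype.card_fin] at h1
    rw [hC]
    exact le_trans h1 hkP

include hσ in
/-- **Orthogonal decomposition of a unipotent isometry.** -/
theorem unip_decomp (hne : σ ≠ RingHom.id F) (hσ2 : ∀ x, σ (σ x) = x)
    (x : Matrix (Fin n) (Fin n) F) (hx : cstar σ x * x = 1) (P : ℕ)
    (hP : (x - 1) ^ P = 0) :
    ∀ (d : ℕ) (W : Submodule F (Fin n → F)), finrank F ↥W = d → Nd n F q W →
      W.map (Matrix.toLin' x) ≤ W →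
      ∃ μ : Multiset ℕ, (∀ a ∈ μ, 0 < a ∧ a ≤ P) ∧ μ.sum = d ∧
        ∀ ν : Multiset ℕ, ν ≤ μ → ∃ W' : Submodule F (Fin n → F), W' ≤ W ∧ Nd n F q W' ∧
          W'.map (Matrix.toLin' x) ≤ W' ∧ finrank F ↥W' = ν.sum := by
  classical
  have hU : ∀ a b, hermForm n F q (Matrix.toLin' x a) (Matrix.toLin' x b)
      = hermForm n F q a b := by
    intro a b
    rw [Matrix.toLin'_apply, Matrix.toLin'_apply]
    exact Cfsg.Agent.Lib.helper63.SuTI.hermForm_of_cstar σ hσ n x hx a b
  have hP' : (Matrix.toLin' x - 1) ^ P = 0 := by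
    have e : Matrix.toLin' x - 1 = Matrix.toLin' (x - 1) := by
      rw [map_sub, Matrix.toLin'_one]; rfl
    rw [e, ← Matrix.toLin'_pow, hP, map_zero]
  intro d
  induction d using Nat.strong_induction_on with
  | _ d ih =>
    intro W hd hW hinv
    by_cases hW0 : W = ⊥
    · refine ⟨0, by simp, ?_, ?_⟩
      · rw [← hd, hW0, finrank_bot]; rfl
      · intro ν hν
        have hν0 : ν = 0 := Multiset.le_zero.mp hν
        refine ⟨⊥, bot_le, ?_, ?_, ?_⟩
        · intro u hu hu0
          exact absurd ((Submodule.mem_bot F).mp hu) hu0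
        · rw [Submodule.map_bot]
        · rw [hν0, finrank_bot]; rfl
    · obtain ⟨C, hCW, hCnd, hCinv, hC1, hCP⟩ := exists_cyclic_block n σ hσ hne hσ2
        (Matrix.toLin' x) hU P hP' W hW (fun w hw => hinv ⟨w, hw, rfl⟩) hW0
      have hCinv' : C.map (Matrix.toLin' x) ≤ C := by
        rintro _ ⟨w, hw, rfl⟩; exact hCinv w hw
      obtain ⟨h1, h2, h3⟩ := nd_compl n σ hσ C W hCW hCnd
      have hW₁nd := nd_inf_hperp_nd n σ hσ C W hCW hCnd hW
      have hW₁inv : (W ⊓ hperp n F q C).map (Matrix.toLin' x) ≤ W ⊓ hperp n F q C := by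
        refine le_trans (Submodule.map_inf_le _) (inf_le_inf hinv ?_)
        exact hperp_invariant n σ hσ x hx C hCinv'
      obtain ⟨μ₁, hμ₁, hμ₁sum, hμ₁sel⟩ := ih (finrank F ↥(W ⊓ hperp n F q C)) (by omega)
        (W ⊓ hperp n F q C) rfl hW₁nd hW₁inv
      refine ⟨finrank F ↥C ::ₘ μ₁, ?_, ?_, ?_⟩
      · intro a ha
        rcases Multiset.mem_cons.mp ha with rfl | ha
        · exact ⟨by omega, hCP⟩
        · exact hμ₁ a ha
      · rw [Multiset.sum_cons, hμ₁sum]; omega
      · intro ν hν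
        have hν' : ν.erase (finrank F ↥C) ≤ μ₁ := Multiset.erase_le_iff_le_cons.mpr hν
        obtain ⟨W'', hW''le, hW''nd, hW''inv, hW''dim⟩ := hμ₁sel _ hν'
        by_cases hmem : finrank F ↥C ∈ ν
        · have hperp : W'' ≤ hperp n F q C := hW''le.trans inf_le_right
          obtain ⟨hnd, hfr⟩ := nd_sup n C W'' hCnd hW''nd hperp
          refine ⟨C ⊔ W'', sup_le hCW (hW''le.trans inf_le_left), hnd, ?_, ?_⟩
          · rw [Submodule.map_sup]
            exact sup_le_sup hCinv' hW''inv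
          · rw [hfr, hW''dim, Multiset.sum_erase hmem]
        · rw [Multiset.erase_of_notMem hmem] at hW''dim
          exact ⟨W'', hW''le.trans inf_le_left, hW''nd, hW''inv, hW''dim⟩

end Unip

end Cfsg.Agent.Lib.helper63.SuND
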