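import Mathlib
import Cfsg.Agent.Lib.helper63.SuND2
import Cfsg.Agent.Lib.helper99.JordA
import Cfsg.Agent.Lib.helper99.JordB

/-! A Hermitian form on the space of the model nilpotent shift, for which the shift is
skew-adjoint. -/

set_option autoImplicit false

namespace Cfsg.Agent.Lib.helper63.SuND

open Module Cfsg Cfsg.Agent.Lib.helper17 Cfsg.Agent.Lib.helper45 Cfsg.Agent.Lib.helper48
  Cfsg.Agent.Lib.helper99.Jord

section IdxForm

variable (μ : Multiset ℕ) {F : Type*} [Field F]

/-- the flip of a block -/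
def flipI (s : Idx μ) : Idx μ := ⟨s.1, (s.2.1, Fin.rev s.2.2)⟩

theorem flipI_flipI (s : Idx μ) : flipI μ (flipI μ s) = s := by
  obtain ⟨b, c, r⟩ := s
  simp [flipI]

theorem flipI_injective : Function.Injective (flipI μ) := by
  intro s t h
  rw [← flipI_flipI μ s, h, flipI_flipI]

/-- one step up in a block -/
def upI (s : Idx μ) (h : s.2.2.val + 1 < s.1.1) : Idx μ := ⟨s.1, (s.2.1, ⟨s.2.2.val + 1, h⟩)⟩

/-- one step down in a block -/
def dnI (s : Idx μ) (_h : 0 < s.2.2.val) : Idx μ :=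
  ⟨s.1, (s.2.1, ⟨s.2.2.val - 1, by have := s.2.2.isLt; omega⟩)⟩

theorem dnI_upI (s : Idx μ) (h : s.2.2.val + 1 < s.1.1) :
    dnI μ (upI μ s h) (by simp [upI]) = s := by
  obtain ⟨b, c, r⟩ := s
  simp [dnI, upI]

theorem eq_upI_of_dnI (k s : Idx μ) (hk : 0 < k.2.2.val) (h : dnI μ k hk = s) :
    ∃ h' : s.2.2.val + 1 < s.1.1, k = upI μ s h' := by
  subst h
  obtain ⟨b, c, r⟩ := k
  have hr := r.isLt
  have hk' : 0 < r.val := hk
  have h1 : r.val - 1 + 1 < b.1 := by omega
  refine ⟨h1, ?_⟩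
  have e : r = (⟨r.val - 1 + 1, h1⟩ : Fin b.1) := Fin.ext (by show r.val = r.val - 1 + 1; omega)
  exact congrArg (fun x : Fin b.1 => (⟨b, (c, x)⟩ : Idx μ)) e

theorem dnI_flipI (s : Idx μ) (h : s.2.2.val + 1 < s.1.1) :
    dnI μ (flipI μ s) (by simp [flipI, Fin.val_rev]; omega) = flipI μ (upI μ s h) := by
  obtain ⟨b, c, r⟩ := s
  have h' : r.val + 1 < b.1 := h
  have e : (⟨(Fin.rev r).val - 1, by have := (Fin.rev r).isLt; omega⟩ : Fin b.1)
      = Fin.rev (⟨r.val + 1, h'⟩ : Fin b.1) :=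
    Fin.ext (by simp only [Fin.val_rev]; omega)
  exact congrArg (fun x : Fin b.1 => (⟨b, (c, x)⟩ : Idx μ)) e

/-- weights of the Gram matrix -/
def wI (η : F) (s : Idx μ) : F := (-1) ^ s.2.2.val * (if Even s.1.1 then η else 1)

theorem wI_ne_zero (η : F) (hη : η ≠ 0) (s : Idx μ) : wI μ η s ≠ 0 := by
  unfold wI
  apply mul_ne_zero (pow_ne_zero _ (by simp))
  split_ifs
  · exact hη
  · exact one_ne_zero

theorem wI_upI (η : F) (s : Idx μ) (h : s.2.2.val + 1 < s.1.1) :
    wI μ η (upI μ s h) = -wI μ η s := by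
  unfold wI upI
  simp only
  rw [pow_succ]
  ring

theorem wI_flipI (η : F) (σ : F →+* F) (hη : σ η = -η) (s : Idx μ) :
    σ (wI μ η (flipI μ s)) = wI μ η s := by
  obtain ⟨b, c, r⟩ := s
  have hr := r.isLt
  unfold wI flipI
  simp only [Fin.val_rev]
  rw [map_mul, map_pow, map_neg, map_one]
  by_cases hb : Even b.1
  · rw [if_pos hb, hη]
    obtain ⟨t, ht⟩ := hb
    have e : (-1 : F) ^ (b.1 - (r.val + 1)) * -η = (-1) ^ (b.1 - (r.val + 1) + 1) * η := by
      rw [pow_succ]; ring
    rw [e, neg_one_pow_eq_pow_mod_two, neg_one_pow_eq_pow_mod_two (n := r.val)]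
    congr 2
    omega
  · rw [if_neg hb, map_one]
    rw [Nat.not_even_iff_odd] at hb
    obtain ⟨t, ht⟩ := hb
    rw [neg_one_pow_eq_pow_mod_two, neg_one_pow_eq_pow_mod_two (n := r.val)]
    congr 2
    omega

/-- the Gram matrix -/
def GI (η : F) : Matrix (Idx μ) (Idx μ) F := fun s t => if t = flipI μ s then wI μ η s else 0

theorem GI_herm (η : F) (σ : F →+* F) (hη : σ η = -η) : cstar σ (GI μ η) = GI μ η := by
  ext s t
  rw [cstar_apply]
  unfold GI
  by_cases h : t = flipI μ s
  · have h' : s = flipI μ t := by rw [h, flipI_flipI]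
    rw [if_pos h', if_pos h, h, wI_flipI μ η σ hη]
  · have h' : ¬ s = flipI μ t := by
      intro h2; apply h; rw [h2, flipI_flipI]
    rw [if_neg h', if_neg h, map_zero]

theorem GI_isUnit (η : F) (hη : η ≠ 0) : IsUnit (GI μ η) := by
  have h1 : GI μ η * (Matrix.of (fun s t => if s = flipI μ t then (wI μ η t)⁻¹ else 0) :
      Matrix (Idx μ) (Idx μ) F) = 1 := by
    ext s t
    rw [Matrix.mul_apply, Finset.sum_eq_single (flipI μ s)]
    · unfold GI
      rw [if_pos rfl, Matrix.of_apply]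
      by_cases hst : s = t
      · subst hst
        rw [if_pos rfl, Matrix.one_apply_eq, mul_inv_cancel₀ (wI_ne_zero μ η hη s)]
      · rw [if_neg (fun h => hst (flipI_injective μ h)), Matrix.one_apply_ne hst, mul_zero]
    · intro k _ hk
      unfold GI
      rw [if_neg hk, zero_mul]
    · intro h; exact absurd (Finset.mem_univ _) h
  exact ⟨⟨_, _, h1, mul_eq_one_comm.mp h1⟩, rfl⟩

/-- the matrix of the shift -/
noncomputable def NI (F : Type*) [Field F] : Matrix (Idx μ) (Idx μ) F :=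
  LinearMap.toMatrix' (sh μ F)

theorem NI_apply (s t : Idx μ) :
    NI μ F s t = if h : 0 < s.2.2.val then (if dnI μ s h = t then 1 else 0) else 0 := by
  unfold NI
  rw [LinearMap.toMatrix'_apply, sh_apply]
  by_cases h : 0 < s.2.2.val
  · rw [dif_pos h, dif_pos h, Pi.single_apply]
    rfl
  · rw [dif_neg h, dif_neg h]

theorem toLin'_NI : Matrix.toLin' (NI μ F) = sh μ F := by
  unfold NI
  exact Matrix.toLin'_toMatrix' _

theorem NI_skew (η : F) (σ : F →+* F) :
    cstar σ (NI μ F) * GI μ η = -(GI μ η * NI μ F) := by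
  ext s t
  rw [Matrix.neg_apply, Matrix.mul_apply, Matrix.mul_apply]
  have hR : ∑ k, GI μ η s k * NI μ F k t = wI μ η s * NI μ F (flipI μ s) t := by
    rw [Finset.sum_eq_single (flipI μ s)]
    · unfold GI; rw [if_pos rfl]
    · intro k _ hk
      unfold GI; rw [if_neg hk, zero_mul]
    · intro h; exact absurd (Finset.mem_univ _) h
  rw [hR]
  by_cases hs : s.2.2.val + 1 < s.1.1
  · rw [Finset.sum_eq_single (upI μ s hs)]
    · have e1 : NI μ F (upI μ s hs) s = 1 := by
        rw [NI_apply, dif_pos (by simp [upI]), if_pos (dnI_upI μ s hs)]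
      have e2 : NI μ F (flipI μ s) t = if flipI μ (upI μ s hs) = t then 1 else 0 := by
        rw [NI_apply, dif_pos (by simp [flipI, Fin.val_rev]; omega), dnI_flipI μ s hs]
      rw [cstar_apply, e1, map_one, one_mul, e2]
      unfold GI
      by_cases ht : t = flipI μ (upI μ s hs)
      · rw [if_pos ht, if_pos ht.symm, wI_upI, mul_one]
      · rw [if_neg ht, if_neg (fun h => ht h.symm), mul_zero, neg_zero]
    · intro k _ hk
      rw [cstar_apply, NI_apply]
      by_cases hk0 : 0 < k.2.2.val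
      · rw [dif_pos hk0]
        by_cases hd : dnI μ k hk0 = s
        · obtain ⟨h', hk'⟩ := eq_upI_of_dnI μ k s hk0 hd
          exact absurd hk' hk
        · rw [if_neg hd, map_zero, zero_mul]
      · rw [dif_neg hk0, map_zero, zero_mul]
    · intro h; exact absurd (Finset.mem_univ _) h
  · have e2 : NI μ F (flipI μ s) t = 0 := by
      rw [NI_apply, dif_neg]
      have := s.2.2.isLt
      simp only [flipI, Fin.val_rev]
      omega
    rw [e2, mul_zero, neg_zero]
    apply Finset.sum_eq_zero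
    intro k _
    rw [cstar_apply, NI_apply]
    by_cases hk0 : 0 < k.2.2.val
    · rw [dif_pos hk0]
      by_cases hd : dnI μ k hk0 = s
      · obtain ⟨h', hk'⟩ := eq_upI_of_dnI μ k s hk0 hd
        exact absurd h' hs
      · rw [if_neg hd, map_zero, zero_mul]
    · rw [dif_neg hk0, map_zero, zero_mul]

end IdxForm

end Cfsg.Agent.Lib.helper63.SuND
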