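import Mathlib
import Cfsg.Agent.Lib.helper63.SuND3
import Cfsg.Agent.Lib.helper63.SpTI8

/-! Unitary unipotent elements of every Jordan type (Cayley transform of the model shift). -/

set_option autoImplicit false

namespace Cfsg.Agent.Lib.helper63.SuND

open Module Cfsg Cfsg.Agent.Lib.helper17 Cfsg.Agent.Lib.helper45 Cfsg.Agent.Lib.helper48
  Cfsg.Agent.Lib.helper99.Jord

section Cayley

variable {K : Type*} [Field K] {ι : Type*} [Fintype ι] [DecidableEq ι]

/-- Cayley transform of a nilpotent skew-adjoint matrix -/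
theorem cayley_isometry (σ : K →+* K) (Nm G : Matrix ι ι K)
    (hskew : cstar σ Nm * G = -(G * Nm)) (P : ℕ) (hNP : Nm ^ P = 0)
    (hcase : Nm * Nm = 0 ∨ (2 : K) ≠ 0) :
    ∃ M c c' : Matrix ι ι K, cstar σ M * G * M = G ∧ M - 1 = Nm * c ∧ c * c' = 1 ∧
      c' * c = 1 ∧ Nm * c = c * Nm := by
  have hA : (1 + cstar σ Nm) * G = G * (1 - Nm) := by
    rw [add_mul, one_mul, hskew, mul_sub, mul_one, sub_eq_add_neg]
  rcases hcase with h2 | h2
  · refine ⟨1 + Nm, 1, 1, ?_, by simp, by simp, by simp, by simp⟩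
    rw [cstar_add, cstar_one, hA]
    calc G * (1 - Nm) * (1 + Nm) = G - G * (Nm * Nm) := by noncomm_ring
      _ = G := by rw [h2, mul_zero, sub_zero]
  · have hB : (1 - cstar σ Nm) * G = G * (1 + Nm) := by
      rw [sub_mul, one_mul, hskew, mul_add, mul_one, sub_neg_eq_add]
    obtain ⟨R, hR⟩ : ∃ R : Matrix ι ι K, R = ∑ j ∈ Finset.range P, Nm ^ j := ⟨_, rfl⟩
    have hR1 : (1 - Nm) * R = 1 := by rw [hR, mul_neg_geom_sum, hNP, sub_zero]
    have hR2 : R * (1 - Nm) = 1 := by rw [hR, geom_sum_mul_neg, hNP, sub_zero]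
    have hcR : cstar σ R * (1 - cstar σ Nm) = 1 := by
      have h := congrArg (cstar σ) hR1
      rw [cstar_mul, cstar_sub, cstar_one] at h
      exact h
    have hcomm : Commute Nm R := by
      rw [hR]
      exact Commute.sum_right _ _ _ (fun j _ => (Commute.refl Nm).pow_right j)
    refine ⟨(1 + Nm) * R, (2 : K) • R, (2 : K)⁻¹ • (1 - Nm), ?_, ?_, ?_, ?_, ?_⟩
    · rw [cstar_mul, cstar_add, cstar_one]
      have e1 : cstar σ R * (1 + cstar σ Nm) * G * ((1 + Nm) * R)
          = cstar σ R * ((1 + cstar σ Nm) * G) * ((1 + Nm) * R) := by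
        simp only [Matrix.mul_assoc]
      rw [e1, hA]
      have e2 : cstar σ R * (G * (1 - Nm)) * ((1 + Nm) * R)
          = cstar σ R * (G * (1 + Nm)) * ((1 - Nm) * R) := by
        have hc : (1 - Nm) * (1 + Nm) = (1 + Nm) * (1 - Nm) := by noncomm_ring
        calc cstar σ R * (G * (1 - Nm)) * ((1 + Nm) * R)
            = cstar σ R * G * ((1 - Nm) * (1 + Nm)) * R := by simp only [Matrix.mul_assoc]
          _ = cstar σ R * G * ((1 + Nm) * (1 - Nm)) * R := by rw [hc]
          _ = cstar σ R * (G * (1 + Nm)) * ((1 - Nm) * R) := by simp only [Matrix.mul_assoc]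
      rw [e2, hR1, mul_one, ← hB, ← Matrix.mul_assoc, hcR, one_mul]
    · calc (1 + Nm) * R - 1 = (1 + Nm) * R - (1 - Nm) * R := by rw [hR1]
        _ = Nm * R + Nm * R := by noncomm_ring
        _ = Nm * ((2 : K) • R) := by rw [Matrix.mul_smul, two_smul]
    · rw [smul_mul_smul_comm, mul_inv_cancel₀ h2, hR2, one_smul]
    · rw [smul_mul_smul_comm, inv_mul_cancel₀ h2, hR1, one_smul]
    · exact (hcomm.smul_right (2 : K)).eq

end Cayley

section Transfer

variable {F : Type*} [Field F] {V V' : Type*} [AddCommGroup V] [Module F V]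
  [AddCommGroup V'] [Module F V'] [FiniteDimensional F V] [FiniteDimensional F V']

theorem cc_mul_unit (N c c' : Module.End F V) (h1 : c * c' = 1) (h2 : c' * c = 1)
    (hc : N * c = c * N) (k : ℕ) : cc (N * c) ⊤ k = cc N ⊤ k := by
  unfold cc
  have hpow : (N * c) ^ k = N ^ k * c ^ k := (show Commute N c from hc).mul_pow k
  have hcc : c ^ k * c' ^ k = 1 := by
    rw [← (show Commute c c' from h1.trans h2.symm).mul_pow, h1, one_pow]
  have hrange : LinearMap.range ((N * c) ^ k) = LinearMap.range (N ^ k) := by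
    rw [hpow]
    apply le_antisymm
    · rintro _ ⟨v, rfl⟩
      exact ⟨(c ^ k) v, rfl⟩
    · rintro _ ⟨v, rfl⟩
      refine ⟨(c' ^ k) v, ?_⟩
      rw [Module.End.mul_apply, ← Module.End.mul_apply (c ^ k), hcc, Module.End.one_apply]
  have hker : LinearMap.ker (N * c) = LinearMap.ker N := by
    ext v
    rw [LinearMap.mem_ker, LinearMap.mem_ker, hc, Module.End.mul_apply]
    constructor
    · intro h
      have h3 := congrArg c' h
      rw [← Module.End.mul_apply, h2, Module.End.one_apply, map_zero] at h3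
      exact h3
    · intro h
      rw [h, map_zero]
  rw [Submodule.map_top, Submodule.map_top, hrange, hker]

theorem cc_of_intertwine (e : V ≃ₗ[F] V') (g : Module.End F V) (g' : Module.End F V')
    (h : ∀ x, g' (e x) = e (g x)) (k : ℕ) : cc g' ⊤ k = cc g ⊤ k := by
  have h1 : g' = e.conjRingEquiv g := by
    apply LinearMap.ext
    intro y
    show g' y = e (g (e.symm y))
    rw [← h, e.apply_symm_apply]
  rw [h1, cc_conj]

end Transfer

section Exist

variable {F : Type*} [Field F] [Fintype F]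

/-- unitary unipotent matrices of every Jordan type with parts at most `p` -/
theorem exists_unip_type (p : ℕ) [Fact p.Prime] [CharP F p] (σ : F →+* F)
    (hne : σ ≠ RingHom.id F) (hσ2 : ∀ x, σ (σ x) = x) (n : ℕ) (μ : Multiset ℕ)
    (hμ : ∀ a ∈ μ, 0 < a ∧ a ≤ p) (hsum : μ.sum = n) :
    ∃ x : Matrix (Fin n) (Fin n) F, cstar σ x * x = 1 ∧ (x - 1) ^ p = 0 ∧
      ∀ j, 1 ≤ j → cc (Matrix.toLin' (x - 1)) ⊤ (j - 1)
        = cc (Matrix.toLin' (x - 1)) ⊤ j + μ.count j := by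
  classical
  have hp : p.Prime := Fact.out
  obtain ⟨θ, hθ⟩ : ∃ θ : F, σ θ ≠ θ := by
    by_contra hcon
    push Not at hcon
    exact hne (RingHom.ext hcon)
  obtain ⟨η, hηdef⟩ : ∃ η : F, η = θ - σ θ := ⟨_, rfl⟩
  have hη0 : η ≠ 0 := by
    rw [hηdef]; exact sub_ne_zero.mpr (Ne.symm hθ)
  have hησ : σ η = -η := by
    rw [hηdef, map_sub, hσ2]; ring
  obtain ⟨G, hG⟩ : ∃ G : Matrix (Idx μ) (Idx μ) F, G = GI μ η := ⟨_, rfl⟩
  obtain ⟨Nm, hNm⟩ : ∃ Nm : Matrix (Idx μ) (Idx μ) F, Nm = NI μ F := ⟨_, rfl⟩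
  have hskew : cstar σ Nm * G = -(G * Nm) := by rw [hNm, hG]; exact NI_skew μ η σ
  have hGs : cstar σ G = G := by rw [hG]; exact GI_herm μ η σ hησ
  have hGu : IsUnit G := by rw [hG]; exact GI_isUnit μ η hη0
  have hNlin : Matrix.toLin' Nm = sh μ F := by rw [hNm]; exact toLin'_NI μ
  have hNpow : ∀ P : ℕ, (∀ b ∈ μ, b ≤ P) → Nm ^ P = 0 := by
    intro P hP
    apply Matrix.toLin'.injective
    rw [Matrix.toLin'_pow, hNlin, sh_pow_eq_zero μ F P hP, map_zero]
  have hNp : Nm ^ p = 0 := hNpow p (fun b hb => (hμ b hb).2)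
  have hcase : Nm * Nm = 0 ∨ (2 : F) ≠ 0 := by
    by_cases hp2 : p = 2
    · left
      rw [← pow_two]
      exact hNpow 2 (fun b hb => hp2 ▸ (hμ b hb).2)
    · right
      exact Cfsg.Agent.Lib.helper63.SpTI.two_ne_zero_of_char (F := F) p hp2
  obtain ⟨M, c, c', hM, hMc, hcc', hc'c, hNc⟩ := cayley_isometry σ Nm G hskew p hNp hcase
  obtain ⟨S, hSu, hS⟩ := exists_cstar_mul_self σ hne hσ2 G hGs hGu
  obtain ⟨S', hSS'⟩ := hSu.exists_right_inv
  have hS'S : S' * S = 1 := mul_eq_one_comm.mp hSS'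
  obtain ⟨M₂, hM₂⟩ : ∃ M₂ : Matrix (Idx μ) (Idx μ) F, M₂ = S * M * S' := ⟨_, rfl⟩
  have hM₂u : cstar σ M₂ * M₂ = 1 := by
    rw [hM₂, cstar_mul, cstar_mul]
    have e1 : cstar σ S' * (cstar σ M * cstar σ S) * (S * M * S')
        = cstar σ S' * (cstar σ M * (cstar σ S * S) * M) * S' := by
      simp only [Matrix.mul_assoc]
    rw [e1, hS, hM, ← hS]
    have e2 : cstar σ S' * (cstar σ S * S) * S' = (cstar σ S' * cstar σ S) * (S * S') := by
      simp only [Matrix.mul_assoc]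
    rw [e2, hSS', cstar_mul_eq_one σ hSS', Matrix.mul_one]
  have hM₂sub : M₂ - 1 = S * (Nm * c) * S' := by
    rw [hM₂, ← hMc, mul_sub, mul_one, sub_mul, hSS']
  obtain ⟨e⟩ : Nonempty (Idx μ ≃ Fin n) :=
    ⟨Fintype.equivFinOfCardEq ((card_Idx μ).trans hsum)⟩
  have hcre : ∀ X : Matrix (Idx μ) (Idx μ) F, cstar σ (Matrix.reindexAlgEquiv F F e X)
      = Matrix.reindexAlgEquiv F F e (cstar σ X) := by
    intro X
    ext i j
    simp [cstar_apply, Matrix.coe_reindexAlgEquiv]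
  obtain ⟨x, hx⟩ : ∃ x : Matrix (Fin n) (Fin n) F, x = Matrix.reindexAlgEquiv F F e M₂ :=
    ⟨_, rfl⟩
  have hxsub : x - 1 = Matrix.reindexAlgEquiv F F e (M₂ - 1) := by
    rw [hx, map_sub, map_one]
  refine ⟨x, ?_, ?_, ?_⟩
  · rw [hx, hcre, ← map_mul, hM₂u, map_one]
  · rw [hxsub, ← map_pow, hM₂sub]
    have hpow : ∀ k : ℕ, (S * (Nm * c) * S') ^ k = S * (Nm * c) ^ k * S' := by
      intro k
      induction k with
      | zero => rw [pow_zero, pow_zero, Matrix.mul_one, hSS']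
      | succ k ih =>
        rw [pow_succ, ih, pow_succ]
        calc S * (Nm * c) ^ k * S' * (S * (Nm * c) * S')
            = S * (Nm * c) ^ k * (S' * S) * (Nm * c) * S' := by simp only [Matrix.mul_assoc]
          _ = S * ((Nm * c) ^ k * (Nm * c)) * S' := by
            rw [hS'S, Matrix.mul_one]
            simp only [Matrix.mul_assoc]
    rw [hpow, (show Commute Nm c from hNc).mul_pow, hNp, zero_mul, mul_zero, zero_mul, map_zero]
  · intro j hj
    obtain ⟨Ψ, hΨ⟩ : ∃ Ψ : (Idx μ → F) ≃ₗ[F] (Fin n → F),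
        ∀ f, Ψ f = fun i => (S.mulVec f) (e.symm i) :=
      ⟨(Matrix.toLin'OfInv hS'S hSS').trans (LinearEquiv.funCongrLeft F F e.symm),
        fun f => rfl⟩
    have hint : ∀ f, Matrix.toLin' (x - 1) (Ψ f) = Ψ (Matrix.toLin' (Nm * c) f) := by
      intro f
      rw [hΨ, hΨ, Matrix.toLin'_apply, hxsub,
        Cfsg.Agent.Lib.helper63.SuTI.reindex_mulVec n e (M₂ - 1) (S.mulVec f),
        Matrix.toLin'_apply, Matrix.mulVec_mulVec, Matrix.mulVec_mulVec, hM₂sub]
      have e3 : S * (Nm * c) * S' * S = S * (Nm * c) := by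
        rw [Matrix.mul_assoc, hS'S, Matrix.mul_one]
      rw [e3]
    have hcc : ∀ k, cc (Matrix.toLin' (x - 1)) ⊤ k = cc (sh μ F) ⊤ k := by
      intro k
      rw [cc_of_intertwine Ψ (Matrix.toLin' (Nm * c)) (Matrix.toLin' (x - 1)) hint k]
      have e4 : Matrix.toLin' (Nm * c) = Matrix.toLin' Nm * Matrix.toLin' c := by
        rw [Matrix.toLin'_mul]; rfl
      rw [e4, cc_mul_unit (Matrix.toLin' Nm) (Matrix.toLin' c) (Matrix.toLin' c') ?_ ?_ ?_ k,
        hNlin]
      · rw [Module.End.mul_eq_comp, ← Matrix.toLin'_mul, hcc', Matrix.toLin'_one]; rfl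
      · rw [Module.End.mul_eq_comp, ← Matrix.toLin'_mul, hc'c, Matrix.toLin'_one]; rfl
      · rw [Module.End.mul_eq_comp, Module.End.mul_eq_comp, ← Matrix.toLin'_mul,
          ← Matrix.toLin'_mul, hNc]
    rw [hcc, hcc]
    exact cc_sh_count μ F j hj

end Exist

end Cfsg.Agent.Lib.helper63.SuND
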