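import Mathlib
import Cfsg.Agent.Lib.helper63.SuND4
import Cfsg.Agent.Lib.helper24.DecJordan

/-! The unipotent case `r = p` for nondegenerate subspaces of the unitary space. -/

set_option autoImplicit false

namespace Cfsg.Agent.Lib.helper63.SuND

open Module Cfsg Cfsg.Agent.Lib.helper17 Cfsg.Agent.Lib.helper45 Cfsg.Agent.Lib.helper48
  Cfsg.Agent.Lib.helper99.Jord

section UnipCase

variable {F : Type*} [Field F] [Fintype F] {q : ℕ} (p : ℕ) [Fact p.Prime] [CharP F p]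

theorem unip_nec (σ : F →+* F) (hσ : ∀ x, σ x = x ^ q) (hne : σ ≠ RingHom.id F)
    (hσ2 : ∀ x, σ (σ x) = x) (n m : ℕ) (hmn : m ≤ n)
    (H : ∀ x : Matrix.SpecialLinearGroup (Fin n) F, x ∈ Cfsg.SU n F q →
      (∃ z : F, ((x ^ p : Matrix.SpecialLinearGroup (Fin n) F) : Matrix (Fin n) (Fin n) F)
        = z • (1 : Matrix (Fin n) (Fin n) F)) →
      (∀ z : F, (x : Matrix (Fin n) (Fin n) F) ≠ z • (1 : Matrix (Fin n) (Fin n) F)) →
      ∃ W : Submodule F (Fin n → F), finrank F W = m ∧ Nd n F q W ∧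
        W.map (Matrix.toLin' (x : Matrix (Fin n) (Fin n) F)) ≤ W)
    (μ : Multiset ℕ) (hμ : ∀ a ∈ μ, 0 < a ∧ a ≤ p) (hsum : μ.sum = n) :
    ∃ ν : Multiset ℕ, ν ≤ μ ∧ ν.sum = m := by
  classical
  have hp : p.Prime := Fact.out
  by_cases hall : ∀ a ∈ μ, a = 1
  · have h1 : μ = Multiset.replicate (Multiset.card μ) 1 := Multiset.eq_replicate_card.mpr hall
    have h2 : Multiset.card μ = n := by
      have h3 := congrArg Multiset.sum h1
      rw [Multiset.sum_replicate, hsum, smul_eq_mul, mul_one] at h3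
      exact h3.symm
    refine ⟨Multiset.replicate m 1, ?_, ?_⟩
    · rw [h1, h2]
      exact (Multiset.replicate_le_replicate 1).mpr hmn
    · rw [Multiset.sum_replicate, smul_eq_mul, mul_one]
  · push Not at hall
    obtain ⟨b₀, hb₀, hb₀1⟩ := hall
    have hb₀2 : 2 ≤ b₀ := by have := (hμ b₀ hb₀).1; omega
    have hn0 : 0 < n := by
      have := Multiset.le_sum_of_mem hb₀
      omega
    have : Nonempty (Fin n) := ⟨⟨0, hn0⟩⟩
    obtain ⟨x, hxu, hxp, hcc⟩ := exists_unip_type p σ hne hσ2 n μ hμ hsum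
    have hxp1 : x ^ p = 1 := by
      have hc : Commute (x - 1) 1 := Commute.one_right _
      have h2 := add_pow_char_of_commute (p := p) hc
      rw [sub_add_cancel, hxp, one_pow, zero_add] at h2
      exact h2
    have hdet : x.det = 1 := by
      have h1 : x.det ^ p = 1 := by rw [← Matrix.det_pow, hxp1, Matrix.det_one]
      have h2 : (x.det - 1) ^ p = 0 := by rw [sub_pow_char, h1, one_pow, sub_self]
      exact sub_eq_zero.mp ((pow_eq_zero_iff hp.ne_zero).mp h2)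
    have hns : ∀ z : F, x ≠ z • (1 : Matrix (Fin n) (Fin n) F) := by
      intro z hz
      have h1 : x - 1 = (z - 1) • (1 : Matrix (Fin n) (Fin n) F) := by
        rw [hz, sub_smul, one_smul]
      have h2 : (z - 1) ^ p = 0 := by
        have h3 := hxp
        rw [h1, _root_.smul_pow, one_pow] at h3
        have h4 := congrFun (congrFun h3 ⟨0, hn0⟩) ⟨0, hn0⟩
        simpa using h4
      have h5 : z - 1 = 0 := (pow_eq_zero_iff hp.ne_zero).mp h2
      have h6 : x - 1 = 0 := by rw [h1, h5, zero_smul]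
      have h7 := hcc b₀ (by omega)
      rw [h6, map_zero] at h7
      rw [cc_of_pow_eq_zero (0 : Module.End F (Fin n → F)) ⊤ (b₀ - 1)
          (by rw [zero_pow (by omega)]),
        cc_of_pow_eq_zero (0 : Module.End F (Fin n → F)) ⊤ b₀ (by rw [zero_pow (by omega)])] at h7
      have h8 : 0 < μ.count b₀ := Multiset.count_pos.mpr hb₀
      omega
    obtain ⟨X, hX⟩ : ∃ X : Matrix.SpecialLinearGroup (Fin n) F,
        (X : Matrix (Fin n) (Fin n) F) = x := ⟨⟨x, hdet⟩, rfl⟩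
    obtain ⟨W, hW, hnd, hinv⟩ := H X ((mem_SU_iff_cstar σ hσ _).mpr (by rw [hX]; exact hxu)) ⟨1, by
        rw [Matrix.SpecialLinearGroup.coe_pow, hX, hxp1, one_smul]⟩ (by rw [hX]; exact hns)
    rw [hX] at hinv
    have hinv' : W.map (Matrix.toLin' x) ≤ W := hinv
    obtain ⟨hnd', hsup, -⟩ := nd_hperp n σ hσ W hnd
    have hinvp := hperp_invariant n σ hσ x hxu W hinv'
    obtain ⟨G, hGdef⟩ : ∃ G : Module.End F (Fin n → F), G = Matrix.toLin' (x - 1) := ⟨_, rfl⟩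
    have hG : ∀ (U : Submodule F (Fin n → F)), U.map (Matrix.toLin' x) ≤ U →
        ∀ u ∈ U, G u ∈ U := by
      intro U hU u hu
      rw [hGdef, map_sub, LinearMap.sub_apply, Matrix.toLin'_one]
      exact U.sub_mem (hU (Submodule.mem_map_of_mem hu)) hu
    have hGp : G ^ p = 0 := by
      rw [hGdef, ← Matrix.toLin'_pow, hxp, map_zero]
    have hcc' : ∀ j, 1 ≤ j → j ≤ p → cc G ⊤ (j - 1) = cc G ⊤ j + μ.count j := by
      intro j hj _
      rw [hGdef]
      exact hcc j hj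
    have hdisj : Disjoint W (hperp n F q W) := disjoint_iff.mpr (nd_inf_hperp n W hnd)
    have hG1 := hG W hinv'
    have hG2 := hG _ hinvp
    obtain ⟨ν, hν, hνs⟩ := exists_sub_partition G p hGp W (hperp n F q W)
      hG1 hG2 hsup hdisj μ hcc'
    exact ⟨ν, hν, by rw [hνs, hW]⟩

theorem unip_suff (σ : F →+* F) (hσ : ∀ x, σ x = x ^ q) (hne : σ ≠ RingHom.id F)
    (hσ2 : ∀ x, σ (σ x) = x) (n m : ℕ) (hn : 1 ≤ n)
    (hpart : ∀ μ : Multiset ℕ, (∀ a ∈ μ, 0 < a ∧ a ≤ p) → μ.sum = n →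
      ∃ ν : Multiset ℕ, ν ≤ μ ∧ ν.sum = m)
    (x : Matrix (Fin n) (Fin n) F) (hx : cstar σ x * x = 1) (z : F)
    (hxp : x ^ p = z • (1 : Matrix (Fin n) (Fin n) F)) :
    ∃ W : Submodule F (Fin n → F), finrank F W = m ∧ Nd n F q W ∧
      W.map (Matrix.toLin' x) ≤ W := by
  classical
  have hp : p.Prime := Fact.out
  have : Nonempty (Fin n) := ⟨⟨0, hn⟩⟩
  have hzσ : z * σ z = 1 := Cfsg.Agent.Lib.helper63.SuTI.scalar_unitary σ n hn x hx p z hxp
  obtain ⟨l, hl⟩ := surjective_frobenius F p z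
  rw [frobenius_def] at hl
  have hl1 : l * σ l = 1 := by
    have h1 : (l * σ l) ^ p = 1 := by rw [mul_pow, ← map_pow, hl, hzσ]
    have h2 : (l * σ l - 1) ^ p = 0 := by rw [sub_pow_char, h1, one_pow, sub_self]
    exact sub_eq_zero.mp ((pow_eq_zero_iff hp.ne_zero).mp h2)
  obtain ⟨hx₀, hx₀p, hWW⟩ := Cfsg.Agent.Lib.helper63.SuTI.su_scalar_reduce σ n x hx p l z hl1 hl hxp
  have hP : (l⁻¹ • x - 1) ^ p = 0 := by
    have hc : Commute (l⁻¹ • x) 1 := Commute.one_right _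
    rw [sub_pow_char_of_commute (p := p) hc, hx₀p, one_pow, sub_self]
  obtain ⟨μ, hμ, hsum, hall⟩ := unip_decomp n σ hσ hne hσ2 (l⁻¹ • x) hx₀ p hP n ⊤
    (by rw [finrank_top, Module.finrank_fin_fun]) (nd_top n σ hσ) le_top
  obtain ⟨ν, hν, hνs⟩ := hpart μ hμ hsum
  obtain ⟨W', -, hnd, hinv, hfr⟩ := hall ν hν
  exact ⟨W', by rw [hfr, hνs], hnd, hWW W' hinv⟩

theorem su_unip_case (σ : F →+* F) (hσ : ∀ x, σ x = x ^ q) (hne : σ ≠ RingHom.id F)
    (hσ2 : ∀ x, σ (σ x) = x) (n m : ℕ) (hn : 1 ≤ n) (hmn : m ≤ n) :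
    (∀ x : Matrix.SpecialLinearGroup (Fin n) F, x ∈ Cfsg.SU n F q →
      (∃ z : F, ((x ^ p : Matrix.SpecialLinearGroup (Fin n) F) : Matrix (Fin n) (Fin n) F)
        = z • (1 : Matrix (Fin n) (Fin n) F)) →
      (∀ z : F, (x : Matrix (Fin n) (Fin n) F) ≠ z • (1 : Matrix (Fin n) (Fin n) F)) →
      ∃ W : Submodule F (Fin n → F), finrank F W = m ∧
        (∀ u ∈ W, u ≠ 0 → ∃ v ∈ W, Cfsg.hermForm n F q u v ≠ 0) ∧
        W.map (Matrix.toLin' (x : Matrix (Fin n) (Fin n) F)) ≤ W) ↔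
    (∀ μ : Multiset ℕ, (∀ a ∈ μ, 0 < a ∧ a ≤ p) → μ.sum = n →
      ∃ ν : Multiset ℕ, ν ≤ μ ∧ ν.sum = m) := by
  constructor
  · intro H μ hμ hsum
    exact unip_nec p σ hσ hne hσ2 n m hmn H μ hμ hsum
  · intro hpart x hxSU ⟨z, hz⟩ _
    rw [Matrix.SpecialLinearGroup.coe_pow] at hz
    have hxu := (mem_SU_iff_cstar σ hσ x).mp hxSU
    exact unip_suff p σ hσ hne hσ2 n m hn hpart _ hxu z hz

omit [Fintype F] [Fact p.Prime] [CharP F p] in
theorem two_partition_iff (n m : ℕ) (hmn : m ≤ n) :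
    (∀ μ : Multiset ℕ, (∀ a ∈ μ, 0 < a ∧ a ≤ 2) → μ.sum = n →
      ∃ ν : Multiset ℕ, ν ≤ μ ∧ ν.sum = m) ↔ (Odd n ∨ Even m) := by
  constructor
  · intro h
    by_contra hcon
    push Not at hcon
    obtain ⟨h1, h2⟩ := hcon
    rw [Nat.not_odd_iff_even] at h1
    obtain ⟨k, hk⟩ := h1
    obtain ⟨ν, hν, hνs⟩ := h (Multiset.replicate k 2) (by
      intro a ha
      rw [Multiset.eq_of_mem_replicate ha]
      omega) (by rw [Multiset.sum_replicate, smul_eq_mul, hk]; ring)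
    obtain ⟨j, -, rfl⟩ := Multiset.le_replicate_iff.mp hν
    rw [Multiset.sum_replicate, smul_eq_mul] at hνs
    exact h2 ⟨j, by omega⟩
  · intro h μ hμ hsum
    exact Cfsg.Agent.Lib.helper24.dec_two_parts n m hmn h μ hμ hsum

end UnipCase

end Cfsg.Agent.Lib.helper63.SuND
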