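import Mathlib
import Cfsg.Agent.Lib.helper63.SuND5

/-! Semisimple isometries and invariant nondegenerate subspaces: the characteristic polynomial
on such a subspace is twisted-self-reciprocal, and conversely every twisted-self-reciprocal monic
divisor of the characteristic polynomial comes from an invariant nondegenerate subspace. -/

set_option autoImplicit false

namespace Cfsg.Agent.Lib.helper63.SuND

open Module Cfsg Polynomial Cfsg.Agent.Lib.helper17 Cfsg.Agent.Lib.helper45
  Cfsg.Agent.Lib.helper48 Cfsg.Agent.Lib.helper63.SuTI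

section C2

variable {F : Type*} [Field F] {V : Type*} [AddCommGroup V] [Module F V] [FiniteDimensional F V]

/-- the characteristic polynomial of an isometry on an invariant nondegenerate subspace is
twisted-self-reciprocal -/
theorem charpoly_nd_selfdual (σ : F →+* F)
    (B : V →ₛₗ[σ] V →ₗ[F] F) (a b : Module.End F V)
    (hiso : ∀ v w, B (a v) (a w) = B v w) (hab : a * b = 1)
    (W : Submodule F V) (hnd : ∀ v ∈ W, (∀ w ∈ W, B w v = 0) → v = 0)
    (hinv : ∀ w ∈ W, a w ∈ W) :
    tdual σ (a.restrict hinv).charpoly = (a.restrict hinv).charpoly := by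
  classical
  have hba : b * a = 1 := mul_eq_one_comm.mp hab
  have hab' : ∀ v, a (b v) = v := fun v => by
    have := congrArg (fun f : Module.End F V => f v) hab
    exact this
  have hba' : ∀ v, b (a v) = v := fun v => by
    have := congrArg (fun f : Module.End F V => f v) hba
    exact this
  have hainj : Function.Injective (a.restrict hinv) := by
    intro x y hxy
    have h1 : a (x : V) = a (y : V) := congrArg Subtype.val hxy
    have h2 := congrArg b h1
    rw [hba', hba'] at h2
    exact Subtype.ext h2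
  have hasurj : Function.Surjective (a.restrict hinv) :=
    LinearMap.injective_iff_surjective.mp hainj
  have hWb : ∀ w ∈ W, b w ∈ W := by
    intro w hw
    obtain ⟨w₁, hw₁⟩ := hasurj ⟨w, hw⟩
    have h1 : a (w₁ : V) = w := congrArg Subtype.val hw₁
    rw [← h1, hba']
    exact w₁.2
  obtain ⟨bW⟩ : Nonempty (Basis (Fin (finrank F W)) F W) := ⟨Module.finBasis F W⟩
  obtain ⟨θ, hθ⟩ : ∃ θ : V →ₗ[F] (Fin (finrank F W) → F),
      θ = LinearMap.pi (fun j => B ((bW j : W) : V)) := ⟨_, rfl⟩
  have hθapp : ∀ v j, θ v j = B ((bW j : W) : V) v := by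
    intro v j
    rw [hθ]
    rfl
  have hBsum : ∀ (w : W) (v : V), B (w : V) v = ∑ j, σ (bW.repr w j) * θ v j := by
    intro w v
    have hw := bW.sum_repr w
    have h1 : (w : V) = ∑ j, bW.repr w j • ((bW j : W) : V) := by
      conv_lhs => rw [← hw]
      rw [Submodule.coe_sum]
      rfl
    rw [h1, map_sum, LinearMap.sum_apply]
    apply Finset.sum_congr rfl
    intro j _
    rw [map_smulₛₗ, LinearMap.smul_apply, smul_eq_mul, hθapp]
  obtain ⟨ψ, hψ⟩ : ∃ ψ : W →ₗ[F] (Fin (finrank F W) → F), ψ = θ ∘ₗ W.subtype := ⟨_, rfl⟩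
  have hψapp : ∀ (w : W), ψ w = θ (w : V) := by
    intro w
    rw [hψ]
    rfl
  have hψinj : Function.Injective ψ := by
    rw [← LinearMap.ker_eq_bot, LinearMap.ker_eq_bot']
    intro w hw
    apply Subtype.ext
    apply hnd _ w.2
    intro u hu
    rw [hBsum ⟨u, hu⟩]
    apply Finset.sum_eq_zero
    intro j _
    rw [← hψapp, hw, Pi.zero_apply, mul_zero]
  have hψsurj : Function.Surjective ψ :=
    (LinearMap.injective_iff_surjective_of_finrank_eq_finrank
      (by rw [Module.finrank_fin_fun])).mp hψinj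
  let ψe : W ≃ₗ[F] (Fin (finrank F W) → F) := LinearEquiv.ofBijective ψ ⟨hψinj, hψsurj⟩
  have hψe : ∀ w, ψe w = ψ w := fun w => rfl
  obtain ⟨β, hβ⟩ : ∃ β : Matrix (Fin (finrank F W)) (Fin (finrank F W)) F,
      β = LinearMap.toMatrix bW bW (b.restrict hWb) := ⟨_, rfl⟩
  have hkey : ∀ w : W, ψ ((a.restrict hinv) w) = (cstar σ β).mulVec (ψ w) := by
    intro w
    funext j
    rw [hψapp, hθapp]
    show B ((bW j : W) : V) (a (w : V)) = _
    have h1 : B ((bW j : W) : V) (a (w : V)) = B (a (b ((bW j : W) : V))) (a (w : V)) := by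
      rw [hab']
    rw [h1, hiso]
    have h2 : b ((bW j : W) : V) = (((b.restrict hWb) (bW j) : W) : V) := rfl
    rw [h2, hBsum]
    rw [Matrix.mulVec, dotProduct]
    apply Finset.sum_congr rfl
    intro l _
    rw [cstar_apply, hβ, LinearMap.toMatrix_apply, hψapp]
  have hconj : ψe.conj (a.restrict hinv) = Matrix.toLin' (cstar σ β) := by
    apply LinearMap.ext
    intro φ
    obtain ⟨w, rfl⟩ := ψe.surjective φ
    rw [LinearEquiv.conj_apply_apply, LinearEquiv.symm_apply_apply, Matrix.toLin'_apply, hψe, hψe]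
    exact hkey w
  have hrestr : (a.restrict hinv) * (b.restrict hWb) = 1 := by
    apply LinearMap.ext
    intro w
    apply Subtype.ext
    show a (b (w : V)) = w
    exact hab' _
  have h5 : (a.restrict hinv).charpoly = (cstar σ β).charpoly := by
    rw [← Matrix.charpoly_toLin', ← hconj, LinearEquiv.charpoly_conj]
  have h6 : (cstar σ β).charpoly = tdual σ (a.restrict hinv).charpoly := by
    unfold cstar tdual
    rw [Matrix.charpoly_transpose, Matrix.charpoly_map, hβ, LinearMap.charpoly_toMatrix,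
      Cfsg.Agent.Lib.helper63.SpTI.charpoly_inv_end _ _ hrestr]
  rw [← h6, ← h5]

end C2

section MatrixC2

variable {F : Type*} [Field F]

/-- **Necessity.** An invariant nondegenerate subspace of a unitary matrix gives a
twisted-self-reciprocal monic divisor of its characteristic polynomial. -/
theorem gu_nd_charpoly {q : ℕ} (σ : F →+* F) (hσ : ∀ x, σ x = x ^ q) (n : ℕ)
    (A : Matrix (Fin n) (Fin n) F) (hA : cstar σ A * A = 1)
    (W : Submodule F (Fin n → F)) (hW : Nd n F q W) (hinv : W.map (Matrix.toLin' A) ≤ W) :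
    ∃ g : F[X], g.Monic ∧ g.natDegree = finrank F W ∧ tdual σ g = g ∧ g ∣ A.charpoly := by
  classical
  have hA' : A * cstar σ A = 1 := mul_eq_one_comm.mp hA
  have hinv' : ∀ w ∈ W, Matrix.toLin' A w ∈ W := fun w hw => hinv (Submodule.mem_map_of_mem hw)
  have hpinv := hperp_invariant n σ hσ A hA W hinv
  have hpinv' : ∀ w ∈ hperp n F q W, Matrix.toLin' A w ∈ hperp n F q W :=
    fun w hw => hpinv (Submodule.mem_map_of_mem hw)
  obtain ⟨-, hsup, -⟩ := nd_hperp n σ hσ W hW
  have hdis : Disjoint W (hperp n F q W) := disjoint_iff.mpr (nd_inf_hperp n W hW)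
  have hbot : ∀ w ∈ (⊥ : Submodule F (Fin n → F)), Matrix.toLin' A w ∈
      (⊥ : Submodule F (Fin n → F)) := by
    intro w hw
    rw [Submodule.mem_bot] at hw ⊢
    rw [hw, map_zero]
  have hcompl : IsCompl (W ⊔ hperp n F q W) ⊥ := by rw [hsup]; exact isCompl_top_bot
  have h3 := Cfsg.Agent.Lib.helper63.SpTI.charpoly_three (Matrix.toLin' A) W (hperp n F q W) ⊥
    hinv' hpinv' hbot hdis hcompl
  have hsd := charpoly_nd_selfdual σ (sesqOf σ (1 : Matrix (Fin n) (Fin n) F))
    (Matrix.toLin' A) (Matrix.toLin' (cstar σ A))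
    (by
      intro v w
      rw [sesq_one_apply σ hσ, sesq_one_apply σ hσ, Matrix.toLin'_apply, Matrix.toLin'_apply]
      exact hermForm_of_cstar σ hσ n A hA w v)
    (by rw [Module.End.mul_eq_comp, ← Matrix.toLin'_mul, hA', Matrix.toLin'_one]; rfl)
    W
    (by
      intro v hv h
      by_contra hv0
      obtain ⟨w, hw, hne⟩ := hW v hv hv0
      apply hne
      rw [← sesq_one_apply σ hσ]
      exact h w hw)
    hinv'
  refine ⟨((Matrix.toLin' A).restrict hinv').charpoly, LinearMap.charpoly_monic _,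
    LinearMap.charpoly_natDegree _, hsd, ?_⟩
  rw [← Matrix.charpoly_toLin', h3, mul_assoc]
  exact Dvd.intro _ rfl

end MatrixC2

section C3

variable {F : Type*} [Field F]

/-- inclusion of the first block -/
def inclL (F : Type*) [Field F] (m k : ℕ) : (Fin m → F) →ₗ[F] ((Fin m ⊕ Fin k) → F) where
  toFun u := Sum.elim u 0
  map_add' u v := by
    funext i
    rcases i with i | i <;> simp
  map_smul' c u := by
    funext i
    rcases i with i | i <;> simp

theorem inclL_apply (m k : ℕ) (u : Fin m → F) : inclL F m k u = Sum.elim u 0 := rfl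

theorem inclL_injective (m k : ℕ) : Function.Injective (inclL F m k) := by
  intro u v huv
  funext i
  have := congrFun huv (Sum.inl i)
  rw [inclL_apply, inclL_apply] at this
  exact this

variable [Fintype F] {q : ℕ}

/-- **Sufficiency.** A unitary matrix of order prime to `p` has an invariant nondegenerate
subspace of dimension `deg g` for every twisted-self-reciprocal monic divisor `g` of its
characteristic polynomial. -/
theorem gu_nd_of_charpoly (hF : Fintype.card F = q ^ 2) (p : ℕ) [Fact p.Prime] [CharP F p]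
    (σ : F →+* F) (hσ : ∀ x, σ x = x ^ q) (hne : σ ≠ RingHom.id F) (hσ2 : ∀ a, σ (σ a) = a)
    (n m : ℕ) (A : Matrix (Fin n) (Fin n) F) (hA : cstar σ A * A = 1) (K : ℕ) (hK : A ^ K = 1)
    (hKp : ¬ p ∣ K) (g : F[X]) (hg : g.Monic) (hgd : g.natDegree = m) (hgτ : tdual σ g = g)
    (hdvd : g ∣ A.charpoly) :
    ∃ W : Submodule F (Fin n → F), finrank F W = m ∧ Nd n F q W ∧
      W.map (Matrix.toLin' A) ≤ W := by
  classical
  have hp : p.Prime := Fact.out
  obtain ⟨h, hchar⟩ := hdvd
  have hh : h.Monic := by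
    have := Matrix.charpoly_monic A
    rw [hchar] at this
    exact hg.of_mul_monic_left this
  have hAu := isUnit_of_cstar_mul σ A hA
  have h0A : A.charpoly.coeff 0 ≠ 0 := by
    intro h
    have h1 := Matrix.det_eq_sign_charpoly_coeff A
    rw [h, mul_zero] at h1
    exact ((Matrix.isUnit_iff_isUnit_det A).mp hAu).ne_zero h1
  have hAτ : tdual σ A.charpoly = A.charpoly := by
    rw [← charpoly_cstar_inv σ A hAu, Matrix.inv_eq_right_inv hA]
  have hhτ : tdual σ h = h := by
    rw [hchar, tdual_mul, hgτ] at hAτ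
    exact mul_left_cancel₀ hg.ne_zero hAτ
  rw [hchar, mul_coeff_zero] at h0A
  have hg0 : g.coeff 0 ≠ 0 := fun h => h0A (by rw [h, zero_mul])
  have hh0 : h.coeff 0 ≠ 0 := fun h => h0A (by rw [h, mul_zero])
  obtain ⟨n', hn'⟩ : ∃ n', n' = h.natDegree := ⟨_, rfl⟩
  obtain ⟨Bg, k₁, hpk₁, hBgk, hBgu, hBgc⟩ := exists_gu_charpoly hF p σ hσ m g hgd hg hg0 hgτ
  obtain ⟨Bh, k₂, hpk₂, hBhk, hBhu, hBhc⟩ := exists_gu_charpoly hF p σ hσ n' h hn'.symm hh hh0 hhτ
  obtain ⟨M, hMdef⟩ : ∃ M : Matrix (Fin m ⊕ Fin n') (Fin m ⊕ Fin n') F,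
      M = Matrix.fromBlocks Bg 0 0 Bh := ⟨_, rfl⟩
  have hM : cstar σ M * (1 : Matrix (Fin m ⊕ Fin n') (Fin m ⊕ Fin n') F) * M = 1 := by
    rw [hMdef, Matrix.mul_one, cstar_fromBlocks_diag, Matrix.fromBlocks_multiply]
    simp only [Matrix.mul_zero, Matrix.zero_mul, add_zero, zero_add]
    rw [hBgu, hBhu]
    exact Matrix.fromBlocks_one
  have hpk : ¬ p ∣ k₁ * k₂ := by
    intro hd
    rcases (Nat.Prime.dvd_mul hp).mp hd with h1 | h1
    · exact hpk₁ h1
    · exact hpk₂ h1
  have hMK : M ^ (k₁ * k₂) = 1 := by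
    rw [hMdef, fromBlocks_diag_pow, pow_mul, hBgk, one_pow, mul_comm k₁ k₂, pow_mul, hBhk,
      one_pow, Matrix.fromBlocks_one]
  have hMc : M.charpoly = A.charpoly := by
    rw [hMdef, Matrix.charpoly_fromBlocks_zero₁₂, hBgc, hBhc, hchar]
  obtain ⟨T, hTinj, hTM, hTG⟩ := exists_isometry_conj hF p σ hσ hne hσ2 n A hA K hK hKp M 1
    (cstar_one σ) isUnit_one hM (k₁ * k₂) hMK hpk hMc
  have hMincl : ∀ x : Fin m → F, M.mulVec (inclL F m n' x) = inclL F m n' (Bg.mulVec x) := by
    intro x
    rw [hMdef, inclL_apply, inclL_apply, Matrix.fromBlocks_mulVec]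
    simp
  refine ⟨LinearMap.range (T ∘ₗ inclL F m n'), ?_, ?_, ?_⟩
  · have hinj : Function.Injective (T ∘ₗ inclL F m n') := by
      rw [LinearMap.coe_comp]
      exact hTinj.comp (inclL_injective m n')
    rw [LinearMap.finrank_range_of_inj hinj, Module.finrank_fin_fun]
  · intro u hu hu0
    obtain ⟨x, rfl⟩ := hu
    have hx0 : x ≠ 0 := by
      rintro rfl
      exact hu0 (map_zero _)
    obtain ⟨i, hi⟩ := Function.ne_iff.mp hx0
    refine ⟨(T ∘ₗ inclL F m n') (Pi.single i 1), ⟨_, rfl⟩, ?_⟩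
    rw [LinearMap.comp_apply, LinearMap.comp_apply, hTG, Matrix.one_mulVec, dotProduct,
      Fintype.sum_sum_type]
    simp only [inclL_apply, Sum.elim_inl, Sum.elim_inr, Pi.zero_apply, map_zero, mul_zero,
      Finset.sum_const_zero, add_zero]
    rw [Finset.sum_eq_single i]
    · rw [Pi.single_eq_same, map_one, mul_one]
      exact hi
    · intro j _ hj
      rw [Pi.single_eq_of_ne hj, map_zero, mul_zero]
    · intro h
      exact absurd (Finset.mem_univ i) h
  · intro v hv
    obtain ⟨w, hw, rfl⟩ := Submodule.mem_map.mp hv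
    obtain ⟨x, rfl⟩ := hw
    rw [Matrix.toLin'_apply, LinearMap.comp_apply, ← hTM, hMincl]
    exact ⟨Bg.mulVec x, rfl⟩

end C3

end Cfsg.Agent.Lib.helper63.SuND
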