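import Mathlib
import Cfsg.Agent.Lib.helper63.SuND6

/-! Elements of order `r ≠ p` of the unitary group and invariant nondegenerate subspaces:
block polynomial criteria, and the arithmetic conditions for `r ∤ q + 1`. -/

set_option autoImplicit false

namespace Cfsg.Agent.Lib.helper63.SuND

open Module Cfsg Polynomial Cfsg.Agent.Lib.helper17 Cfsg.Agent.Lib.helper45
  Cfsg.Agent.Lib.helper48 Cfsg.Agent.Lib.helper63.SuTI

section Block

variable {F : Type*} [Field F] [Fintype F] {q : ℕ} (p : ℕ) [Fact p.Prime] [CharP F p] {r : ℕ}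
  [Fact r.Prime] (hrp : r ≠ p)

include hrp in
/-- invariant nondegenerate subspaces give self-dual sub-block-polynomials -/
theorem gu_nd_blockPoly (σ : F →+* F) (a : ℕ) (hσ : ∀ x, σ x = x ^ q)
    (hσ' : ∀ x, σ x = x ^ (p ^ a)) (n : ℕ)
    (A : Matrix (Fin n) (Fin n) F) (hA : cstar σ A * A = 1)
    (a₀ : ℕ) (𝔪 : Multiset F[X]) (h𝔪 : ∀ P ∈ 𝔪, P ∈ cycFactors r F)
    (hchar : A.charpoly = blockPoly a₀ 𝔪) (W : Submodule F (Fin n → F))
    (hW : Nd n F q W) (hinv : W.map (Matrix.toLin' A) ≤ W) :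
    ∃ (w₀ : ℕ) (𝔫 : Multiset F[X]), (∀ P ∈ 𝔫, P ∈ cycFactors r F) ∧
      finrank F W = w₀ + orderOf ((Fintype.card F : ℕ) : ZMod r) * Multiset.card 𝔫 ∧
      w₀ ≤ a₀ ∧ 𝔫 ≤ 𝔪 ∧ 𝔫.map (tdual σ) = 𝔫 := by
  obtain ⟨g, hg, hgd, hgτ, hdvd⟩ := gu_nd_charpoly σ hσ n A hA W hW hinv
  rw [hchar] at hdvd
  obtain ⟨k, hk⟩ := blockPoly_dvd a₀ 𝔪 h𝔪
  obtain ⟨w₀, 𝔫, h𝔫, rfl⟩ := exists_blockPoly hg (hdvd.trans hk)
  obtain ⟨h1, h2⟩ := Cfsg.Agent.Lib.helper63.SpTI.blockPoly_dvd_le p hrp a₀ w₀ 𝔪 𝔫 h𝔪 h𝔫 hdvd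
  rw [blockPoly_natDegree p hrp w₀ 𝔫 h𝔫] at hgd
  refine ⟨w₀, 𝔫, h𝔫, hgd.symm, h1, h2, ?_⟩
  rw [tdual_blockPoly] at hgτ
  have hmτ : ∀ P ∈ 𝔫.map (tdual σ), P ∈ cycFactors r F := by
    intro P hP
    obtain ⟨Q, hQ, rfl⟩ := Multiset.mem_map.mp hP
    exact tdual_mem_cycFactors p hrp σ a hσ' (h𝔫 Q hQ)
  have h3 := blockPoly_injective w₀ w₀ (𝔫.map (tdual σ)) 𝔫 hmτ h𝔫 hgτ
  exact add_left_cancel h3

include hrp in
/-- self-dual sub-block-polynomials give invariant nondegenerate subspaces -/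
theorem gu_nd_of_blockPoly (hF : Fintype.card F = q ^ 2) (σ : F →+* F)
    (hσ : ∀ x, σ x = x ^ q) (hne : σ ≠ RingHom.id F)
    (hσ2 : ∀ x, σ (σ x) = x) (n m : ℕ) (A : Matrix (Fin n) (Fin n) F)
    (hA : cstar σ A * A = 1) (hAr : A ^ r = 1) (a₀ : ℕ) (𝔪 : Multiset F[X])
    (hchar : A.charpoly = blockPoly a₀ 𝔪)
    (w₀ : ℕ) (𝔫 : Multiset F[X])
    (h𝔫 : ∀ P ∈ 𝔫, P ∈ cycFactors r F)
    (hm : m = w₀ + orderOf ((Fintype.card F : ℕ) : ZMod r) * Multiset.card 𝔫)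
    (hw : w₀ ≤ a₀) (hle : 𝔫 ≤ 𝔪) (hτ : 𝔫.map (tdual σ) = 𝔫) :
    ∃ W : Submodule F (Fin n → F), finrank F W = m ∧ Nd n F q W ∧
      W.map (Matrix.toLin' A) ≤ W := by
  have hp : p.Prime := Fact.out
  have hr : r.Prime := Fact.out
  have hpr : ¬ p ∣ r := fun h => hrp ((Nat.prime_dvd_prime_iff_eq hp hr).mp h).symm
  apply gu_nd_of_charpoly hF p σ hσ hne hσ2 n m A hA r hAr hpr (blockPoly w₀ 𝔫)
    (blockPoly_monic w₀ 𝔫 h𝔫) (by rw [blockPoly_natDegree p hrp w₀ 𝔫 h𝔫, hm])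
    (by rw [tdual_blockPoly, hτ])
  rw [hchar]
  unfold blockPoly
  exact mul_dvd_mul (pow_dvd_pow _ hw) (Multiset.prod_dvd_prod_of_le hle)

include hrp in
/-- a non-scalar element of `SU` with prescribed characteristic polynomial, and the constraints
coming from an invariant nondegenerate `m`-space -/
theorem su_nd_template (hF : Fintype.card F = q ^ 2) (σ : F →+* F) (a : ℕ)
    (hσ : ∀ x, σ x = x ^ q) (hσ' : ∀ x, σ x = x ^ (p ^ a))
    (n m a₀ : ℕ) (𝔪 : Multiset F[X])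
    (h𝔪 : ∀ P ∈ 𝔪, P ∈ cycFactors r F) (hτ : 𝔪.map (tdual σ) = 𝔪)
    (hdeg : a₀ + orderOf ((Fintype.card F : ℕ) : ZMod r) * Multiset.card 𝔪 = n)
    (hdet : ¬ r ∣ q + 1)
    (hns : ∀ z : F, ∃ Q ∈ 𝔪, Q ≠ X - C z)
    (H : ∀ x : Matrix.SpecialLinearGroup (Fin n) F, x ∈ Cfsg.SU n F q →
      (∃ z : F, ((x ^ r : Matrix.SpecialLinearGroup (Fin n) F) : Matrix (Fin n) (Fin n) F)
        = z • (1 : Matrix (Fin n) (Fin n) F)) →
      (∀ z : F, (x : Matrix (Fin n) (Fin n) F) ≠ z • (1 : Matrix (Fin n) (Fin n) F)) →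
      ∃ W : Submodule F (Fin n → F), finrank F W = m ∧ Nd n F q W ∧
        W.map (Matrix.toLin' (x : Matrix (Fin n) (Fin n) F)) ≤ W) :
    ∃ (w₀ : ℕ) (𝔫 : Multiset F[X]), (∀ P ∈ 𝔫, P ∈ cycFactors r F) ∧
      m = w₀ + orderOf ((Fintype.card F : ℕ) : ZMod r) * Multiset.card 𝔫 ∧
      w₀ ≤ a₀ ∧ 𝔫 ≤ 𝔪 ∧ 𝔫.map (tdual σ) = 𝔫 := by
  classical
  obtain ⟨B, hBu, hBr, hBc⟩ := exists_gu_blockPoly p hrp hF σ hσ n a₀ 𝔪 h𝔪 hτ hdeg
  have hBdet : B.det = 1 := det_eq_one_of_not_dvd σ hσ n B hBu hBr hdet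
  obtain ⟨x, hx⟩ : ∃ x : Matrix.SpecialLinearGroup (Fin n) F,
      (x : Matrix (Fin n) (Fin n) F) = B := ⟨⟨B, hBdet⟩, rfl⟩
  have hxSU : x ∈ Cfsg.SU n F q := (mem_SU_iff_cstar σ hσ x).mpr (by rw [hx]; exact hBu)
  have hxr : ∃ z : F, ((x ^ r : Matrix.SpecialLinearGroup (Fin n) F) : Matrix (Fin n) (Fin n) F)
      = z • (1 : Matrix (Fin n) (Fin n) F) :=
    ⟨1, by rw [Matrix.SpecialLinearGroup.coe_pow, hx, hBr, one_smul]⟩
  have hnsx : ∀ z : F, (x : Matrix (Fin n) (Fin n) F) ≠ z • 1 := by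
    intro z hz
    obtain ⟨Q, hQ, hQne⟩ := hns z
    apply hQne
    apply Cfsg.Agent.Lib.helper63.SpTI.eq_of_dvd_charpoly_scalar (ι := Fin n) z Q (h𝔪 Q hQ).1
      (h𝔪 Q hQ).2.1
    rw [← hz, hx, hBc]
    unfold blockPoly
    exact Dvd.dvd.mul_left (Multiset.dvd_prod hQ) _
  obtain ⟨W, hW, hnd, hinv⟩ := H x hxSU hxr hnsx
  rw [hx] at hinv
  obtain ⟨w₀, 𝔫, h𝔫, h1, h2, h3, h4⟩ := gu_nd_blockPoly p hrp σ a hσ hσ' n B hBu a₀ 𝔪 h𝔪
    hBc W hnd hinv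
  exact ⟨w₀, 𝔫, h𝔫, by rw [← hW, h1], h2, h3, h4⟩

include hrp in
/-- **Necessity** for odd `r ≠ p` not dividing `q + 1`. -/
theorem cond_of_su_nd (hF : Fintype.card F = q ^ 2) (σ : F →+* F) (a : ℕ)
    (hσ : ∀ x, σ x = x ^ q) (hσ' : ∀ x, σ x = x ^ (p ^ a)) (hσ2 : ∀ x, σ (σ x) = x)
    (n m : ℕ) (hrq : ¬ r ∣ q + 1) (b c : ℕ)
    (hb : b = orderOf ((Fintype.card F : ℕ) : ZMod r))
    (hc : ((∀ P ∈ cycFactors r F, tdual σ P = P) ∧ c = b ∧ 2 ≤ b) ∨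
      ((∀ P ∈ cycFactors r F, tdual σ P ≠ P) ∧ c = 2 * b))
    (he : ∃ e, n < e + m ∧ e ≤ n ∧ c ∣ e ∧ 1 ≤ e)
    (H : ∀ x : Matrix.SpecialLinearGroup (Fin n) F, x ∈ Cfsg.SU n F q →
      (∃ z : F, ((x ^ r : Matrix.SpecialLinearGroup (Fin n) F) : Matrix (Fin n) (Fin n) F)
        = z • (1 : Matrix (Fin n) (Fin n) F)) →
      (∀ z : F, (x : Matrix (Fin n) (Fin n) F) ≠ z • (1 : Matrix (Fin n) (Fin n) F)) →
      ∃ W : Submodule F (Fin n → F), finrank F W = m ∧ Nd n F q W ∧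
        W.map (Matrix.toLin' (x : Matrix (Fin n) (Fin n) F)) ≤ W) :
    c ≤ m ∧ m % c ≤ n % c := by
  classical
  have hipos := Cfsg.Agent.Lib.helper63.SpTI.orderOf_card_pos (F := F) p hrp
  rw [← hb] at hipos
  obtain ⟨e, he1, he2, ⟨s₀, hs₀⟩, he4⟩ := he
  obtain ⟨P₁, hP₁⟩ := exists_mem_cycFactors (F := F) p hrp
  have hτ2 : ∀ P ∈ cycFactors r F, tdual σ (tdual σ P) = P :=
    fun P hP => tdual_tdual σ hσ2 hP.2.1 (cycFactors_coeff_zero_ne hP)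
  have hcpos : 0 < c := by
    rcases hc with ⟨-, hcb, -⟩ | ⟨-, hcb⟩ <;> omega
  have hs₀pos : 1 ≤ s₀ := by
    rcases Nat.eq_zero_or_pos s₀ with h | h
    · rw [h, mul_zero] at hs₀; omega
    · exact h
  obtain ⟨t, ht⟩ : ∃ t, t = n / c := ⟨_, rfl⟩
  obtain ⟨k, hk⟩ : ∃ k, k = n % c := ⟨_, rfl⟩
  have hdm := Nat.div_add_mod n c
  rw [← ht, ← hk] at hdm
  have hklt : k < c := by rw [hk]; exact Nat.mod_lt _ hcpos
  have hst : s₀ ≤ t := by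
    rw [ht, Nat.le_div_iff_mul_le hcpos, mul_comm]; omega
  have ht1 : 1 ≤ t := le_trans hs₀pos hst
  have hcst : c * s₀ ≤ c * t := Nat.mul_le_mul_left c hst
  have hkm : k < m := by omega
  rw [← hk]
  rcases hc with ⟨hfix, hcb, hb2⟩ | ⟨hfree, hcb⟩
  · -- self-dual factors
    have hmem1 : ∀ P ∈ Multiset.replicate t P₁, P ∈ cycFactors r F := by
      intro P hP; rw [Multiset.eq_of_mem_replicate hP]; exact hP₁
    have hmapfix : (Multiset.replicate t P₁).map (tdual σ) = Multiset.replicate t P₁ := by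
      rw [Multiset.map_replicate, hfix P₁ hP₁]
    have hdeg1 : ∀ z : F, P₁ ≠ X - C z := by
      intro z hPz
      have := cycFactors_natDegree p hrp hP₁
      rw [← hb, hPz, natDegree_X_sub_C] at this
      omega
    obtain ⟨w₀, 𝔫, h𝔫, e1, e2, -, -⟩ := su_nd_template p hrp hF σ a hσ hσ' n m k
      (Multiset.replicate t P₁) hmem1 hmapfix
      (by rw [← hb, Multiset.card_replicate, ← hcb]; omega) hrq
      (fun z => ⟨P₁, Multiset.mem_replicate.mpr ⟨by omega, rfl⟩, hdeg1 z⟩) H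
    rw [← hb, ← hcb] at e1
    have hcard : 1 ≤ Multiset.card 𝔫 := by
      by_contra hlt
      have h0 : Multiset.card 𝔫 = 0 := by omega
      rw [h0, mul_zero, add_zero] at e1
      omega
    have hcm : c ≤ c * Multiset.card 𝔫 := Nat.le_mul_of_pos_right c hcard
    refine ⟨by omega, ?_⟩
    rw [e1, Nat.add_mul_mod_self_left, Nat.mod_eq_of_lt (by omega)]
    exact e2
  · -- factors in dual pairs
    obtain ⟨𝔪, h𝔪def⟩ : ∃ 𝔪 : Multiset F[X], 𝔪 = Multiset.replicate t P₁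
        + Multiset.replicate t (tdual σ P₁) := ⟨_, rfl⟩
    have hP₁' : tdual σ P₁ ∈ cycFactors r F := tdual_mem_cycFactors p hrp σ a hσ' hP₁
    have hmem1 : ∀ P ∈ 𝔪, P ∈ cycFactors r F := by
      intro P hP
      rw [h𝔪def] at hP
      rcases Multiset.mem_add.mp hP with h | h
      · rw [Multiset.eq_of_mem_replicate h]; exact hP₁
      · rw [Multiset.eq_of_mem_replicate h]; exact hP₁'
    have hmapτ : 𝔪.map (tdual σ) = 𝔪 := by
      rw [h𝔪def, Multiset.map_add, Multiset.map_replicate, Multiset.map_replicate, hτ2 P₁ hP₁,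
        add_comm]
    have hns : ∀ z : F, ∃ Q ∈ 𝔪, Q ≠ X - C z := by
      intro z
      by_cases h1 : P₁ = X - C z
      · refine ⟨tdual σ P₁, ?_, ?_⟩
        · rw [h𝔪def]
          exact Multiset.mem_add.mpr (Or.inr (Multiset.mem_replicate.mpr ⟨by omega, rfl⟩))
        · intro h2
          exact hfree P₁ hP₁ (by rw [h2, h1])
      · refine ⟨P₁, ?_, h1⟩
        rw [h𝔪def]
        exact Multiset.mem_add.mpr (Or.inl (Multiset.mem_replicate.mpr ⟨by omega, rfl⟩))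
    obtain ⟨w₀, 𝔫, h𝔫, e1, e2, -, e4⟩ := su_nd_template p hrp hF σ a hσ hσ' n m k
      𝔪 hmem1 hmapτ
      (by
        rw [← hb, h𝔪def, Multiset.card_add, Multiset.card_replicate, Multiset.card_replicate]
        have : b * (t + t) = c * t := by rw [hcb]; ring
        omega) hrq hns H
    obtain ⟨𝔞, h𝔞⟩ := Cfsg.Agent.Lib.helper63.SpTI.exists_pairing (cycFactors r F) (tdual σ)
      hτ2 hfree (Multiset.card 𝔫) 𝔫 rfl h𝔫 e4
    have hcard𝔫 : Multiset.card 𝔫 = 2 * Multiset.card 𝔞 := by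
      rw [h𝔞, Multiset.card_add, Multiset.card_map]; ring
    rw [← hb, hcard𝔫] at e1
    have e1' : m = w₀ + c * Multiset.card 𝔞 := by rw [e1, hcb]; ring
    have hcard : 1 ≤ Multiset.card 𝔞 := by
      by_contra hlt
      have h0 : Multiset.card 𝔞 = 0 := by omega
      rw [h0, mul_zero, add_zero] at e1'
      omega
    have hcm : c ≤ c * Multiset.card 𝔞 := Nat.le_mul_of_pos_right c hcard
    refine ⟨by omega, ?_⟩
    rw [e1', Nat.add_mul_mod_self_left, Nat.mod_eq_of_lt (by omega)]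
    exact e2

include hrp in
/-- **Sufficiency** for unitary matrices with `A^r = 1`. -/
theorem gu_nd_of_cond (hF : Fintype.card F = q ^ 2) (σ : F →+* F) (a : ℕ)
    (hσ : ∀ x, σ x = x ^ q) (hσ' : ∀ x, σ x = x ^ (p ^ a)) (hne : σ ≠ RingHom.id F)
    (hσ2 : ∀ x, σ (σ x) = x) (n m : ℕ) (hmn : m ≤ n) (b c : ℕ)
    (hb : b = orderOf ((Fintype.card F : ℕ) : ZMod r))
    (hc : ((∀ P ∈ cycFactors r F, tdual σ P = P) ∧ c = b) ∨
      ((∀ P ∈ cycFactors r F, tdual σ P ≠ P) ∧ c = 2 * b))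
    (hmod : m % c ≤ n % c)
    (A : Matrix (Fin n) (Fin n) F) (hA : cstar σ A * A = 1) (hAr : A ^ r = 1) :
    ∃ W : Submodule F (Fin n → F), finrank F W = m ∧ Nd n F q W ∧
      W.map (Matrix.toLin' A) ≤ W := by
  classical
  have hipos := Cfsg.Agent.Lib.helper63.SpTI.orderOf_card_pos (F := F) p hrp
  rw [← hb] at hipos
  obtain ⟨a₀, 𝔪, h𝔪, hchar, hinv, hdeg⟩ := gu_charpoly_blockPoly p hrp σ a hσ' n A hA hAr
  rw [← hb] at hdeg
  have hτ2 : ∀ P ∈ cycFactors r F, tdual σ (tdual σ P) = P :=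
    fun P hP => tdual_tdual σ hσ2 hP.2.1 (cycFactors_coeff_zero_ne hP)
  have hcpos : 0 < c := by
    rcases hc with ⟨-, hcb⟩ | ⟨-, hcb⟩ <;> omega
  suffices hsuff : ∃ (w₀ : ℕ) (𝔫 : Multiset F[X]), (∀ P ∈ 𝔫, P ∈ cycFactors r F) ∧
      m = w₀ + b * Multiset.card 𝔫 ∧ w₀ ≤ a₀ ∧ 𝔫 ≤ 𝔪 ∧ 𝔫.map (tdual σ) = 𝔫 by
    obtain ⟨w₀, 𝔫, h𝔫, hm, hw, hle, hτ⟩ := hsuff
    exact gu_nd_of_blockPoly p hrp hF σ hσ hne hσ2 n m A hA hAr a₀ 𝔪 hchar w₀ 𝔫
      h𝔫 (by rw [← hb]; exact hm) hw hle hτ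
  have hm1 := Nat.div_add_mod m c
  -- the common arithmetic
  have harith : ∀ S : ℕ, a₀ + c * S = n → ∀ B : ℕ, B = min S (m / c) →
      m - c * B ≤ a₀ ∧ m - c * B + c * B = m := by
    intro S hS B hB
    have hBS : B ≤ S := by rw [hB]; exact min_le_left _ _
    have hBm : B ≤ m / c := by rw [hB]; exact min_le_right _ _
    have hcBm : c * B ≤ c * (m / c) := Nat.mul_le_mul_left c hBm
    refine ⟨?_, by omega⟩
    rcases le_or_gt (m / c) S with hcase | hcase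
    · have hBeq : B = m / c := by rw [hB]; exact min_eq_right hcase
      have hmod' : n % c ≤ a₀ := by
        have e3 : n % c = a₀ % c := by rw [← hS, Nat.add_mul_mod_self_left]
        rw [e3]
        exact Nat.mod_le _ _
      rw [hBeq]
      omega
    · have hBeq : B = S := by rw [hB]; exact min_eq_left (le_of_lt hcase)
      rw [hBeq]
      omega
  rcases hc with ⟨hfix, hcb⟩ | ⟨hfree, hcb⟩
  · obtain ⟨B, hB⟩ : ∃ B, B = min (Multiset.card 𝔪) (m / c) := ⟨_, rfl⟩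
    obtain ⟨h1, h2⟩ := harith (Multiset.card 𝔪) (by rw [hcb]; exact hdeg) B hB
    obtain ⟨𝔫₁, 𝔫₂, hsplit, hcard1⟩ :=
      Cfsg.Agent.Lib.helper63.SpTI.exists_sub_card 𝔪 B (by rw [hB]; exact min_le_left _ _)
    have h𝔫₁ : ∀ P ∈ 𝔫₁, P ∈ cycFactors r F := by
      intro P hP
      apply h𝔪
      rw [hsplit]
      exact Multiset.mem_add.mpr (Or.inl hP)
    refine ⟨m - c * B, 𝔫₁, h𝔫₁, by rw [hcard1, ← hcb]; omega, h1, ?_, ?_⟩
    · rw [hsplit]; exact Multiset.le_add_right _ _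
    · conv_rhs => rw [← Multiset.map_id 𝔫₁]
      exact Multiset.map_congr rfl (fun P hP => hfix P (h𝔫₁ P hP))
  · obtain ⟨𝔞, h𝔞⟩ := Cfsg.Agent.Lib.helper63.SpTI.exists_pairing (cycFactors r F) (tdual σ)
      hτ2 hfree (Multiset.card 𝔪) 𝔪 rfl h𝔪 hinv
    have hcard𝔪 : Multiset.card 𝔪 = 2 * Multiset.card 𝔞 := by
      rw [h𝔞, Multiset.card_add, Multiset.card_map]; ring
    obtain ⟨B, hB⟩ : ∃ B, B = min (Multiset.card 𝔞) (m / c) := ⟨_, rfl⟩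
    obtain ⟨h1, h2⟩ := harith (Multiset.card 𝔞) (by
      rw [hcard𝔪] at hdeg
      rw [hcb, ← hdeg]; ring) B hB
    obtain ⟨𝔞₁, 𝔞₂, hsplit, hcard1⟩ :=
      Cfsg.Agent.Lib.helper63.SpTI.exists_sub_card 𝔞 B (by rw [hB]; exact min_le_left _ _)
    have h𝔞mem : ∀ P ∈ 𝔞, P ∈ cycFactors r F := by
      intro P hP
      apply h𝔪
      rw [h𝔞]
      exact Multiset.mem_add.mpr (Or.inl hP)
    have h𝔞₁ : ∀ P ∈ 𝔞₁, P ∈ cycFactors r F := by
      intro P hP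
      apply h𝔞mem
      rw [hsplit]
      exact Multiset.mem_add.mpr (Or.inl hP)
    have hmm : (𝔞₁.map (tdual σ)).map (tdual σ) = 𝔞₁ := by
      rw [Multiset.map_map]
      conv_rhs => rw [← Multiset.map_id 𝔞₁]
      exact Multiset.map_congr rfl (fun P hP => hτ2 P (h𝔞₁ P hP))
    refine ⟨m - c * B, 𝔞₁ + 𝔞₁.map (tdual σ), ?_, ?_, h1, ?_, ?_⟩
    · intro P hP
      rcases Multiset.mem_add.mp hP with h | h
      · exact h𝔞₁ P h
      · obtain ⟨Q, hQ, rfl⟩ := Multiset.mem_map.mp h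
        exact tdual_mem_cycFactors p hrp σ a hσ' (h𝔞₁ Q hQ)
    · rw [Multiset.card_add, Multiset.card_map, hcard1]
      have : b * (B + B) = c * B := by rw [hcb]; ring
      omega
    · rw [h𝔞, hsplit, Multiset.map_add]
      have e3 : 𝔞₁ + 𝔞₂ + (𝔞₁.map (tdual σ) + 𝔞₂.map (tdual σ))
          = (𝔞₁ + 𝔞₁.map (tdual σ)) + (𝔞₂ + 𝔞₂.map (tdual σ)) := by abel
      rw [e3]
      exact Multiset.le_add_right _ _
    · rw [Multiset.map_add, hmm, add_comm]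

end Block

end Cfsg.Agent.Lib.helper63.SuND
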