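import Mathlib
import Cfsg.Agent.Lib.helper63.SuND7

/-! Elements of odd prime order `r ∣ q + 1` of `SU_n(q)` and invariant nondegenerate subspaces:
the Kummer elements. -/

set_option autoImplicit false

namespace Cfsg.Agent.Lib.helper63.SuND

open Module Cfsg Polynomial Cfsg.Agent.Lib.helper17 Cfsg.Agent.Lib.helper45
  Cfsg.Agent.Lib.helper48 Cfsg.Agent.Lib.helper63.SuTI

section I2

variable {F : Type*} [Field F] [Fintype F] {q : ℕ} (p : ℕ) [Fact p.Prime] [CharP F p] {r : ℕ}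
  [Fact r.Prime] (hrp : r ≠ p)

include hrp in
/-- necessity of `r ∣ m` or `(n)_r ≤ (q+1)_r` when `r ∣ q + 1` -/
theorem i2_nd_cond_b (hF : Fintype.card F = q ^ 2) (σ : F →+* F)
    (hσ : ∀ x, σ x = x ^ q) (n m : ℕ) (hn : 1 ≤ n) (hr2 : r ≠ 2) (hrq : r ∣ q + 1)
    (H : ∀ x : Matrix.SpecialLinearGroup (Fin n) F, x ∈ Cfsg.SU n F q →
      (∃ z : F, ((x ^ r : Matrix.SpecialLinearGroup (Fin n) F) : Matrix (Fin n) (Fin n) F)
        = z • (1 : Matrix (Fin n) (Fin n) F)) →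
      (∀ z : F, (x : Matrix (Fin n) (Fin n) F) ≠ z • (1 : Matrix (Fin n) (Fin n) F)) →
      ∃ W : Submodule F (Fin n → F), finrank F W = m ∧ Nd n F q W ∧
        W.map (Matrix.toLin' (x : Matrix (Fin n) (Fin n) F)) ≤ W) :
    r ∣ m ∨ padicValNat r n ≤ padicValNat r (q + 1) := by
  classical
  have hr : r.Prime := Fact.out
  have hq := q_pos hF
  by_contra hcon
  push Not at hcon
  obtain ⟨hrm, hlt⟩ := hcon
  obtain ⟨s, hs⟩ : ∃ s, s = padicValNat r (q + 1) := ⟨_, rfl⟩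
  rw [← hs] at hlt
  have hrs : r ^ s ∣ q + 1 := by rw [hs]; exact pow_padicValNat_dvd
  obtain ⟨z, hz⟩ := exists_orderOf (F := F) (r ^ s)
    (by rw [card_sub_one hF]; exact Dvd.dvd.mul_left hrs _)
  have hz1 : z ^ (q + 1) = 1 := orderOf_dvd_iff_pow_eq_one.mp (hz ▸ hrs)
  have hz0 : z ≠ 0 := by
    rintro rfl
    rw [zero_pow (by omega)] at hz1
    exact zero_ne_one hz1
  have hnr := not_rth_power_of_order hF hr2 hrq z (by rw [hz, hs])
  have hirr : Irreducible (X ^ r - C z : F[X]) := X_pow_sub_C_irreducible_of_prime hr hnr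
  have hdvd : r ^ (s + 1) ∣ n := (padicValNat_dvd_iff_le (by omega : n ≠ 0)).mpr (by omega)
  obtain ⟨k, hk⟩ := hdvd
  obtain ⟨k', hk'⟩ : ∃ k', k' = r ^ s * k := ⟨_, rfl⟩
  have hnk : n = r * k' := by rw [hk, hk', pow_succ]; ring
  have hσz : σ z⁻¹ = z := by
    rw [hσ, inv_pow]
    have h1 : z ^ q * z = 1 := by rw [← pow_succ]; exact hz1
    rw [eq_inv_of_mul_eq_one_left h1, inv_inv]
  have hfτ : tdual σ ((X ^ r - C z : F[X]) ^ k') = (X ^ r - C z : F[X]) ^ k' := by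
    rw [tdual_pow, tdual_X_pow_sub_C σ r hr.ne_zero z hz0, hσz]
  have hfm : ((X ^ r - C z : F[X]) ^ k').Monic := (monic_X_pow_sub_C z hr.ne_zero).pow k'
  have hfd : ((X ^ r - C z : F[X]) ^ k').natDegree = n := by
    rw [natDegree_pow, natDegree_X_pow_sub_C, hnk, mul_comm]
  have hf0 : ((X ^ r - C z : F[X]) ^ k').coeff 0 ≠ 0 := by
    rw [coeff_zero_eq_eval_zero, eval_pow, eval_sub, eval_pow, eval_X, eval_C,
      zero_pow hr.ne_zero, zero_sub]
    exact pow_ne_zero _ (neg_ne_zero.mpr hz0)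
  obtain ⟨B, K, hKp, hBK, hBu, hBc⟩ := exists_gu_charpoly hF p σ hσ n _ hfd hfm hf0 hfτ
  have hss := isSemisimple_toLin'_of_pow_eq_one p B K hKp hBK
  have hBr : B ^ r = z • (1 : Matrix (Fin n) (Fin n) F) :=
    matrix_pow_eq_scalar_of_semisimple B hss r k' z (by rw [hBc])
  have hdet : B.det = 1 := by
    rw [det_of_charpoly_pow n B r k' (hr.odd_of_ne_two hr2) z hnk hBc, hk', pow_mul, ← hz,
      pow_orderOf_eq_one, one_pow]
  obtain ⟨x, hx⟩ : ∃ x : Matrix.SpecialLinearGroup (Fin n) F,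
      (x : Matrix (Fin n) (Fin n) F) = B := ⟨⟨B, hdet⟩, rfl⟩
  have hxSU : x ∈ Cfsg.SU n F q := by
    rw [mem_SU_iff_cstar σ hσ, hx]; exact hBu
  have hns : ∀ c : F, (x : Matrix (Fin n) (Fin n) F) ≠ c • (1 : Matrix (Fin n) (Fin n) F) := by
    intro c hc
    apply hnr c
    rw [hx] at hc
    rw [hc, _root_.smul_pow, one_pow] at hBr
    have h2 := congrFun (congrFun hBr ⟨0, by omega⟩) ⟨0, by omega⟩
    simpa using h2
  obtain ⟨W, hW, -, hinv⟩ := H x hxSU ⟨z, by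
    rw [Matrix.SpecialLinearGroup.coe_pow, hx]; exact hBr⟩ hns
  rw [hx] at hinv
  apply hrm
  rw [← hW]
  apply Cfsg.Agent.Lib.helper63.Elusive.dvd_finrank_of_invariant r hr.ne_zero z hirr
    (Matrix.toLin' B) _ W (fun w hw => hinv ⟨w, hw, rfl⟩)
  rw [← Matrix.toLin'_pow, hBr]
  ext v
  simp


include hrp in
/-- sufficiency when `x^r = z` with `z` not an `r`-th power of a norm-one element -/
theorem i2_nd_suff_B (hF : Fintype.card F = q ^ 2) (σ : F →+* F)
    (hσ : ∀ x, σ x = x ^ q) (hne : σ ≠ RingHom.id F) (hσ2 : ∀ x, σ (σ x) = x)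
    (n m : ℕ) (hn : 1 ≤ n) (hmn : m ≤ n) (hr2 : r ≠ 2) (hrq : r ∣ q + 1)
    (hcond : r ∣ m ∨ padicValNat r n ≤ padicValNat r (q + 1))
    (x : Matrix (Fin n) (Fin n) F) (hx : cstar σ x * x = 1) (hdet : x.det = 1) (z : F)
    (hxr : x ^ r = z • (1 : Matrix (Fin n) (Fin n) F))
    (hno : ¬ ∃ ω : F, ω * σ ω = 1 ∧ ω ^ r = z) :
    ∃ W : Submodule F (Fin n → F), finrank F W = m ∧ Nd n F q W ∧
      W.map (Matrix.toLin' x) ≤ W := by
  classical
  have hr : r.Prime := Fact.out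
  have hq := q_pos hF
  have hzσ : z * σ z = 1 := scalar_unitary σ n hn x hx r z hxr
  have hz1 : z ^ (q + 1) = 1 := by
    rw [pow_succ, mul_comm, ← hσ]; exact hzσ
  have hz0 : z ≠ 0 := by
    rintro rfl
    rw [zero_pow (by omega)] at hz1
    exact zero_ne_one hz1
  have hnorm : ∀ ω : F, ω ^ (q + 1) = 1 → ω * σ ω = 1 := by
    intro ω hω
    rw [hσ, ← pow_succ']; exact hω
  have hnr : ∀ y : F, y ^ r ≠ z := fun y hy =>
    hno ⟨y, hnorm y (rth_root_norm_one hF hr hr2 hrq z hz1 y hy), hy⟩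
  have hirr : Irreducible (X ^ r - C z : F[X]) := X_pow_sub_C_irreducible_of_prime hr hnr
  obtain ⟨k, hnk, hchar⟩ := charpoly_eq_pow_of_irreducible n x r hr.ne_zero z hirr hxr
  have hzk : z ^ k = 1 := by
    rw [← det_of_charpoly_pow n x r k (hr.odd_of_ne_two hr2) z hnk hchar, hdet]
  have hz' : z ^ ((q + 1) / r) ≠ 1 := by
    intro h
    obtain ⟨ω, h1, h2⟩ := exists_root_of_pow_eq_one hF hr hrq z hz1 h
    exact hno ⟨ω, hnorm ω h1, h2⟩
  have hk0 : k ≠ 0 := by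
    rintro rfl
    omega
  rcases hcond with hrm | hval
  · obtain ⟨m', hm'⟩ := hrm
    have hm'k : m' ≤ k := by
      have h0 : m ≤ n := hmn
      rw [hm', hnk] at h0
      exact Nat.le_of_mul_le_mul_left h0 hr.pos
    have hσz : σ z⁻¹ = z := by
      rw [map_inv₀, eq_inv_of_mul_eq_one_left (by rw [mul_comm]; exact hzσ : σ z * z = 1),
        inv_inv]
    have hτ : ∀ j : ℕ, tdual σ ((X ^ r - C z : F[X]) ^ j) = (X ^ r - C z : F[X]) ^ j := by
      intro j
      rw [tdual_pow, tdual_X_pow_sub_C σ r hr.ne_zero z hz0, hσz]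
    have hmonj : ∀ j : ℕ, ((X ^ r - C z : F[X]) ^ j).Monic := fun j =>
      (monic_X_pow_sub_C z hr.ne_zero).pow j
    refine gu_nd_of_charpoly hF p σ hσ hne hσ2 n m x hx (r * (q + 1)) ?_
      (not_dvd_r_mul p hF hrp hr) ((X ^ r - C z : F[X]) ^ m') (hmonj _) ?_ (hτ _) ?_
    · rw [pow_mul, hxr, _root_.smul_pow, one_pow, hz1, one_smul]
    · rw [natDegree_pow, natDegree_X_pow_sub_C, hm', mul_comm]
    · rw [hchar]
      exact pow_dvd_pow _ hm'k
  · exfalso
    have hv : padicValNat r n = padicValNat r k + 1 := by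
      rw [hnk, padicValNat.mul hr.ne_zero hk0, padicValNat_self, add_comm]
    obtain ⟨g, hg⟩ : ∃ g, g = Nat.gcd k (q + 1) := ⟨_, rfl⟩
    obtain ⟨c, hc⟩ : g ∣ q + 1 := hg ▸ Nat.gcd_dvd_right _ _
    have hgk : g ∣ k := hg ▸ Nat.gcd_dvd_left _ _
    have hzg : z ^ g = 1 := by rw [hg]; exact pow_gcd_eq_one.mpr ⟨hzk, hz1⟩
    have hg0 : g ≠ 0 := by
      intro h; rw [h, zero_mul] at hc; omega
    have hc0 : c ≠ 0 := by
      rintro rfl; rw [mul_zero] at hc; omega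
    have hrc : r ∣ c := by
      by_contra hnd
      have h1 : padicValNat r (q + 1) = padicValNat r g := by
        rw [hc, padicValNat.mul hg0 hc0, padicValNat.eq_zero_of_not_dvd hnd, add_zero]
      have h2 : padicValNat r g ≤ padicValNat r k := by
        rw [← padicValNat_dvd_iff_le hk0]
        exact dvd_trans pow_padicValNat_dvd hgk
      omega
    obtain ⟨c', hc'⟩ := hrc
    apply hz'
    have e : (q + 1) / r = g * c' := by
      rw [hc, hc']
      have : g * (r * c') = r * (g * c') := by ring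
      rw [this, Nat.mul_div_cancel_left _ hr.pos]
    rw [e, pow_mul, hzg, one_pow]

end I2

end Cfsg.Agent.Lib.helper63.SuND
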