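import Mathlib
import Cfsg.Agent.Lib.helper63.SuND8

/-! Involutions of `PSU_n(q)`, `q` odd, and invariant nondegenerate subspaces. -/

set_option autoImplicit false

namespace Cfsg.Agent.Lib.helper63.SuND

open Module Cfsg Polynomial Cfsg.Agent.Lib.helper17 Cfsg.Agent.Lib.helper45
  Cfsg.Agent.Lib.helper48 Cfsg.Agent.Lib.helper63.SuTI

section Poly2

variable {F : Type*} [Field F]

/-- a monic twisted-self-reciprocal divisor of a power of `X² - l²`, where `l l^σ = -1`, is a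
power of `X² - l²` -/
theorem selfdual_dvd_sq (σ : F →+* F) (l : F) (hl : l * σ l = -1) (h2 : (2 : F) ≠ 0)
    (g : F[X]) (hg : g.Monic) (hgτ : tdual σ g = g) (N : ℕ)
    (hdvd : g ∣ (X ^ 2 - C (l * l) : F[X]) ^ N) :
    ∃ s : ℕ, g = (X ^ 2 - C (l * l) : F[X]) ^ s := by
  classical
  have hl0 : l ≠ 0 := by
    rintro rfl
    rw [zero_mul] at hl
    exact (neg_ne_zero.mpr one_ne_zero) hl.symm
  have hσl : σ l = -l⁻¹ := by
    calc σ l = l⁻¹ * (l * σ l) := by rw [← mul_assoc, inv_mul_cancel₀ hl0, one_mul]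
      _ = -l⁻¹ := by rw [hl]; ring
  obtain ⟨P₁, hP₁⟩ : ∃ P₁ : F[X], P₁ = X - C l := ⟨_, rfl⟩
  obtain ⟨P₂, hP₂⟩ : ∃ P₂ : F[X], P₂ = X - C (-l) := ⟨_, rfl⟩
  have hP12 : P₁ ≠ P₂ := by
    rw [hP₁, hP₂]
    intro h
    have h3 := congrArg (fun f : F[X] => f.coeff 0) h
    simp only [coeff_sub, coeff_X_zero, coeff_C_zero, zero_sub, neg_neg] at h3
    have h4 : (2 : F) * l = 0 := by linear_combination -h3
    exact hl0 ((mul_eq_zero.mp h4).resolve_left h2)
  have hprod : P₁ * P₂ = X ^ 2 - C (l * l) := by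
    rw [hP₁, hP₂, C_neg, C_mul]; ring
  have hτ1 : tdual σ P₁ = P₂ := by
    have h := tdual_X_pow_sub_C σ 1 one_ne_zero l hl0
    rw [pow_one] at h
    rw [hP₁, hP₂, h, map_inv₀, hσl, inv_neg, inv_inv]
  have hτ2 : tdual σ P₂ = P₁ := by
    have h := tdual_X_pow_sub_C σ 1 one_ne_zero (-l) (neg_ne_zero.mpr hl0)
    rw [pow_one] at h
    rw [hP₁, hP₂, h, map_inv₀, map_neg, hσl, neg_neg, inv_inv]
  have hirr1 : Irreducible P₁ ∧ P₁.Monic := by
    rw [hP₁]; exact ⟨irreducible_X_sub_C l, monic_X_sub_C l⟩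
  have hirr2 : Irreducible P₂ ∧ P₂.Monic := by
    rw [hP₂]; exact ⟨irreducible_X_sub_C _, monic_X_sub_C _⟩
  obtain ⟨𝔪, h𝔪⟩ : ∃ 𝔪, 𝔪 = UniqueFactorizationMonoid.normalizedFactors g := ⟨_, rfl⟩
  have hmem : ∀ P ∈ 𝔪, Irreducible P ∧ P.Monic ∧ P ∣ g := by
    intro P hP
    rw [h𝔪] at hP
    have hirr := UniqueFactorizationMonoid.irreducible_of_normalized_factor P hP
    refine ⟨hirr, ?_, UniqueFactorizationMonoid.dvd_of_mem_normalizedFactors hP⟩
    rw [← UniqueFactorizationMonoid.normalize_normalized_factor P hP]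
    exact monic_normalize hirr.ne_zero
  have hprod𝔪 : 𝔪.prod = g := by
    apply eq_of_monic_of_associated ?_ hg
      (h𝔪 ▸ UniqueFactorizationMonoid.prod_normalizedFactors hg.ne_zero)
    have := monic_multiset_prod_of_monic 𝔪 id (fun P hP => (hmem P hP).2.1)
    rwa [Multiset.map_id] at this
  have hin : ∀ P ∈ 𝔪, P ∈ ({P₁, P₂} : Set F[X]) := by
    intro P hP
    obtain ⟨hirr, hmon, hPg⟩ := hmem P hP
    have h1 : P ∣ P₁ * P₂ := by
      rw [hprod]
      exact hirr.prime.dvd_of_dvd_pow (hPg.trans hdvd)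
    rcases hirr.prime.dvd_or_dvd h1 with h | h
    · left
      exact eq_of_monic_of_associated hmon hirr1.2 (hirr.associated_of_dvd hirr1.1 h)
    · right
      exact eq_of_monic_of_associated hmon hirr2.2 (hirr.associated_of_dvd hirr2.1 h)
  have hNτ2 : ∀ P ∈ ({P₁, P₂} : Set F[X]), tdual σ (tdual σ P) = P := by
    intro P hP
    rcases hP with rfl | hP
    · rw [hτ1, hτ2]
    · rw [Set.mem_singleton_iff] at hP
      rw [hP, hτ2, hτ1]
  have hNfree : ∀ P ∈ ({P₁, P₂} : Set F[X]), tdual σ P ≠ P := by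
    intro P hP
    rcases hP with rfl | hP
    · rw [hτ1]; exact hP12.symm
    · rw [Set.mem_singleton_iff] at hP
      rw [hP, hτ2]; exact hP12
  have hNmul : ∀ P ∈ ({P₁, P₂} : Set F[X]), P * tdual σ P = X ^ 2 - C (l * l) := by
    intro P hP
    rcases hP with rfl | hP
    · rw [hτ1, hprod]
    · rw [Set.mem_singleton_iff] at hP
      rw [hP, hτ2, mul_comm, hprod]
  have hmap : 𝔪.map (tdual σ) = 𝔪 := by
    apply multiset_eq_of_prod_eq
    · intro P hP
      obtain ⟨Q, hQ, rfl⟩ := Multiset.mem_map.mp hP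
      rcases hin Q hQ with rfl | hQ'
      · rw [hτ1]; exact hirr2
      · rw [Set.mem_singleton_iff] at hQ'
        rw [hQ', hτ2]; exact hirr1
    · intro P hP
      exact ⟨(hmem P hP).1, (hmem P hP).2.1⟩
    · rw [← tdual_multiset_prod, hprod𝔪, hgτ]
  obtain ⟨𝔞, h𝔞⟩ := Cfsg.Agent.Lib.helper63.SpTI.exists_pairing ({P₁, P₂} : Set F[X]) (tdual σ)
    hNτ2 hNfree (Multiset.card 𝔪) 𝔪 rfl hin hmap
  refine ⟨Multiset.card 𝔞, ?_⟩
  have h𝔞in : ∀ P ∈ 𝔞, P ∈ ({P₁, P₂} : Set F[X]) := by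
    intro P hP
    apply hin
    rw [h𝔞]
    exact Multiset.mem_add.mpr (Or.inl hP)
  rw [← hprod𝔪, h𝔞, Multiset.prod_add]
  have h5 : 𝔞.prod * (𝔞.map (tdual σ)).prod = (𝔞.map (fun P => P * tdual σ P)).prod := by
    rw [Multiset.prod_map_mul, Multiset.map_id']
  rw [h5, Multiset.map_congr rfl (fun P hP => hNmul P (h𝔞in P hP)), Multiset.map_const',
    Multiset.prod_replicate]

end Poly2

section Arith2

variable {F : Type*} [Field F] [Fintype F] {q : ℕ}

/-- norm `-1` elements `l` with `(-l²)^s = 1` -/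
theorem exists_anti_root (hF : Fintype.card F = q ^ 2) (hqodd : Odd q) (s : ℕ)
    (hcond : padicValNat 2 (q + 1) ≤ padicValNat 2 s ∨ q % 4 = 1) (hs : s ≠ 0) :
    ∃ l : F, l ^ (q + 1) = -1 ∧ (-(l * l)) ^ s = 1 := by
  have hq := q_pos hF
  rcases hcond with hA | hB
  · obtain ⟨a, ha⟩ : ∃ a, a = padicValNat 2 (q + 1) := ⟨_, rfl⟩
    rw [← ha] at hA
    have ha1 : 1 ≤ a := by
      rw [ha]
      have h2 : 2 ∣ q + 1 := by
        obtain ⟨t, ht⟩ := hqodd
        exact ⟨t + 1, by omega⟩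
      exact one_le_padicValNat_of_dvd (by omega) h2
    obtain ⟨u, hu⟩ : 2 ^ a ∣ q + 1 := by rw [ha]; exact pow_padicValNat_dvd
    have hodd : Odd u := by
      by_contra hev
      rw [Nat.not_odd_iff_even] at hev
      obtain ⟨c, hc⟩ := hev
      have h2 : 2 ^ (a + 1) ∣ q + 1 := ⟨c, by rw [hu, hc, pow_succ]; ring⟩
      have h3 := (padicValNat_dvd_iff_le (by omega : q + 1 ≠ 0)).mp h2
      omega
    have hdvd : 2 ^ (a + 1) ∣ (q - 1) * (q + 1) := by
      obtain ⟨t, ht⟩ := hqodd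
      have h2 : 2 ∣ q - 1 := ⟨t, by omega⟩
      rw [pow_succ, mul_comm]
      exact mul_dvd_mul h2 ⟨u, hu⟩
    obtain ⟨ω, hω⟩ := exists_orderOf (F := F) (2 ^ (a + 1)) (by rw [card_sub_one hF]; exact hdvd)
    have hωk : ω ^ (2 ^ a) = -1 := by
      have h3 : ω ^ (2 ^ a) * ω ^ (2 ^ a) = 1 := by
        rw [← pow_add, ← two_mul, ← pow_succ', ← hω, pow_orderOf_eq_one]
      rcases mul_self_eq_one_iff.mp h3 with h4 | h4
      · exfalso
        have h5 := orderOf_dvd_of_pow_eq_one h4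
        rw [hω] at h5
        have h6 := (Nat.pow_dvd_pow_iff_le_right (by norm_num : 1 < 2)).mp h5
        omega
      · exact h4
    refine ⟨ω, ?_, ?_⟩
    · rw [hu, pow_mul, hωk, hodd.neg_one_pow]
    · obtain ⟨s', hs'⟩ : 2 ^ a ∣ s := (padicValNat_dvd_iff_le hs).mpr hA
      have h7 : (-(ω * ω)) ^ (2 ^ a) = 1 := by
        rw [neg_pow, ← pow_two, ← pow_mul, ← pow_succ', ← hω, pow_orderOf_eq_one, mul_one]
        obtain ⟨a', rfl⟩ : ∃ a', a = a' + 1 := ⟨a - 1, by omega⟩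
        rw [pow_succ', pow_mul, neg_one_sq, one_pow]
      rw [hs', pow_mul, h7, one_pow]
  · have hdvd : 4 ∣ (q - 1) * (q + 1) := Dvd.dvd.mul_right ⟨q / 4, by omega⟩ _
    obtain ⟨ω, hω⟩ := exists_orderOf (F := F) 4 (by rw [card_sub_one hF]; exact hdvd)
    have hω2 : ω * ω = -1 := by
      have h3 : (ω * ω) * (ω * ω) = 1 := by
        have : (ω * ω) * (ω * ω) = ω ^ 4 := by ring
        rw [this, ← hω, pow_orderOf_eq_one]
      rcases mul_self_eq_one_iff.mp h3 with h4 | h4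
      · exfalso
        have h5 := orderOf_dvd_of_pow_eq_one (by rw [pow_two]; exact h4 : ω ^ 2 = 1)
        rw [hω] at h5
        omega
      · exact h4
    refine ⟨ω, ?_, ?_⟩
    · obtain ⟨t, ht⟩ : ∃ t, q + 1 = 2 * (2 * t + 1) := ⟨q / 4, by omega⟩
      rw [ht, pow_mul, pow_two, hω2, Odd.neg_one_pow ⟨t, rfl⟩]
    · rw [hω2, neg_neg, one_pow]

end Arith2

section TwoCase

variable {F : Type*} [Field F] [Fintype F] {q : ℕ} (p : ℕ) [Fact p.Prime] [CharP F p]

theorem su_two_nd_case (hF : Fintype.card F = q ^ 2) (hp2 : p ≠ 2) (σ : F →+* F) (a : ℕ)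
    (hσ : ∀ x, σ x = x ^ q) (hσ' : ∀ x, σ x = x ^ (p ^ a)) (hne : σ ≠ RingHom.id F)
    (hσ2 : ∀ x, σ (σ x) = x) (n m : ℕ) (hn : 3 ≤ n) (hmn : m ≤ n) :
    (∀ x : Matrix.SpecialLinearGroup (Fin n) F, x ∈ Cfsg.SU n F q →
      (∃ z : F, ((x ^ 2 : Matrix.SpecialLinearGroup (Fin n) F) : Matrix (Fin n) (Fin n) F)
        = z • (1 : Matrix (Fin n) (Fin n) F)) →
      (∀ z : F, (x : Matrix (Fin n) (Fin n) F) ≠ z • (1 : Matrix (Fin n) (Fin n) F)) →
      ∃ W : Submodule F (Fin n → F), finrank F W = m ∧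
        (∀ u ∈ W, u ≠ 0 → ∃ v ∈ W, Cfsg.hermForm n F q u v ≠ 0) ∧
        W.map (Matrix.toLin' (x : Matrix (Fin n) (Fin n) F)) ≤ W) ↔
    (Odd n ∨ Even m ∨ (padicValNat 2 n ≤ padicValNat 2 (q + 1) ∧ q % 4 = 3)) := by
  classical
  have hp : p.Prime := Fact.out
  have hq := q_pos hF
  have h2 : (2 : F) ≠ 0 := Cfsg.Agent.Lib.helper63.SpTI.two_ne_zero_of_char (F := F) p hp2
  have hneg1 := neg_one_ne_one_of_char (F := F) p hp2
  have hqodd : Odd q := by
    have h1 := Cfsg.Agent.Lib.helper63.SpTI.card_odd (F := F) p hp2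
    rw [hF] at h1
    exact (Nat.odd_pow_iff (by norm_num)).mp h1
  have hτsq : ∀ z : F, z ≠ 0 → z * σ z = 1 → ∀ j : ℕ,
      tdual σ ((X ^ 2 - C z : F[X]) ^ j) = (X ^ 2 - C z : F[X]) ^ j := by
    intro z hz0 hzσ j
    have hσz : σ z⁻¹ = z := by
      rw [map_inv₀, eq_inv_of_mul_eq_one_left (by rw [mul_comm]; exact hzσ : σ z * z = 1),
        inv_inv]
    rw [tdual_pow, tdual_X_pow_sub_C σ 2 two_ne_zero z hz0, hσz]
  have hmonj : ∀ (z : F) (j : ℕ), ((X ^ 2 - C z : F[X]) ^ j).Monic := fun z j =>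
    (monic_X_pow_sub_C z two_ne_zero).pow j
  have hdegj : ∀ (z : F) (j : ℕ), ((X ^ 2 - C z : F[X]) ^ j).natDegree = 2 * j := by
    intro z j
    rw [natDegree_pow, natDegree_X_pow_sub_C, mul_comm]
  have hv2 : ∀ t : ℕ, t ≠ 0 → padicValNat 2 (2 * t) = padicValNat 2 t + 1 := by
    intro t ht
    rw [padicValNat.mul (by norm_num) ht, padicValNat_self, add_comm]
  constructor
  · intro H
    by_contra hcon
    push Not at hcon
    obtain ⟨hnodd, hmodd, hc3⟩ := hcon
    rw [Nat.not_odd_iff_even] at hnodd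
    obtain ⟨s, hs⟩ := hnodd
    have hs0 : s ≠ 0 := by omega
    have hns : n = 2 * s := by omega
    have hcondA : padicValNat 2 (q + 1) ≤ padicValNat 2 s ∨ q % 4 = 1 := by
      by_cases hle : padicValNat 2 n ≤ padicValNat 2 (q + 1)
      · right
        have := hc3 hle
        obtain ⟨t, ht⟩ := hqodd
        omega
      · left
        rw [hns, hv2 s hs0] at hle
        omega
    obtain ⟨l, hl1, hl2⟩ := exists_anti_root hF hqodd s hcondA hs0
    have hlσ : l * σ l = -1 := by rw [hσ, ← pow_succ']; exact hl1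
    have hl0 : l ≠ 0 := by
      rintro rfl
      rw [zero_mul] at hlσ
      exact (neg_ne_zero.mpr one_ne_zero) hlσ.symm
    obtain ⟨z, hz⟩ : ∃ z : F, z = l * l := ⟨_, rfl⟩
    have hz0 : z ≠ 0 := by rw [hz]; exact mul_ne_zero hl0 hl0
    have hzσ : z * σ z = 1 := by
      have : z * σ z = (l * σ l) * (l * σ l) := by rw [hz, map_mul]; ring
      rw [this, hlσ]; ring
    have hf0 : ((X ^ 2 - C z : F[X]) ^ s).coeff 0 = (-z) ^ s := by
      rw [coeff_zero_eq_eval_zero, eval_pow, eval_sub, eval_pow, eval_X, eval_C,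
        zero_pow two_ne_zero, zero_sub]
    obtain ⟨B, K, hKp, hBK, hBu, hBc⟩ := exists_gu_charpoly hF p σ hσ n
      ((X ^ 2 - C z : F[X]) ^ s) (by rw [hdegj, hns]) (hmonj z s)
      (by rw [hf0]; exact pow_ne_zero _ (neg_ne_zero.mpr hz0)) (hτsq z hz0 hzσ s)
    have hss := isSemisimple_toLin'_of_pow_eq_one p B K hKp hBK
    have hBr : B ^ 2 = z • (1 : Matrix (Fin n) (Fin n) F) :=
      matrix_pow_eq_scalar_of_semisimple B hss 2 s z (by rw [hBc])
    have hdet : B.det = 1 := by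
      rw [Matrix.det_eq_sign_charpoly_coeff, hBc, hf0, Fintype.card_fin, hns, pow_mul, neg_one_sq,
        one_pow, one_mul, hz, hl2]
    obtain ⟨x, hx⟩ : ∃ x : Matrix.SpecialLinearGroup (Fin n) F,
        (x : Matrix (Fin n) (Fin n) F) = B := ⟨⟨B, hdet⟩, rfl⟩
    have hxSU : x ∈ Cfsg.SU n F q := by
      rw [mem_SU_iff_cstar σ hσ, hx]; exact hBu
    have hfac : (X - C l : F[X]) * (X - C (-l)) = X ^ 2 - C z := by
      rw [hz, C_neg, C_mul]; ring
    have hnsx : ∀ c : F, (x : Matrix (Fin n) (Fin n) F) ≠ c • (1 : Matrix (Fin n) (Fin n) F) := by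
      intro c hc
      rw [hx] at hc
      have hd1 : (X - C l : F[X]) ∣ (c • (1 : Matrix (Fin n) (Fin n) F)).charpoly := by
        rw [← hc, hBc, ← hfac]
        exact Dvd.dvd.mul_right (dvd_pow_self _ hs0) _ |>.trans (by rw [mul_pow])
      have hd2 : (X - C (-l) : F[X]) ∣ (c • (1 : Matrix (Fin n) (Fin n) F)).charpoly := by
        rw [← hc, hBc, ← hfac]
        exact Dvd.dvd.mul_left (dvd_pow_self _ hs0) _ |>.trans (by rw [mul_pow])
      have e1 := Cfsg.Agent.Lib.helper63.SpTI.eq_of_dvd_charpoly_scalar (ι := Fin n) c _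
        (irreducible_X_sub_C l) (monic_X_sub_C l) hd1
      have e2 := Cfsg.Agent.Lib.helper63.SpTI.eq_of_dvd_charpoly_scalar (ι := Fin n) c _
        (irreducible_X_sub_C (-l)) (monic_X_sub_C (-l)) hd2
      have e3 := congrArg (fun f : F[X] => f.coeff 0) (e1.trans e2.symm)
      simp only [coeff_sub, coeff_X_zero, coeff_C_zero, zero_sub, neg_neg] at e3
      have h4 : (2 : F) * l = 0 := by linear_combination -e3
      exact hl0 ((mul_eq_zero.mp h4).resolve_left h2)
    obtain ⟨W, hW, hnd, hinv⟩ := H x hxSU ⟨z, by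
      rw [Matrix.SpecialLinearGroup.coe_pow, hx]; exact hBr⟩ hnsx
    rw [hx] at hinv
    obtain ⟨g, hg, hgd, hgτ, hgdvd⟩ := gu_nd_charpoly σ hσ n B hBu W hnd hinv
    rw [hBc, hz] at hgdvd
    obtain ⟨s', hs'⟩ := selfdual_dvd_sq σ l hlσ h2 g hg hgτ s hgdvd
    rw [hs', hdegj, hW] at hgd
    exact hmodd ⟨s', by omega⟩
  · intro hcond x hxSU ⟨z, hz⟩ hns
    rw [Matrix.SpecialLinearGroup.coe_pow] at hz
    have hxu := (mem_SU_iff_cstar σ hσ x).mp hxSU
    have hzσ : z * σ z = 1 := scalar_unitary σ n (by omega) _ hxu 2 z hz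
    have hz1 : z ^ (q + 1) = 1 := by rw [pow_succ, mul_comm, ← hσ]; exact hzσ
    have hz0 : z ≠ 0 := by
      rintro rfl
      rw [zero_pow (by omega)] at hz1
      exact zero_ne_one hz1
    have hsq : IsSquare z := by
      rw [FiniteField.isSquare_iff (by rw [ringChar.eq F p]; exact hp2) hz0, hF]
      obtain ⟨t, ht⟩ := hqodd
      have : q ^ 2 / 2 = (q + 1) * t := by
        rw [ht]
        have : (2 * t + 1) ^ 2 = 2 * ((2 * t + 1 + 1) * t) + 1 := by ring
        omega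
      rw [this, pow_mul, hz1, one_pow]
    obtain ⟨l, hl⟩ := hsq
    have hνsq : (l * σ l) * (l * σ l) = 1 := by
      have : (l * σ l) * (l * σ l) = (l * l) * σ (l * l) := by rw [map_mul]; ring
      rw [this, ← hl, hzσ]
    rcases mul_self_eq_one_iff.mp hνsq with hν | hν
    · obtain ⟨hA₀, hA₀2, hWW⟩ := su_scalar_reduce σ n (x : Matrix (Fin n) (Fin n) F) hxu 2 l z
        hν (by rw [pow_two, hl]) hz
      have : Fact (Nat.Prime 2) := ⟨Nat.prime_two⟩
      have hrp : (2 : ℕ) ≠ p := Ne.symm hp2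
      have hfix : ∀ P ∈ cycFactors 2 F, tdual σ P = P := by
        intro P hP
        rw [Cfsg.Agent.Lib.helper63.SpTI.cycFactors_two
          (tdual_mem_cycFactors p hrp σ a hσ' hP)]
        exact (Cfsg.Agent.Lib.helper63.SpTI.cycFactors_two hP).symm
      obtain ⟨W, hW, hnd, hinv⟩ := gu_nd_of_cond p hrp hF σ a hσ hσ' hne hσ2 n m hmn 1 1
        (orderOf_card_two (F := F) p hp2).symm (Or.inl ⟨hfix, rfl⟩)
        (by rw [Nat.mod_one, Nat.mod_one]) _ hA₀ hA₀2
      exact ⟨W, hW, hnd, hWW W hinv⟩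
    · -- anti-norm case
      have hAu := isUnit_of_cstar_mul σ (x : Matrix (Fin n) (Fin n) F) hxu
      have hAτ : tdual σ (x : Matrix (Fin n) (Fin n) F).charpoly
          = (x : Matrix (Fin n) (Fin n) F).charpoly := by
        rw [← charpoly_cstar_inv σ _ hAu, Matrix.inv_eq_right_inv hxu]
      have hcd := charpoly_dvd_pow_of_pow_eq_scalar (x : Matrix (Fin n) (Fin n) F) 2 z hz
      rw [hl] at hcd
      obtain ⟨s, hs⟩ := selfdual_dvd_sq σ l hν h2 _ (Matrix.charpoly_monic _) hAτ _ hcd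
      have hns2 : n = 2 * s := by
        have h1 := congrArg natDegree hs
        rw [Matrix.charpoly_natDegree_eq_dim, Fintype.card_fin, hdegj] at h1
        exact h1
      by_cases hmev : Even m
      · obtain ⟨m', hm'⟩ := hmev
        have hKx : (x : Matrix (Fin n) (Fin n) F) ^ (2 * (q + 1)) = 1 := by
          rw [pow_mul, hz, _root_.smul_pow, one_pow, hz1, one_smul]
        refine gu_nd_of_charpoly hF p σ hσ hne hσ2 n m _ hxu (2 * (q + 1)) hKx
          (not_dvd_r_mul p hF (Ne.symm hp2) Nat.prime_two) ((X ^ 2 - C z : F[X]) ^ m')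
          (hmonj z m') (by rw [hdegj]; omega) (hτsq z hz0 hzσ m') ?_
        rw [hs, ← hl]
        exact pow_dvd_pow _ (by omega)
      · exfalso
        rcases hcond with hc | hc | ⟨hc1, hc2⟩
        · obtain ⟨t, ht⟩ := hc
          omega
        · exact hmev hc
        · have hs0 : s ≠ 0 := by omega
          have hdet : (-(l * l)) ^ s = 1 := by
            have h1 := Matrix.det_eq_sign_charpoly_coeff (x : Matrix (Fin n) (Fin n) F)
            rw [x.det_coe, hs, Fintype.card_fin, hns2, pow_mul, neg_one_sq, one_pow, one_mul,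
              coeff_zero_eq_eval_zero, eval_pow, eval_sub, eval_pow, eval_X, eval_C,
              zero_pow two_ne_zero, zero_sub] at h1
            exact h1.symm
          obtain ⟨t, ht⟩ : ∃ t, q + 1 = 2 * (2 * t) := ⟨(q + 1) / 4, by omega⟩
          have hl1 : l ^ (q + 1) = -1 := by rw [pow_succ', ← hσ]; exact hν
          have hhalf : (q + 1) / 2 = 2 * t := by omega
          have hln : (-(l * l)) ^ ((q + 1) / 2) = -1 := by
            rw [hhalf, neg_pow, pow_mul, neg_one_sq, one_pow, one_mul, ← pow_two, ← pow_mul,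
              ← ht, hl1]
          have ht0 : t ≠ 0 := by omega
          have hv : padicValNat 2 (s - 1 + 1) ≤ padicValNat 2 ((q + 1) / 2) := by
            have e1 : s - 1 + 1 = s := by omega
            rw [e1, hhalf]
            rw [hns2, hv2 s hs0, ht, hv2 (2 * t) (by omega)] at hc1
            omega
          exact two_arith hneg1 (-(l * l)) (s - 1) ((q + 1) / 2) (by omega)
            (by
              have e1 : s - 1 + 1 = s := by omega
              rw [e1]; exact hdet) hln hv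

end TwoCase

end Cfsg.Agent.Lib.helper63.SuND
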