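import Mathlib
import Cfsg.Agent.Lib.helper63.SuND9
import Cfsg.Agent.Lib.helper17.UFrames

/-! Counting nondegenerate subspaces of the unitary space: the number of nondegenerate
`m`-subspaces times the order of a subgroup containing `GU_{n-m}` is the order of `GU_n`. -/

set_option autoImplicit false

namespace Cfsg.Agent.Lib.helper63.SuND

open Module Cfsg Matrix Cfsg.Agent.Lib.helper17 Cfsg.Agent.Lib.helper45
  Cfsg.Agent.Lib.helper48 Cfsg.Agent.Lib.helper63.SuTI

section Ortho

variable {F : Type*} [Field F] {q : ℕ} (n : ℕ)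

theorem herm_sum_smul_orthonormal {m : ℕ} (y : Fin m → (Fin n → F))
    (hy : ∀ i j, hermForm n F q (y i) (y j) = if i = j then 1 else 0) (c : Fin m → F)
    (i : Fin m) : hermForm n F q (∑ j, c j • y j) (y i) = c i := by
  classical
  rw [herm_sum_left]
  simp_rw [herm_smul_left, hy]
  rw [Finset.sum_eq_single i]
  · rw [if_pos rfl, mul_one]
  · intro j _ hj
    rw [if_neg hj, mul_zero]
  · intro h
    exact absurd (Finset.mem_univ i) h

/-- orthonormal families span nondegenerate subspaces -/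
theorem orthonormal_span {m : ℕ} (y : Fin m → (Fin n → F))
    (hy : ∀ i j, hermForm n F q (y i) (y j) = if i = j then 1 else 0) :
    LinearIndependent F y ∧ finrank F ↥(Submodule.span F (Set.range y)) = m ∧
      Nd n F q (Submodule.span F (Set.range y)) := by
  classical
  have hli : LinearIndependent F y := by
    rw [Fintype.linearIndependent_iff]
    intro c hc i
    have h1 := herm_sum_smul_orthonormal n y hy c i
    rw [hc, herm_zero_left] at h1
    exact h1.symm
  refine ⟨hli, ?_, ?_⟩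
  · rw [finrank_span_eq_card hli, Fintype.card_fin]
  · intro u hu hu0
    obtain ⟨c, rfl⟩ := (Submodule.mem_span_range_iff_exists_fun F).mp hu
    have hc : ∃ i, c i ≠ 0 := by
      by_contra hcon
      push Not at hcon
      apply hu0
      apply Finset.sum_eq_zero
      intro i _
      rw [hcon i, zero_smul]
    obtain ⟨i, hi⟩ := hc
    refine ⟨y i, Submodule.subset_span ⟨i, rfl⟩, ?_⟩
    rw [herm_sum_smul_orthonormal n y hy c i]
    exact hi

variable [Fintype F]

/-- nondegenerate subspaces have orthonormal bases -/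
theorem exists_orthonormal_of_nd (σ : F →+* F)
    (hσ : ∀ x, σ x = x ^ q) (hne : σ ≠ RingHom.id F) (hσ2 : ∀ x, σ (σ x) = x)
    (W : Submodule F (Fin n → F)) (hW : Nd n F q W) (d : ℕ) (hd : finrank F W = d) :
    ∃ y : Fin d → (Fin n → F),
      (∀ i j, hermForm n F q (y i) (y j) = if i = j then 1 else 0) ∧
      Submodule.span F (Set.range y) = W := by
  classical
  subst hd
  obtain ⟨B, hB⟩ : ∃ B : ↥W →ₛₗ[σ] ↥W →ₗ[F] F, B = (hermSesq n σ).domRestrict₁₂ W W :=
    ⟨_, rfl⟩
  have hBapp : ∀ x y : ↥W, B x y = hermForm n F q (y : Fin n → F) (x : Fin n → F) := by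
    intro x y
    rw [hB, LinearMap.domRestrict₁₂_apply, hermSesq_apply n q σ hσ]
  have hS : B.IsSymm := by
    constructor
    intro x y
    rw [hBapp, hBapp]
    exact (herm_symm n σ hσ hσ2 _ _).symm
  have hN : B.Nondegenerate := by
    constructor
    · intro x hx
      by_contra hx0
      have hx0' : (x : Fin n → F) ≠ 0 := fun h => hx0 (Subtype.ext h)
      obtain ⟨v, hv, hne'⟩ := hW x x.2 hx0'
      apply hne'
      have h1 := hx ⟨v, hv⟩
      rw [hBapp] at h1
      have h2 := herm_symm n σ hσ hσ2 v (x : Fin n → F)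
      rw [h1, map_zero] at h2
      exact h2
    · intro y hy
      by_contra hy0
      have hy0' : (y : Fin n → F) ≠ 0 := fun h => hy0 (Subtype.ext h)
      obtain ⟨v, hv, hne'⟩ := hW y y.2 hy0'
      apply hne'
      have h1 := hy ⟨v, hv⟩
      rw [hBapp] at h1
      exact h1
  obtain ⟨v, hv⟩ := exists_orthonormal_family σ hne hσ2 B hS hN (finrank F W) le_rfl
  obtain ⟨y, hy⟩ : ∃ y : Fin (finrank F W) → (Fin n → F), y = fun i => ((v i : ↥W) : Fin n → F) :=
    ⟨_, rfl⟩
  have hyo : ∀ i j, hermForm n F q (y i) (y j) = if i = j then 1 else 0 := by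
    intro i j
    have h1 := hv j i
    rw [hBapp] at h1
    rw [hy]
    show hermForm n F q (v i : Fin n → F) (v j : Fin n → F) = _
    rw [h1]
    by_cases hij : i = j
    · rw [if_pos hij, if_pos hij.symm]
    · rw [if_neg hij, if_neg (Ne.symm hij)]
  refine ⟨y, hyo, ?_⟩
  obtain ⟨-, hfr, -⟩ := orthonormal_span n y hyo
  apply Submodule.eq_of_le_of_finrank_eq
  · rw [Submodule.span_le]
    rintro _ ⟨i, rfl⟩
    rw [hy]
    exact (v i).2
  · exact hfr

end Ortho

section Fix

variable {F : Type*} [Field F] [Fintype F] {q : ℕ}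

/-- matrices fixing the first `m` standard basis vectors -/
def FixP (N m : ℕ) (M : Matrix (Fin N) (Fin N) F) : Prop :=
  ∀ i : Fin N, i.val < m → M *ᵥ Pi.single i 1 = Pi.single i 1

omit [Fintype F] in
theorem single_succ_comp (N : ℕ) (i : Fin N) :
    (fun j : Fin N => (Pi.single i.succ 1 : Fin (N + 1) → F) j.succ) = Pi.single i 1 := by
  classical
  funext j
  rw [Pi.single_apply, Pi.single_apply]
  by_cases h : j = i
  · rw [if_pos h, if_pos (by rw [h])]
  · rw [if_neg h, if_neg (fun h' => h (Fin.succ_injective _ h'))]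

open Cfsg.Agent.Lib.helper7 in
/-- the isometries fixing the first `m` standard basis vectors are as many as the isometries in
dimension `k` -/
theorem card_fixP (hq : q ≠ 0) (k : ℕ) : ∀ m : ℕ,
    Nat.card {M : Matrix (Fin (k + m)) (Fin (k + m)) F // IsIsom (k + m) q M ∧ FixP (k + m) m M}
      = Nat.card {M : Matrix (Fin k) (Fin k) F // IsIsom k q M} := by
  classical
  intro m
  induction m with
  | zero =>
    apply Nat.card_congr
    exact Equiv.subtypeEquivRight (fun M =>
      ⟨fun h => h.1, fun h => ⟨h, fun i hi => absurd hi (Nat.not_lt_zero _)⟩⟩)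
  | succ m ih =>
    rw [← ih]
    apply Nat.card_congr
    have hfix0 : ∀ M : Matrix (Fin (k + m + 1)) (Fin (k + m + 1)) F, FixP (k + m + 1) (m + 1) M →
        M *ᵥ Pi.single 0 1 = Pi.single 0 1 := fun M hM => hM 0 (by simp)
    refine ⟨fun M => ⟨M.1.submatrix Fin.succ Fin.succ,
        submatrix_isIsom hq (k + m) M.1 M.2.1 (hfix0 M.1 M.2.2), ?_⟩,
      fun M' => ⟨extMat (k + m) M'.1, extMat_isIsom (k + m) M'.1 M'.2.1, ?_⟩, ?_, ?_⟩
    · intro i hi
      have hE := eq_extMat_of_fix hq (k + m) M.1 M.2.1 (hfix0 M.1 M.2.2)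
      funext j
      have h1 := extMat_mulVec_succ (k + m) (M.1.submatrix Fin.succ Fin.succ)
        (Pi.single i.succ 1) j
      rw [hE, single_succ_comp] at h1
      rw [← h1, M.2.2 i.succ (by simp; omega)]
      exact congrFun (single_succ_comp (k + m) i) j
    · intro i hi
      refine Fin.cases ?_ (fun i' hi' => ?_) i hi
      · intro _
        exact extMat_fix (k + m) M'.1
      · funext l
        refine Fin.cases ?_ (fun l' => ?_) l
        · rw [extMat_mulVec_zero]
        · rw [extMat_mulVec_succ, single_succ_comp, M'.2.2 i' (by simp at hi'; omega)]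
          exact (congrFun (single_succ_comp (k + m) i') l').symm
    · intro M
      exact Subtype.ext (eq_extMat_of_fix hq (k + m) M.1 M.2.1 (hfix0 M.1 M.2.2))
    · intro M'
      exact Subtype.ext (submatrix_extMat (k + m) M'.1)

end Fix

section Count

variable {F : Type*} [Field F] [Fintype F] {q : ℕ}

/-- the standard orthonormal `m`-frame -/
def stdFr (F : Type*) [Field F] (k m : ℕ) : Fin m → (Fin (k + m) → F) :=
  fun i => Pi.single (Fin.castLE (Nat.le_add_left m k) i) 1

omit [Fintype F] in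
theorem stdFr_orthonormal (hq : q ≠ 0) (k m : ℕ) (i j : Fin m) :
    hermForm (k + m) F q (stdFr F k m i) (stdFr F k m j) = if i = j then 1 else 0 := by
  classical
  unfold stdFr
  rw [hermForm_single_right (k + m) q hq, Pi.single_apply]
  by_cases h : i = j
  · rw [if_pos h, if_pos (by rw [h])]
  · rw [if_neg h, if_neg (fun h' => h (Fin.castLE_injective _ h').symm)]

open Cfsg.Agent.Lib.helper7 in
/-- the order of `GU_n` is the number of nondegenerate `m`-subspaces times a multiple of the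
order of `GU_{n-m}` -/
theorem card_nd_mul (hF : Fintype.card F = q ^ 2) (σ : F →+* F)
    (hσ : ∀ x, σ x = x ^ q) (hne : σ ≠ RingHom.id F) (hσ2 : ∀ x, σ (σ x) = x) (k m : ℕ) :
    ∃ d : ℕ, Nat.card {M : Matrix (Fin (k + m)) (Fin (k + m)) F // IsIsom (k + m) q M}
      = Nat.card {W : Submodule F (Fin (k + m) → F) // finrank F W = m ∧
          (∀ u ∈ W, u ≠ 0 → ∃ v ∈ W, hermForm (k + m) F q u v ≠ 0)}
        * (d * Nat.card {M : Matrix (Fin k) (Fin k) F // IsIsom k q M}) := by
  classical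
  have hq2 := two_le_of_card_eq_sq hF
  have hq0 : q ≠ 0 := by omega
  obtain ⟨x₀, hx₀def⟩ : ∃ x₀ : Fin m → (Fin (k + m) → F), x₀ = stdFr F k m := ⟨_, rfl⟩
  have hx₀ : ∀ i j, hermForm (k + m) F q (x₀ i) (x₀ j) = if i = j then 1 else 0 := by
    intro i j; rw [hx₀def]; exact stdFr_orthonormal hq0 k m i j
  obtain ⟨hli₀, hfr₀, hnd₀⟩ := orthonormal_span (k + m) x₀ hx₀
  obtain ⟨W₀, hW₀⟩ : ∃ W₀ : Submodule F (Fin (k + m) → F),
      W₀ = Submodule.span F (Set.range x₀) := ⟨_, rfl⟩
  obtain ⟨S, hS⟩ : ∃ S : Subgroup (GU (k + m) F q),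
      S = stabilizing (guToMat (k + m) F q) (W₀ : Set (Fin (k + m) → F)) := ⟨_, rfl⟩
  obtain ⟨T, hT⟩ : ∃ T : Subgroup (GU (k + m) F q),
      T = frameStabG (guToMat (k + m) F q) x₀ := ⟨_, rfl⟩
  have hSmem : ∀ g : GU (k + m) F q, g ∈ S ↔ ∀ v ∈ W₀, guToMat (k + m) F q g *ᵥ v ∈ W₀ := by
    intro g; rw [hS]; exact mem_stabilizing_iff_maps _ W₀ g
  have hmapspan : ∀ g : GU (k + m) F q, W₀.map (Matrix.toLin' (guToMat (k + m) F q g))
      = Submodule.span F (Set.range (fun i => guToMat (k + m) F q g *ᵥ x₀ i)) := by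
    intro g; rw [hW₀, span_map_mulVec]
  have hTS : T ≤ S := by
    intro g hg
    rw [hT, mem_frameStabG] at hg
    rw [hSmem]
    intro v hv
    have h1 : Matrix.toLin' (guToMat (k + m) F q g) v
        ∈ W₀.map (Matrix.toLin' (guToMat (k + m) F q g)) := Submodule.mem_map_of_mem hv
    rw [hmapspan, funext hg, ← hW₀, Matrix.toLin'_apply] at h1
    exact h1
  obtain ⟨f, hfdef⟩ : ∃ f : GU (k + m) F q → Submodule F (Fin (k + m) → F),
      f = fun g => W₀.map (Matrix.toLin' (guToMat (k + m) F q g)) := ⟨_, rfl⟩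
  have hf : ∀ g g', f g = f g' ↔ g⁻¹ * g' ∈ S := by
    intro g g'
    rw [hfdef]
    constructor
    · intro h
      rw [hSmem]
      intro v hv
      have h1 : Matrix.toLin' (guToMat (k + m) F q g') v
          ∈ W₀.map (Matrix.toLin' (guToMat (k + m) F q g)) := by
        have : W₀.map (Matrix.toLin' (guToMat (k + m) F q g))
            = W₀.map (Matrix.toLin' (guToMat (k + m) F q g')) := h
        rw [this]
        exact Submodule.mem_map_of_mem hv
      obtain ⟨w, hw, hw2⟩ := h1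
      rw [Matrix.toLin'_apply, Matrix.toLin'_apply] at hw2
      rw [map_mul, ← Matrix.mulVec_mulVec, ← hw2, Matrix.mulVec_mulVec, toMat_inv_mul,
        Matrix.one_mulVec]
      exact hw
    · intro h
      have hinv := S.inv_mem h
      rw [hSmem] at h hinv
      show W₀.map (Matrix.toLin' (guToMat (k + m) F q g))
            = W₀.map (Matrix.toLin' (guToMat (k + m) F q g'))
      apply le_antisymm
      · rintro _ ⟨w, hw, rfl⟩
        refine ⟨guToMat (k + m) F q (g⁻¹ * g')⁻¹ *ᵥ w, hinv w hw, ?_⟩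
        rw [Matrix.toLin'_apply, Matrix.toLin'_apply, Matrix.mulVec_mulVec, ← map_mul]
        congr 2
        group
      · rintro _ ⟨v, hv, rfl⟩
        refine ⟨guToMat (k + m) F q (g⁻¹ * g') *ᵥ v, h v hv, ?_⟩
        rw [Matrix.toLin'_apply, Matrix.toLin'_apply, Matrix.mulVec_mulVec, ← map_mul]
        congr 2
        group
  have hrange : Set.range f = {W : Submodule F (Fin (k + m) → F) | finrank F W = m ∧
      (∀ u ∈ W, u ≠ 0 → ∃ v ∈ W, hermForm (k + m) F q u v ≠ 0)} := by
    ext W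
    constructor
    · rintro ⟨g, rfl⟩
      rw [hfdef]
      show finrank F ↥(W₀.map (Matrix.toLin' (guToMat (k + m) F q g))) = m ∧
        Nd (k + m) F q (W₀.map (Matrix.toLin' (guToMat (k + m) F q g)))
      rw [hmapspan]
      obtain ⟨-, h1, h2⟩ := orthonormal_span (k + m) (fun i => guToMat (k + m) F q g *ᵥ x₀ i)
        (fun i j => by rw [guToMat_preserves]; exact hx₀ i j)
      exact ⟨h1, h2⟩
    · rintro ⟨hWm, hWnd⟩
      obtain ⟨y', hy'o, hy's⟩ := exists_orthonormal_of_nd (k + m) σ hσ hne hσ2 W hWnd m hWm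
      obtain ⟨hliy, -, -⟩ := orthonormal_span (k + m) y' hy'o
      obtain ⟨g, hg⟩ := gu_witt_family hF (k + m) x₀ y' hli₀ hliy
        (fun i j => by rw [hx₀, hy'o])
      refine ⟨g, ?_⟩
      rw [hfdef]
      show W₀.map (Matrix.toLin' (guToMat (k + m) F q g)) = W
      rw [hmapspan, funext hg, hy's]
  have h1 := card_eq_card_range_mul_card S f hf
  have hTcard : Nat.card T = Nat.card {M : Matrix (Fin k) (Fin k) F // IsIsom k q M} := by
    rw [← card_fixP hq0 k m]
    apply Nat.card_congr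
    have hiff : ∀ g : GU (k + m) F q, g ∈ T ↔ FixP (k + m) m ((guEquiv hq0 (k + m)) g).1 := by
      intro g
      rw [hT, mem_frameStabG]
      constructor
      · intro h i hi
        have h2 := h ⟨i.val, hi⟩
        rw [hx₀def] at h2
        exact h2
      · intro h i
        rw [hx₀def]
        exact h (Fin.castLE (Nat.le_add_left m k) i) (by simp)
    exact ((guEquiv hq0 (k + m)).subtypeEquiv hiff).trans
      (Equiv.subtypeSubtypeEquivSubtypeInter _ _)
  obtain ⟨d, hd⟩ := Subgroup.card_dvd_of_le hTS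
  refine ⟨d, ?_⟩
  rw [← Nat.card_congr (guEquiv hq0 (k + m)), h1, hrange, hd, hTcard, mul_comm d]
  rfl

end Count

section ArithCount

variable {F : Type*} [Field F] [Fintype F] {q : ℕ}

/-- a prime `r ∤ q` dividing the number of nondegenerate `m`-subspaces divides
`q^e - (-1)^e` for some `n - m < e ≤ n` -/
theorem exists_pow_of_dvd_card_nd (hF : Fintype.card F = q ^ 2) (σ : F →+* F)
    (hσ : ∀ x, σ x = x ^ q) (hne : σ ≠ RingHom.id F) (hσ2 : ∀ x, σ (σ x) = x)
    (n m : ℕ) (hmn : m ≤ n) (r : ℕ) [Fact r.Prime] (hrq : ¬ r ∣ q)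
    (h : r ∣ Nat.card {W : Submodule F (Fin n → F) // finrank F W = m ∧
        (∀ u ∈ W, u ≠ 0 → ∃ v ∈ W, hermForm n F q u v ≠ 0)}) :
    ∃ e : ℕ, n < e + m ∧ e ≤ n ∧ 1 ≤ e ∧ (-(q : ZMod r)) ^ e = 1 := by
  classical
  have hr : r.Prime := Fact.out
  have hq2 := two_le_of_card_eq_sq hF
  obtain ⟨k, rfl⟩ : ∃ k, n = k + m := ⟨n - m, by omega⟩
  obtain ⟨d, hd⟩ := card_nd_mul hF σ hσ hne hσ2 k m
  rw [Cfsg.Agent.Lib.helper7.card_isIsom hF, Cfsg.Agent.Lib.helper7.card_isIsom hF,
    Finset.prod_range_add] at hd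
  obtain ⟨fn, hfn⟩ : ∃ fn : ℕ → ℕ,
      fn = fun i => if Even i then q ^ (i + 1) + 1 else q ^ (i + 1) - 1 := ⟨_, rfl⟩
  have hfpos : ∀ i, 0 < fn i := by
    intro i
    rw [hfn]
    dsimp only
    split_ifs
    · positivity
    · have : 2 ≤ q ^ (i + 1) := le_trans hq2 (Nat.le_self_pow (by omega) q)
      omega
  obtain ⟨Pk, hPk⟩ : ∃ Pk, Pk = ∏ i ∈ Finset.range k, fn i := ⟨_, rfl⟩
  obtain ⟨Pm, hPm⟩ : ∃ Pm, Pm = ∏ i ∈ Finset.range m, fn (k + i) := ⟨_, rfl⟩
  have hPkpos : 0 < Pk := by rw [hPk]; exact Finset.prod_pos (fun i _ => hfpos i)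
  obtain ⟨t, ht⟩ := h
  have hd' : q ^ ((k + m) * (k + m - 1) / 2) * (Pk * Pm)
      = r * t * (d * (q ^ (k * (k - 1) / 2) * Pk)) := by
    rw [hPk, hPm, hfn, ← ht]
    exact hd
  have h3 : q ^ ((k + m) * (k + m - 1) / 2) * Pm * Pk
      = (r * (t * d * q ^ (k * (k - 1) / 2))) * Pk := by
    calc q ^ ((k + m) * (k + m - 1) / 2) * Pm * Pk
        = q ^ ((k + m) * (k + m - 1) / 2) * (Pk * Pm) := by ring
      _ = r * t * (d * (q ^ (k * (k - 1) / 2) * Pk)) := hd'
      _ = (r * (t * d * q ^ (k * (k - 1) / 2))) * Pk := by ring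
  have h4 := Nat.eq_of_mul_eq_mul_right hPkpos h3
  have h5 : r ∣ q ^ ((k + m) * (k + m - 1) / 2) * Pm := ⟨_, h4⟩
  have h6 : r ∣ Pm := by
    rcases (Nat.Prime.dvd_mul hr).mp h5 with h | h
    · exact absurd (hr.dvd_of_dvd_pow h) hrq
    · exact h
  rw [hPm] at h6
  obtain ⟨i, hi, hdvd⟩ := (Prime.dvd_finsetProd_iff (Nat.Prime.prime hr) _).mp h6
  rw [Finset.mem_range] at hi
  refine ⟨k + i + 1, by omega, by omega, by omega, ?_⟩
  rw [hfn] at hdvd
  dsimp only at hdvd
  by_cases hev : Even (k + i)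
  · rw [if_pos hev] at hdvd
    have h7 : ((q ^ (k + i + 1) + 1 : ℕ) : ZMod r) = 0 :=
      (ZMod.natCast_eq_zero_iff _ _).mpr hdvd
    push_cast at h7
    have hodd : Odd (k + i + 1) := hev.add_one
    rw [neg_pow, hodd.neg_one_pow]
    linear_combination -h7
  · rw [if_neg hev] at hdvd
    have h7 : ((q ^ (k + i + 1) - 1 : ℕ) : ZMod r) = 0 :=
      (ZMod.natCast_eq_zero_iff _ _).mpr hdvd
    rw [Nat.cast_sub (Nat.one_le_pow _ _ (by omega)), Nat.cast_pow, Nat.cast_one] at h7
    have hodd : Odd (k + i) := Nat.not_even_iff_odd.mp hev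
    have hev' : Even (k + i + 1) := hodd.add_one
    rw [neg_pow, hev'.neg_one_pow, one_mul]
    exact sub_eq_zero.mp h7

end ArithCount

end Cfsg.Agent.Lib.helper63.SuND
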