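import Mathlib

/-! Piece `X` of the S3359/S0686/S0689 split (owner helper15): `S ⊔ M ≃* S × M`. -/

set_option autoImplicit false

namespace Cfsg.Agent.Lib.helper63

theorem sup_equiv_prod {H : Type*} [Group H] (S M : Subgroup H) (hinf : S ⊓ M = ⊥)
    (hc : ∀ s ∈ S, ∀ x ∈ M, s * x = x * s) : Nonempty ((S ⊔ M : Subgroup H) ≃* S × M) := by
  let f : S × M →* H :=
    { toFun := fun a => (a.1 : H) * (a.2 : H)
      map_one' := by simp
      map_mul' := fun a b => by
        show ((a.1 * b.1 : S) : H) * ((a.2 * b.2 : M) : H) = (a.1 : H) * a.2 * (b.1 * b.2)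
        rw [Subgroup.coe_mul, Subgroup.coe_mul]
        have h := hc b.1 b.1.2 a.2 a.2.2
        rw [mul_assoc (a.1 : H) b.1, ← mul_assoc (b.1 : H) a.2, h]
        simp only [mul_assoc] }
  have hf : ∀ a : S × M, f a = (a.1 : H) * (a.2 : H) := fun _ => rfl
  have hinj : Function.Injective f := by
    rw [injective_iff_map_eq_one]
    intro a ha
    have ha' : (a.1 : H) * (a.2 : H) = 1 := ha
    have h1 : (a.1 : H) = (a.2 : H)⁻¹ := eq_inv_of_mul_eq_one_left ha'
    have h2 : (a.1 : H) ∈ S ⊓ M := ⟨a.1.2, by rw [h1]; exact M.inv_mem a.2.2⟩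
    rw [hinf, Subgroup.mem_bot] at h2
    have h3 : (a.2 : H) = 1 := by rw [h2, one_mul] at ha'; exact ha'
    exact Prod.ext (Subtype.ext h2) (Subtype.ext h3)
  have hrange : f.range = S ⊔ M := by
    apply le_antisymm
    · rintro _ ⟨a, rfl⟩
      rw [hf]
      exact Subgroup.mul_mem _ (Subgroup.mem_sup_left a.1.2) (Subgroup.mem_sup_right a.2.2)
    · rw [sup_le_iff]
      constructor
      · intro s hs
        exact ⟨(⟨s, hs⟩, 1), by rw [hf]; simp⟩
      · intro x hx
        exact ⟨(1, ⟨x, hx⟩), by rw [hf]; simp⟩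
  exact ⟨((MonoidHom.ofInjective hinj).trans (MulEquiv.subgroupCongr hrange)).symm⟩

end Cfsg.Agent.Lib.helper63
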