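import Mathlib
import Cfsg.Agent.Lib.helper63.ZassX

/-! Piece `V` of the S3359/S0686/S0689 split (owner helper15): `reg_half`. -/

set_option autoImplicit false

namespace Cfsg.Agent.Lib.helper63

/-- generators of a quaternion subgroup of `SL(2,5)` -/
def zassVu : Matrix.SpecialLinearGroup (Fin 2) (ZMod 5) := ⟨!![2, 0; 0, 3], by decide⟩

/-- generators of a quaternion subgroup of `SL(2,5)` -/
def zassVv : Matrix.SpecialLinearGroup (Fin 2) (ZMod 5) := ⟨!![0, 1; -1, 0], by decide⟩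

theorem zassV_rel :
    zassVu * zassVu = zassVv * zassVv ∧ zassVu * zassVu * (zassVu * zassVu) = 1 ∧
    zassVu * zassVu ≠ 1 ∧ zassVv * zassVu = zassVu * zassVu * zassVu * zassVv := by
  decide

theorem reg_half {p : ℕ} [Fact p.Prime] {V : Type*} [AddCommGroup V] [Module (ZMod p) V]
    [Finite V] [Nontrivial V] (H : Subgroup (V ≃ₗ[ZMod p] V))
    (hreg : ∀ v w : V, v ≠ 0 → w ≠ 0 → ∃! h : H, (h : V ≃ₗ[ZMod p] V) v = w)
    (S M : Subgroup H) (e : S ≃* Matrix.SpecialLinearGroup (Fin 2) (ZMod 5))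
    (hinf : S ⊓ M = ⊥) (hc : ∀ s ∈ S, ∀ x ∈ M, s * x = x * s) :
    ∃ k : ℕ, Nat.card V = (p ^ k) ^ 2 ∧ 2 * Nat.card M ∣ p ^ k - 1 ∧
      Nat.card H + 1 = Nat.card V := by
  classical
  obtain ⟨r1, r2, r3, r4⟩ := zassV_rel
  have ap : ∀ (f g : V ≃ₗ[ZMod p] V) (y : V), (f * g) y = f (g y) := fun _ _ _ => rfl
  -- fixed-point-freeness
  have hfpf : ∀ h : H, ∀ y : V, y ≠ 0 → (h : V ≃ₗ[ZMod p] V) y = y → h = 1 := by
    intro h y hy hh
    obtain ⟨h0, -, huniq⟩ := hreg y y hy hy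
    rw [huniq h hh, huniq 1 (by simp)]
  -- elements of S
  obtain ⟨us, hus⟩ : ∃ us : S, us = e.symm zassVu := ⟨_, rfl⟩
  obtain ⟨vs, hvs⟩ : ∃ vs : S, vs = e.symm zassVv := ⟨_, rfl⟩
  have s1 : us * us = vs * vs := by rw [hus, hvs, ← map_mul, ← map_mul, r1]
  have s2 : us * us * (us * us) = 1 := by rw [hus, ← map_mul, ← map_mul, r2, map_one]
  have s3 : us * us ≠ 1 := by
    rw [hus, ← map_mul]
    intro h
    exact r3 (e.symm.injective (by rw [h, map_one]))
  have s4 : vs * us = us * us * us * vs := by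
    rw [hus, hvs, ← map_mul, ← map_mul, ← map_mul, ← map_mul, r4]
  -- as linear maps
  obtain ⟨u, hu⟩ : ∃ u : V ≃ₗ[ZMod p] V, u = ((us : H) : V ≃ₗ[ZMod p] V) := ⟨_, rfl⟩
  obtain ⟨v, hv⟩ : ∃ v : V ≃ₗ[ZMod p] V, v = ((vs : H) : V ≃ₗ[ZMod p] V) := ⟨_, rfl⟩
  have l1 : u * u = v * v := by
    rw [hu, hv]; exact congrArg (fun s : S => ((s : H) : V ≃ₗ[ZMod p] V)) s1
  have l2 : u * u * (u * u) = 1 := by
    rw [hu]; exact congrArg (fun s : S => ((s : H) : V ≃ₗ[ZMod p] V)) s2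
  have l4 : v * u = u * u * u * v := by
    rw [hu, hv]; exact congrArg (fun s : S => ((s : H) : V ≃ₗ[ZMod p] V)) s4
  obtain ⟨zH, hzH⟩ : ∃ zH : H, zH = ((us * us : S) : H) := ⟨_, rfl⟩
  have hzHu : ∀ y : V, (zH : V ≃ₗ[ZMod p] V) y = u (u y) := by
    intro y; rw [hzH, hu]; rfl
  have hzH1 : zH ≠ 1 := by
    rw [hzH]
    intro h
    exact s3 (Subtype.ext h)
  have hu4 : ∀ y : V, u (u (u (u y))) = y := by
    intro y
    have h := congrArg (fun f : V ≃ₗ[ZMod p] V => f y) l2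
    exact h
  -- z = u*u acts as -1
  have hz : ∀ y : V, u (u y) = -y := by
    intro y
    by_contra hne
    have hy' : y + u (u y) ≠ 0 := fun h => hne (eq_neg_of_add_eq_zero_right h)
    have hfix : (zH : V ≃ₗ[ZMod p] V) (y + u (u y)) = y + u (u y) := by
      rw [hzHu, map_add, map_add, hu4, add_comm]
    exact hzH1 (hfpf zH _ hy' hfix)
  have h2 : (2 : ZMod p) ≠ 0 := by
    intro h
    obtain ⟨y, hy⟩ := exists_ne (0 : V)
    have hyy : y + y = 0 := by rw [← two_smul (ZMod p) y, h, zero_smul]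
    have hfix : (zH : V ≃ₗ[ZMod p] V) y = y := by
      rw [hzHu, hz]; exact (eq_neg_of_add_eq_zero_right hyy).symm
    exact hzH1 (hfpf zH y hy hfix)
  have hvv : ∀ y : V, v (v y) = -y := by
    intro y
    have h := congrArg (fun f : V ≃ₗ[ZMod p] V => f y) l1
    have h' : u (u y) = v (v y) := h
    rw [← h', hz]
  have hvu : ∀ y : V, v (u y) = -(u (v y)) := by
    intro y
    have h := congrArg (fun f : V ≃ₗ[ZMod p] V => f y) l4
    have h' : v (u y) = u (u (u (v y))) := h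
    rw [h', hz]
  -- the involution W = a u + b v
  obtain ⟨a, b, hab⟩ := ZMod.sq_add_sq p (-1)
  have hab' : a * a + b * b = -1 := by rw [← hab]; ring
  obtain ⟨W, hWdef⟩ : ∃ W : V →ₗ[ZMod p] V,
      W = a • (u : V →ₗ[ZMod p] V) + b • (v : V →ₗ[ZMod p] V) := ⟨_, rfl⟩
  have hW : ∀ y : V, W y = a • u y + b • v y := by
    intro y; rw [hWdef]; rfl
  have hWW : ∀ y : V, W (W y) = y := by
    intro y
    rw [hW (W y), hW y, map_add, map_add, map_smul, map_smul, map_smul, map_smul,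
      hz, hvv, hvu]
    have h : a • (a • -y + b • u (v y)) + b • (a • -u (v y) + b • -y)
        = (-(a * a + b * b)) • y := by module
    rw [h, hab', neg_neg, one_smul]
  -- t = u v anticommutes with W
  have hWt : ∀ y : V, W (u (v y)) = -(u (v (W y))) := by
    intro y
    rw [hW (u (v y)), hW y, map_add, map_add, map_smul, map_smul, map_smul, map_smul,
      hz, hvu (v y), hvv, hvu y, map_neg, map_neg, hz]
    module
  obtain ⟨A, hAdef⟩ : ∃ A : Submodule (ZMod p) V, A = LinearMap.ker (W - LinearMap.id) :=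
    ⟨_, rfl⟩
  obtain ⟨A', hA'def⟩ : ∃ A' : Submodule (ZMod p) V, A' = LinearMap.ker (W + LinearMap.id) :=
    ⟨_, rfl⟩
  have mem_A : ∀ y : V, y ∈ A ↔ W y = y := by
    intro y
    rw [hAdef, LinearMap.mem_ker, LinearMap.sub_apply, LinearMap.id_apply, sub_eq_zero]
  have mem_A' : ∀ y : V, y ∈ A' ↔ W y = -y := by
    intro y
    rw [hA'def, LinearMap.mem_ker, LinearMap.add_apply, LinearMap.id_apply,
      add_eq_zero_iff_eq_neg]
  have hfr1 : Module.finrank (ZMod p) A ≤ Module.finrank (ZMod p) A' := by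
    rw [← LinearEquiv.finrank_map_eq (u * v) A]
    apply Submodule.finrank_mono
    rintro _ ⟨y, hy, rfl⟩
    have hy' := (mem_A y).mp hy
    rw [mem_A']
    show W (u (v y)) = -(u (v y))
    rw [hWt, hy']
  have hfr2 : Module.finrank (ZMod p) A' ≤ Module.finrank (ZMod p) A := by
    rw [← LinearEquiv.finrank_map_eq (u * v) A']
    apply Submodule.finrank_mono
    rintro _ ⟨y, hy, rfl⟩
    have hy' := (mem_A' y).mp hy
    rw [mem_A]
    show W (u (v y)) = u (v y)
    rw [hWt, hy', map_neg, map_neg, neg_neg]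
  have hrange : LinearMap.range (W - LinearMap.id) = A' := by
    apply le_antisymm
    · rintro _ ⟨y, rfl⟩
      rw [mem_A', LinearMap.sub_apply, LinearMap.id_apply, map_sub, hWW, neg_sub]
    · intro y hy
      have hy' := (mem_A' y).mp hy
      refine ⟨(-(2 : ZMod p)⁻¹) • y, ?_⟩
      rw [LinearMap.sub_apply, LinearMap.id_apply, map_smul, hy']
      have h : (-(2 : ZMod p)⁻¹) • -y - (-(2 : ZMod p)⁻¹) • y = ((2 : ZMod p)⁻¹ * 2) • y := by
        module
      rw [h, inv_mul_cancel₀ h2, one_smul]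
  have hfr3 : Module.finrank (ZMod p) A' + Module.finrank (ZMod p) A
      = Module.finrank (ZMod p) V := by
    have h := LinearMap.finrank_range_add_finrank_ker (W - LinearMap.id)
    rw [hrange, ← hAdef] at h
    exact h
  obtain ⟨k, hk⟩ : ∃ k : ℕ, k = Module.finrank (ZMod p) A := ⟨_, rfl⟩
  have hk' : Module.finrank (ZMod p) A' = k := by rw [hk]; exact le_antisymm hfr2 hfr1
  have hcardV : Nat.card V = (p ^ k) ^ 2 := by
    rw [Module.natCard_eq_pow_finrank (K := ZMod p) (V := V), Nat.card_zmod, ← hfr3, hk', ← hk,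
      ← pow_mul, mul_two]
  have hcardA : Nat.card A = p ^ k := by
    rw [Module.natCard_eq_pow_finrank (K := ZMod p) (V := A), Nat.card_zmod, ← hk]
  -- |H| + 1 = |V|
  have hcardH : Nat.card H + 1 = Nat.card V := by
    obtain ⟨v₀, hv₀⟩ := exists_ne (0 : V)
    have hφ : Function.Bijective
        (fun h : H => (⟨(h : V ≃ₗ[ZMod p] V) v₀, by simpa using hv₀⟩ : {w : V // w ≠ 0})) := by
      constructor
      · intro h h' hh
        have hh' : (h : V ≃ₗ[ZMod p] V) v₀ = (h' : V ≃ₗ[ZMod p] V) v₀ := congrArg Subtype.val hh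
        obtain ⟨h0, -, huniq⟩ := hreg v₀ ((h' : V ≃ₗ[ZMod p] V) v₀) hv₀ (by simpa using hv₀)
        rw [huniq h hh', huniq h' rfl]
      · rintro ⟨w, hw⟩
        obtain ⟨h, hh, -⟩ := hreg v₀ w hv₀ hw
        exact ⟨h, Subtype.ext hh⟩
    have h1 : Nat.card H = Nat.card {w : V // w ≠ 0} := Nat.card_congr (Equiv.ofBijective _ hφ)
    have h3 : Nat.card {w : V // w ≠ 0} = Nat.card V - 1 := by
      have h4 : {w : V | w ≠ 0} = Set.univ \ {0} := by ext w; simp
      have h5 : Nat.card {w : V // w ≠ 0} = ({w : V | w ≠ 0} : Set V).ncard :=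
        Nat.card_coe_set_eq _
      rw [h5, h4, Set.ncard_sdiff_singleton_of_mem (Set.mem_univ 0), Set.ncard_univ]
    have h6 : 0 < Nat.card V := Nat.card_pos
    rw [h1, h3]
    omega
  refine ⟨k, hcardV, ?_, hcardH⟩
  -- the subgroup of elements commuting with W
  obtain ⟨Cw, hCw⟩ : ∃ Cw : Subgroup H, ∀ g : H,
      g ∈ Cw ↔ ∀ y : V, (g : V ≃ₗ[ZMod p] V) (W y) = W ((g : V ≃ₗ[ZMod p] V) y) := by
    refine ⟨{ carrier := {g | ∀ y : V, (g : V ≃ₗ[ZMod p] V) (W y) = W ((g : V ≃ₗ[ZMod p] V) y)}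
              mul_mem' := ?_
              one_mem' := ?_
              inv_mem' := ?_ }, fun g => Iff.rfl⟩
    · intro g h hg hh y
      show (g : V ≃ₗ[ZMod p] V) ((h : V ≃ₗ[ZMod p] V) (W y))
        = W ((g : V ≃ₗ[ZMod p] V) ((h : V ≃ₗ[ZMod p] V) y))
      rw [hh y, hg]
    · intro y
      rfl
    · intro g hg y
      have h1 : ∀ x : V, ((g⁻¹ : H) : V ≃ₗ[ZMod p] V) ((g : V ≃ₗ[ZMod p] V) x) = x := by
        intro x
        have h := congrArg (fun f : H => (f : V ≃ₗ[ZMod p] V) x) (inv_mul_cancel g)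
        exact h
      have h2 : ∀ x : V, (g : V ≃ₗ[ZMod p] V) (((g⁻¹ : H) : V ≃ₗ[ZMod p] V) x) = x := by
        intro x
        have h := congrArg (fun f : H => (f : V ≃ₗ[ZMod p] V) x) (mul_inv_cancel g)
        exact h
      show ((g⁻¹ : H) : V ≃ₗ[ZMod p] V) (W y) = W (((g⁻¹ : H) : V ≃ₗ[ZMod p] V) y)
      have h3 := hg (((g⁻¹ : H) : V ≃ₗ[ZMod p] V) y)
      rw [h2] at h3
      rw [← h3, h1]
  have hMC : M ≤ Cw := by
    intro x hx
    rw [hCw]
    intro y
    have hxu : ∀ y : V, (x : V ≃ₗ[ZMod p] V) (u y) = u ((x : V ≃ₗ[ZMod p] V) y) := by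
      intro y
      have h := congrArg (fun f : H => (f : V ≃ₗ[ZMod p] V) y) (hc us us.2 x hx)
      rw [hu]
      exact h.symm
    have hxv : ∀ y : V, (x : V ≃ₗ[ZMod p] V) (v y) = v ((x : V ≃ₗ[ZMod p] V) y) := by
      intro y
      have h := congrArg (fun f : H => (f : V ≃ₗ[ZMod p] V) y) (hc vs vs.2 x hx)
      rw [hv]
      exact h.symm
    rw [hW, hW, map_add, map_smul, map_smul, hxu, hxv]
  have hzC : zH ∈ Cw := by
    rw [hCw]
    intro y
    rw [hzHu, hzHu, hz, hz, map_neg]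
  have hzS : zH ∈ S := by rw [hzH]; exact (us * us).2
  have hzle : Subgroup.zpowers zH ≤ S := by rw [Subgroup.zpowers_le]; exact hzS
  have hZC : Subgroup.zpowers zH ⊔ M ≤ Cw := by
    rw [sup_le_iff, Subgroup.zpowers_le]
    exact ⟨hzC, hMC⟩
  have hcardZ : Nat.card ↥(Subgroup.zpowers zH ⊔ M) = 2 * Nat.card M := by
    have hinf' : Subgroup.zpowers zH ⊓ M = ⊥ := by
      rw [eq_bot_iff, ← hinf]
      exact inf_le_inf_right M hzle
    obtain ⟨eq⟩ := sup_equiv_prod (Subgroup.zpowers zH) M hinf'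
      (fun s hs x hx => hc s (hzle hs) x hx)
    have : Fact (Nat.Prime 2) := ⟨Nat.prime_two⟩
    have hord : orderOf zH = 2 := by
      apply orderOf_eq_prime
      · rw [pow_two, hzH, ← Subgroup.coe_mul, s2, Subgroup.coe_one]
      · exact hzH1
    rw [Nat.card_congr eq.toEquiv, Nat.card_prod, Nat.card_zpowers, hord]
  -- free action on the nonzero vectors of A
  obtain ⟨X, hXdef⟩ : ∃ X : Set V, X = {y | W y = y ∧ y ≠ 0} := ⟨_, rfl⟩
  have hXm : ∀ y : V, y ∈ X ↔ (W y = y ∧ y ≠ 0) := by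
    intro y; rw [hXdef]; rfl
  have hXA : X = (A : Set V) \ {0} := by
    ext y
    rw [hXm, Set.mem_sdiff, SetLike.mem_coe, Set.mem_singleton_iff, mem_A]
  have hcardX : Nat.card X = p ^ k - 1 := by
    rw [Nat.card_coe_set_eq, hXA, Set.ncard_sdiff_singleton_of_mem (zero_mem A),
      ← Nat.card_coe_set_eq, ← hcardA]
    rfl
  have hXmem : ∀ (g : Cw) (y : X), ((g : H) : V ≃ₗ[ZMod p] V) (y : V) ∈ X := by
    intro g y
    have hy : W (y : V) = y ∧ (y : V) ≠ 0 := (hXm _).mp y.2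
    rw [hXm]
    refine ⟨?_, by simpa using hy.2⟩
    rw [← (hCw g).mp g.2, hy.1]
  let act : MulAction Cw X :=
    { smul := fun g y => ⟨((g : H) : V ≃ₗ[ZMod p] V) (y : V), hXmem g y⟩
      one_smul := fun y => Subtype.ext rfl
      mul_smul := fun g h y => Subtype.ext rfl }
  have hstab : ∀ y : X, MulAction.stabilizer Cw y = ⊥ := by
    intro y
    rw [eq_bot_iff]
    intro g hg
    rw [MulAction.mem_stabilizer_iff] at hg
    have hy : W (y : V) = y ∧ (y : V) ≠ 0 := (hXm _).mp y.2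
    have h1 : ((g : H) : V ≃ₗ[ZMod p] V) (y : V) = y := congrArg Subtype.val hg
    have h2 := hfpf (g : H) y hy.2 h1
    rw [Subgroup.mem_bot]
    exact Subtype.ext h2
  have hdvd : Nat.card Cw ∣ Nat.card X := by
    have h := Nat.card_congr (MulAction.selfEquivOrbitsQuotientProd hstab)
    rw [Nat.card_prod] at h
    exact Dvd.intro_left _ h.symm
  have hdvd2 : Nat.card ↥(Subgroup.zpowers zH ⊔ M) ∣ Nat.card Cw := Subgroup.card_dvd_of_le hZC
  rw [← hcardZ, ← hcardX]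
  exact hdvd2.trans hdvd

end Cfsg.Agent.Lib.helper63
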